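import Cfsg.Agent.Criterion.TypeBig
import Mathlib.GroupTheory.Transfer

/-!
# The strong embedding criterion: two points lie in one set of fixed points

With an elementary kernel `R` of order at least four the elements fixing all fixed points of `v` are
those of `R` (Burnside), and, as `R` is centralised by its normaliser in the centraliser of `E` at
`a`, `b`, this centraliser keeps `Fix v` (Z*): only one conjugate of `Fix v` holds two given points.
-/

set_option autoImplicit false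
set_option linter.style.haveILetI false
set_option linter.unusedSectionVars false

namespace CfsgLib.Criterion

open Subgroup CfsgLib.Invol CfsgLib.Bender
open scoped Pointwise

universe u

variable {G : Type u} [Group G] [Finite G]

/-- Burnside's normal complement, in elements. -/
theorem exists_normal_complement {M : Type*} [Group M] [Finite M] (S : Sylow 2 M)
    (hP : normalizer ((S : Subgroup M) : Set M) ≤ centralizer ((S : Subgroup M) : Set M)) :
    ∃ N : Subgroup M, N.Normal ∧ Odd (Nat.card N) ∧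
      ∀ g : M, ∃ n ∈ N, ∃ s ∈ (S : Subgroup M), n * s = g := by
  haveI : Fact (Nat.Prime 2) := ⟨Nat.prime_two⟩
  have hcompl := MonoidHom.ker_transferSylow_isComplement' S hP
  refine ⟨(MonoidHom.transferSylow S hP).ker, MonoidHom.normal_ker _, ?_, fun g => ?_⟩
  · rw [← hcompl.index_eq_card]
    exact Nat.odd_iff.2 (Nat.two_dvd_ne_zero.1 S.not_dvd_index)
  · obtain ⟨⟨n, s⟩, e⟩ := (hcompl.existsUnique g).exists
    exact ⟨n, n.2, s, s.2, e⟩

namespace Ctx

variable (C : Ctx G)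

/-- The elements fixing every fixed point of `v`. -/
def fixAll (v : G) : Subgroup G where
  carrier := {g | ∀ c : C.Pt, v • c = c → g • c = c}
  one_mem' := fun c _ => one_smul G c
  mul_mem' := fun {g h} hg hh c hc => by rw [mul_smul, hh c hc, hg c hc]
  inv_mem' := fun {g} hg c hc => by rw [inv_smul_eq_iff, hg c hc]

theorem mem_fixAll {v g : G} : g ∈ C.fixAll v ↔ ∀ c : C.Pt, v • c = c → g • c = c := Iff.rfl

/-- An element centralising `w` normalises the elements fixing all its fixed points. -/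
theorem conj_mem_fixAll {w g d : G} (hd : Commute d w) (hg : g ∈ C.fixAll w) :
    d * g * d⁻¹ ∈ C.fixAll w := fun c hc => by
  have hc' : w • (d⁻¹ • c) = d⁻¹ • c := by
    rw [smul_smul, ← hd.inv_left.eq, mul_smul, hc]
  rw [mul_smul, mul_smul, hg _ hc', smul_inv_smul]

namespace Kern

variable {C} {v : G} {a b : C.Pt} {D E R : Subgroup G} (K : C.Kern v a b D E R)
include K

theorem comm_of_mem_L {g l : G} (hg : ∀ y ∈ C.ZC v, Commute g y) (hl : l ∈ C.L v) : Commute g l := by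
  induction hl using closure_induction with
  | mem y hy => exact hg y hy
  | one => exact Commute.one_right g
  | mul x y _ _ hx hy => exact hx.mul_right hy
  | inv x _ hx => exact hx.inv_right

/-- Members at fixed points of `v` centralise `v`. -/
theorem za_comm {p : C.Pt} (hp : v • p = p) {y : G} (hy : y ∈ C.Za p) : Commute y v := by
  obtain ⟨l, hl, hla⟩ := C.exists_mem_L_move K.bad K.va hp
  have h := C.conj_mem_Za (g := l⁻¹) hy
  rw [← hla, inv_smul_smul, inv_inv] at h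
  have h1 := (K.isE.commute_v C (K.mem_E_iff.2 (Or.inr h)))
  have h2 := (Commute.conj_iff l).2 h1
  rwa [show l * (l⁻¹ * y * l) * l⁻¹ = y by group,
    mul_inv_eq_iff_eq_mul.2 (C.commute_of_mem_L hl).eq] at h2

theorem fixAll_E {g : G} (hg : g ∈ C.fixAll v) {e : G} (he : e ∈ E) : Commute g e := by
  refine mul_inv_eq_iff_eq_mul.1 (mul_inv_eq_one.1
    (K.isE.free C (mul_mem (K.conj_E (hg a K.va) he) (inv_mem he)) K.ne.symm ?_))
  have hb : v • (e⁻¹ • b) = e⁻¹ • b := by
    rw [smul_smul, ← (K.isE.commute_v C (inv_mem he)).eq, mul_smul, K.vb]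
  rw [mul_smul, mul_smul, mul_smul, inv_smul_eq_iff.2 (hg _ hb).symm, smul_inv_smul, hg b K.vb]

/-- An element fixing all fixed points of `v` centralises the local group. -/
theorem fixAll_L {g : G} (hg : g ∈ C.fixAll v) {l : G} (hl : l ∈ C.L v) : Commute g l := by
  refine K.comm_of_mem_L (fun y hy => ?_) hl
  obtain ⟨p, hp⟩ := C.exists_fix hy.1
  obtain ⟨m, hm, hma⟩ := C.exists_mem_L_move K.bad K.va
    (C.smul_eq_of_commute_Z hy.1 hy.2 hp)
  have hg' : m⁻¹ * g * m ∈ C.fixAll v := fun c hc => by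
    have hc' : v • (m • c) = m • c := by
      rw [smul_smul, ← (C.commute_of_mem_L hm).eq, mul_smul, hc]
    rw [mul_smul, mul_smul, hg _ hc', inv_smul_smul]
  have hy' : m⁻¹ * y * m ∈ E := by
    refine K.mem_E_iff.2 (Or.inr ?_)
    have := C.conj_mem_Za (g := m⁻¹) (show y ∈ C.Za p from ⟨hy.1, hp⟩)
    rwa [inv_inv, ← hma, inv_smul_smul] at this
  have h := (Commute.conj_iff m).2 (K.fixAll_E hg' hy')
  rwa [show m * (m⁻¹ * g * m) * m⁻¹ = g by group, show m * (m⁻¹ * y * m) * m⁻¹ = y by group] at h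

/-- An element centralising the local group and fixing a further fixed point of some `v x` fixes all
of them. -/
theorem fix_line {g : G} (hg : g ∈ C.fixAll v) {x : G} (hx : x ∈ C.Ea v a) {c d : C.Pt}
    (hc : (v * x) • c = c) (hca : c ≠ a) (hgc : g • c = c) (hd : (v * x) • d = d) : g • d = d := by
  by_cases hda : d = a
  · rw [hda, hg a K.va]
  obtain ⟨S, hS, -, hcen⟩ := K.bad.exists_reg_central C K.hp K.va hx
  have hcomm : ∀ s ∈ S, Commute s (v * x) := fun s hs =>
    (C.commute_of_mem_L (hS.le hs)).mul_right (hcen s hs)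
  have hinj : Function.Injective (fun s : S => (⟨(s : G) • c,
      by rw [smul_smul, ← (hcomm s s.2).eq, mul_smul, hc],
      fun h => hca (smul_left_cancel (s : G) (h.trans (hS.fix _ s.2).symm))⟩ :
      {p : C.Pt // (v * x) • p = p ∧ p ≠ a})) := fun s t h => by
    have h1 : (s : G) • c = (t : G) • c := congrArg Subtype.val h
    exact Subtype.ext (inv_mul_eq_one.1 (K.bad.reg_free C hS (mul_mem (inv_mem t.2) s.2) hca
      (by rw [mul_smul, h1, inv_smul_smul]))).symm
  obtain ⟨s, hs⟩ := (hinj.bijective_of_nat_card_le (le_of_eq (by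
    rw [K.bad.card_reg C K.va hS]
    exact K.bad.qn_mul C K.hf K.hp K.va hx))).2 ⟨d, hd, hda⟩
  have hsd : (s : G) • c = d := congrArg Subtype.val hs
  rw [← hsd, smul_smul, (K.fixAll_L hg (hS.le s.2)).eq, mul_smul, hgc]

/-- Only the identity fixes all fixed points of `v` and one more point. -/
theorem fixAll_free {g : G} (hg : g ∈ C.fixAll v) {c : C.Pt} (hc : v • c ≠ c) (hgc : g • c = c) :
    g = 1 := by
  obtain ⟨x, hx, hxv⟩ := C.exists_commute_at K.vv K.va
  have hxE : x ∈ C.Ea v a := ⟨hx, hxv⟩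
  have carry : ∀ d : C.Pt, v • d ≠ d →
      ∃ l ∈ C.L v, (v * x) • l • d = l • d ∧ l • d ≠ a := by
    intro d hd
    obtain ⟨w, hw, hwv⟩ := C.exists_swap_commute K.vv (Ne.symm hd)
      (Or.inr ⟨rfl, by rw [smul_smul, K.vv, one_smul]⟩)
    obtain ⟨p, hp⟩ := C.exists_fix hw.1
    obtain ⟨l, hl, -, -, hlw⟩ := K.bad.exists_carry C ⟨hw.1, hwv⟩ hp hxE
    have hdw : (v * w) • d = d := by rw [mul_smul, hw.2, smul_smul, K.vv, one_smul]
    refine ⟨l, hl, by rw [← hlw, mul_smul, mul_smul, inv_smul_smul, hdw], fun h => hd ?_⟩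
    have h2 : v • l • d = l • d := by rw [h, K.va]
    rwa [smul_smul, ← (C.commute_of_mem_L hl).eq, mul_smul, smul_left_cancel_iff] at h2
  obtain ⟨l₀, hl₀, h0, h0a⟩ := carry c hc
  have hgl₀ : g • l₀ • c = l₀ • c := by
    rw [smul_smul, (K.fixAll_L hg hl₀).eq, mul_smul, hgc]
  refine K.faith g fun d => ?_
  by_cases hd : v • d = d
  · exact hg d hd
  obtain ⟨l, hl, h1, -⟩ := carry d hd
  have := K.fix_line hg hxE h0 h0a hgl₀ h1
  rwa [smul_smul, (K.fixAll_L hg hl).eq, mul_smul, smul_left_cancel_iff] at this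

/-- An element of odd order fixing all fixed points of `v` and centralising a nontrivial element of
`R` is trivial. -/
theorem odd_fixAll {g : G} (hg : g ∈ C.fixAll v) (hodd : Odd (orderOf g)) {r : G} (hr : r ∈ R)
    (hr1 : r ≠ 1) (hc : Commute g r) : g = 1 := by
  classical
  by_contra hg1
  obtain ⟨p, hp, hpd⟩ := Nat.exists_prime_and_dvd (mt orderOf_eq_one_iff.1 hg1)
  haveI := Fact.mk hp
  set o := g ^ (orderOf g / p) with ho
  have hop : orderOf o = p := by
    have h0 : 0 < orderOf g := orderOf_pos g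
    rw [ho, orderOf_pow' g (Nat.div_pos (Nat.le_of_dvd h0 hpd) hp.pos).ne',
      Nat.gcd_eq_right (Nat.div_dvd_of_dvd hpd), Nat.div_div_self hpd h0.ne']
  have hoF : o ∈ C.fixAll v := pow_mem hg _
  obtain ⟨x, hx, hxv⟩ := C.exists_commute_at K.vv K.va
  have hxE : x ∈ C.Ea v a := ⟨hx, hxv⟩
  have hx' : x ∈ E := K.ea_mem_E hxE
  have hrE : x ∈ C.Ea r a :=
    ⟨hx, (K.fixAll_E (fun c hc => K.fix hr hc) hx').symm⟩
  have hou : Commute o (r * x) := (hc.pow_left _).mul_right (K.fixAll_E hoF hx')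
  have hbr := K.bad_of_mem hr hr1
  -- `o` permutes the further fixed points of `r x`, whose number is a power of two
  let α := {c : C.Pt // (r * x) • c = c ∧ c ≠ a}
  letI : MulAction ↥(zpowers o) α :=
    { smul := fun k c => ⟨(k : G) • c.1, by
          rw [smul_smul, ← mem_centralizer_singleton_iff.1
            (zpowers_le.2 (mem_centralizer_singleton_iff.2 hou.eq) k.2), mul_smul, c.2.1],
        fun h => c.2.2 (smul_left_cancel (k : G) (h.trans (MulAction.mem_stabilizer_iff.1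
          (zpowers_le.2 (MulAction.mem_stabilizer_iff.2 (hoF a K.va)) k.2)).symm))⟩
      one_smul := fun c => Subtype.ext (one_smul G c.1)
      mul_smul := fun k l c => Subtype.ext (mul_smul (k : G) (l : G) c.1) }
  have hp2 : ¬ p ∣ Nat.card α := by
    obtain ⟨S, hS⟩ := hbr.exists_reg C (K.pair r hbr) (K.fix hr K.va)
    obtain ⟨k, hk⟩ := IsPGroup.iff_card.1 hS.two
    have hα : Nat.card α = 2 ^ k := by
      rw [← hk, hbr.card_reg C (K.fix hr K.va) hS]
      exact hbr.qn_mul C K.hf (K.pair r hbr) (K.fix hr K.va) hrE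
    rw [hα]
    intro h
    have h2 := (Nat.prime_dvd_prime_iff_eq hp Nat.prime_two).1 (hp.dvd_of_dvd_pow h)
    exact Nat.not_even_iff_odd.2 hodd (even_iff_two_dvd.2 (h2 ▸ hpd))
  obtain ⟨⟨c, hc', hca⟩, hfix⟩ := IsPGroup.nonempty_fixed_point_of_prime_not_dvd_card
    (IsPGroup.of_card (p := p) (n := 1) (G := ↥(zpowers o)) (by rw [Nat.card_zpowers, hop, pow_one])) α hp2
  have hoc : o • c = c := congrArg Subtype.val (hfix ⟨o, mem_zpowers o⟩)
  refine hp.ne_one (hop.symm.trans (orderOf_eq_one_iff.2 (K.fixAll_free hoF ?_ hoc)))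
  intro hvc
  refine hca (C.fix_unique hx.1 ?_ hx.2)
  rw [mul_smul] at hc'
  have h1 : r • (r • x • c) = r • c := congrArg (r • ·) hc'
  rwa [smul_smul r r, K.sq r hr, one_smul, K.fix hr hvc] at h1

/-- A 2-group at `a`, `b` centralising `v` is no larger than `D`, up to conjugation inside a subgroup
normalised by `D`. -/
theorem card_le_inf {M N : Subgroup G} (hM : M ≤ MulAction.stabilizer G a ⊓ MulAction.stabilizer G b)
    (hDM : D ≤ M) (hN : N ≤ M) (hn : M ≤ normalizer (N : Set G)) {P : Subgroup G} (hP : IsPGroup 2 P)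
    (hPN : P ≤ N) : ∃ m ∈ M, ∀ g ∈ P, m * g * m⁻¹ ∈ D ⊓ N := by
  haveI : Fact (Nat.Prime 2) := ⟨Nat.prime_two⟩
  obtain ⟨S, hS⟩ := (hP.of_equiv (subgroupOfEquivOfLe (hPN.trans hN)).symm).exists_le_sylow
  obtain ⟨T, hT⟩ := (K.maxPair.two.of_equiv (subgroupOfEquivOfLe hDM).symm).exists_le_sylow
  have hTD : (T : Subgroup ↥M) = D.subgroupOf M := by
    refine (eq_of_le_of_card_ge hT ?_).symm
    rw [Nat.card_congr (subgroupOfEquivOfLe hDM).toEquiv,
      ← card_map_of_injective M.subtype_injective (K := (T : Subgroup ↥M))]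
    refine K.maxPair.max a b K.ne _ (T.2.map _) ?_
    rintro _ ⟨y, -, rfl⟩
    exact ⟨(mem_inf.1 (hM y.2)).1, (mem_inf.1 (hM y.2)).2⟩
  obtain ⟨m, hm⟩ := MulAction.exists_smul_eq ↥M S T
  refine ⟨m, m.2, fun g hg => mem_inf.2 ⟨?_, (mem_normalizer_iff.1 (hn m.2) g).1 (hPN hg)⟩⟩
  have h : m * ⟨g, hN (hPN hg)⟩ * m⁻¹ ∈ (T : Subgroup ↥M) := by
    rw [← hm, Sylow.coe_subgroup_smul]
    exact Subgroup.smul_mem_pointwise_smul _ (MulAut.conj m) _ (hS hg)
  rw [hTD, mem_subgroupOf] at h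
  exact h

/-- A 2-group of elements fixing all fixed points of `v` and containing `R` is `R`. -/
theorem two_fixAll {P : Subgroup G} (hP : IsPGroup 2 P) (hPF : P ≤ C.fixAll v) (hRP : R ≤ P) :
    P = R := by
  set M := C.fixStab v ⊓ (MulAction.stabilizer G a ⊓ MulAction.stabilizer G b)
  have hFM : C.fixAll v ≤ M := fun g hg => by
    refine mem_inf.2 ⟨C.mem_fixStab.2 fun c => ⟨fun hc => by rw [hg c hc, hc], fun hc => ?_⟩,
      MulAction.mem_stabilizer_iff.2 (hg a K.va), MulAction.mem_stabilizer_iff.2 (hg b K.vb)⟩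
    rwa [show g • c = c from smul_left_cancel g (hg _ hc)] at hc
  have hn : M ≤ normalizer (C.fixAll v : Set G) := fun m hm =>
    Closed.mem_normalizer_of_conj fun g hg c hc => by
      rw [mul_smul, mul_smul, hg _ (C.fixStab_apply (inv_mem (mem_inf.1 hm).1) hc), smul_inv_smul]
  obtain ⟨m, -, hm⟩ := K.card_le_inf (M := M) inf_le_right
    (fun g hg => mem_inf.2 ⟨C.mem_fixStab_of_commute (fun _ => Iff.rfl) (K.maxPair.fix g hg).2.2,
      MulAction.mem_stabilizer_iff.2 (K.maxPair.fix g hg).1,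
      MulAction.mem_stabilizer_iff.2 (K.maxPair.fix g hg).2.1⟩)
    hFM hn hP hPF
  refine (eq_of_le_of_card_ge hRP ?_).symm
  refine Nat.card_le_card_of_injective (fun g : P => (⟨m * g * m⁻¹,
    K.ker _ (mem_inf.1 (hm g g.2)).1 (mem_inf.1 (hm g g.2)).2⟩ : R)) fun g g' h => ?_
  exact Subtype.ext (mul_left_cancel (mul_right_cancel (congrArg Subtype.val h)))

/-- **The elements fixing all fixed points of `v` are those of `R`**, when the normaliser of `R` in
the centraliser of `E` at `a`, `b` centralises it. -/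
theorem fixAll_eq (hnoh : ∀ h : G, h • a = a → h • b = b → (∀ e ∈ E, Commute h e) →
    (∀ r ∈ R, h * r * h⁻¹ ∈ R) → ∀ r ∈ R, Commute h r) : C.fixAll v = R := by
  classical
  haveI : Fact (Nat.Prime 2) := ⟨Nat.prime_two⟩
  set F := C.fixAll v with hFdef
  have hRF : R ≤ F := fun r hr c hc => K.fix hr hc
  obtain ⟨S, hS⟩ := ((K.maxPair.two.to_le K.le).of_equiv
    (subgroupOfEquivOfLe hRF).symm).exists_le_sylow
  have hSR : (S : Subgroup ↥F).map F.subtype = R :=
    K.two_fixAll (S.2.map _) (map_subtype_le _) fun r hr => ⟨⟨r, hRF hr⟩, hS hr, rfl⟩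
  have hmemS : ∀ s : ↥F, s ∈ (S : Subgroup ↥F) ↔ (s : G) ∈ R := fun s => by
    rw [← hSR]
    exact ⟨fun h => ⟨s, h, rfl⟩, fun ⟨t, ht, e⟩ => Subtype.ext (a1 := t) (a2 := s) e ▸ ht⟩
  have hP : normalizer ((S : Subgroup ↥F) : Set ↥F) ≤ centralizer ((S : Subgroup ↥F) : Set ↥F) := by
    intro h hh
    refine mem_centralizer_iff.2 fun s hs => Subtype.ext ?_
    refine (hnoh h (h.2 a K.va) (h.2 b K.vb) (fun e he => K.fixAll_E h.2 he) (fun r hr => ?_) s
      ((hmemS s).1 hs)).eq.symm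
    exact (hmemS (h * ⟨r, hRF hr⟩ * h⁻¹)).1 ((mem_normalizer_iff.1 hh _).1 ((hmemS ⟨r, hRF hr⟩).2 hr))
  obtain ⟨N, hNn, hNo, hNS⟩ := exists_normal_complement S hP
  set N' := N.map F.subtype
  have hNodd : Odd (Nat.card N') := by
    rw [card_map_of_injective F.subtype_injective]
    exact hNo
  have hN1 : N' ≤ ⊥ := by
    refine Signalizer.le_of_forall_centralizer (p := 2) (A := R)
      ⟨K.isMulCommutative, fun r hr => by rw [pow_two]; exact K.sq r hr⟩ le_rfl K.big ?_
      hNodd.not_two_dvd_nat fun r hr hr1 w hw => ?_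
    · intro r hr
      refine Closed.mem_normalizer_of_conj ?_
      rintro _ ⟨n, hn, rfl⟩
      exact ⟨⟨r, hRF hr⟩ * n * ⟨r, hRF hr⟩⁻¹, hNn.conj_mem n hn _, rfl⟩
    · obtain ⟨⟨n, hn, rfl⟩, hwr⟩ := mem_inf.1 hw
      exact mem_bot.2 (K.odd_fixAll n.2 (hNodd.of_dvd_nat
        (orderOf_dvd_natCard _ (mem_map_of_mem F.subtype hn))) hr hr1
          (mem_centralizer_singleton_iff.1 hwr))
  refine le_antisymm (fun g hg => ?_) hRF
  obtain ⟨n, hn, s, hs, e⟩ := hNS (⟨g, hg⟩ : ↥F)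
  have hn1 : ((n : ↥F) : G) = 1 := mem_bot.1 (hN1 (mem_map_of_mem F.subtype hn))
  have e' : ((n : ↥F) : G) * ((s : ↥F) : G) = g := congrArg Subtype.val e
  rw [← e', hn1, one_mul]
  exact (hmemS s).1 hs

/-- **Two points lie in one set of fixed points**, at `a`, `b`. -/
theorem pair_unique (hnoh : ∀ h : G, h • a = a → h • b = b → (∀ e ∈ E, Commute h e) →
      (∀ r ∈ R, h * r * h⁻¹ ∈ R) → ∀ r ∈ R, Commute h r)
    (hcent : ∀ g : G, g • a = a → Commute g v → (∀ e ∈ E, Commute g e) → ∀ r ∈ R,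
      g * r * g⁻¹ ∈ R → Commute g r)
    (hmeet : ∀ A : Subgroup G, A ≤ D → Nat.card A = Nat.card R →
      (∀ x ∈ A, x * x = 1 ∧ ∀ e ∈ E, Commute x e) → ∃ x ∈ A, x ∈ R ∧ x ≠ 1)
    {g : G} (ha : (g * v * g⁻¹) • a = a) (hb : (g * v * g⁻¹) • b = b) (c : C.Pt) :
    (g * v * g⁻¹) • c = c ↔ v • c = c := by
  classical
  haveI : Fact (Nat.Prime 2) := ⟨Nat.prime_two⟩
  set Gab := MulAction.stabilizer G a ⊓ MulAction.stabilizer G b with hGab
  set X := Gab ⊓ centralizer (E : Set G) with hX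
  have hmemX : ∀ h : G, h ∈ X ↔ (h • a = a ∧ h • b = b) ∧ ∀ e ∈ E, Commute h e := fun h => by
    simp only [hX, hGab, mem_inf, MulAction.mem_stabilizer_iff, mem_centralizer_iff, SetLike.mem_coe]
    exact and_congr_right fun _ => forall₂_congr fun e _ => eq_comm
  have hXG : X ≤ Gab := inf_le_left
  have hDG : D ≤ Gab := fun d hd => mem_inf.2 ⟨MulAction.mem_stabilizer_iff.2 (K.maxPair.fix d hd).1,
    MulAction.mem_stabilizer_iff.2 (K.maxPair.fix d hd).2.1⟩
  have hXn : Gab ≤ normalizer (X : Set G) := by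
    refine fun m hm => Closed.mem_normalizer_of_conj fun h hh => ?_
    obtain ⟨-, he⟩ := (hmemX h).1 hh
    refine mem_inf.2 ⟨mul_mem (mul_mem hm (hXG hh)) (inv_mem hm),
      mem_centralizer_iff.2 fun e hee => ?_⟩
    have he' : m⁻¹ * e * m ∈ E := by
      have := K.conj_E (g := m⁻¹)
        (inv_smul_eq_iff.2 (MulAction.mem_stabilizer_iff.1 (mem_inf.1 hm).1).symm) hee
      rwa [inv_inv] at this
    have := (Commute.conj_iff m).2 (he _ he')
    rw [show m * (m⁻¹ * e * m) * m⁻¹ = e by group] at this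
    exact this.eq.symm
  -- conjugates of `R` in `X` lie over `F`
  have hline : ∀ k : G, (∀ r ∈ R, k * r * k⁻¹ ∈ D ∧ ∀ e ∈ E, Commute (k * r * k⁻¹) e) →
      ∀ c : C.Pt, (k * v * k⁻¹) • c = c ↔ v • c = c := by
    intro k hk c
    obtain ⟨_, ⟨r, hr, rfl⟩, hxR, hx1⟩ := hmeet (R.map (MulAut.conj k).toMonoidHom)
      (by rintro _ ⟨r, hr, rfl⟩; exact (hk r hr).1) (card_map_of_injective (MulAut.conj k).injective) (by
        rintro _ ⟨r, hr, rfl⟩
        exact ⟨by rw [← map_mul, K.sq r hr, map_one], (hk r hr).2⟩)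
    have hr1 : r ≠ 1 := fun h => hx1 (by rw [h, map_one])
    have h1 : ∀ (y : G) (c : C.Pt), (k * y * k⁻¹) • c = c ↔ y • k⁻¹ • c = k⁻¹ • c := fun y c => by
      rw [mul_smul, mul_smul, smul_eq_iff_eq_inv_smul]
    rw [h1 v c, ← K.fixed r hr hr1 (k⁻¹ • c), ← h1 r c]
    exact K.fixed _ hxR hx1 c
  -- the centraliser of `E` keeps `F`
  have hXfix : X ≤ C.fixStab v := by
    set DX := D ⊓ centralizer (E : Set G) with hDX
    have hDXX : DX ≤ X := le_inf (inf_le_left.trans hDG) inf_le_right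
    have hDXe : ∀ d ∈ DX, d ∈ D ∧ ∀ e ∈ E, Commute d e := fun d hd =>
      ⟨(mem_inf.1 hd).1, ((hmemX d).1 (hDXX hd)).2⟩
    have hRX : R ≤ DX := fun r hr =>
      mem_inf.2 ⟨K.le hr, mem_centralizer_iff.2 fun e he =>
        (K.fixAll_E (fun c hc => K.fix hr hc) he).eq.symm⟩
    obtain ⟨T, hT⟩ := ((K.maxPair.two.to_le inf_le_left).of_equiv
      (subgroupOfEquivOfLe hDXX).symm).exists_le_sylow
    have hTD : (T : Subgroup ↥X) = DX.subgroupOf X := by
      refine (eq_of_le_of_card_ge hT ?_).symm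
      obtain ⟨m, -, hm⟩ := K.card_le_inf (M := Gab) le_rfl hDG hXG hXn (T.2.map X.subtype)
        (map_subtype_le _)
      refine Nat.card_le_card_of_injective (fun t : ↥(T : Subgroup ↥X) =>
        (⟨⟨m * (t : G) * m⁻¹, hDXX ?_⟩, ?_⟩ : ↥(DX.subgroupOf X))) fun s t h => ?_
      · have h := hm _ (mem_map_of_mem X.subtype t.2)
        exact mem_inf.2 ⟨(mem_inf.1 h).1, (mem_inf.1 (mem_inf.1 h).2).2⟩
      · have h := hm _ (mem_map_of_mem X.subtype t.2)
        exact mem_inf.2 ⟨(mem_inf.1 h).1, (mem_inf.1 (mem_inf.1 h).2).2⟩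
      · have h' : m * (s : G) * m⁻¹ = m * (t : G) * m⁻¹ :=
          congrArg (fun z : ↥(DX.subgroupOf X) => ((z : ↥X) : G)) h
        exact Subtype.ext (Subtype.ext (mul_left_cancel (mul_right_cancel h')))
    set v' : ↥X := ⟨v, hDXX (hRX K.mem)⟩ with hv'
    have hiso : Cfsg.IsIsolatedInvolution v' := by
      refine isolated_of_sylow T (by rw [← Subgroup.orderOf_coe]; exact K.bad.1) fun k hk => ?_
      have hF := K.fixAll_eq hnoh
      obtain ⟨⟨hka, hkb⟩, hkE⟩ := (hmemX _).1 k.2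
      have hkv : (k : G) * v * (k : G)⁻¹ ∈ DX := hTD.le hk
      obtain ⟨⟨hwa, -, hwv⟩, hwE⟩ := And.intro (K.maxPair.fix _ (hDXe _ hkv).1) (hDXe _ hkv).2
      -- `R` and its conjugate commute
      have hcomm : ∀ r ∈ R, ∀ r₁ ∈ R, Commute r₁ ((k : G) * r * (k : G)⁻¹) := by
        intro r hr r₁ hr₁
        have hc : Commute ((k : G) * v * (k : G)⁻¹) r₁ := hcent _ hwa hwv hwE r₁ hr₁ (by
          rw [← hF]; exact C.conj_mem_fixAll hwv fun c hc => K.fix hr₁ hc)
        have hgv : Commute ((k : G)⁻¹ * r₁ * k) v := by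
          have := (Commute.conj_iff (k : G)⁻¹).2 hc.symm
          rwa [inv_inv, show (k : G)⁻¹ * ((k : G) * v * (k : G)⁻¹) * k = v by group] at this
        obtain ⟨⟨hga, -⟩, hgE⟩ :=
          (hmemX _).1 (mul_mem (mul_mem (inv_mem k.2) (hDXX (hRX hr₁))) k.2)
        have hcr : Commute ((k : G)⁻¹ * r₁ * k) r := hcent _ hga hgv hgE r hr (by
          rw [← hF]; exact C.conj_mem_fixAll hgv fun c hc => K.fix hr hc)
        have := (Commute.conj_iff (k : G)).2 hcr
        rwa [show (k : G) * ((k : G)⁻¹ * r₁ * k) * (k : G)⁻¹ = r₁ by group] at this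
      set R₂ := R.map (MulAut.conj (k : G)).toMonoidHom with hR₂
      have hRR : R ⊔ R₂ ≤ X := sup_le (fun r hr => hDXX (hRX hr))
        (by rintro _ ⟨r, hr, rfl⟩; exact mul_mem (mul_mem k.2 (hDXX (hRX hr))) (inv_mem k.2))
      have hP2 : IsPGroup 2 ↥(R ⊔ R₂) := IsPGroup.to_sup_of_normal_right'
        (K.maxPair.two.to_le K.le) ((K.maxPair.two.to_le K.le).map _) (fun r₁ hr₁ =>
          Closed.mem_normalizer_of_conj (by
            rintro _ ⟨r, hr, rfl⟩
            exact ⟨r, hr, (mul_inv_eq_iff_eq_mul.2 (hcomm r hr r₁ hr₁).eq).symm⟩))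
      obtain ⟨m, hm, hmP⟩ := K.card_le_inf (M := Gab) le_rfl hDG hXG hXn hP2 hRR
      have hin : ∀ g : G, g ∈ R ⊔ R₂ → m * g * m⁻¹ ∈ D ∧ ∀ e ∈ E, Commute (m * g * m⁻¹) e :=
        fun g hg => ⟨(mem_inf.1 (hmP g hg)).1, ((hmemX _).1 (mem_inf.1 (hmP g hg)).2).2⟩
      have h1 := hline m fun r hr => hin r (mem_sup_left hr)
      have h2 := hline (m * k) fun r hr => by
        have := hin _ (mem_sup_right (show (k : G) * r * (k : G)⁻¹ ∈ R₂ from ⟨r, hr, rfl⟩))
        rwa [show m * ((k : G) * r * (k : G)⁻¹) * m⁻¹ = m * k * r * (m * k)⁻¹ by group] at this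
      have hl : ∀ c : C.Pt, ((k : G) * v * (k : G)⁻¹) • c = c ↔ v • c = c := fun c => by
        have e1 := (h2 (m • c)).trans (h1 (m • c)).symm
        have hm' : ∀ y : G, (m * y * m⁻¹) • m • c = m • c ↔ y • c = c := fun y => by
          rw [mul_smul, mul_smul, inv_smul_smul, smul_left_cancel_iff]
        rw [show m * k * v * (m * k)⁻¹ = m * ((k : G) * v * (k : G)⁻¹) * m⁻¹ by group, hm', hm'] at e1
        exact e1
      have hnorm : ∀ r ∈ R, (k : G) * r * (k : G)⁻¹ ∈ R := fun r hr => by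
        rw [← hF]
        intro c hc
        have h := (hl c).2 hc
        rw [mul_smul, mul_smul, smul_eq_iff_eq_inv_smul] at h
        rw [mul_smul, mul_smul, K.fix hr h, smul_inv_smul]
      refine Subtype.ext ?_
      show (k : G) * v * (k : G)⁻¹ = v
      exact mul_inv_eq_iff_eq_mul.2 (hnoh _ hka hkb hkE hnorm v K.mem).eq
    obtain ⟨N, hN, hNodd, hNc⟩ := CfsgLib.ZStar.zstar hiso
    set N' := N.map X.subtype
    have hN'odd : Odd (Nat.card N') := by rwa [card_map_of_injective X.subtype_injective]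
    have hN'fix : N' ≤ C.fixStab v := by
      refine Signalizer.le_of_forall_centralizer (p := 2) (A := R)
        ⟨K.isMulCommutative, fun r hr => by rw [pow_two]; exact K.sq r hr⟩ le_rfl K.big ?_
        hN'odd.not_two_dvd_nat fun r hr hr1 w hw => C.mem_fixStab_of_commute
          (fun c => K.fixed r hr hr1 c) (mem_centralizer_singleton_iff.1 (mem_inf.1 hw).2)
      intro r hr
      refine Closed.mem_normalizer_of_conj ?_
      rintro _ ⟨n, hn, rfl⟩
      exact ⟨⟨r, hDXX (hRX hr)⟩ * n * ⟨r, hDXX (hRX hr)⟩⁻¹, hN.conj_mem n hn _, rfl⟩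
    intro h hh
    set w := h * v * h⁻¹ with hw
    have hvw : v * w ∈ N' := by
      refine ⟨_, hNc ⟨h, hh⟩, ?_⟩
      show v * h * v⁻¹ * h⁻¹ = v * (h * v * h⁻¹)
      rw [inv_eq_self K.bad.1]; group
    have hw2 : orderOf w = 2 := by rw [hw, orderOf_conj_eq, K.bad.1]
    obtain ⟨d, hd, hdv⟩ := exists_conj_of_odd K.bad.1 hw2 (hN'odd.of_dvd_nat
      (orderOf_dvd_natCard _ hvw))
    have hvfix : v ∈ C.fixStab v := C.mem_fixStab_of_commute (fun _ => Iff.rfl) (Commute.refl v)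
    have hwfix : w ∈ C.fixStab v := by
      have := mul_mem hvfix (hN'fix hvw)
      rwa [← mul_assoc, K.vv, one_mul] at this
    have hdfix : d ∈ C.fixStab v := (closure_le _).2 (by rintro _ (rfl | rfl); exacts [hvfix, hwfix]) hd
    have hc : Commute (d⁻¹ * h) v := by
      refine mul_inv_eq_iff_eq_mul.1 ?_
      calc d⁻¹ * h * v * (d⁻¹ * h)⁻¹ = d⁻¹ * (h * v * h⁻¹) * d := by group
        _ = v := by rw [← hw, ← hdv]; group
    have := mul_mem hdfix (C.mem_fixStab_of_commute (fun _ => Iff.rfl) hc)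
    rwa [mul_inv_cancel_left] at this
  -- the kernel of the other set of fixed points
  set R' := R.map (MulAut.conj g).toMonoidHom with hR'
  have hR'X : R' ≤ X := by
    rintro _ ⟨r, hr, rfl⟩
    have hfix : ∀ d : C.Pt, (g * v * g⁻¹) • d = d → (g * r * g⁻¹) • d = d := fun d hd => by
      rw [mul_smul, mul_smul, ← eq_inv_smul_iff] at hd ⊢
      exact K.fix hr hd
    refine (hmemX _).2 ⟨⟨hfix a ha, hfix b hb⟩, fun e he => ?_⟩
    rcases K.mem_E_iff.1 he with rfl | hea
    · exact Commute.one_right _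
    have hva' : v • (g⁻¹ • a) = g⁻¹ • a := by
      rw [mul_smul, mul_smul] at ha
      exact eq_inv_smul_iff.2 ha
    have h1 := K.fixAll_L (g := r) (fun d hd => K.fix hr hd)
      (C.mem_L (C.conj_mem_Z hea.1 g⁻¹) (K.za_comm hva' (C.conj_mem_Za (g := g⁻¹) hea)))
    have h2 := (Commute.conj_iff g).2 h1
    rwa [show g * (g⁻¹ * e * g⁻¹⁻¹) * g⁻¹ = e by group] at h2
  -- move the conjugate into `D` inside `X`
  obtain ⟨T, hT⟩ := (((K.maxPair.two.to_le K.le).map _).of_equiv
    (subgroupOfEquivOfLe hR'X).symm).exists_le_sylow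
  obtain ⟨U, hU⟩ := ((K.maxPair.two.to_le (inf_le_left : D ⊓ X ≤ D)).of_equiv
    (subgroupOfEquivOfLe (inf_le_right : D ⊓ X ≤ X)).symm).exists_le_sylow
  have hUD : ∀ u : ↥X, u ∈ (U : Subgroup ↥X) → (u : G) ∈ D := by
    intro u hu
    obtain ⟨k, -, hk⟩ := K.card_le_inf (M := Gab) le_rfl hDG hXG hXn (U.2.map X.subtype)
      (map_subtype_le _)
    have heq : (U : Subgroup ↥X).map X.subtype = D ⊓ X := by
      refine (eq_of_le_of_card_ge (fun d hd => mem_map.2 ⟨⟨d, (mem_inf.1 hd).2⟩, hU hd, rfl⟩) ?_).symm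
      exact Nat.card_le_card_of_injective (fun t : ↥((U : Subgroup ↥X).map X.subtype) =>
        (⟨k * t * k⁻¹, hk t t.2⟩ : ↥(D ⊓ X))) fun s t h =>
        Subtype.ext (mul_left_cancel (mul_right_cancel (congrArg Subtype.val h)))
    exact (mem_inf.1 (heq.le (mem_map_of_mem X.subtype hu))).1
  obtain ⟨x, hx⟩ := MulAction.exists_smul_eq ↥X T U
  have hkey := hline ((x : G) * g) fun r hr => by
    have hmem : (⟨g * r * g⁻¹, hR'X ⟨r, hr, rfl⟩⟩ : ↥X) ∈ (T : Subgroup ↥X) :=
      hT (show g * r * g⁻¹ ∈ R' from ⟨r, hr, rfl⟩)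
    have h1 : x * ⟨g * r * g⁻¹, hR'X ⟨r, hr, rfl⟩⟩ * x⁻¹ ∈ (U : Subgroup ↥X) := by
      rw [← hx, Sylow.coe_subgroup_smul]
      exact Subgroup.smul_mem_pointwise_smul _ (MulAut.conj x) _ hmem
    rw [show (x : G) * g * r * ((x : G) * g)⁻¹ = (x : G) * (g * r * g⁻¹) * (x : G)⁻¹ by group]
    exact ⟨hUD _ h1, ((hmemX _).1 (x * ⟨g * r * g⁻¹, hR'X ⟨r, hr, rfl⟩⟩ * x⁻¹).2).2⟩
  have h := hkey ((x : G) • c)
  rw [show (x : G) * g * v * ((x : G) * g)⁻¹ = (x : G) * (g * v * g⁻¹) * (x : G)⁻¹ by group, mul_smul,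
    mul_smul, inv_smul_smul, smul_left_cancel_iff] at h
  exact h.trans (C.mem_fixStab.1 (hXfix x.2) c).symm

end Kern

end Ctx

end CfsgLib.Criterion
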