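import Cfsg.Agent.Bender.Consumers
import Cfsg.Agent.Invol.Dihedral
import Mathlib.GroupTheory.PGroup
import Mathlib.GroupTheory.SpecificGroups.Cyclic

/-!
# The strong embedding criterion: 2-groups normalising a regular torus

If `α` is transitive on the nontrivial elements of an elementary abelian 2-group `V`, a 2-group of
automorphisms of `V` normalising `⟨α⟩` is cyclic: it is abelian, and all its involutions act on `⟨α⟩`
alike, since the fixed points of one number the square root of `|V|`.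
-/

set_option autoImplicit false
set_option linter.unusedSectionVars false
set_option linter.style.haveILetI false

namespace CfsgLib.Criterion.Semilinear

open Subgroup CfsgLib.Bender

/-- A commutative 2-group with at most one involution is cyclic. -/
theorem isCyclic_of_unique {X : Type*} [Group X] [Finite X] (hcomm : ∀ x y : X, Commute x y)
    (hX : IsPGroup 2 X) (huniq : ∀ x y : X, orderOf x = 2 → orderOf y = 2 → x = y) : IsCyclic X := by
  haveI : Fact (Nat.Prime 2) := ⟨Nat.prime_two⟩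
  obtain ⟨g, hg⟩ := Finite.exists_max (fun x : X => orderOf x)
  refine ⟨g, fun x => ?_⟩
  suffices H : ∀ n : ℕ, ∀ x : X, orderOf x = 2 ^ n → x ∈ zpowers g by
    obtain ⟨n, hn⟩ := IsPGroup.iff_orderOf.1 hX x
    exact H n x hn
  intro n
  induction n with
  | zero =>
    intro x hx
    rw [pow_zero, orderOf_eq_one_iff] at hx
    rw [hx]; exact one_mem _
  | succ n ih =>
    intro x hx
    have hx2 : orderOf (x ^ 2) = 2 ^ n := by
      rw [orderOf_pow' x two_ne_zero, hx, pow_succ, Nat.gcd_mul_left_left,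
        Nat.mul_div_cancel _ two_pos]
    obtain ⟨l, hl⟩ := IsPGroup.iff_orderOf.1 hX g
    have hl0 : l ≠ 0 := fun h => by
      have := hg x
      rw [hl, h, pow_zero, hx] at this
      have : 2 ^ 1 ≤ 2 ^ (n + 1) := Nat.pow_le_pow_right two_pos (by omega)
      omega
    obtain ⟨j, hj⟩ := mem_zpowers_iff.1 (ih _ hx2)
    rcases Int.even_or_odd j with ⟨i, rfl⟩ | hodd
    · set y := x * (g ^ i)⁻¹ with hy
      have hy2 : y ^ 2 = 1 := by
        have h1 : (g ^ i) ^ 2 = x ^ 2 := by rw [← hj, pow_two, ← zpow_add]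
        rw [hy, (hcomm x _).mul_pow, inv_pow, h1, mul_inv_cancel]
      by_cases hy1 : y = 1
      · rw [hy, mul_inv_eq_one] at hy1
        rw [hy1]; exact zpow_mem (mem_zpowers g) _
      · obtain ⟨l', rfl⟩ := Nat.exists_eq_succ_of_ne_zero hl0
        have hu : orderOf (g ^ 2 ^ l') = 2 := by
          rw [orderOf_pow' g (pow_ne_zero _ two_ne_zero), hl,
            Nat.gcd_eq_right (pow_dvd_pow 2 l'.le_succ), pow_succ,
            Nat.mul_div_cancel_left _ (pow_pos two_pos _)]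
        have h2 : x = y * g ^ i := by rw [hy, inv_mul_cancel_right]
        rw [h2, huniq y (g ^ 2 ^ l') (orderOf_eq_prime hy2 hy1) hu]
        exact mul_mem (pow_mem (mem_zpowers g) _) (zpow_mem (mem_zpowers g) _)
    · exfalso
      have hco : orderOf (g ^ j) = orderOf g := by
        refine le_antisymm (hg _) (Nat.le_of_dvd (orderOf_pos _) ?_)
        have h1 : ((orderOf g : ℕ) : ℤ) ∣ j * (orderOf (g ^ j) : ℕ) :=
          orderOf_dvd_iff_zpow_eq_one.2 (by rw [zpow_mul, zpow_natCast, pow_orderOf_eq_one])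
        rw [hl] at h1 ⊢
        have h2 : ((2 ^ l : ℕ) : ℤ).gcd j = 1 := by
          show Nat.gcd ((2 ^ l : ℕ) : ℤ).natAbs j.natAbs = 1
          rw [Int.natAbs_natCast]
          exact (Int.natAbs_odd.2 hodd).coprime_two_left.pow_left l
        exact Int.natCast_dvd_natCast.1 ((Int.isCoprime_iff_gcd_eq_one.2 h2).dvd_of_dvd_mul_left h1)
      rw [hj, hx2] at hco
      have := hg x
      rw [← hco, hx, pow_succ] at this
      have := Nat.two_pow_pos n
      omega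

variable {V : Type*} [Group V] [Finite V]

/-- An involution normalising a regular torus centralises and inverts the two halves of it. -/
theorem invol_split (hV : ∀ x : V, x * x = 1) (hVc : ∀ x y : V, Commute x y) {α : MulAut V}
    (htr : ∀ e e' : V, e ≠ 1 → e' ≠ 1 → ∃ k : ℕ, (α ^ k) e = e') {m : ℕ} (hm : Nat.card V = 2 ^ m)
    (hm2 : 2 ≤ m)
    (hev : ∀ {e : V}, e ≠ 1 → ∀ β ∈ zpowers α, β e = e → β = 1)
    (hA : Nat.card (zpowers α) = 2 ^ m - 1) (hoddA : Odd (Nat.card (zpowers α)))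
    (habA : ∀ x ∈ zpowers α, ∀ y ∈ zpowers α, Commute x y)
    (hnat : ∀ β ∈ zpowers α, ∃ i : ℕ, α ^ i = β) {σ : MulAut V} (hσ2 : orderOf σ = 2) {k : ℕ}
    (hk : σ * α * σ⁻¹ = α ^ k) :
    ∃ c : ℕ, m = 2 * c ∧
      (∀ β ∈ zpowers α, β ^ (2 ^ c - 1) = 1 → σ * β * σ⁻¹ = β) ∧
      ∀ β ∈ zpowers α, β ^ (2 ^ c + 1) = 1 → σ * β * σ⁻¹ = β⁻¹ := by
  haveI : Fact (Nat.Prime 2) := ⟨Nat.prime_two⟩
  haveI : Finite (MulAut V) := Finite.of_injective (fun f : MulAut V => (f : V → V)) DFunLike.coe_injective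
  classical
  haveI := Fintype.ofFinite V
  have hσσ : ∀ x, σ (σ x) = x := fun x => by
    rw [← MulAut.mul_apply, ← pow_two, ← hσ2, pow_orderOf_eq_one, MulAut.one_apply]
  let F : Subgroup V :=
    { carrier := {x | σ x = x}
      one_mem' := map_one σ
      mul_mem' := fun {x y} (hx : σ x = x) (hy : σ y = y) => by
        show σ (x * y) = x * y
        rw [map_mul, hx, hy]
      inv_mem' := fun {x} (hx : σ x = x) => by
        show σ x⁻¹ = x⁻¹
        rw [map_inv, hx] }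
  let φ : V →* V := MonoidHom.mk' (fun x => x * σ x) fun x y => by
    simp only [map_mul]
    rw [mul_assoc x y, ← mul_assoc y, (hVc y (σ x)).eq]
    group
  have hrange : φ.range ≤ F := by
    rintro _ ⟨x, rfl⟩
    show σ (x * σ x) = x * σ x
    rw [map_mul, hσσ, (hVc _ _).eq]
  have hker : φ.ker ≤ F := fun x (hx : x * σ x = 1) => by
    show σ x = x
    rw [eq_inv_of_mul_eq_one_right hx, inv_eq_of_mul_eq_one_right (hV x)]
  have hsq : Nat.card V ≤ Nat.card F * Nat.card F := by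
    rw [← φ.ker.card_mul_index, Subgroup.index_ker]
    exact Nat.mul_le_mul (card_le_of_le hker) (card_le_of_le hrange)
  obtain ⟨c, hc⟩ : ∃ c, Nat.card F = 2 ^ c :=
    IsPGroup.iff_card.1 ((IsPGroup.of_card hm : IsPGroup 2 V).to_subgroup F)
  have hcm : c < m := by
    by_contra hle
    have hF : F = ⊤ := eq_top_of_le_card F (by
      rw [hm, hc]; exact Nat.pow_le_pow_right two_pos (by omega))
    refine Invol.ne_one hσ2 (MulEquiv.ext fun x => ?_)
    exact (hF ▸ mem_top x : x ∈ F)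
  have hc0 : 0 < c := Nat.pos_of_ne_zero fun h0 => by
    rw [hc, h0, pow_zero, hm] at hsq
    have : 2 ^ 2 ≤ 2 ^ m := Nat.pow_le_pow_right two_pos hm2
    omega
  obtain ⟨e₁, he₁F, he₁⟩ : ∃ e₁ ∈ F, e₁ ≠ 1 := by
    refine F.bot_or_exists_ne_one.resolve_left fun h => ?_
    rw [h, card_bot] at hc
    have : 2 ^ 1 ≤ 2 ^ c := Nat.pow_le_pow_right two_pos hc0
    omega
  let A₀ : Subgroup (MulAut V) := zpowers α ⊓ centralizer {σ}
  have hA₀ : Nat.card A₀ = 2 ^ c - 1 := by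
    have hin : ∀ β : A₀, σ ((β : MulAut V) e₁) = (β : MulAut V) e₁ := fun β => by
      rw [← MulAut.mul_apply, ← mem_centralizer_singleton_iff.1 β.2.2, MulAut.mul_apply]
      exact congrArg _ he₁F
    have hback : ∀ x : {x : F // x ≠ 1}, ∃ β : A₀, (β : MulAut V) e₁ = (x.1 : V) := fun x => by
      obtain ⟨i, hi⟩ := htr e₁ x.1 he₁ fun h => x.2 (Subtype.ext h)
      refine ⟨⟨α ^ i, pow_mem (mem_zpowers α) i, mem_centralizer_singleton_iff.2 ?_⟩, hi⟩
      have h1 : σ * α ^ i * σ⁻¹ ∈ zpowers α := by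
        rw [← conj_pow, hk]; exact pow_mem (pow_mem (mem_zpowers α) k) i
      have h2 : ((α ^ i)⁻¹ * (σ * α ^ i * σ⁻¹)) e₁ = e₁ := by
        rw [MulAut.mul_apply, MulAut.mul_apply, MulAut.mul_apply,
          show σ⁻¹ e₁ = e₁ from σ.injective ((σ.apply_symm_apply e₁).trans he₁F.symm), hi,
          show σ (x.1 : V) = x.1 from x.1.2, ← hi]
        exact (α ^ i).symm_apply_apply e₁
      have h3 := hev he₁ _ (mul_mem (inv_mem (pow_mem (mem_zpowers α) i)) h1) h2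
      exact (mul_inv_eq_iff_eq_mul.1 (inv_mul_eq_one.1 h3).symm).symm
    have e : A₀ ≃ {x : F // x ≠ 1} := Equiv.ofBijective
      (fun β => ⟨⟨(β : MulAut V) e₁, hin β⟩, fun h => he₁ ((β : MulAut V).injective
        ((congrArg Subtype.val h).trans (map_one _).symm))⟩)
      ⟨fun β γ h => Subtype.ext (inv_mul_eq_one.1 (hev he₁ _
        (mul_mem (inv_mem β.2.1) γ.2.1) (by
          rw [MulAut.mul_apply, ← show (β : MulAut V) e₁ = (γ : MulAut V) e₁ from
            congrArg (fun t : {x : F // x ≠ 1} => (t.1 : V)) h]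
          exact (β : MulAut V).symm_apply_apply e₁))),
        fun x => let ⟨β, hβ⟩ := hback x; ⟨β, Subtype.ext (Subtype.ext hβ)⟩⟩
    rw [Nat.card_congr e, ← hc, Nat.card_eq_fintype_card, Nat.card_eq_fintype_card,
      Fintype.card_subtype_compl, Fintype.card_subtype_eq]
  have hdvd : 2 ^ c - 1 ∣ 2 ^ m - 1 := by
    rw [← hA₀, ← hA]; exact card_dvd_of_le inf_le_left
  have hmc : m = 2 * c := by
    have h1 : 2 ^ c - 1 ∣ 2 ^ Nat.gcd m c - 1 :=
      Nat.pow_sub_one_gcd_pow_sub_one 2 m c ▸ Nat.dvd_gcd hdvd dvd_rfl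
    have hg0 : 0 < Nat.gcd m c := Nat.gcd_pos_of_pos_right _ hc0
    have h2 : 2 ≤ 2 ^ Nat.gcd m c := Nat.le_pow hg0.ne'.bot_lt
    have h3 := Nat.le_of_dvd (by omega) h1
    have h4 : c ≤ Nat.gcd m c := (Nat.pow_le_pow_iff_right (le_refl 2)).1 (by
      have := Nat.one_le_two_pow (n := c); omega)
    obtain ⟨j, hj⟩ : c ∣ m := by
      rw [show c = Nat.gcd m c from le_antisymm h4 (Nat.gcd_le_right _ hc0)]
      exact Nat.gcd_dvd_left _ _
    have h5 : m ≤ c + c := (Nat.pow_le_pow_iff_right (le_refl 2)).1 (by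
      rw [pow_add, ← hc, ← hm]; exact hsq)
    rcases Nat.lt_or_ge j 3 with hj3 | hj3
    · interval_cases j <;> omega
    · have := Nat.mul_le_mul_left c hj3
      omega
  have hfixed : ∀ β ∈ zpowers α, β ^ (2 ^ c - 1) = 1 → σ * β * σ⁻¹ = β := by
    intro β hβ hβc
    have hmem : β ∈ A₀ := by
      haveI : IsCyclic (zpowers α) := inferInstance
      by_contra hβA
      let K : Subgroup (MulAut V) :=
        { carrier := {γ | γ ∈ zpowers α ∧ γ ^ (2 ^ c - 1) = 1}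
          one_mem' := ⟨one_mem _, one_pow _⟩
          mul_mem' := fun {x y} hx hy => ⟨mul_mem hx.1 hy.1, by
            rw [(habA x hx.1 y hy.1).mul_pow, hx.2, hy.2, one_mul]⟩
          inv_mem' := fun {x} hx => ⟨inv_mem hx.1, by rw [inv_pow, hx.2, inv_one]⟩ }
      have hle : A₀ ≤ K := fun γ hγ => ⟨hγ.1, by
        rw [← hA₀]; exact congrArg Subtype.val (pow_card_eq_one' (G := A₀) (x := ⟨γ, hγ⟩))⟩
      have hcard : Nat.card K ≤ 2 ^ c - 1 := by
        haveI := Fintype.ofFinite (zpowers α)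
        refine le_trans ?_ (IsCyclic.card_pow_eq_one_le (α := zpowers α) (n := 2 ^ c - 1) (by
          have := Nat.le_pow (a := 2) hc0.ne'.bot_lt; omega))
        rw [← Fintype.card_subtype, ← Nat.card_eq_fintype_card]
        exact Nat.card_le_card_of_injective
          (fun γ : K => (⟨⟨γ.1, γ.2.1⟩, Subtype.ext γ.2.2⟩ : {a : zpowers α // a ^ (2 ^ c - 1) = 1}))
          fun γ δ h => Subtype.ext (congrArg (fun t : {a : zpowers α // a ^ (2 ^ c - 1) = 1} =>
            ((t.1 : zpowers α) : MulAut V)) h)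
      have heq : A₀ = K := eq_of_le_of_card_ge hle (hA₀ ▸ hcard)
      exact hβA (heq ▸ ⟨hβ, hβc⟩)
    exact mul_inv_eq_iff_eq_mul.2 (mem_centralizer_singleton_iff.1 hmem.2).symm
  refine ⟨c, hmc, hfixed, fun β hβ hβc => ?_⟩
  obtain ⟨i, rfl⟩ := hnat β hβ
  set γ := σ * α ^ i * σ⁻¹ with hγ
  have hγmem : γ ∈ zpowers α := by
    rw [hγ, ← conj_pow, hk]; exact pow_mem (pow_mem (mem_zpowers α) k) i
  set δ := α ^ i * γ with hδ
  have hcom : Commute (α ^ i) γ := habA _ hβ _ hγmem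
  have hδσ : σ * δ * σ⁻¹ = δ := by
    rw [hδ, show σ * (α ^ i * γ) * σ⁻¹ = σ * α ^ i * σ⁻¹ * (σ * γ * σ⁻¹) by group, ← hγ,
      show σ * γ * σ⁻¹ = α ^ i by
        rw [hγ, show σ * (σ * α ^ i * σ⁻¹) * σ⁻¹ = (σ * σ) * α ^ i * (σ * σ)⁻¹ by group,
          ← pow_two, ← hσ2, pow_orderOf_eq_one]
        group, hcom.eq]
  have hδA : δ ∈ A₀ :=
    ⟨mul_mem hβ hγmem, mem_centralizer_singleton_iff.2 (mul_inv_eq_iff_eq_mul.1 hδσ).symm⟩
  have hδ1 : δ ^ (2 ^ c + 1) = 1 := by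
    rw [hδ, hcom.mul_pow, hβc, one_mul, hγ, conj_pow, hβc, mul_one, mul_inv_cancel]
  have hδ2 : δ ^ (2 ^ c - 1) = 1 := by
    rw [← hA₀]; exact congrArg Subtype.val (pow_card_eq_one' (G := A₀) (x := ⟨δ, hδA⟩))
  have hδone : δ = 1 := by
    refine Consumers.eq_one_of_two_of_odd (i := 1)
      (hoddA.of_dvd_nat (Subgroup.orderOf_dvd_natCard _ (mul_mem hβ hγmem))) ?_
    rw [pow_one]
    have h1 : δ ^ (2 ^ c - 1 + 2) = 1 := by
      rw [show 2 ^ c - 1 + 2 = 2 ^ c + 1 by have := Nat.one_le_two_pow (n := c); omega]; exact hδ1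
    rwa [pow_add, hδ2, one_mul] at h1
  exact eq_inv_of_mul_eq_one_right hδone

/-- **A 2-group normalising a regular torus is cyclic.** -/
theorem isCyclic_two (hV : ∀ x : V, x * x = 1) (α : MulAut V)
    (htr : ∀ e e' : V, e ≠ 1 → e' ≠ 1 → ∃ k : ℕ, (α ^ k) e = e') (h4 : 4 ≤ Nat.card V)
    (X : Subgroup (MulAut V)) (hX : IsPGroup 2 X)
    (hnorm : ∀ σ ∈ X, ∃ k : ℕ, σ * α * σ⁻¹ = α ^ k) : IsCyclic X := by
  haveI : Fact (Nat.Prime 2) := ⟨Nat.prime_two⟩
  haveI : Finite (MulAut V) := Finite.of_injective (fun f : MulAut V => (f : V → V)) DFunLike.coe_injective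
  classical
  haveI := Fintype.ofFinite V
  obtain ⟨m, hm⟩ : ∃ m, Nat.card V = 2 ^ m :=
    IsPGroup.iff_card.1 fun x => ⟨1, by rw [pow_one, pow_two]; exact hV x⟩
  have hm2 : 2 ≤ m := by
    by_contra h
    have : 2 ^ m ≤ 2 ^ 1 := Nat.pow_le_pow_right two_pos (by omega)
    omega
  have hVc : ∀ x y : V, Commute x y := fun x y => by
    have h1 := hV (x * y)
    have := eq_inv_of_mul_eq_one_left h1
    rwa [mul_inv_rev, inv_eq_of_mul_eq_one_right (hV x), inv_eq_of_mul_eq_one_right (hV y)] at this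
  obtain ⟨e₀, he₀⟩ : ∃ e₀ : V, e₀ ≠ 1 := by
    by_contra h
    push Not at h
    haveI : Subsingleton V := ⟨fun x y => (h x).trans (h y).symm⟩
    rw [Nat.card_of_subsingleton 1] at h4
    omega
  have hev : ∀ {e : V}, e ≠ 1 → ∀ β ∈ zpowers α, β e = e → β = 1 := by
    intro e he β hβ hβe
    obtain ⟨i, rfl⟩ := mem_zpowers_iff.1 hβ
    refine MulEquiv.ext fun x => ?_
    by_cases hx : x = 1
    · rw [hx, map_one, map_one]
    obtain ⟨k, rfl⟩ := htr e x he hx
    rw [← MulAut.mul_apply, show α ^ i * α ^ k = α ^ k * α ^ i by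
      rw [← zpow_natCast, ← zpow_add, ← zpow_add, add_comm], MulAut.mul_apply, hβe, MulAut.one_apply]
  have hcen : ∀ σ : MulAut V, Commute σ α → σ ∈ zpowers α := by
    intro σ hσ
    obtain ⟨k, hk⟩ := htr e₀ (σ e₀) he₀ fun h => he₀ (σ.injective (h.trans (map_one σ).symm))
    rw [show σ = α ^ k from MulEquiv.ext fun x => ?_]
    · exact pow_mem (mem_zpowers α) k
    by_cases hx : x = 1
    · rw [hx, map_one, map_one]
    obtain ⟨l, rfl⟩ := htr e₀ x he₀ hx
    rw [← MulAut.mul_apply, (hσ.pow_right l).eq, MulAut.mul_apply, ← hk, ← MulAut.mul_apply,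
      ← MulAut.mul_apply, ← pow_add, ← pow_add, add_comm]
  have hA : Nat.card (zpowers α) = 2 ^ m - 1 := by
    have e : zpowers α ≃ {x : V // x ≠ 1} := Equiv.ofBijective
      (fun β => ⟨(β : MulAut V) e₀, fun h => he₀ ((β : MulAut V).injective (h.trans (map_one _).symm))⟩)
      ⟨fun β γ h => Subtype.ext (inv_mul_eq_one.1 (hev he₀ _ (mul_mem (inv_mem β.2) γ.2) (by
          rw [MulAut.mul_apply, ← show (β : MulAut V) e₀ = (γ : MulAut V) e₀ from congrArg Subtype.val h]; exact (β : MulAut V).symm_apply_apply e₀))),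
        fun x => let ⟨k, hk⟩ := htr e₀ x.1 he₀ x.2; ⟨⟨α ^ k, pow_mem (mem_zpowers α) k⟩, Subtype.ext hk⟩⟩
    rw [Nat.card_congr e, ← hm, Nat.card_eq_fintype_card, Nat.card_eq_fintype_card,
      Fintype.card_subtype_compl, Fintype.card_subtype_eq]
  have hoddA : Odd (Nat.card (zpowers α)) := by
    rw [hA]
    exact Nat.Even.sub_odd Nat.one_le_two_pow (even_two.pow_of_ne_zero (by omega)) odd_one
  have hfree : ∀ σ ∈ X, Commute σ α → σ = 1 := fun σ hσ hc => by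
    obtain ⟨i, hi⟩ := hX ⟨σ, hσ⟩
    exact Consumers.eq_one_of_two_of_odd
      (hoddA.of_dvd_nat (Subgroup.orderOf_dvd_natCard _ (hcen σ hc))) (congrArg Subtype.val hi)
  have hnat : ∀ β ∈ zpowers α, ∃ i : ℕ, α ^ i = β := fun β hβ => by
    obtain ⟨i, hi⟩ := (mem_powers_iff_mem_zpowers (y := β) (x := α)).2 hβ
    exact ⟨i, hi⟩
  -- commutativity
  have hcomm : ∀ σ ∈ X, ∀ τ ∈ X, Commute σ τ := by
    intro σ hσ τ hτ
    obtain ⟨k, hk⟩ := hnorm σ hσ
    obtain ⟨l, hl⟩ := hnorm τ hτ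
    have hcn : ∀ {ρ : MulAut V} {i : ℕ}, ρ * α * ρ⁻¹ = α ^ i → ∀ j : ℕ, ρ * α ^ j * ρ⁻¹ = α ^ (i * j) :=
      fun {ρ i} h j => by rw [← conj_pow, h, pow_mul]
    have h1 : σ * τ * α * (σ * τ)⁻¹ = τ * σ * α * (τ * σ)⁻¹ := by
      rw [show σ * τ * α * (σ * τ)⁻¹ = σ * (τ * α * τ⁻¹) * σ⁻¹ by group, hl, hcn hk,
        show τ * σ * α * (τ * σ)⁻¹ = τ * (σ * α * σ⁻¹) * τ⁻¹ by group, hk, hcn hl, mul_comm]
    have h2 : Commute ((τ * σ)⁻¹ * (σ * τ)) α := by
      show (τ * σ)⁻¹ * (σ * τ) * α = α * ((τ * σ)⁻¹ * (σ * τ))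
      calc (τ * σ)⁻¹ * (σ * τ) * α = (τ * σ)⁻¹ * (σ * τ * α * (σ * τ)⁻¹) * (σ * τ) := by group
        _ = _ := by rw [h1]; group
    have h3 := hfree _ (mul_mem (inv_mem (mul_mem hτ hσ)) (mul_mem hσ hτ)) h2
    exact (inv_mul_eq_one.1 h3).symm
  -- the involutions
  refine isCyclic_of_unique (fun σ τ => Subtype.ext (hcomm σ σ.2 τ τ.2).eq) hX ?_
  have habA : ∀ x ∈ zpowers α, ∀ y ∈ zpowers α, Commute x y := by
    rintro _ ⟨i, rfl⟩ _ ⟨j, rfl⟩
    exact Commute.zpow_zpow_self α i j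
  have hinv : ∀ σ ∈ X, orderOf σ = 2 → ∃ c : ℕ, m = 2 * c ∧
      (∀ β ∈ zpowers α, β ^ (2 ^ c - 1) = 1 → σ * β * σ⁻¹ = β) ∧
      ∀ β ∈ zpowers α, β ^ (2 ^ c + 1) = 1 → σ * β * σ⁻¹ = β⁻¹ := fun σ hσ hσ2 =>
    let ⟨_, hk⟩ := hnorm σ hσ
    invol_split hV hVc htr hm hm2 @hev hA hoddA habA hnat hσ2 hk
  rintro ⟨σ, hσ⟩ ⟨τ, hτ⟩ hσ2 hτ2
  rw [Subgroup.orderOf_mk] at hσ2 hτ2
  obtain ⟨c, hc, hσf, hσi⟩ := hinv σ hσ hσ2
  obtain ⟨c', hc', hτf, hτi⟩ := hinv τ hτ hτ2
  obtain rfl : c' = c := by omega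
  have hsame : ∀ β ∈ zpowers α, σ * β * σ⁻¹ = τ * β * τ⁻¹ := by
    intro β hβ
    have hcard : β ^ ((2 ^ c' - 1) * (2 ^ c' + 1)) = 1 := by
      rw [mul_comm (2 ^ c' - 1), ← Nat.sq_sub_sq, one_pow, ← pow_mul, mul_comm c', ← hc, ← hA]
      exact congrArg Subtype.val (pow_card_eq_one' (G := zpowers α) (x := ⟨β, hβ⟩))
    -- split `β` into the two parts
    have h1 : σ * β ^ 2 * σ⁻¹ = τ * β ^ 2 * τ⁻¹ := by
      have hf1 := hσf (β ^ (2 ^ c' + 1)) (pow_mem hβ _) (by rw [← pow_mul, mul_comm, hcard])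
      have hf2 := hτf (β ^ (2 ^ c' + 1)) (pow_mem hβ _) (by rw [← pow_mul, mul_comm, hcard])
      have hi1 := hσi (β ^ (2 ^ c' - 1)) (pow_mem hβ _) (by rw [← pow_mul, hcard])
      have hi2 := hτi (β ^ (2 ^ c' - 1)) (pow_mem hβ _) (by rw [← pow_mul, hcard])
      have e : β ^ 2 = β ^ (2 ^ c' + 1) * (β ^ (2 ^ c' - 1))⁻¹ := by
        rw [eq_mul_inv_iff_mul_eq, ← pow_add]
        congr 1
        have := Nat.one_le_two_pow (n := c')
        omega
      rw [e, ← conj_mul, ← conj_inv, hf1, hi1, ← conj_mul, ← conj_inv, hf2, hi2]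
    obtain ⟨l, hl⟩ := hoddA.of_dvd_nat (Subgroup.orderOf_dvd_natCard _ hβ)
    have e : β = (β ^ 2) ^ (l + 1) := by
      rw [← pow_mul, show 2 * (l + 1) = orderOf β + 1 by omega, pow_succ, pow_orderOf_eq_one, one_mul]
    rw [e, ← conj_pow (a := σ) (b := β ^ 2), h1, conj_pow]
  have h := hfree _ (mul_mem (inv_mem hσ) hτ) (by
    show σ⁻¹ * τ * α = α * (σ⁻¹ * τ)
    calc σ⁻¹ * τ * α = σ⁻¹ * (τ * α * τ⁻¹) * τ := by group
      _ = _ := by rw [← hsame α (mem_zpowers α)]; group)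
  exact Subtype.ext (inv_mul_eq_one.1 h)

end CfsgLib.Criterion.Semilinear
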