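import Cfsg.Agent.Bender.ConsumerRows
import Cfsg.Agent.Bender.Dichotomy
import Cfsg.Agent.LocalB.StrongEmbedded
import Cfsg.Prelude.Def_EvenType
import Cfsg.Prelude.Def_SporadicB

/-!
Consumers of the criterion for strong embedding from local data at a 2-central involution.
The criterion itself enters as the hypothesis `LocalData`.
-/

set_option autoImplicit false
set_option linter.unusedSectionVars false
set_option linter.style.haveILetI false

namespace CfsgLib.Criterion.Consumers

open Subgroup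

universe u

/-- The criterion: strong embedding in the normal closure of `z` from the local data at the
involutions centralizing `z`. -/
def LocalData : Prop :=
  ∀ (G : Type u) [Group G] [Finite G] (P : Sylow 2 G) (z : G), orderOf z = 2 →
    z ∈ (Subgroup.center ↥(P : Subgroup G)).map (P : Subgroup G).subtype →
    ∀ H : Subgroup G, H ≠ ⊤ → (∀ g : G, z ∈ H.map (MulAut.conj g).toMonoidHom ↔ g ∈ H) →
    (∀ u : G, orderOf u = 2 → u * z = z * u → ¬ Subgroup.centralizer ({u} : Set G) ≤ H →
      Cfsg.IsStronglyEmbedded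
        (H.subgroupOf (Subgroup.closure {x : G | IsConj z x ∧ x * u = u * x}))) →
    Cfsg.IsStronglyEmbedded (H.subgroupOf (Subgroup.normalClosure ({z} : Set G)))

variable {G : Type u} [Group G] [Finite G]

/-- Strong embedding in the whole group seen as a subgroup. -/
theorem stronglyEmbedded_of_top {M K : Subgroup G} (hK : K = ⊤)
    (h : Cfsg.IsStronglyEmbedded (M.subgroupOf K)) : Cfsg.IsStronglyEmbedded M := by
  subst hK
  obtain ⟨h1, h2, h3⟩ := h
  refine ⟨fun he => h1 (by rw [he]; exact top_subgroupOf _), ?_, fun g hg => ?_⟩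
  · rwa [Nat.card_congr (subgroupOfEquivOfLe (le_top : M ≤ ⊤)).toEquiv] at h2
  · have := h3 ⟨g, mem_top g⟩ hg
    have e : M.subgroupOf ⊤ ⊓ (M.subgroupOf ⊤).map (MulAut.conj (⟨g, mem_top g⟩ : (⊤ : Subgroup G))).toMonoidHom
        = (M ⊓ M.map (MulAut.conj g).toMonoidHom).subgroupOf ⊤ := by
      ext x
      rw [mem_inf, mem_subgroupOf, mem_subgroupOf, mem_inf, mem_map, mem_map]
      refine and_congr_right fun _ => ⟨?_, ?_⟩
      · rintro ⟨y, hy, rfl⟩
        exact ⟨y.1, hy, rfl⟩
      · rintro ⟨y, hy, he⟩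
        exact ⟨⟨y, mem_top y⟩, hy, Subtype.ext he⟩
    rwa [e, Nat.card_congr (subgroupOfEquivOfLe le_top).toEquiv] at this

/-- An involution of a non-abelian simple group is not central. -/
theorem centralizer_ne_top [IsSimpleGroup G] (hG : ¬ IsMulCommutative G) {t : G} (ht : t ≠ 1) :
    centralizer ({t} : Set G) ≠ ⊤ := by
  intro h
  have hc : t ∈ center G :=
    mem_center_iff.2 fun g => mem_centralizer_singleton_iff.1 (h ▸ mem_top g)
  rcases (inferInstance : (center G).Normal).eq_bot_or_eq_top with hb | hb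
  · exact ht (mem_bot.1 (hb ▸ hc))
  · exact hG ⟨⟨fun a b => (mem_center_iff.1 (hb ▸ mem_top a) b).symm⟩⟩

/-- A strongly `Z`-embedded maximal subgroup is strongly embedded and doubly transitive. -/
theorem zEmbedded_row (hcrit : LocalData.{u}) [IsSimpleGroup G] (hG : ¬ IsMulCommutative G)
    (M : Subgroup G) (hmax : IsCoatom M) (z : G) (hz : Cfsg.IsTwoCentralInvolution z)
    (hM : Cfsg.IsStronglyZEmbedded (conjugatesOf z) M) :
    Cfsg.IsStronglyPEmbedded 2 M ∧
    (∀ a b c d : G, M.map (MulAut.conj a).toMonoidHom ≠ M.map (MulAut.conj b).toMonoidHom →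
      M.map (MulAut.conj c).toMonoidHom ≠ M.map (MulAut.conj d).toMonoidHom →
      ∃ g : G, (M.map (MulAut.conj a).toMonoidHom).map (MulAut.conj g).toMonoidHom =
          M.map (MulAut.conj c).toMonoidHom ∧
        (M.map (MulAut.conj b).toMonoidHom).map (MulAut.conj g).toMonoidHom =
          M.map (MulAut.conj d).toMonoidHom) := by
  haveI : Fact (Nat.Prime 2) := ⟨Nat.prime_two⟩
  obtain ⟨hMne, ⟨w, hwZ, hwM⟩, hC, ⟨T, hT⟩, hloc⟩ := hM
  have hzw : IsConj z w := hwZ
  obtain ⟨c, hc⟩ := (isConj_iff.1 hzw : ∃ c : G, c * z * c⁻¹ = w)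
  obtain ⟨hz2, P, hzP, hPz⟩ := hz
  subst hc
  set w := c * z * c⁻¹ with hw
  have hw2 : orderOf w = 2 := by
    rw [← hz2]
    exact orderOf_injective (MulAut.conj c).toMonoidHom (MulAut.conj c).injective z
  have hPw : w ∈ (Subgroup.center ↥((c • P : Sylow 2 G) : Subgroup G)).map
      ((c • P : Sylow 2 G) : Subgroup G).subtype := by
    have hmem : w ∈ ((c • P : Sylow 2 G) : Subgroup G) := ⟨z, hzP, rfl⟩
    refine ⟨⟨w, hmem⟩, mem_center_iff.2 fun a => Subtype.ext ?_, rfl⟩
    obtain ⟨s, hs, e⟩ := a.2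
    have e' : c * s * c⁻¹ = (a : G) := e
    show (a : G) * w = w * (a : G)
    rw [← e']
    calc c * s * c⁻¹ * (c * z * c⁻¹) = c * (s * z) * c⁻¹ := by group
      _ = c * (z * s) * c⁻¹ := by rw [hPz s hs]
      _ = c * z * c⁻¹ * (c * s * c⁻¹) := by group
  have hconj : ∀ x, IsConj w x ↔ x ∈ conjugatesOf z := fun x => by
    exact ⟨fun h => (hzw.trans h : IsConj z x), fun h => hzw.symm.trans (h : IsConj z x)⟩
  have hCw : centralizer ({w} : Set G) ≤ M := hC w hwZ hwM
  -- fusion of the class inside `M`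
  have hin : ∀ x ∈ M, orderOf x = 2 →
      ∃ m ∈ M, m * x * m⁻¹ ∈ (T : Subgroup M).map M.subtype := fun x hx hxo => by
    obtain ⟨m, hm, hle⟩ := (CfsgLib.Functor.isSylowIn_map_subtype T).exists_cj_le
      (CfsgLib.LocalB.isPGroup_zpowers (p := 2) ⟨1, by rw [hxo, pow_one]⟩) (zpowers_le.mpr hx)
    exact ⟨m, hm, hle (CfsgLib.Functor.conj_mem_cj (mem_zpowers x))⟩
  have hi : ∀ g : G, w ∈ M.map (MulAut.conj g).toMonoidHom ↔ g ∈ M := by
    intro g
    constructor
    · rintro ⟨y, hy, he⟩
      have he' : g * y * g⁻¹ = w := he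
      have hyo : orderOf y = 2 := by
        rw [← hw2, ← he']
        exact (orderOf_injective (MulAut.conj g).toMonoidHom (MulAut.conj g).injective y).symm
      obtain ⟨m, hm, hmy⟩ := hin y hy hyo
      obtain ⟨n, hn, hnw⟩ := hin w hwM hw2
      obtain ⟨x, hx, himg⟩ := hT {m * y * m⁻¹} (n * g * m⁻¹) (Set.singleton_subset_iff.2 hmy) (by
        rw [Set.image_singleton, Set.singleton_subset_iff]
        rw [show n * g * m⁻¹ * (m * y * m⁻¹) * (n * g * m⁻¹)⁻¹ = n * (g * y * g⁻¹) * n⁻¹ by group,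
          he']
        exact hnw)
      simp only [Set.image_singleton, Set.singleton_eq_singleton_iff] at himg
      rw [show n * g * m⁻¹ * (m * y * m⁻¹) * (n * g * m⁻¹)⁻¹ = n * (g * y * g⁻¹) * n⁻¹ by group,
        he'] at himg
      -- `k` moves `y` to `w` inside `M`
      set k := n⁻¹ * x * m with hk
      have hkM : k ∈ M := mul_mem (mul_mem (inv_mem hn) hx) hm
      have hky : k * y * k⁻¹ = w := by
        have e : k * y * k⁻¹ = n⁻¹ * (x * (m * y * m⁻¹) * x⁻¹) * n := by rw [hk]; group
        rw [e, ← himg]; group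
      have hgk : g * k⁻¹ ∈ centralizer ({w} : Set G) := by
        rw [mem_centralizer_singleton_iff]
        calc g * k⁻¹ * w = g * k⁻¹ * (k * y * k⁻¹) := by rw [hky]
          _ = g * y * g⁻¹ * (g * k⁻¹) := by group
          _ = w * (g * k⁻¹) := by rw [he']
      simpa using mul_mem (hCw hgk) hkM
    · intro hg
      exact ⟨g⁻¹ * w * g, mul_mem (mul_mem (inv_mem hg) hwM) hg, by
        simp [MulAut.conj_apply, mul_assoc]⟩
  have hii : ∀ t : G, orderOf t = 2 → t * w = w * t → ¬ centralizer ({t} : Set G) ≤ M →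
      Cfsg.IsStronglyEmbedded
        (M.subgroupOf (Subgroup.closure {x : G | IsConj w x ∧ x * t = t * x})) := by
    intro t ht htw hnot
    have ht1 : t ≠ 1 := fun h => by rw [h, orderOf_one] at ht; exact absurd ht (by decide)
    have hwC : w ∈ centralizer ({t} : Set G) := mem_centralizer_singleton_iff.2 htw.symm
    obtain ⟨-, hse⟩ := hloc _ (centralizer_ne_top hG ht1) ⟨w, hwZ, hwC, hwM⟩ hnot
    have hset : conjugatesOf z ∩ (centralizer ({t} : Set G) : Set G) =
        {x : G | IsConj w x ∧ x * t = t * x} := by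
      ext x
      exact and_congr (hconj x).symm mem_centralizer_singleton_iff
    rw [hset] at hse
    rw [inf_subgroupOf_left] at hse
    exact CfsgLib.Bender.Consumers.stronglyEmbedded_of_pEmbedded hse
  have hse : Cfsg.IsStronglyEmbedded M := by
    refine stronglyEmbedded_of_top ?_ (hcrit G (c • P) w hw2 hPw M hMne hi hii)
    rcases (normalClosure_normal (s := ({w} : Set G))).eq_bot_or_eq_top with h | h
    · have := subset_normalClosure (Set.mem_singleton w)
      rw [h] at this
      rw [mem_bot.1 this, orderOf_one] at hw2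
      exact absurd hw2 (by decide)
    · exact h
  have hN := CfsgLib.Bender.Consumers.normalizer_eq_self hse hmax
  refine ⟨CfsgLib.LocalB.stronglyPEmbedded_of_meetsPrime hMne (even_iff_two_dvd.1 hse.2.1)
    fun g hg hdvd => ?_, fun a b c' d hab hcd => ?_⟩
  · exact Nat.not_even_iff_odd.2 (hse.2.2 g hg) (even_iff_two_dvd.2 hdvd)
  have h1 : a⁻¹ * b ∉ M := fun h => hab ((CfsgLib.Bender.Consumers.conj_eq_iff hN).2
    (by simpa using inv_mem h))
  have h2 : c'⁻¹ * d ∉ M := fun h => hcd ((CfsgLib.Bender.Consumers.conj_eq_iff hN).2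
    (by simpa using inv_mem h))
  obtain ⟨h, hh, hm⟩ := CfsgLib.Bender.two_transitive_of_pair hse
    (CfsgLib.Bender.Consumers.pairRank_of_simple hse) _ _ h1 h2
  have hcomp : ∀ g g' : G, (M.map (MulAut.conj g').toMonoidHom).map (MulAut.conj g).toMonoidHom =
      M.map (MulAut.conj (g * g')).toMonoidHom := fun g g' => by
    rw [Subgroup.map_map]
    congr 1
    ext x
    simp [MulAut.conj_apply, mul_assoc]
  refine ⟨c' * h * a⁻¹, ?_, ?_⟩ <;> rw [hcomp] <;>
    refine (CfsgLib.Bender.Consumers.conj_eq_iff hN).2 ?_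
  · simpa [mul_assoc] using hh
  · rw [show d⁻¹ * (c' * h * a⁻¹ * b) = (c'⁻¹ * d)⁻¹ * (h * (a⁻¹ * b)) by group]
    exact hm

end CfsgLib.Criterion.Consumers
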