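import Cfsg.Agent.Criterion.Facts
import Cfsg.Agent.Invol.BaerSuzuki

/-!
# The strong embedding criterion: the members of the class at one point commute

Given a family `S` of bad involutions, closed under conjugation and under multiplication by members
centralising them, whose members at one point centralising them commute and are not too few, the
members of the class at a point together with `1` form an elementary abelian normal subgroup `W` of
the stabiliser, of order `q` or `q ^ 2`, `q - 1` being the number of those centralising one of `S`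
(`notes/criterion_item_i_helper25.md`).
-/

set_option autoImplicit false
set_option linter.style.haveILetI false
set_option linter.unusedSectionVars false

namespace CfsgLib.Criterion

open Subgroup CfsgLib.Invol

universe u

variable {G : Type u} [Group G]

namespace Ctx

variable [Finite G] (C : Ctx G)

/-- The members of the class at `a` centralising `v`. -/
def EZ (v : G) (a : C.Pt) : Set G := {x | x ∈ C.Za a ∧ Commute x v}

/-- A family of bad involutions whose members of the class at each point commute. -/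
structure Fam (S : Set G) : Prop where
  faith : ∀ v : G, orderOf v = 2 → ∃ c : C.Pt, v • c ≠ c
  bad : ∀ u ∈ S, C.Bad u
  conj : ∀ u ∈ S, ∀ g : G, g * u * g⁻¹ ∈ S
  mul : ∀ u ∈ S, ∀ x ∈ C.ZC u, u * x ∈ S
  comm : ∀ u ∈ S, ∀ p : C.Pt, u • p = p → ∀ x ∈ C.EZ u p, ∀ y ∈ C.EZ u p, Commute x y
  small : ∀ u ∈ S, ∀ p : C.Pt, u • p = p →
    Nat.card (C.Za p) < (2 * (Nat.card (C.EZ u p) + 1) + 1) * Nat.card (C.EZ u p)

variable {C}

theorem mem_Za_of_commute {x y : G} {a : C.Pt} (hf : ∀ v : G, orderOf v = 2 → ∃ c : C.Pt, v • c ≠ c)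
    (hx : x ∈ C.Za a) (hy : y ∈ C.Za a) (h : Commute x y) (hne : x ≠ y) : x * y ∈ C.Za a :=
  ⟨C.mul_mem_Z hf hx.1 hy.1 h hne, by rw [mul_smul, hy.2, hx.2]⟩

theorem conj_mem_Za_fix {g x : G} {a : C.Pt} (hg : g • a = a) (hx : x ∈ C.Za a) :
    g * x * g⁻¹ ∈ C.Za a := by
  have := C.conj_mem_Za (g := g) hx
  rwa [hg] at this

theorem smul_base_of_conj {g x : G} {a : C.Pt} (hx : x ∈ C.Za a) (hgx : g * x * g⁻¹ ∈ C.Za a) :
    g • a = a :=
  C.fix_unique hgx.1 (C.conj_mem_Za (g := g) hx).2 hgx.2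

namespace Fam

variable {S : Set G} (F : C.Fam S) {v : G} (hv : v ∈ S) {a : C.Pt} (ha : v • a = a)
include F hv ha

theorem mul_self : v * v = 1 := mul_self_eq_one (F.bad v hv).1

/-- The members centralising `v`, with `1`. -/
def E : Subgroup G where
  carrier := {x | x = 1 ∨ x ∈ C.EZ v a}
  one_mem' := Or.inl rfl
  mul_mem' {x y} hx hy := by
    rcases hx with rfl | hx
    · rwa [one_mul]
    rcases hy with rfl | hy
    · rw [mul_one]; exact Or.inr hx
    by_cases h : x = y
    · subst h; exact Or.inl (C.mul_self_Z hx.1.1)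
    exact Or.inr ⟨mem_Za_of_commute F.faith hx.1 hy.1 (F.comm v hv a ha x hx y hy) h,
      hx.2.mul_left hy.2⟩
  inv_mem' {x} hx := by
    rcases hx with rfl | hx
    · exact Or.inl inv_one
    · rw [C.inv_Z hx.1.1]; exact Or.inr hx

theorem mem_E {x : G} : x ∈ F.E hv ha ↔ x = 1 ∨ x ∈ C.EZ v a := Iff.rfl

theorem E_fix {x : G} (hx : x ∈ F.E hv ha) : x • a = a := by
  rcases hx with rfl | hx
  exacts [one_smul _ _, hx.1.2]

theorem E_commute {x : G} (hx : x ∈ F.E hv ha) : Commute x v := by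
  rcases hx with rfl | hx
  exacts [Commute.one_left v, hx.2]

theorem E_comm {x y : G} (hx : x ∈ F.E hv ha) (hy : y ∈ F.E hv ha) : Commute x y := by
  rcases hx with rfl | hx
  · exact Commute.one_left y
  rcases hy with rfl | hy
  · exact Commute.one_right x
  exact F.comm v hv a ha x hx y hy

theorem E_sq {x : G} (hx : x ∈ F.E hv ha) : x * x = 1 := by
  rcases hx with rfl | hx
  exacts [one_mul 1, C.mul_self_Z hx.1.1]

theorem card_E : Nat.card (F.E hv ha) = Nat.card (C.EZ v a) + 1 := by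
  have h1 : (1 : G) ∉ C.EZ v a := fun h => by
    have := C.orderOf_Z h.1.1
    rw [orderOf_one] at this
    omega
  rw [show Nat.card (F.E hv ha) = (insert (1 : G) (C.EZ v a)).ncard from Nat.card_coe_set_eq _,
    Set.ncard_insert_of_notMem h1, Nat.card_coe_set_eq]

/-- The subgroup `⟨v⟩ × E`. -/
def K : Subgroup G where
  carrier := {g | g ∈ F.E hv ha ∨ v * g ∈ F.E hv ha}
  one_mem' := Or.inl (one_mem _)
  mul_mem' {x y} hx hy := by
    have hvv := F.mul_self hv ha
    rcases hx with hx | hx <;> rcases hy with hy | hy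
    · exact Or.inl (mul_mem hx hy)
    · refine Or.inr ?_
      rw [← mul_assoc, ← (F.E_commute hv ha hx).eq, mul_assoc]
      exact mul_mem hx hy
    · exact Or.inr (by rw [← mul_assoc]; exact mul_mem hx hy)
    · refine Or.inl ?_
      have h := mul_mem hx hy
      rwa [← mul_assoc, (F.E_commute hv ha hx).eq, ← mul_assoc v v, hvv, one_mul] at h
  inv_mem' {x} hx := by
    rcases hx with hx | hx
    · exact Or.inl (inv_mem hx)
    · refine Or.inr ?_
      have h := inv_mem hx
      have e : (v * x)⁻¹ = x⁻¹ * v⁻¹ := mul_inv_rev v x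
      rw [e, inv_eq_self (F.bad v hv).1] at h
      have hc : Commute (x⁻¹ * v) v := F.E_commute hv ha h
      rwa [show x⁻¹ * v = v * x⁻¹ from mul_right_cancel (b := v) (by rw [hc.eq, mul_assoc])] at h

theorem v_mem_K : v ∈ F.K hv ha := Or.inr (by rw [F.mul_self hv ha]; exact one_mem _)

theorem card_K : Nat.card (F.K hv ha) = 2 * Nat.card (F.E hv ha) := by
  have hvv := F.mul_self hv ha
  have hne : v ∉ F.E hv ha := fun h => by
    rcases h with h | h
    · have := (F.bad v hv).1
      rw [h, orderOf_one] at this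
      omega
    · exact (F.bad v hv).not_mem_Z C h.1.1
  let f : Bool × F.E hv ha → F.K hv ha := fun p =>
    cond p.1 ⟨v * p.2, Or.inr (by rw [← mul_assoc, hvv, one_mul]; exact p.2.2)⟩ ⟨p.2, Or.inl p.2.2⟩
  have hf : Function.Bijective f := by
    refine ⟨?_, ?_⟩
    · rintro ⟨_ | _, x⟩ ⟨_ | _, y⟩ h <;> have h' := congrArg Subtype.val h <;> simp [f] at h'
      · rw [h']
      · exact absurd (by
          have := mul_mem x.2 (inv_mem y.2)
          rwa [h', mul_inv_cancel_right] at this) hne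
      · exact absurd (by
          have := mul_mem y.2 (inv_mem x.2)
          rwa [← h', mul_inv_cancel_right] at this) hne
      · rw [h']
    · rintro ⟨g, hg | hg⟩
      · exact ⟨⟨false, g, hg⟩, rfl⟩
      · exact ⟨⟨true, v * g, hg⟩, Subtype.ext (by simp [f, ← mul_assoc, hvv])⟩
  rw [← Nat.card_congr (Equiv.ofBijective f hf), Nat.card_prod]
  simp

/-- Products with a member centralising `v` have the same such members. -/
theorem commute_of_mul {x y : G} (hx : x ∈ F.E hv ha) (hy : y ∈ C.Za a) (h : Commute y (v * x)) :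
    Commute y v := by
  rcases hx with rfl | hx
  · rwa [mul_one] at h
  have hmem := F.mul v hv x ⟨hx.1.1, hx.2⟩
  have hfix : (v * x) • a = a := by rw [mul_smul, hx.1.2, ha]
  have hxc : Commute x (v * x) := hx.2.mul_right (Commute.refl x)
  have := h.mul_right (F.comm _ hmem a hfix y ⟨hy, h⟩ x ⟨hx.1, hxc⟩)
  rwa [mul_assoc, C.mul_self_Z hx.1.1, mul_one] at this

/-- The middle of `s` and `v s v` is a member centralising both. -/
theorem half_mem {s : G} (hs : s ∈ C.Za a) (hn : ¬ Commute s v) :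
    (s * v) ^ (orderOf (s * v) / 2) ∈ C.EZ v a ∧
      Commute ((s * v) ^ (orderOf (s * v) / 2)) s ∧ Even (orderOf (s * v) / 2) ∧
      Even (orderOf (s * v)) := by
  have hb := F.bad v hv
  have hs2 := C.orderOf_Z hs.1
  have hev : Even (orderOf (s * v)) := even_orderOf_mul_of_not_isConj hs2 hb.1
    fun h => hb.not_mem_Z C (IsConj.trans hs.1 h)
  obtain ⟨hi, his, hiv⟩ := half_props hs2 hb.1 hev
  obtain ⟨l, hl⟩ := id hev
  have hl' : orderOf (s * v) / 2 = l := by omega
  rw [hl'] at hi his hiv ⊢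
  set i := (s * v) ^ l with hidef
  have hia : i • a = a := C.smul_eq_of_commute_Z hs.1 his.symm hs.2
  rcases Nat.even_or_odd l with hle | ⟨j, hj⟩
  · refine ⟨⟨⟨?_, hia⟩, hiv⟩, his, hle, hev⟩
    rcases C.mem_Z_or_bad F.faith hi with h | hib
    · exact h
    refine absurd (hib.mem_Z_of_mem_L C ?_ hi) (hib.not_mem_Z C)
    obtain ⟨j, hj⟩ := hle
    have hi2 : i = (s * (v * s * v⁻¹)) ^ j := by
      rw [hidef, hj, ← two_mul, pow_mul, sq, inv_eq_self hb.1]
      simp only [mul_assoc]
    have hmem : s * (v * s * v⁻¹) ∈ C.L i := by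
      refine mul_mem (C.mem_L hs.1 his.symm) (C.mem_L (C.conj_mem_Z hs.1 v) ?_)
      have := (Commute.conj_iff v).2 his.symm
      rwa [show v * i * v⁻¹ = i from mul_inv_eq_iff_eq_mul.2 hiv.eq.symm] at this
    nth_rw 2 [hi2]
    exact pow_mem hmem j
  -- an odd half gives a member of the family whose members at `a` would not commute
  exfalso
  refine hn ?_
  have hli : (v * s) ^ l = i := by
    rw [← mul_inv_rev_invol hs2 hb.1, inv_pow, ← hidef, inv_eq_self hi]
  have heZ : v * i ∈ C.Z := by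
    rw [← hli, hj, ← zpow_natCast, show ((2 * j + 1 : ℕ) : ℤ) = 2 * (j : ℤ) + 1 by push_cast; ring,
      mul_zpow_odd hb.1 hs2]
    exact C.conj_mem_Z hs.1 _
  have hev' : Commute (v * i) v := (Commute.refl v).mul_left hiv
  have hie : i = v * (v * i) := by rw [← mul_assoc, F.mul_self hv ha, one_mul]
  have hiS : i ∈ S := hie ▸ F.mul v hv _ ⟨heZ, hev'⟩
  have hc : Commute s (v * i) := F.comm i hiS a hia s ⟨hs, his.symm⟩ (v * i)
    ⟨⟨heZ, by rw [mul_smul, hia, ha]⟩, hiv.symm.mul_left (Commute.refl i)⟩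
  have := hc.mul_right his.symm
  rwa [mul_assoc, mul_self_eq_one hi, mul_one] at this

/-- Multiplying by a member centralising both does not move the middle. -/
theorem half_mul {s u : G} (hs : s ∈ C.Za a) (hn : ¬ Commute s v) (hu : u ∈ F.E hv ha)
    (hus : Commute u s) :
    (s * u * v) ^ (orderOf (s * u * v) / 2) = (s * v) ^ (orderOf (s * v) / 2) := by
  obtain ⟨-, -, hle, hev⟩ := F.half_mem hv ha hs hn
  have huv := F.E_commute hv ha hu
  have hu2 := F.E_sq hv ha hu
  have e : s * u * v = s * v * u := by rw [mul_assoc, huv.eq, mul_assoc]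
  have hcom : Commute (s * v) u := (hus.symm).mul_left huv.symm
  have hpow : ∀ n : ℕ, Even n → (s * v * u) ^ n = (s * v) ^ n := by
    rintro n ⟨j, rfl⟩
    rw [hcom.mul_pow, ← two_mul, pow_mul u, sq, hu2, one_pow, mul_one]
  have hN : orderOf (s * v * u) = orderOf (s * v) := by
    refine Nat.dvd_antisymm (orderOf_dvd_of_pow_eq_one (by rw [hpow _ hev, pow_orderOf_eq_one])) ?_
    by_cases hne : Even (orderOf (s * v * u))
    · exact orderOf_dvd_of_pow_eq_one (by rw [← hpow _ hne, pow_orderOf_eq_one])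
    exfalso
    have h2 : ∀ n, Odd n → (s * v * u) ^ n = 1 → False := by
      intro n hno hn1
      rw [hcom.mul_pow] at hn1
      obtain ⟨j, hj⟩ := hno
      have hu' : u ^ n = u := by rw [hj, pow_succ, pow_mul, sq, hu2, one_pow, one_mul]
      rw [hu'] at hn1
      have h3 : orderOf (s * v) ∣ 2 * n := orderOf_dvd_of_pow_eq_one (by
        rw [mul_comm, pow_mul, sq, eq_inv_of_mul_eq_one_left hn1, ← mul_inv_rev, hu2, inv_one])
      obtain ⟨l, hl⟩ := hev
      obtain ⟨i, hi⟩ := hle
      rw [show orderOf (s * v) = 4 * i by omega] at h3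
      obtain ⟨c, hc⟩ := h3
      have : Even n := ⟨i * c, by linarith⟩
      exact Nat.not_even_iff_odd.2 ⟨j, hj⟩ this
    exact h2 _ (Nat.not_even_iff_odd.1 hne) (pow_orderOf_eq_one _)
  rw [e, hN, hpow _ hle]

theorem conj_mem_EZ {g x : G} (hga : g • a = a) (hgv : Commute g v) (hx : x ∈ C.EZ v a) :
    g * x * g⁻¹ ∈ C.EZ v a := by
  refine ⟨conj_mem_Za_fix hga hx.1, ?_⟩
  have := (Commute.conj_iff g).2 hx.2
  rwa [show g * v * g⁻¹ = v by rw [hgv.eq, mul_inv_cancel_right]] at this

/-- No member at `a` has a nontrivial product of odd order with one centralising `v`. -/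
theorem eq_of_odd {z z' : G} (hz : z ∈ C.EZ v a) (hz' : z' ∈ C.Za a)
    (hodd : Odd (orderOf (z * z'))) : z = z' := by
  by_contra hne
  set E := F.E hv ha with hE
  have hn : ¬ Commute z' v := fun h => by
    have hc := F.comm v hv a ha z hz z' ⟨hz', h⟩
    have h1 := C.orderOf_Z (C.mul_mem_Z F.faith hz.1.1 hz'.1 hc hne)
    rw [h1] at hodd
    exact absurd hodd (by decide)
  set U := E ⊓ centralizer ({z'} : Set G) with hU
  set K := F.K hv ha with hK
  have hKv : ∀ g ∈ K, g • a = a ∧ Commute g v ∧ Commute g z := by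
    intro g hg
    rcases hg with hg | hg
    · exact ⟨F.E_fix hv ha hg, F.E_commute hv ha hg, F.E_comm hv ha hg (Or.inr hz)⟩
    · have e : g = v * (v * g) := by rw [← mul_assoc, F.mul_self hv ha, one_mul]
      refine ⟨?_, ?_, ?_⟩ <;> rw [e]
      · rw [mul_smul, F.E_fix hv ha hg, ha]
      · exact (Commute.refl v).mul_left (F.E_commute hv ha hg)
      · exact hz.2.symm.mul_left (F.E_comm hv ha hg (Or.inr hz))
  -- conjugates by `⟨v⟩ × E` differ from `z'` in `U` only for elements of `U`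
  have key : ∀ g ∈ K, z' * (g * z' * g⁻¹) ∈ U → g ∈ U := by
    intro g hg hgu
    obtain ⟨-, hgv, hgz⟩ := hKv g hg
    set u := z' * (g * z' * g⁻¹) with hu
    have huz' : Commute u z' := mem_centralizer_singleton_iff.1 hgu.2
    have hud : Commute (z * z') u := (F.E_comm hv ha (Or.inr hz) hgu.1).mul_left huz'.symm
    have hconj : g * (z * z') * g⁻¹ = z * z' * u := by
      calc g * (z * z') * g⁻¹ = g * z * g⁻¹ * (g * z' * g⁻¹) := by group
        _ = z * (z' * z' * (g * z' * g⁻¹)) := by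
            rw [hgz.eq, mul_inv_cancel_right, C.mul_self_Z hz'.1, one_mul]
        _ = _ := by rw [hu]; simp only [mul_assoc]
    have hu1 : u = 1 := by
      have h := pow_orderOf_eq_one (g * (z * z') * g⁻¹)
      rw [orderOf_conj_eq, hconj, hud.mul_pow, pow_orderOf_eq_one, one_mul] at h
      obtain ⟨j, hj⟩ := hodd
      rwa [hj, pow_succ, pow_mul, sq, F.E_sq hv ha hgu.1, one_pow, one_mul] at h
    have hgz' : Commute z' g := by
      rw [hu] at hu1
      have := eq_inv_of_mul_eq_one_right hu1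
      rw [C.inv_Z hz'.1, mul_inv_eq_iff_eq_mul] at this
      exact this.symm
    rcases hg with hg | hg
    · exact ⟨hg, mem_centralizer_singleton_iff.2 hgz'.eq.symm⟩
    · exfalso
      have e : g = v * (v * g) := by rw [← mul_assoc, F.mul_self hv ha, one_mul]
      exact hn (F.commute_of_mul hv ha hg hz' (e ▸ hgz'))
  set M := (↥K ⧸ U.subgroupOf K) × ↥U
  have hM : Nat.card M = 2 * (Nat.card (C.EZ v a) + 1) := by
    have hUK : U ≤ K := fun g hg => Or.inl hg.1
    rw [← F.card_E hv ha, ← F.card_K hv ha, Nat.card_prod,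
      ← Nat.card_congr (subgroupOfEquivOfLe hUK).toEquiv, ← card_eq_card_quotient_mul_card_subgroup]
  let el : M → G := fun m => (m.1.out : G) * z' * (m.1.out : G)⁻¹ * (m.2 : G)
  have helinj : Function.Injective el := by
    intro m m' h
    have h' : (m.1.out : G) * z' * (m.1.out : G)⁻¹ * (m.2 : G) =
        (m'.1.out : G) * z' * (m'.1.out : G)⁻¹ * (m'.2 : G) := h
    set g := (m.1.out : G) with hgdef
    set g' := (m'.1.out : G) with hg'def
    have hdiff : g⁻¹ * g' ∈ K := mul_mem (inv_mem (m.1.out).2) (m'.1.out).2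
    have hc1 : Commute g⁻¹ (m.2 : G) := by
      refine Commute.inv_left ?_
      rcases (m.1.out).2 with hg | hg
      · exact F.E_comm hv ha hg m.2.2.1
      · have e : g = v * (v * g) := by rw [← mul_assoc, F.mul_self hv ha, one_mul]
        rw [e]
        exact (F.E_commute hv ha m.2.2.1).symm.mul_left (F.E_comm hv ha hg m.2.2.1)
    have hc2 : Commute g⁻¹ (m'.2 : G) := by
      refine Commute.inv_left ?_
      rcases (m.1.out).2 with hg | hg
      · exact F.E_comm hv ha hg m'.2.2.1
      · have e : g = v * (v * g) := by rw [← mul_assoc, F.mul_self hv ha, one_mul]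
        rw [e]
        exact (F.E_commute hv ha m'.2.2.1).symm.mul_left (F.E_comm hv ha hg m'.2.2.1)
    have hu : z' * ((g⁻¹ * g') * z' * (g⁻¹ * g')⁻¹) = (m.2 : G) * (m'.2 : G)⁻¹ := by
      have h2 : (g⁻¹ * g') * z' * (g⁻¹ * g')⁻¹ * (m'.2 : G) = z' * (m.2 : G) := by
        calc _ = g⁻¹ * (g' * z' * g'⁻¹) * (g * (m'.2 : G)) := by group
          _ = g⁻¹ * (g' * z' * g'⁻¹ * (m'.2 : G)) * g := by
              rw [(Commute.inv_left_iff.1 hc2).eq]; simp only [mul_assoc]
          _ = g⁻¹ * (g * z' * g⁻¹ * (m.2 : G)) * g := by rw [← h']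
          _ = z' * (g⁻¹ * (m.2 : G) * g) := by group
          _ = z' * (m.2 : G) := by rw [hc1.eq, inv_mul_cancel_right]
      rw [← mul_left_inj (m'.2 : G), inv_mul_cancel_right, mul_assoc, h2, ← mul_assoc,
        C.mul_self_Z hz'.1, one_mul]
    have hgU := key _ hdiff (hu ▸ mul_mem m.2.2 (inv_mem m'.2.2))
    have e1 : m.1 = m'.1 := by
      rw [← Quotient.out_eq m.1, ← Quotient.out_eq m'.1]
      exact QuotientGroup.eq.2 (mem_subgroupOf.2 hgU)
    refine Prod.ext e1 (Subtype.ext ?_)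
    have hgg : g' = g := by rw [hgdef, hg'def, e1]
    rw [hgg] at h'
    exact mul_left_cancel h'
  have helmem : ∀ m : M, el m ∈ C.Za a ∧ ¬ Commute (el m) v ∧
      (el m * v) ^ (orderOf (el m * v) / 2) = (z' * v) ^ (orderOf (z' * v) / 2) := by
    intro m
    obtain ⟨hga, hgv, -⟩ := hKv _ (m.1.out).2
    set g := (m.1.out : G) with hg
    set s' := g * z' * g⁻¹ with hs'
    have hsa : s' ∈ C.Za a := conj_mem_Za_fix hga hz'
    have hgve : g * v * g⁻¹ = v := by rw [hgv.eq, mul_inv_cancel_right]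
    have hns : ¬ Commute s' v := fun h => hn ((Commute.conj_iff g).1 (by rw [hgve]; exact h))
    have hgu : Commute g (m.2 : G) := by
      rcases (m.1.out).2 with hg' | hg'
      · exact F.E_comm hv ha hg' m.2.2.1
      · have e : g = v * (v * g) := by rw [← mul_assoc, F.mul_self hv ha, one_mul]
        rw [e]
        exact (F.E_commute hv ha m.2.2.1).symm.mul_left (F.E_comm hv ha hg' m.2.2.1)
    have hsu : Commute (m.2 : G) s' := by
      have := (Commute.conj_iff g).2 (mem_centralizer_singleton_iff.1 m.2.2.2 : Commute (m.2 : G) z')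
      rwa [hgu.eq, mul_inv_cancel_right] at this
    obtain ⟨hj, -, -, hev⟩ := F.half_mem hv ha hz' hn
    have hg0 : g * ((z' * v) ^ (orderOf (z' * v) / 2)) * g⁻¹ = (z' * v) ^ (orderOf (z' * v) / 2) := by
      refine mul_inv_eq_iff_eq_mul.2 ?_
      rcases (m.1.out).2 with hg' | hg'
      · exact (F.E_comm hv ha hg' (Or.inr hj)).eq
      · have e : g = v * (v * g) := by rw [← mul_assoc, F.mul_self hv ha, one_mul]
        rw [e]
        exact (hj.2.symm.mul_left (F.E_comm hv ha hg' (Or.inr hj))).eq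
    have hjeq : (s' * v) ^ (orderOf (s' * v) / 2) = (z' * v) ^ (orderOf (z' * v) / 2) := by
      have e : s' * v = g * (z' * v) * g⁻¹ := by rw [← conj_mul, hgve]
      rw [e, orderOf_conj_eq, conj_pow, hg0]
    refine ⟨?_, ?_, (F.half_mul hv ha hsa hns m.2.2.1 hsu).trans hjeq⟩
    · rcases m.2.2.1 with h1 | h1
      · show s' * (m.2 : G) ∈ _
        rw [h1, mul_one]; exact hsa
      · exact mem_Za_of_commute F.faith hsa h1.1 hsu.symm fun h => hns (by rw [show s' = (m.2 : G) from h]; exact h1.2)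
    · intro h
      refine hns ?_
      have := h.mul_left (F.E_commute hv ha (inv_mem m.2.2.1))
      rwa [show el m = s' * (m.2 : G) from rfl, mul_inv_cancel_right] at this
  set j0 := (z' * v) ^ (orderOf (z' * v) / 2) with hj0
  have hj0E : j0 ∈ C.EZ v a := (F.half_mem hv ha hz' hn).1
  have htr : ∀ e : C.EZ v a, ∃ g : G, g • a = a ∧ Commute g v ∧ g * j0 * g⁻¹ = e := by
    intro e
    obtain ⟨g, hg, h⟩ := (F.bad v hv).exists_conj_L C ⟨hj0E.1.1, hj0E.2⟩ ⟨e.2.1.1, e.2.2⟩
    exact ⟨g, smul_base_of_conj hj0E.1 (by rw [h]; exact e.2.1), C.commute_of_mem_L hg, h⟩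
  choose tr htr1 htr2 htr3 using htr
  have hcj : ∀ (e : C.EZ v a) (m : M),
      tr e * el m * (tr e)⁻¹ ∈ C.Za a ∧ ¬ Commute (tr e * el m * (tr e)⁻¹) v := by
    intro e m
    refine ⟨conj_mem_Za_fix (htr1 e) (helmem m).1, fun h => (helmem m).2.1 ?_⟩
    rw [← show tr e * v * (tr e)⁻¹ = v by rw [(htr2 e).eq, mul_inv_cancel_right]] at h
    exact (Commute.conj_iff _).1 h
  let f : ↥(C.EZ v a) ⊕ (↥(C.EZ v a) × M) → ↥(C.Za a) := fun x =>
    x.elim (fun e : ↥(C.EZ v a) => ⟨(e : G), e.2.1⟩) fun p : ↥(C.EZ v a) × M => ⟨_, (hcj p.1 p.2).1⟩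
  have hfinj : Function.Injective f := by
    rintro (e | ⟨e, m⟩) (e' | ⟨e', m'⟩) h <;> have h' := congrArg Subtype.val h <;>
      simp only [f, Sum.elim_inl, Sum.elim_inr] at h'
    · rw [Subtype.ext h']
    · exact absurd (h' ▸ e.2.2) (hcj e' m').2
    · exact absurd (h'.symm ▸ e'.2.2) (hcj e m).2
    · have hj : ∀ (e : C.EZ v a) (m : M),
          (tr e * el m * (tr e)⁻¹ * v) ^ (orderOf (tr e * el m * (tr e)⁻¹ * v) / 2) = (e : G) := by
        intro e m
        have he : tr e * el m * (tr e)⁻¹ * v = tr e * (el m * v) * (tr e)⁻¹ := by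
          rw [show tr e * (el m * v) * (tr e)⁻¹ = tr e * el m * (tr e)⁻¹ * (tr e * v * (tr e)⁻¹) by group,
            show tr e * v * (tr e)⁻¹ = v by rw [(htr2 e).eq, mul_inv_cancel_right]]
        rw [he, orderOf_conj_eq, conj_pow, (helmem m).2.2, htr3]
      obtain rfl : e = e' := Subtype.ext (by rw [← hj e m, ← hj e' m', h'])
      rw [helinj (mul_left_cancel (mul_right_cancel h'))]
  have hcard := Nat.card_le_card_of_injective f hfinj
  rw [Nat.card_sum, Nat.card_prod, hM] at hcard
  have := F.small v hv a ha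
  nlinarith

omit ha in
/-- **The members of the class at a fixed point of a member of the family commute.** -/
theorem Za_commute (ha : v • a = a) {x y : G} (hx : x ∈ C.Za a) (hy : y ∈ C.Za a) : Commute x y := by
  haveI : Fact (Nat.Prime 2) := ⟨Nat.prime_two⟩
  set Hs := MulAction.stabilizer G a with hHs
  have hcore : ∀ {w : G} (hw : w ∈ C.Za a),
      (⟨w, MulAction.mem_stabilizer_iff.2 hw.2⟩ : Hs) ∈ Cfsg.pCore 2 Hs := by
    intro w hw
    by_contra hout
    obtain ⟨h, hh1, hho, hinv⟩ := exists_inverted_odd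
      (⟨w, MulAction.mem_stabilizer_iff.2 hw.2⟩ : Hs)
      (by rw [← Subgroup.orderOf_coe]; exact C.orderOf_Z hw.1) hout
    have hinv' : w * (h : G) * w⁻¹ = (h : G)⁻¹ := congrArg Subtype.val hinv
    -- a member of the family centralising `w`
    obtain ⟨x₀, hx₀, hx₀v⟩ := C.exists_commute_at (F.mul_self hv ha) ha
    obtain ⟨g₀, hg₀⟩ := isConj_iff.1 (IsConj.trans (IsConj.symm hx₀.1) hw.1)
    have hg₀a : g₀ • a = a := smul_base_of_conj hx₀ (hg₀ ▸ hw)
    have hva : (g₀ * v * g₀⁻¹) • a = a := by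
      rw [mul_smul, mul_smul, inv_smul_eq_iff.2 hg₀a.symm, ha, hg₀a]
    have hwv : w ∈ C.EZ (g₀ * v * g₀⁻¹) a := ⟨hw, hg₀ ▸ (Commute.conj_iff g₀).2 hx₀v⟩
    have hw' : (h : G) * w * (h : G)⁻¹ ∈ C.Za a :=
      conj_mem_Za_fix (MulAction.mem_stabilizer_iff.1 h.2) hw
    have hprod : w * ((h : G) * w * (h : G)⁻¹) = (h : G)⁻¹ * (h : G)⁻¹ := by
      calc w * ((h : G) * w * (h : G)⁻¹) = w * (h : G) * w⁻¹ * (w * w) * (h : G)⁻¹ := by group
        _ = _ := by rw [hinv', C.mul_self_Z hw.1, mul_one]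
    have hho' : Odd (orderOf (h : G)) := by rwa [Subgroup.orderOf_coe]
    have heq := (eq_of_odd F (F.conj v hv g₀) hva hwv hw' (by
      rw [hprod, ← mul_inv_rev, orderOf_inv, ← sq,
        Nat.Coprime.orderOf_pow (Nat.coprime_two_right.2 hho')]
      exact hho'))
    rw [← heq, C.mul_self_Z hw.1, ← mul_inv_rev, eq_comm, inv_eq_one, ← sq] at hprod
    have h2 : orderOf (h : G) = 1 := Nat.eq_one_of_dvd_coprimes
      (Nat.coprime_two_left.2 hho') (orderOf_dvd_of_pow_eq_one hprod) dvd_rfl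
    exact hh1 (Subtype.ext (orderOf_eq_one_iff.1 h2))
  obtain ⟨g, hg⟩ := C.exists_conj hx.1
  have hQ : ((g • C.P : Sylow 2 G) : Subgroup G) ≤ centralizer ({x} : Set G) := by
    rw [Sylow.coe_subgroup_smul]
    rintro _ ⟨q, hq, rfl⟩
    refine mem_centralizer_singleton_iff.2 (?_ : Commute _ x).eq
    rw [← hg]
    exact (Commute.conj_iff g).2 (mem_centralizer_singleton_iff.1 (C.P_le_centralizer hq))
  have hQH : ((g • C.P : Sylow 2 G) : Subgroup G) ≤ Hs := fun q hq =>
    MulAction.mem_stabilizer_iff.2 (C.smul_eq_of_commute_Z hx.1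
      (mem_centralizer_singleton_iff.1 (hQ hq) : Commute q x).symm hx.2)
  obtain ⟨R, hR⟩ := (CfsgLib.Comp.pCore_isPGroup' (G := Hs) 2).exists_le_sylow
  obtain ⟨c, hc⟩ := MulAction.exists_smul_eq Hs R ((g • C.P).subtype hQH)
  have hn : (Cfsg.pCore 2 Hs).Normal := inferInstance
  set w' : Hs := ⟨y, MulAction.mem_stabilizer_iff.2 hy.2⟩
  have hmem : w' ∈ (((g • C.P).subtype hQH : Sylow 2 Hs) : Subgroup Hs) := by
    rw [← hc, Sylow.coe_subgroup_smul]
    exact ⟨c⁻¹ * w' * c, hR (by simpa using hn.conj_mem _ (hcore hy) c⁻¹),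
      by simp [mul_assoc]⟩
  rw [Sylow.coe_subtype, mem_subgroupOf] at hmem
  exact (mem_centralizer_singleton_iff.1 (hQ hmem) : Commute y x).symm

/-- `W`: the members at `a` with `1`. -/
def W : Subgroup G where
  carrier := {x | x = 1 ∨ x ∈ C.Za a}
  one_mem' := Or.inl rfl
  mul_mem' {x y} hx hy := by
    rcases hx with rfl | hx
    · rwa [one_mul]
    rcases hy with rfl | hy
    · rw [mul_one]; exact Or.inr hx
    by_cases h : x = y
    · subst h; exact Or.inl (C.mul_self_Z hx.1)
    exact Or.inr (mem_Za_of_commute F.faith hx hy (F.Za_commute hv ha hx hy) h)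
  inv_mem' {x} hx := by
    rcases hx with rfl | hx
    · exact Or.inl inv_one
    · rw [C.inv_Z hx.1]; exact Or.inr hx

theorem mem_W {x : G} : x ∈ F.W hv ha ↔ x = 1 ∨ x ∈ C.Za a := Iff.rfl

theorem W_sq {x : G} (hx : x ∈ F.W hv ha) : x * x = 1 := by
  rcases hx with rfl | hx
  exacts [one_mul 1, C.mul_self_Z hx.1]

theorem W_comm {x y : G} (hx : x ∈ F.W hv ha) (hy : y ∈ F.W hv ha) : Commute x y := by
  rcases hx with rfl | hx
  · exact Commute.one_left y
  rcases hy with rfl | hy
  · exact Commute.one_right x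
  exact F.Za_commute hv ha hx hy

/-- `W` is normalised by the stabiliser. -/
theorem stabilizer_le_normalizer_W :
    MulAction.stabilizer G a ≤ normalizer (F.W hv ha : Set G) := fun g hg => by
  have key : ∀ g : G, g • a = a → ∀ x ∈ F.W hv ha, g * x * g⁻¹ ∈ F.W hv ha := fun g hg x hx => by
    rcases hx with rfl | hx
    · exact Or.inl (by group)
    · exact Or.inr (conj_mem_Za_fix hg hx)
  refine mem_normalizer_iff.2 fun x => ⟨key g (MulAction.mem_stabilizer_iff.1 hg) x, fun h => ?_⟩
  have := key g⁻¹ (MulAction.mem_stabilizer_iff.1 (inv_mem hg)) _ h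
  simpa [mul_assoc] using this

theorem card_W : Nat.card (F.W hv ha) = Nat.card (C.Za a) + 1 := by
  have h1 : (1 : G) ∉ C.Za a := fun h => by
    have := C.orderOf_Z h.1
    rw [orderOf_one] at this
    omega
  rw [show Nat.card (F.W hv ha) = (insert (1 : G) (C.Za a)).ncard from Nat.card_coe_set_eq _,
    Set.ncard_insert_of_notMem h1, Nat.card_coe_set_eq]

/-- `w ↦ w (v w v)` maps `W` into `E`, with kernel `E`; so `|W|` is `q` or `q ^ 2`. -/
theorem card_W_cases : Nat.card (F.W hv ha) = Nat.card (F.E hv ha) ∨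
    Nat.card (F.W hv ha) = Nat.card (F.E hv ha) ^ 2 := by
  set W := F.W hv ha with hW
  set E := F.E hv ha with hE
  have hvv := F.mul_self hv ha
  have hvW : ∀ w ∈ W, v * w * v ∈ W := fun w hw => by
    have := ((mem_normalizer_iff.1 (F.stabilizer_le_normalizer_W hv ha
      (MulAction.mem_stabilizer_iff.2 ha))) w).1 hw
    rwa [inv_eq_self (F.bad v hv).1] at this
  have hmapE : ∀ w ∈ W, w * (v * w * v) ∈ E := by
    intro w hw
    have hc : Commute (w * (v * w * v)) v := by
      refine (mul_inv_eq_iff_eq_mul.1 ?_).symm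
      rw [inv_eq_self (F.bad v hv).1]
      calc v * (w * (v * w * v)) * v = v * w * v * w * (v * v) := by group
        _ = v * w * v * w := by rw [hvv, mul_one]
        _ = _ := (F.W_comm hv ha (hvW w hw) hw).eq
    rcases mul_mem hw (hvW w hw) with h | h
    exacts [Or.inl h, Or.inr ⟨h, hc⟩]
  let φ : W →* E := MonoidHom.mk' (fun w => ⟨(w : G) * (v * w * v), hmapE w w.2⟩) fun w w' => by
    refine Subtype.ext ?_
    show (w : G) * w' * (v * (w * w') * v) = w * (v * w * v) * (w' * (v * w' * v))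
    calc (w : G) * w' * (v * (w * w') * v) = w * (w' * ((v * w * v) * (v * w' * v))) := by
          simp only [mul_assoc]
          rw [← mul_assoc v v, hvv, one_mul]
      _ = w * ((v * w * v) * (w' * (v * w' * v))) := by
          rw [(F.W_comm hv ha w'.2 (hvW w w.2)).left_comm]
      _ = _ := by simp only [mul_assoc]
  have hker : ∀ w : W, φ w = 1 ↔ (w : G) ∈ E := by
    intro w
    constructor
    · intro h
      have h1 : (w : G) * (v * w * v) = 1 := congrArg Subtype.val h
      rcases w.2 with h2 | h2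
      · exact Or.inl h2
      · have h3 := eq_inv_of_mul_eq_one_right h1
        rw [C.inv_Z h2.1] at h3
        exact Or.inr ⟨h2, (mul_inv_eq_iff_eq_mul.1 (by rwa [inv_eq_self (F.bad v hv).1])).symm⟩
    · intro h
      refine Subtype.ext (?_ : (w : G) * (v * w * v) = 1)
      rw [← (F.E_commute hv ha h).eq, mul_assoc (w : G) v v, hvv, mul_one, F.E_sq hv ha h]
  have hEW : E ≤ W := fun x hx => hx.imp id And.left
  have hk : φ.ker = E.subgroupOf W := by
    ext w; rw [MonoidHom.mem_ker, hker, mem_subgroupOf]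
  have h1 := φ.ker.card_mul_index
  rw [index_ker, hk, Nat.card_congr (subgroupOfEquivOfLe hEW).toEquiv] at h1
  by_cases htriv : φ.range = ⊥
  · rw [htriv, card_bot, mul_one] at h1
    exact Or.inl h1.symm
  refine Or.inr ?_
  have htop : φ.range = ⊤ := by
    obtain ⟨e, he, he1⟩ := (bot_or_exists_ne_one φ.range).resolve_left htriv
    obtain ⟨w, rfl⟩ := he
    rw [eq_top_iff]
    rintro ⟨x, hx⟩ -
    by_cases hx1 : x = 1
    · exact ⟨1, by rw [map_one]; exact Subtype.ext hx1.symm⟩
    have hxE := hx.resolve_left hx1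
    have hwE := (φ w).2.resolve_left fun h => he1 (Subtype.ext h)
    obtain ⟨g, hg, hgx⟩ := (F.bad v hv).exists_conj_L C ⟨hwE.1.1, hwE.2⟩ ⟨hxE.1.1, hxE.2⟩
    have hga := smul_base_of_conj hwE.1 (hgx.symm ▸ hxE.1)
    refine ⟨⟨g * (w : G) * g⁻¹, (mem_normalizer_iff.1 (F.stabilizer_le_normalizer_W hv ha
      (MulAction.mem_stabilizer_iff.2 hga)) _).1 w.2⟩, Subtype.ext ?_⟩
    show g * (w : G) * g⁻¹ * (v * (g * (w : G) * g⁻¹) * v) = x
    rw [← hgx, ← mul_inv_eq_iff_eq_mul.2 (C.commute_of_mem_L hg).eq]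
    show _ = g * ((w : G) * (v * w * v)) * g⁻¹
    group
  rw [htop, card_top] at h1
  rw [sq, h1]

end Fam

end Ctx

end CfsgLib.Criterion
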