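import Cfsg.Agent.Invol.StrongEmbedded
import Mathlib.GroupTheory.Perm.Cycle.Type

/-!
# The strong embedding criterion: setting

`z` is a 2-central involution, every conjugate of `z` fixes exactly one coset of the proper subgroup
`H`, and for an involution `u` commuting with `z` and moving the base coset, `H ∩ L` is strongly
embedded in the group `L` generated by the conjugates of `z` commuting with `u`.
Paper proof: `notes/criterion_helper1.md`.
-/

set_option autoImplicit false
set_option linter.style.haveILetI false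
set_option linter.unusedSectionVars false

namespace CfsgLib.Criterion

open Subgroup

universe u

variable {G : Type u} [Group G]

/-- The setting of the criterion. -/
structure Ctx (G : Type u) [Group G] where
  P : Sylow 2 G
  z : G
  H : Subgroup G
  z_two : orderOf z = 2
  z_center : z ∈ (Subgroup.center ↥(P : Subgroup G)).map (P : Subgroup G).subtype
  H_ne_top : H ≠ ⊤
  fixed : ∀ g : G, z ∈ H.map (MulAut.conj g).toMonoidHom ↔ g ∈ H
  loc : ∀ u : G, orderOf u = 2 → u * z = z * u → ¬ centralizer ({u} : Set G) ≤ H →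
    Cfsg.IsStronglyEmbedded (H.subgroupOf (closure {x : G | IsConj z x ∧ x * u = u * x}))

/-- A group of odd order of permutations of order two has a fixed point. -/
theorem exists_fixed_of_involutive {α : Type*} [Finite α] (hodd : Odd (Nat.card α)) {f : α → α}
    (hf : Function.Involutive f) : ∃ x, f x = x := by
  classical
  haveI : Fintype α := Fintype.ofFinite α
  haveI : Fact (Nat.Prime 2) := ⟨Nat.prime_two⟩
  refine Equiv.Perm.exists_fixed_point_of_prime (p := 2) (n := 1) ?_ (σ := hf.toPerm) ?_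
  · rw [← Nat.card_eq_fintype_card]; exact Nat.two_dvd_ne_zero.2 (Nat.odd_iff.1 hodd)
  · ext x
    simpa [pow_succ] using hf x

/-- An involutive map of a set of odd size has an odd number of fixed points. -/
theorem odd_card_fixed {α : Type*} [Finite α] (hodd : Odd (Nat.card α)) {f : α → α}
    (hf : Function.Involutive f) : Odd (Nat.card {x // f x = x}) := by
  classical
  haveI : Fintype α := Fintype.ofFinite α
  haveI : Fact (Nat.Prime 2) := ⟨Nat.prime_two⟩
  have h := Equiv.Perm.card_fixedPoints_modEq (f := (f : Function.End α)) (p := 2) (n := 1) (by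
    funext x
    exact hf x)
  have e : Fintype.card ↥(Function.fixedPoints f) = Nat.card {x // f x = x} := by
    rw [← Nat.card_eq_fintype_card]
    exact Nat.card_congr (Equiv.subtypeEquivRight fun x => Iff.rfl)
  rw [Nat.card_eq_fintype_card, Nat.odd_iff] at hodd
  rw [Nat.odd_iff, ← e, ← hodd]
  exact h.symm

namespace Ctx

variable [Finite G] (C : Ctx G)

/-- The cosets of `H`. -/
abbrev Pt : Type u := G ⧸ C.H

/-- The base coset, the fixed point of `z`. -/
def base : C.Pt := QuotientGroup.mk 1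

/-- The class of `z`. -/
def Z : Set G := {x | IsConj C.z x}

/-- The members of the class fixing a point. -/
def Za (a : C.Pt) : Set G := {x | x ∈ C.Z ∧ x • a = a}

/-- The members of the class moving `a` to `b`. -/
def X (a b : C.Pt) : Set G := {w | w ∈ C.Z ∧ w • a = b}

/-- An involution fixing at least two points. -/
def Bad (v : G) : Prop := orderOf v = 2 ∧ ∃ a b : C.Pt, a ≠ b ∧ v • a = a ∧ v • b = b

/-- The members of the class centralising `u`. -/
def ZC (u : G) : Set G := {x | x ∈ C.Z ∧ Commute x u}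

/-- The group generated by the members of the class centralising `u`. -/
def L (u : G) : Subgroup G := closure (C.ZC u)

theorem z_mem_Z : C.z ∈ C.Z := IsConj.refl _

theorem conj_mem_Z {x : G} (hx : x ∈ C.Z) (g : G) : g * x * g⁻¹ ∈ C.Z :=
  IsConj.trans hx (isConj_iff.2 ⟨g, rfl⟩)

theorem exists_conj {x : G} (hx : x ∈ C.Z) : ∃ g : G, g * C.z * g⁻¹ = x := isConj_iff.1 hx

theorem orderOf_Z {x : G} (hx : x ∈ C.Z) : orderOf x = 2 := by
  obtain ⟨g, rfl⟩ := C.exists_conj hx
  rw [CfsgLib.Invol.orderOf_conj_eq, C.z_two]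

theorem mul_self_Z {x : G} (hx : x ∈ C.Z) : x * x = 1 :=
  CfsgLib.Invol.mul_self_eq_one (C.orderOf_Z hx)

theorem inv_Z {x : G} (hx : x ∈ C.Z) : x⁻¹ = x := CfsgLib.Invol.inv_eq_self (C.orderOf_Z hx)

theorem z_smul_mk {g : G} : C.z • (QuotientGroup.mk g : C.Pt) = QuotientGroup.mk g ↔ g ∈ C.H := by
  rw [CfsgLib.StrongEmbed.smul_mk_iff, ← C.fixed g]
  constructor
  · exact fun h => ⟨_, h, by simp [mul_assoc]⟩
  · rintro ⟨h, hh, e⟩
    rw [← e]
    simpa [mul_assoc] using hh

theorem z_smul_iff (p : C.Pt) : C.z • p = p ↔ p = C.base := by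
  obtain ⟨g, rfl⟩ := QuotientGroup.mk_surjective p
  rw [C.z_smul_mk]
  show g ∈ C.H ↔ (QuotientGroup.mk g : C.Pt) = QuotientGroup.mk 1
  rw [eq_comm, QuotientGroup.eq, inv_one, one_mul]

theorem z_smul_base : C.z • C.base = C.base := (C.z_smul_iff _).2 rfl

/-- A conjugate of `z` fixes exactly one point. -/
theorem conj_smul_iff (g : G) (p : C.Pt) : (g * C.z * g⁻¹) • p = p ↔ p = g • C.base := by
  rw [mul_smul, mul_smul, smul_eq_iff_eq_inv_smul, C.z_smul_iff, inv_smul_eq_iff]

theorem fix_unique {x : G} (hx : x ∈ C.Z) {p q : C.Pt} (hp : x • p = p) (hq : x • q = q) : p = q := by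
  obtain ⟨g, rfl⟩ := C.exists_conj hx
  rw [C.conj_smul_iff] at hp hq
  rw [hp, hq]

theorem exists_fix {x : G} (hx : x ∈ C.Z) : ∃ p : C.Pt, x • p = p := by
  obtain ⟨g, rfl⟩ := C.exists_conj hx
  exact ⟨g • C.base, (C.conj_smul_iff g _).2 rfl⟩

theorem centralizer_z_le : centralizer ({C.z} : Set G) ≤ C.H := fun g hg => by
  rw [← C.z_smul_mk, CfsgLib.StrongEmbed.smul_mk_iff]
  have h : g⁻¹ * C.z * g = C.z := by
    rw [mul_assoc, ← mem_centralizer_singleton_iff.1 hg, inv_mul_cancel_left]
  rw [h]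
  exact CfsgLib.StrongEmbed.smul_mk_one_iff.1 C.z_smul_base

theorem conj_mem_Za {g x : G} {a : C.Pt} (hx : x ∈ C.Za a) : g * x * g⁻¹ ∈ C.Za (g • a) :=
  ⟨C.conj_mem_Z hx.1 g, by rw [mul_smul, mul_smul, inv_smul_smul, hx.2]⟩

theorem conj_mem_X {g w : G} {a b : C.Pt} (hw : w ∈ C.X a b) :
    g * w * g⁻¹ ∈ C.X (g • a) (g • b) :=
  ⟨C.conj_mem_Z hw.1 g, by rw [mul_smul, mul_smul, inv_smul_smul, hw.2]⟩

theorem X_symm {w : G} {a b : C.Pt} (hw : w ∈ C.X a b) : w ∈ C.X b a :=
  ⟨hw.1, by rw [← hw.2, smul_smul, C.mul_self_Z hw.1, one_smul]⟩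

theorem mem_L {u x : G} (hx : x ∈ C.Z) (hc : Commute x u) : x ∈ C.L u := subset_closure ⟨hx, hc⟩

theorem commute_of_mem_L {u x : G} (hx : x ∈ C.L u) : Commute x u := by
  induction hx using closure_induction with
  | mem x hx => exact hx.2
  | one => exact Commute.one_left u
  | mul x y _ _ hx hy => exact hx.mul_left hy
  | inv x _ hx => exact hx.inv_left

/-- In the local group of an involution moving a point, an involution fixing that point has its
centraliser fixing it. -/
theorem smul_eq_of_commute {u x : G} (hu : orderOf u = 2) (hx : x ∈ C.Z) (hxu : Commute x u)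
    {a : C.Pt} (hxa : x • a = a) (hmove : ∃ c : G, Commute c u ∧ c • a ≠ a) {s g : G}
    (hs : s ∈ C.L u) (hso : orderOf s = 2) (hsa : s • a = a) (hg : g ∈ C.L u) (hgs : Commute g s) :
    g • a = a := by
  obtain ⟨h, rfl⟩ := C.exists_conj hx
  obtain rfl := (C.conj_smul_iff h a).1 hxa
  set u₀ := h⁻¹ * u * h with hu₀
  have hconj : ∀ {y : G}, Commute y u → Commute (h⁻¹ * y * h) u₀ := fun {y} hy => by
    have := (Commute.conj_iff h⁻¹).2 hy
    rwa [inv_inv] at this
  have hz₀ : Commute C.z u₀ := by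
    have := hconj hxu
    rwa [show h⁻¹ * (h * C.z * h⁻¹) * h = C.z by group] at this
  have hu₀2 : orderOf u₀ = 2 := by
    rw [hu₀, ← CfsgLib.Invol.orderOf_conj_eq h]
    simpa [mul_assoc] using hu
  have hstab : ∀ y : G, h⁻¹ * y * h ∈ C.H ↔ y • (h • C.base) = h • C.base := fun y => by
    rw [show h • C.base = (QuotientGroup.mk h : C.Pt) from CfsgLib.StrongEmbed.smul_mk_one_eq,
      CfsgLib.StrongEmbed.smul_mk_iff]
  obtain ⟨c, hcu, hca⟩ := hmove
  have hnle : ¬ centralizer ({u₀} : Set G) ≤ C.H := fun hle =>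
    hca ((hstab c).1 (hle (mem_centralizer_singleton_iff.2 (hconj hcu).eq)))
  have hL : ∀ y ∈ C.L u, h⁻¹ * y * h ∈ closure {w : G | IsConj C.z w ∧ w * u₀ = u₀ * w} := by
    intro y hy
    induction hy using closure_induction with
    | mem y hy =>
      refine subset_closure ⟨?_, (hconj hy.2).eq⟩
      have := C.conj_mem_Z hy.1 h⁻¹
      rwa [inv_inv] at this
    | one => simp
    | mul y w _ _ ihy ihw => simpa [mul_assoc] using mul_mem ihy ihw
    | inv y _ ih => simpa [mul_assoc] using inv_mem ih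
  have := CfsgLib.StrongEmbed.mem_of_commute (C.loc u₀ hu₀2 hz₀.symm.eq hnle)
    (c := ⟨_, hL g hg⟩) (s := ⟨_, hL s hs⟩) ((hstab s).2 hsa)
    (by
      rw [← Subgroup.orderOf_coe]
      show orderOf (h⁻¹ * s * h) = 2
      rw [← CfsgLib.Invol.orderOf_conj_eq h]
      simpa [mul_assoc] using hso)
    (Subtype.ext (by
      show h⁻¹ * g * h * (h⁻¹ * s * h) = h⁻¹ * s * h * (h⁻¹ * g * h)
      rw [show h⁻¹ * g * h * (h⁻¹ * s * h) = h⁻¹ * (g * s) * h by group, hgs.eq]
      group))
  exact (hstab g).1 this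

end Ctx

end CfsgLib.Criterion
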