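import Cfsg.Agent.Criterion.Orbit
import Cfsg.Agent.Recog.RankOneSuzuki.Main

/-!
# The strong embedding criterion: the three types of local groups

For `v` bad with two commuting involutions in its local group the number `Q` of further fixed points
is `q`, `q ^ 2` or `q ^ 3`, where `q ≥ 4` is the order of the elementary group `E`: modulo the odd
core the local group is a split rank one set-up on the fixed points.
-/

set_option autoImplicit false
set_option linter.style.haveILetI false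
set_option linter.unusedSectionVars false

namespace CfsgLib.Criterion

open Subgroup CfsgLib.Invol CfsgLib.Bender

universe u

variable {G : Type u} [Group G] [Finite G]

/-- A group with a strongly embedded subgroup and no odd core acts faithfully on its cosets. -/
theorem faithful_cosets {X : Type*} [Group X] [Finite X] {K : Subgroup X}
    (hK : Cfsg.IsStronglyEmbedded K) (hX : Cfsg.oddCore X = ⊥) : FaithfulSMul X (X ⧸ K) := by
  obtain ⟨g, hg⟩ := Consumers.exists_not_mem hK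
  have hcore : K.normalCore = ⊥ := by
    refine le_bot_iff.1 ((?_ : K.normalCore ≤ Cfsg.oddCore X).trans hX.le)
    refine Core.le_oddCore K.normalCore_normal ((hK.2.2 g hg).of_dvd_nat
      (card_dvd_of_le fun x hx => ⟨K.normalCore_le hx, g⁻¹ * x * g,
        K.normalCore_le (by simpa using K.normalCore_normal.conj_mem x hx g⁻¹),
        by simp [mul_assoc]⟩))
  rw [normalCore_eq_ker, MonoidHom.ker_eq_bot_iff] at hcore
  exact ⟨fun {x y} h => hcore (Equiv.ext h)⟩

namespace Ctx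

variable (C : Ctx G)

/-- The fixed points of `v` are the cosets of the stabiliser in the local group. -/
theorem Bad.index_LH {v : G} (hv : C.Bad v) {a : C.Pt} (ha : v • a = a) :
    (C.LH v a).index = C.fn v := by
  have h1 := card_orbit_sub (C.L v) a
  have h2 : Nat.card {q : C.Pt // ∃ d ∈ C.L v, d • a = q} = C.fn v :=
    Nat.card_congr (Equiv.subtypeEquivRight fun q =>
      ⟨fun ⟨d, hd, e⟩ => by rw [← e, smul_smul, ← (C.commute_of_mem_L hd).eq, mul_smul, ha],
        fun hq => C.exists_mem_L_move hv ha hq⟩)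
  have h3 : Nat.card ↥(C.L v ⊓ MulAction.stabilizer G a) = Nat.card ↥(C.LH v a) :=
    Nat.card_congr
      { toFun := fun x => ⟨⟨x.1, x.2.1⟩, C.mem_LH.2 x.2.2⟩
        invFun := fun x => ⟨x.1.1, x.1.2, C.mem_LH.1 x.2⟩
        left_inv := fun _ => rfl
        right_inv := fun _ => rfl }
  rw [h2, h3, ← (C.LH v a).index_mul_card] at h1
  exact (Nat.eq_of_mul_eq_mul_right Nat.card_pos h1).symm

/-- The local group modulo its odd core as a rank one set-up with `q` and `Q`. -/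
theorem Bad.exists_setup {v : G} (hv : C.Bad v) (hp : PairRank ↥(C.L v)) {a : C.Pt} (ha : v • a = a)
    {E : Subgroup G} (hE : C.IsE v a E) :
    ∃ (K : Subgroup (↥(C.L v) ⧸ Cfsg.oddCore ↥(C.L v)))
      (_ : FaithfulSMul (↥(C.L v) ⧸ Cfsg.oddCore ↥(C.L v)) ((↥(C.L v) ⧸ Cfsg.oddCore ↥(C.L v)) ⧸ K))
      (T : Subgroup (↥(C.L v) ⧸ Cfsg.oddCore ↥(C.L v)))
      (t : ↥(C.L v) ⧸ Cfsg.oddCore ↥(C.L v))
      (S : Recog.RankOneSuzuki.Data
        (((1 : ↥(C.L v) ⧸ Cfsg.oddCore ↥(C.L v)) : (↥(C.L v) ⧸ Cfsg.oddCore ↥(C.L v)) ⧸ K)) t T),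
      Nat.card T = C.qn v a ∧ Nat.card S.Z = Nat.card E ∧
        K = (C.LH v a).map (QuotientGroup.mk' (Cfsg.oddCore ↥(C.L v))) := by
  haveI : Fact (Nat.Prime 2) := ⟨Nat.prime_two⟩
  set π := QuotientGroup.mk' (Cfsg.oddCore ↥(C.L v)) with hπ
  set K := (C.LH v a).map π with hK
  have hse := hv.isStronglyEmbedded C ha
  have hse' : Cfsg.IsStronglyEmbedded K := Consumers.quot_se hse hp
  obtain ⟨T, hTK, hn, hT2, htr⟩ := Consumers.quot_shape Consumers.structure_all hse hp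
  obtain ⟨g, hg⟩ := Consumers.exists_not_mem hse'
  obtain ⟨t, ht, htg⟩ := StrongEmbed.exists_swap hse'
    (x := (QuotientGroup.mk 1 : (↥(C.L v) ⧸ Cfsg.oddCore ↥(C.L v)) ⧸ K))
    (y := g • QuotientGroup.mk 1) fun h => hg (StrongEmbed.smul_mk_one_iff.1 h.symm)
  have htK : t ∉ K := fun h => hg (StrongEmbed.smul_mk_one_iff.1 (by
    rw [← htg, StrongEmbed.smul_mk_one_iff.2 h]))
  have hsetup := Recog.RankOneSuzuki.Coroll.setup_cosets K T t (Invol.mul_self_eq_one ht) htK hTK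
    (fun h hh x hx => (mem_normalizer_iff.1 (hn hh) x).1 hx)
    (fun x hx => htr t x htK hx)
    (fun w hw h => Consumers.shape_free hse' hTK hT2 htK hw h) (hse'.2.2 t htK) hse'.2.1
  haveI hfa := faithful_cosets hse' LocalB.oddCore_quotient
  obtain ⟨u, w, hu, hw, hne, hc⟩ := Consumers.quot_pairRank hp
  obtain ⟨S⟩ := Recog.RankOneSuzuki.exists_data hsetup
    ⟨u, w, Invol.ne_one hu, Invol.ne_one hw, hne, Invol.mul_self_eq_one hu,
      Invol.mul_self_eq_one hw, hc.eq⟩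
  have hO : Cfsg.oddCore ↥(C.L v) ≤ C.LH v a := hv.oddCore_le_LH C hp ha
  refine ⟨K, hfa, T, t, S, ?_, ?_, hK⟩
  · have h1 := Recog.RankOne.card_points hsetup
    rw [← index_eq_card, hK, index_map_eq _ (QuotientGroup.mk'_surjective _)
      (by rw [QuotientGroup.ker_mk']; exact hO), hv.index_LH C ha, C.fn_eq ha] at h1
    omega
  · have hEL : ∀ e ∈ E, e ∈ C.L v := fun e he => by
      by_cases h : e = 1
      · rw [h]; exact one_mem _
      · exact C.mem_L_of_Ea (hE.mem e he h)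
    have hOm : ∀ o : ↥(C.L v), o ∈ Cfsg.oddCore ↥(C.L v) ↔ (o : G) ∈ C.Om v := fun o => by
      rw [hv.oddCore_eq_fixKer C hp]
      exact ⟨fun h => ⟨o, h, rfl⟩, fun ⟨o', h, e⟩ => by rwa [show o' = o from Subtype.ext e] at h⟩
    have hZ : ∀ e : E, π ⟨e, hEL e e.2⟩ ∈ S.Z := fun e => by
      have hsq : π ⟨e, hEL e e.2⟩ * π ⟨e, hEL e e.2⟩ = 1 := by
        rw [← map_mul, show (⟨(e : G), hEL e e.2⟩ : ↥(C.L v)) * ⟨e, hEL e e.2⟩ = 1 from
          Subtype.ext (hE.mul_self C e.2), map_one]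
      refine (S.mem_Z _).2 ⟨Recog.RankOne.mem_Q hsetup ?_ hsq, hsq⟩
      exact StrongEmbed.smul_mk_one_iff.2 (mem_map_of_mem _ (C.mem_LH.2 (hE.le_stab C e.2)))
    refine (Nat.card_congr (Equiv.ofBijective (fun e : E => (⟨_, hZ e⟩ : S.Z)) ⟨?_, ?_⟩)).symm
    · intro e e' h
      have h1 : π ⟨e, hEL e e.2⟩ = π ⟨e', hEL e' e'.2⟩ := congrArg Subtype.val h
      rw [hπ, QuotientGroup.mk'_eq_mk'] at h1
      obtain ⟨o, ho, ho'⟩ := h1
      have h2 : (e : G) * e' = (o : G) := by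
        have h3 : (e : G) * (o : G) = e' := congrArg Subtype.val ho'
        rw [← h3, ← mul_assoc, hE.mul_self C e.2, one_mul]
      exact Subtype.ext (hE.eq_of_odd C e.2 e'.2 (h2 ▸ (hv.odd_Om C).of_dvd_nat
        (orderOf_dvd_natCard _ ((hOm o).1 ho))))
    · rintro ⟨z, hz⟩
      obtain ⟨hzT, hzz⟩ := (S.mem_Z z).1 hz
      by_cases hz1 : z = 1
      · refine ⟨1, Subtype.ext ?_⟩
        show π ⟨((1 : E) : G), _⟩ = z
        rw [hz1]; exact map_one π
      obtain ⟨y, hy, hyz⟩ := hTK hzT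
      have hy2 : (y * y : ↥(C.L v)) ∈ Cfsg.oddCore ↥(C.L v) := by
        refine (QuotientGroup.eq_one_iff _).1 ?_
        show π (y * y) = 1
        rw [map_mul, hyz, hzz]
      obtain ⟨l, hl⟩ := IsoApps.odd_of_mem_oddCore hy2
      set y₀ := y ^ (2 * l + 1) with hy₀
      have hy₀z : π y₀ = z := by
        rw [hy₀, map_pow, hyz, pow_succ, pow_mul, sq, hzz, one_pow, one_mul]
      have hy₀2 : y₀ * y₀ = 1 := by
        rw [hy₀, ← pow_add, ← two_mul, pow_mul, sq, ← hl, pow_orderOf_eq_one]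
      have hy₀a : (y₀ : G) • a = a := C.mem_LH.1 (pow_mem hy _)
      have hy₀1 : (y₀ : G) ≠ 1 := fun h => hz1 (by
        rw [← hy₀z, show y₀ = 1 from Subtype.ext h, map_one])
      have hyE := hv.mem_Ea C y₀.2
        (orderOf_eq_two (congrArg Subtype.val hy₀2) hy₀1) hy₀a
      obtain ⟨e, he, he1, hodd⟩ := hE.cover _ hyE
      refine ⟨⟨e, he⟩, Subtype.ext ?_⟩
      show π ⟨e, _⟩ = z
      rw [← hy₀z, hπ, eq_comm, QuotientGroup.mk'_apply, QuotientGroup.mk'_apply, QuotientGroup.eq]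
      refine (hOm _).2 ?_
      rw [coe_mul, coe_inv, C.inv_Z hyE.1.1]
      exact (hv.odd_iff C hp ha hyE (hE.mem e he he1)).1 hodd

/-- **The type split**: `q ≥ 4` and `Q` is `q`, `q ^ 2` or `q ^ 3`. -/
theorem Bad.qn_cases {v : G} (hv : C.Bad v) (hp : PairRank ↥(C.L v)) {a : C.Pt} (ha : v • a = a)
    {E : Subgroup G} (hE : C.IsE v a E) :
    4 ≤ Nat.card E ∧
      (C.qn v a = Nat.card E ∨ C.qn v a = Nat.card E ^ 2 ∨ C.qn v a = Nat.card E ^ 3) := by
  obtain ⟨K, hfa, T, t, S, hT, hZ, -⟩ := hv.exists_setup C hp ha hE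
  haveI := hfa
  refine ⟨hZ ▸ S.four_le, ?_⟩
  rw [← hT, ← hZ]
  by_cases hcomm : ∀ x ∈ T, ∀ y ∈ T, x * y = y * x
  · exact Or.inl (le_antisymm (card_le_of_le (S.le_Z_of_abelian hcomm)) (card_le_of_le S.Z_le))
  · push Not at hcomm
    exact Or.inr (S.card_cases hcomm)

end Ctx

end CfsgLib.Criterion
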