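import Cfsg.Agent.Criterion.Setting
import Cfsg.Agent.Invol.BrauerFowler

/-!
# The strong embedding criterion: points, swappers and counting

Two members of the class at different points have a product of odd order; the members moving `a` to
`b` are as many as those fixing `b`, one for each conjugation of a fixed member at `a`.
-/

set_option autoImplicit false
set_option linter.style.haveILetI false
set_option linter.unusedSectionVars false

namespace CfsgLib.Criterion

open Subgroup CfsgLib.Invol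

universe u

variable {G : Type u} [Group G]

/-- The elements `x (x y)^(2 j + 1)` are conjugate to `y`. -/
theorem mul_zpow_odd {x y : G} (hx : orderOf x = 2) (hy : orderOf y = 2) (j : ℤ) :
    x * (x * y) ^ (2 * j + 1) = (x * y) ^ (-j) * y * ((x * y) ^ (-j))⁻¹ := by
  have hxx := mul_self_eq_one hx
  have hk : Commute (x * y) ((x * y) ^ (-j))⁻¹ := ((Commute.refl _).zpow_right _).inv_right
  rw [show (x * y) ^ (-j) * y * ((x * y) ^ (-j))⁻¹ = (x * y) ^ (-j) * x * ((x * y) ^ (-j))⁻¹ * (x * y) by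
    calc _ = (x * y) ^ (-j) * (x * (x * y)) * ((x * y) ^ (-j))⁻¹ := by
          rw [← mul_assoc x x y, hxx, one_mul]
      _ = (x * y) ^ (-j) * x * ((x * y) * ((x * y) ^ (-j))⁻¹) := by simp only [mul_assoc]
      _ = _ := by rw [hk.eq, mul_assoc ((x * y) ^ (-j) * x)],
    zpow_conj_invol hxx (conj_mul_inv hx hy), mul_assoc, ← zpow_add_one]
  congr 2
  ring

/-- For a product of even order the central involution times the first factor is conjugate to one of
the two factors. -/
theorem mul_half_conj {x y : G} (hx : orderOf x = 2) (hy : orderOf y = 2)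
    (hev : Even (orderOf (x * y))) :
    ∃ d ∈ closure ({x, y} : Set G), x * (x * y) ^ (orderOf (x * y) / 2) = d * x * d⁻¹ ∨
      x * (x * y) ^ (orderOf (x * y) / 2) = d * y * d⁻¹ := by
  obtain ⟨l, hl⟩ := hev
  rw [show orderOf (x * y) / 2 = l by omega, ← zpow_natCast]
  have hc := conj_mul_inv hx hy
  have hxx := mul_self_eq_one hx
  have hmem : ∀ k : ℤ, (x * y) ^ k ∈ closure ({x, y} : Set G) := fun k =>
    (mem_closure_pair_iff hx hy).2 (Or.inl ⟨k, rfl⟩)
  rcases Int.even_or_odd (l : ℤ) with ⟨j, hj⟩ | ⟨j, hj⟩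
  · refine ⟨(x * y) ^ (-j), hmem _, Or.inl ?_⟩
    rw [zpow_conj_invol hxx hc, hj]
    congr 2
    ring
  · exact ⟨(x * y) ^ (-j), hmem _, Or.inr (by rw [hj, mul_zpow_odd hx hy])⟩

namespace Ctx

variable [Finite G] (C : Ctx G)

/-! ### Parity -/

theorem P_le_centralizer : (C.P : Subgroup G) ≤ centralizer ({C.z} : Set G) := fun p hp => by
  obtain ⟨c, hc, e⟩ := C.z_center
  rw [mem_centralizer_singleton_iff, ← e]
  exact congrArg Subtype.val (Subgroup.mem_center_iff.1 hc ⟨p, hp⟩)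

theorem odd_Pt : Odd (Nat.card C.Pt) := by
  haveI : Fact (Nat.Prime 2) := ⟨Nat.prime_two⟩
  rw [← Nat.not_even_iff_odd, even_iff_two_dvd]
  exact fun h => C.P.not_dvd_index
    (h.trans (index_dvd_of_le (C.P_le_centralizer.trans C.centralizer_z_le)))

theorem odd_card_Z : Odd (Nat.card C.Z) := by
  haveI : Fact (Nat.Prime 2) := ⟨Nat.prime_two⟩
  have h := CfsgLib.BrauerFowler.card_class_mul C.z
  rw [← (centralizer ({C.z} : Set G)).card_mul_index, mul_comm] at h
  rw [show Nat.card C.Z = (centralizer ({C.z} : Set G)).index from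
      Nat.eq_of_mul_eq_mul_left Nat.card_pos h, ← Nat.not_even_iff_odd, even_iff_two_dvd]
  exact fun h => C.P.not_dvd_index (h.trans (index_dvd_of_le C.P_le_centralizer))

theorem card_Za (a : C.Pt) : Nat.card (C.Za a) = Nat.card (C.Za C.base) := by
  obtain ⟨g, rfl⟩ := QuotientGroup.mk_surjective a
  refine Nat.card_congr (Equiv.subtypeEquiv (MulAut.conj g⁻¹).toEquiv fun x => ?_)
  have hg : g • C.base = (QuotientGroup.mk g : C.Pt) := CfsgLib.StrongEmbed.smul_mk_one_eq
  constructor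
  · intro hx
    have := C.conj_mem_Za (g := g⁻¹) hx
    rw [← hg, inv_smul_smul] at this
    exact this
  · intro hx
    have := C.conj_mem_Za (g := g) hx
    rw [hg] at this
    rwa [show g * (MulAut.conj g⁻¹).toEquiv x * g⁻¹ = x by simp [mul_assoc]] at this

/-- The class is the disjoint union of its parts at the points. -/
theorem card_Z_eq : Nat.card C.Z = Nat.card C.Pt * Nat.card (C.Za C.base) := by
  haveI := Fintype.ofFinite C.Pt
  have e : (Σ a : C.Pt, C.Za a) ≃ C.Z := Equiv.ofBijective (fun x => ⟨x.2.1, x.2.2.1⟩) ⟨by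
    rintro ⟨a, x, hx⟩ ⟨b, y, hy⟩ h
    obtain rfl : x = y := congrArg Subtype.val h
    obtain rfl := C.fix_unique hx.1 hx.2 hy.2
    rfl, fun x => by
      obtain ⟨a, ha⟩ := C.exists_fix x.2
      exact ⟨⟨a, x.1, x.2, ha⟩, rfl⟩⟩
  rw [← Nat.card_congr e, Nat.card_sigma, Finset.sum_congr rfl fun a _ => C.card_Za a,
    Finset.sum_const, Finset.card_univ, ← Nat.card_eq_fintype_card, smul_eq_mul]

theorem odd_Za (a : C.Pt) : Odd (Nat.card (C.Za a)) := by
  have h := C.odd_card_Z
  rw [C.card_Z_eq, Nat.odd_mul] at h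
  rw [C.card_Za a]
  exact h.2

/-- An involution fixing a point centralises a member of the class there. -/
theorem exists_commute_at {v : G} (hv : v * v = 1) {a : C.Pt} (ha : v • a = a) :
    ∃ x ∈ C.Za a, Commute x v := by
  have hvi : v⁻¹ = v := inv_eq_of_mul_eq_one_right hv
  obtain ⟨⟨x, hx⟩, hfix⟩ := exists_fixed_of_involutive (C.odd_Za a)
    (f := fun x => (⟨v * x.1 * v⁻¹, by have := C.conj_mem_Za (g := v) x.2; rwa [ha] at this⟩ : C.Za a))
    (fun x => Subtype.ext (show v * (v * x.1 * v⁻¹) * v⁻¹ = x.1 by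
      rw [hvi, show v * (v * x.1 * v) * v = v * v * x.1 * (v * v) by group, hv, one_mul, mul_one]))
  exact ⟨x, hx, ((mul_inv_eq_iff_eq_mul.1 (congrArg Subtype.val hfix)).symm : x * v = v * x)⟩

/-! ### Products -/

/-- Members of the class at different points have a product of odd order. -/
theorem odd_mul {x y : G} (hx : x ∈ C.Z) (hy : y ∈ C.Z) {a b : C.Pt} (ha : x • a = a)
    (hb : y • b = b) (hab : a ≠ b) : Odd (orderOf (x * y)) := by
  rw [← Nat.not_even_iff_odd]
  intro hev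
  obtain ⟨hj, hjx, hjy⟩ := half_props (C.orderOf_Z hx) (C.orderOf_Z hy) hev
  set j := (x * y) ^ (orderOf (x * y) / 2) with hjdef
  have hja : j • a = a := C.fix_unique hx (by rw [smul_smul, ← hjx.eq, mul_smul, ha]) ha
  have hya : y • a ≠ a := fun h => hab (C.fix_unique hy h hb)
  have hxL : x ∈ C.L j := C.mem_L hx hjx.symm
  have hyL : y ∈ C.L j := C.mem_L hy hjy.symm
  exact hya (C.smul_eq_of_commute hj hx hjx.symm ha ⟨y, hjy.symm, hya⟩
    (pow_mem (mul_mem hxL hyL) _) hj hja hyL hjy.symm)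

/-- Commuting members of the class are at the same point. -/
theorem fix_of_commute {x y : G} (hx : x ∈ C.Z) (hy : y ∈ C.Z) (h : Commute x y) {a : C.Pt}
    (ha : x • a = a) : y • a = a :=
  C.fix_unique hx (by rw [smul_smul, h.eq, mul_smul, ha]) ha

/-! ### Swappers -/

/-- A member at `a` is moved to a member at another point by a member of the class exchanging the
points. -/
theorem exists_link {x y : G} {a b : C.Pt} (hx : x ∈ C.Za a) (hy : y ∈ C.Za b) (hab : a ≠ b) :
    ∃ w ∈ C.X a b, w * x * w⁻¹ = y := by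
  have hx2 := C.orderOf_Z hx.1
  have hy2 := C.orderOf_Z hy.1
  obtain ⟨m, hm⟩ := C.odd_mul hx.1 hy.1 hx.2 hy.2 hab
  set r := x * y with hr
  have hxx := mul_self_eq_one hx2
  have hc : x * r * x⁻¹ = r⁻¹ := conj_mul_inv hx2 hy2
  have hw : x * r ^ ((m : ℤ) + 1) =
      r ^ (-((m : ℤ) + 1) ^ 2) * x * (r ^ (-((m : ℤ) + 1) ^ 2))⁻¹ := by
    rw [zpow_conj_invol hxx hc]
    congr 1
    rw [zpow_eq_zpow_iff_modEq, hm, Int.modEq_iff_dvd]
    exact ⟨(m : ℤ) + 1, by push_cast; ring⟩
  set w := x * r ^ ((m : ℤ) + 1) with hwdef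
  have hwZ : w ∈ C.Z := hw ▸ C.conj_mem_Z hx.1 _
  have hwxw : w * x * w⁻¹ = y := by
    rw [C.inv_Z hwZ, hwdef]
    have h2 := conj_zpow_of_inverts hc ((m : ℤ) + 1)
    rw [inv_eq_of_mul_eq_one_right hxx] at h2
    calc x * r ^ ((m : ℤ) + 1) * x * (x * r ^ ((m : ℤ) + 1))
        = x * r ^ ((m : ℤ) + 1) * (x * x) * r ^ ((m : ℤ) + 1) := by group
      _ = x * r ^ (2 * (m : ℤ) + 2) := by rw [hxx, mul_one, mul_assoc, ← zpow_add]; ring_nf
      _ = x * r ^ (1 : ℤ) := by
          congr 1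
          rw [zpow_eq_zpow_iff_modEq, hm, Int.modEq_iff_dvd]
          exact ⟨-1, by push_cast; ring⟩
      _ = y := by rw [zpow_one, hr, ← mul_assoc, hxx, one_mul]
  refine ⟨w, ⟨hwZ, ?_⟩, hwxw⟩
  refine C.fix_unique hy.1 ?_ hy.2
  rw [← hwxw, mul_smul, mul_smul, inv_smul_smul, hx.2]

/-- There are as many members exchanging two points as there are at either of them. -/
theorem card_X {a b : C.Pt} (hab : a ≠ b) : Nat.card (C.X a b) = Nat.card (C.Za C.base) := by
  classical
  haveI := Fintype.ofFinite C.Pt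
  have hge : ∀ b', b' ≠ a → Nat.card (C.Za C.base) ≤ Nat.card (C.X a b') := by
    intro b' hb'
    haveI : Nonempty (C.Za a) := by
      have := (C.odd_Za a).pos
      exact (Nat.card_pos_iff.1 this).1
    obtain ⟨⟨x, hx⟩⟩ := ‹Nonempty (C.Za a)›
    rw [← C.card_Za b']
    refine Nat.card_le_card_of_surjective (fun w => (⟨w.1 * x * w.1⁻¹, ?_⟩ : C.Za b')) fun y => ?_
    · have := C.conj_mem_Za (g := w.1) hx
      rwa [w.2.2] at this
    · obtain ⟨w, hw, e⟩ := C.exists_link hx y.2 (Ne.symm hb')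
      exact ⟨⟨w, hw⟩, Subtype.ext e⟩
  have hsum : ∑ b' : C.Pt, Nat.card (C.X a b') = Nat.card C.Pt * Nat.card (C.Za C.base) := by
    rw [← C.card_Z_eq, ← Nat.card_sigma]
    refine Nat.card_congr (Equiv.ofBijective (fun x => (⟨x.2.1, x.2.2.1⟩ : C.Z)) ⟨?_, fun x =>
      ⟨⟨x.1 • a, x.1, x.2, rfl⟩, rfl⟩⟩)
    rintro ⟨b₁, x, hx⟩ ⟨b₂, y, hy⟩ h
    obtain rfl : x = y := congrArg Subtype.val h
    obtain rfl : b₁ = b₂ := hx.2.symm.trans hy.2
    rfl
  rw [← Finset.add_sum_erase _ _ (Finset.mem_univ a),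
    show Nat.card (C.X a a) = Nat.card (C.Za C.base) from C.card_Za a,
    Nat.card_eq_fintype_card (α := C.Pt), ← Finset.card_univ, ← Finset.card_erase_add_one (Finset.mem_univ a),
    add_mul, one_mul, add_comm _ (Nat.card (C.Za C.base))] at hsum
  have hsum' : ∑ _x ∈ Finset.univ.erase a, Nat.card (C.Za C.base) =
      ∑ x ∈ Finset.univ.erase a, Nat.card (C.X a x) := by
    rw [Finset.sum_const, smul_eq_mul]
    omega
  exact ((Finset.sum_eq_sum_iff_of_le fun x hx => hge x (Finset.ne_of_mem_erase hx)).1 hsum' b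
    (Finset.mem_erase.2 ⟨hab.symm, Finset.mem_univ b⟩)).symm

/-- A member at `a` is moved to different members by different swappers of `a`, `b`. -/
theorem link_inj {x w w' : G} {a b : C.Pt} (hx : x ∈ C.Za a) (hab : a ≠ b) (hw : w ∈ C.X a b)
    (hw' : w' ∈ C.X a b) (h : w * x * w⁻¹ = w' * x * w'⁻¹) : w = w' := by
  set f : C.X a b → C.Za b := fun w => ⟨w.1 * x * w.1⁻¹, by
    have := C.conj_mem_Za (g := w.1) hx
    rwa [w.2.2] at this⟩
  have hs : Function.Surjective f := fun y => by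
    obtain ⟨w, hw, e⟩ := C.exists_link hx y.2 hab
    exact ⟨⟨w, hw⟩, Subtype.ext e⟩
  have hb := (Function.Surjective.bijective_of_nat_card_le hs (by
    rw [C.card_X hab, C.card_Za b]))
  exact congrArg Subtype.val (hb.1 (a₁ := ⟨w, hw⟩) (a₂ := ⟨w', hw'⟩) (Subtype.ext h))

/-- An involution permuting two points centralises one of their swappers. -/
theorem exists_swap_commute {u : G} (hu : u * u = 1) {a b : C.Pt} (hab : a ≠ b)
    (h : u • a = a ∧ u • b = b ∨ u • a = b ∧ u • b = a) : ∃ w ∈ C.X a b, Commute w u := by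
  have hui : u⁻¹ = u := inv_eq_of_mul_eq_one_right hu
  have hmap : ∀ w ∈ C.X a b, u * w * u⁻¹ ∈ C.X a b := fun w hw => by
    have := C.conj_mem_X (g := u) hw
    rcases h with ⟨h1, h2⟩ | ⟨h1, h2⟩ <;> rw [h1, h2] at this
    exacts [this, C.X_symm this]
  obtain ⟨⟨w, hw⟩, hfix⟩ := exists_fixed_of_involutive
    (show Odd (Nat.card (C.X a b)) by rw [C.card_X hab]; exact C.odd_Za _)
    (f := fun w => (⟨u * w.1 * u⁻¹, hmap _ w.2⟩ : C.X a b))
    (fun w => Subtype.ext (show u * (u * w.1 * u⁻¹) * u⁻¹ = w.1 by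
      rw [hui, show u * (u * w.1 * u) * u = u * u * w.1 * (u * u) by group, hu, one_mul, mul_one]))
  exact ⟨w, hw, ((mul_inv_eq_iff_eq_mul.1 (congrArg Subtype.val hfix)).symm : w * u = u * w)⟩

/-- Swappers of the same points have products of odd order. -/
theorem odd_mul_swap {w w' : G} {a b : C.Pt} (hab : a ≠ b) (hw : w ∈ C.X a b) (hw' : w' ∈ C.X a b) :
    Odd (orderOf (w * w')) := by
  rw [← Nat.not_even_iff_odd]
  intro hev
  have hw2 := C.orderOf_Z hw.1
  obtain ⟨hj, hjw, -⟩ := half_props hw2 (C.orderOf_Z hw'.1) hev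
  obtain ⟨d, hd, hcase⟩ := mul_half_conj hw2 (C.orderOf_Z hw'.1) hev
  set j := (w * w') ^ (orderOf (w * w') / 2) with hjdef
  have hpair : ∀ g ∈ closure ({w, w'} : Set G),
      g • a = a ∧ g • b = b ∨ g • a = b ∧ g • b = a := by
    intro g hg
    induction hg using closure_induction with
    | mem g hg =>
      rcases hg with rfl | rfl
      exacts [Or.inr ⟨hw.2, (C.X_symm hw).2⟩, Or.inr ⟨hw'.2, (C.X_symm hw').2⟩]
    | one => exact Or.inl ⟨one_smul _ _, one_smul _ _⟩
    | mul g g' _ _ ih ih' =>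
      rcases ih with ⟨h1, h2⟩ | ⟨h1, h2⟩ <;> rcases ih' with ⟨h1', h2'⟩ | ⟨h1', h2'⟩ <;>
        simp [mul_smul, h1, h2, h1', h2']
    | inv g _ ih =>
      rcases ih with ⟨h1, h2⟩ | ⟨h1, h2⟩
      · exact Or.inl ⟨inv_smul_eq_iff.2 h1.symm, inv_smul_eq_iff.2 h2.symm⟩
      · exact Or.inr ⟨inv_smul_eq_iff.2 h2.symm, inv_smul_eq_iff.2 h1.symm⟩
  have hwj : w * j ∈ C.X a b := by
    have hdab := hpair d hd
    rcases hcase with e | e <;> rw [e]
    · have := C.conj_mem_X (g := d) hw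
      rcases hdab with ⟨h1, h2⟩ | ⟨h1, h2⟩ <;> rw [h1, h2] at this
      exacts [this, C.X_symm this]
    · have := C.conj_mem_X (g := d) hw'
      rcases hdab with ⟨h1, h2⟩ | ⟨h1, h2⟩ <;> rw [h1, h2] at this
      exacts [this, C.X_symm this]
  have hjX : j • a = a := by
    rw [show j • a = w • ((w * j) • a) by rw [smul_smul, ← mul_assoc, C.mul_self_Z hw.1, one_mul],
      hwj.2, (C.X_symm hw).2]
  obtain ⟨x, hx, hxj⟩ := C.exists_commute_at (mul_self_eq_one hj) hjX
  refine ne_one hj (mul_eq_left.1 (C.link_inj hx hab hwj hw ?_))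
  rw [show w * j * x * (w * j)⁻¹ = w * (j * x * j⁻¹) * w⁻¹ by group, ← hxj.eq, mul_inv_cancel_right]

end Ctx

end CfsgLib.Criterion
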