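import Cfsg.Agent.Criterion.Types

/-!
# The strong embedding criterion: the torus of a local group of `L₂` type

For `v` bad with `Q = q` fixing `a ≠ b` some element of the local group fixes both points, normalises
`E` and is transitive on the nontrivial elements of `E`; every element of the local group fixing `a`
and normalising `E` acts on `E` as one of its powers.
-/

set_option autoImplicit false
set_option linter.style.haveILetI false
set_option linter.unusedSectionVars false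

namespace CfsgLib.Criterion

open Subgroup CfsgLib.Invol CfsgLib.Bender

universe u

variable {G : Type u} [Group G] [Finite G]

namespace Ctx

variable (C : Ctx G)

/-- The torus of a local group with `Q = q`. -/
theorem Bad.exists_torus {v : G} (hv : C.Bad v) (hp : PairRank ↥(C.L v)) {a b : C.Pt} (ha : v • a = a)
    (hb : v • b = b) (hab : b ≠ a) {E : Subgroup G} (hE : C.IsE v a E)
    (hQ : C.qn v a = Nat.card E) :
    ∃ t ∈ C.L v, t • a = a ∧ t • b = b ∧ t ∈ normalizer (E : Set G) ∧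
      (∀ e ∈ E, ∀ e' ∈ E, e ≠ 1 → e' ≠ 1 → ∃ k : ℕ, t ^ k * e * (t ^ k)⁻¹ = e') ∧
      (∀ y ∈ C.L v, y • a = a → y ∈ normalizer (E : Set G) →
        ∃ k : ℕ, ∀ e ∈ E, y * e * y⁻¹ = t ^ k * e * (t ^ k)⁻¹) ∧
      ∀ g : G, Commute g v → g ∈ normalizer (E : Set G) →
        ∃ k : ℕ, ∀ e ∈ E, g * t * g⁻¹ * e * (g * t * g⁻¹)⁻¹ = t ^ k * e * (t ^ k)⁻¹ := by
  haveI : Fact (Nat.Prime 2) := ⟨Nat.prime_two⟩
  obtain ⟨K, hfa, T, s, S, hT, hZ, hK⟩ := hv.exists_setup C hp ha hE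
  haveI := hfa
  set π := QuotientGroup.mk' (Cfsg.oddCore ↥(C.L v))
  have hTZ : S.Z = T := eq_of_le_of_card_ge S.Z_le (by rw [hT, hQ, hZ])
  have hsplit := S.isSplit_of_le hTZ.ge
  haveI := (hv.quot_three C hp).isSimpleGroup
  have htop : S.L = ⊤ := S.L_normal.eq_bot_or_eq_top.resolve_left fun hbot => by
    have := S.L_index_odd
    rw [hbot, index_bot] at this
    exact Nat.not_even_iff_odd.2 this (even_iff_two_dvd.2
      ((even_iff_two_dvd.1 S.setup.even_card).trans (Subgroup.card_subgroup_dvd_card _)))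
  have hEL : ∀ e ∈ E, e ∈ C.L v := fun e he => by
    by_cases h : e = 1
    · rw [h]; exact one_mem _
    · exact C.mem_L_of_Ea (hE.mem e he h)
  -- elements fixing `a` have images fixing the base coset
  have hfix : ∀ y : ↥(C.L v), (y : G) • a = a →
      π y • ((1 : ↥(C.L v) ⧸ Cfsg.oddCore ↥(C.L v)) : (↥(C.L v) ⧸ Cfsg.oddCore ↥(C.L v)) ⧸ K) =
        ((1 : ↥(C.L v) ⧸ Cfsg.oddCore ↥(C.L v)) : (↥(C.L v) ⧸ Cfsg.oddCore ↥(C.L v)) ⧸ K) :=
    fun y hy => StrongEmbed.smul_mk_one_iff.2 (hK ▸ mem_map_of_mem _ (C.mem_LH.2 hy))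
  have hinvT : ∀ y : ↥(C.L v), (y : G) • a = a → y * y = 1 → π y ∈ T := fun y hy hy2 =>
    Recog.RankOne.mem_Q S.setup (hfix y hy) (by rw [← map_mul, hy2, map_one])
  have heT : ∀ (e : G) (he : e ∈ E), π ⟨e, hEL e he⟩ ∈ S.Z := fun e he =>
    hTZ.ge (hinvT _ (hE.le_stab C he) (Subtype.ext (hE.mul_self C he)))
  have hinj : ∀ (e : G) (he : e ∈ E) (e' : G) (he' : e' ∈ E),
      π ⟨e, hEL e he⟩ = π ⟨e', hEL e' he'⟩ → e = e' := by
    intro e he e' he' h1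
    refine hE.eq_of_odd C he he' ?_
    have h3 := IsoApps.odd_of_mem_oddCore (QuotientGroup.eq.1 h1)
    rw [← Subgroup.orderOf_coe, coe_mul, coe_inv] at h3
    change Odd (orderOf (e⁻¹ * e')) at h3
    rwa [inv_eq_of_mul_eq_one_right (hE.mul_self C he)] at h3
  have hpow : ∀ k ∈ S.K, ∀ k' : ↥(C.L v) ⧸ Cfsg.oddCore ↥(C.L v), k' ∈ T → k * k' * k⁻¹ ∈ T :=
    fun k hk k' hk' => S.conj_Q hk hk'
  -- conjugation by an element with image `g k` is conjugation by `k`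
  have hact : ∀ (y : ↥(C.L v)) (g k : ↥(C.L v) ⧸ Cfsg.oddCore ↥(C.L v)), g ∈ T → k ∈ S.K →
      π y = g * k → ∀ (e : G) (he : e ∈ E) (he' : (y : G) * e * (y : G)⁻¹ ∈ E),
        π ⟨_, hEL _ he'⟩ = k * π ⟨e, hEL e he⟩ * k⁻¹ := by
    intro y g k hg hk hy e he he'
    rw [show (⟨(y : G) * e * (y : G)⁻¹, hEL _ he'⟩ : ↥(C.L v)) = y * ⟨e, hEL e he⟩ * y⁻¹ from rfl,
      map_mul, map_mul, map_inv, hy]
    have hc : k * π ⟨e, hEL e he⟩ * k⁻¹ * g = g * (k * π ⟨e, hEL e he⟩ * k⁻¹) := by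
      refine S.central _ ?_ g hg
      rw [hTZ]
      exact hpow k hk _ (hTZ.le (heT e he))
    calc g * k * π ⟨e, hEL e he⟩ * (g * k)⁻¹ = g * (k * π ⟨e, hEL e he⟩ * k⁻¹) * g⁻¹ := by group
      _ = k * π ⟨e, hEL e he⟩ * k⁻¹ := by rw [← hc, mul_inv_cancel_right]
  -- a lift of the generator of the torus, normalising `E`
  obtain ⟨⟨k₀, hk₀⟩, hgen⟩ := S.K_cyclic.exists_generator
  have hnat : ∀ k ∈ S.K, ∃ n : ℕ, k₀ ^ n = k := fun k hk => by
    obtain ⟨n, hn⟩ := Submonoid.mem_powers_iff _ _ |>.1 (mem_powers_iff_mem_zpowers.2 (hgen ⟨k, hk⟩))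
    exact ⟨n, congrArg Subtype.val hn⟩
  obtain ⟨y₀, hy₀, hy₀k⟩ : k₀ ∈ (C.LH v a).map π :=
    hK ▸ StrongEmbed.smul_mk_one_iff.1 (MulAction.mem_stabilizer_iff.1 (S.K_le hk₀).1)
  have hy₀a : (y₀ : G) • a = a := C.mem_LH.1 hy₀
  have hEK : E ≤ closure (C.Ea v a) := fun e he => by
    by_cases h : e = 1
    · rw [h]; exact one_mem _
    · exact subset_closure (hE.mem e he h)
  obtain ⟨k, hk, hkE⟩ := hE.exists_conj_max C hv hp ha
    (P := E.map (MulAut.conj (y₀ : G)).toMonoidHom) ((hE.isPGroup C).map _)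
    (by
      rintro _ ⟨e, he, rfl⟩
      by_cases h : e = 1
      · rw [h, map_one]; exact one_mem _
      refine subset_closure ?_
      show (y₀ : G) * e * (y₀ : G)⁻¹ ∈ _
      have := C.conj_mem_Ea_L y₀.2 (hE.mem e he h)
      rwa [hy₀a] at this)
    (hE.isPGroup C) hEK (card_map_of_injective (MulAut.conj (y₀ : G)).injective) rfl
  obtain ⟨hkL, hka⟩ := C.closure_Ea hk
  have hkT : π ⟨k, hkL⟩ ∈ T := by
    have : ∀ x ∈ closure (C.Ea v a), ∀ hx : x ∈ C.L v, π ⟨x, hx⟩ ∈ T := by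
      intro x hx
      induction hx using closure_induction with
      | mem x hx => exact fun hxL => hinvT _ hx.1.2 (Subtype.ext (C.mul_self_Z hx.1.1))
      | one => exact fun _ => by rw [show (⟨1, _⟩ : ↥(C.L v)) = 1 from rfl, map_one]; exact one_mem _
      | mul x x' hx hx' h h' =>
        intro hxx
        rw [show (⟨x * x', hxx⟩ : ↥(C.L v)) = ⟨x, (C.closure_Ea hx).1⟩ * ⟨x', (C.closure_Ea hx').1⟩ from rfl,
          map_mul]
        exact mul_mem (h _) (h' _)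
      | inv x hx h =>
        intro hxi
        rw [show (⟨x⁻¹, hxi⟩ : ↥(C.L v)) = (⟨x, (C.closure_Ea hx).1⟩ : ↥(C.L v))⁻¹ from rfl, map_inv]
        exact inv_mem (h _)
    exact this k hk hkL
  set t₀ : G := k * (y₀ : G) with ht₀
  have ht₀a : t₀ • a = a := by rw [ht₀, mul_smul, hy₀a, hka]
  have ht₀L : t₀ ∈ C.L v := mul_mem hkL y₀.2
  -- correct it to fix `b`
  have hb' : v • (t₀ • b) = t₀ • b ∧ t₀ • b ≠ a :=
    ⟨by rw [smul_smul, ← (C.commute_of_mem_L ht₀L).eq, mul_smul, hb],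
      fun h => hab (smul_left_cancel t₀ (h.trans ht₀a.symm))⟩
  obtain ⟨⟨e₁, he₁⟩, he₁b⟩ : ∃ e : E, (e : G) • (t₀ • b) = b := by
    have hbij := Function.Injective.bijective_of_nat_card_le
      (f := fun e : E => (⟨(e : G) • (t₀ • b),
        by rw [smul_smul, ← (C.commute_of_mem_L (hEL e e.2)).eq, mul_smul, hb'.1],
        fun h => hb'.2 (smul_left_cancel (e : G) (h.trans (hE.le_stab C e.2).symm))⟩ :
          {c : C.Pt // v • c = c ∧ c ≠ a})) (fun e e' h => Subtype.ext ?_) (by exact hQ.le)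
    · obtain ⟨e, he⟩ := hbij.2 ⟨b, hb, hab⟩
      exact ⟨e, congrArg Subtype.val he⟩
    · have h1 : (e : G) • (t₀ • b) = (e' : G) • (t₀ • b) := congrArg Subtype.val h
      have h2 : ((e' : G)⁻¹ * e) • (t₀ • b) = t₀ • b := by rw [mul_smul, h1, inv_smul_smul]
      by_contra hne
      have hm := hE.mem _ (mul_mem (inv_mem e'.2) e.2) fun h3 => hne (inv_mul_eq_one.1 h3).symm
      exact hb'.2 (C.fix_unique hm.1.1 h2 hm.1.2)
  set t : G := e₁ * t₀ with ht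
  have htL : t ∈ C.L v := mul_mem (hEL e₁ he₁) ht₀L
  have hta : t • a = a := by rw [ht, mul_smul, ht₀a, hE.le_stab C he₁]
  have htb : t • b = b := by rw [ht, mul_smul]; exact he₁b
  have htN : t ∈ normalizer (E : Set G) := by
    refine mem_normalizer_iff_map_conj_eq.2 (eq_of_le_of_card_ge ?_
      (card_map_of_injective (MulAut.conj t).injective).ge)
    rintro _ ⟨e, he, rfl⟩
    show t * e * t⁻¹ ∈ E
    have h1 : k * ((y₀ : G) * e * (y₀ : G)⁻¹) * k⁻¹ ∈ E := hkE _ ⟨e, he, rfl⟩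
    rw [show t * e * t⁻¹ = e₁ * (k * ((y₀ : G) * e * (y₀ : G)⁻¹) * k⁻¹) * e₁⁻¹ by rw [ht, ht₀]; group]
    exact mul_mem (mul_mem he₁ h1) (inv_mem he₁)
  have htπ : ∀ n : ℕ, ∃ g ∈ T, π (⟨t, htL⟩ ^ n) = g * k₀ ^ n := by
    intro n
    induction n with
    | zero => exact ⟨1, one_mem _, by rw [pow_zero, pow_zero, map_one, one_mul]⟩
    | succ n ih =>
      obtain ⟨g, hg, e⟩ := ih
      have h1 : π ⟨t, htL⟩ = π ⟨e₁, hEL e₁ he₁⟩ * π ⟨k, hkL⟩ * k₀ := by
        rw [← hy₀k, ← map_mul, ← map_mul]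
        exact congrArg π (Subtype.ext (mul_assoc e₁ k _).symm)
      set g₁ := π ⟨e₁, hEL e₁ he₁⟩ * π ⟨k, hkL⟩
      have hg₁ : g₁ ∈ T := mul_mem (hTZ.le (heT e₁ he₁)) hkT
      refine ⟨g * (k₀ ^ n * g₁ * (k₀ ^ n)⁻¹), mul_mem hg (hpow _ (pow_mem hk₀ n) _ hg₁), ?_⟩
      rw [pow_succ, map_mul, e, h1, pow_succ]
      group
  have htact : ∀ (n : ℕ) (e : G) (he : e ∈ E), ∃ he' : t ^ n * e * (t ^ n)⁻¹ ∈ E,
      π ⟨_, hEL _ he'⟩ = k₀ ^ n * π ⟨e, hEL e he⟩ * (k₀ ^ n)⁻¹ := fun n e he => by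
    have he' := (mem_normalizer_iff.1 (pow_mem htN n) e).1 he
    obtain ⟨g, hg, hge⟩ := htπ n
    exact ⟨he', hact (⟨t, htL⟩ ^ n) g _ hg (pow_mem hk₀ n) hge e he he'⟩
  have hall : ∀ y ∈ C.L v, y • a = a → y ∈ normalizer (E : Set G) →
      ∃ n : ℕ, ∀ e ∈ E, y * e * y⁻¹ = t ^ n * e * (t ^ n)⁻¹ := by
    intro y hy hya hyN
    obtain ⟨g, hg, k', hk', e'⟩ := S.mem_L_stab hsplit (htop ▸ mem_top _) (hfix ⟨y, hy⟩ hya)
    obtain ⟨n, rfl⟩ := hnat k' hk'
    refine ⟨n, fun e he => ?_⟩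
    obtain ⟨he', h⟩ := htact n e he
    exact hinj _ ((mem_normalizer_iff.1 hyN e).1 he) _ he'
      ((hact ⟨y, hy⟩ g _ hg (pow_mem hk₀ n) e' e he ((mem_normalizer_iff.1 hyN e).1 he)).trans h.symm)
  refine ⟨t, htL, hta, htb, htN, ?_, hall, ?_⟩
  · intro e he e' he' he1 he'1
    have hne : ∀ (x : G) (hx : x ∈ E), x ≠ 1 → π ⟨x, hEL x hx⟩ ≠ 1 := fun x hx hx1 h =>
      hx1 (hinj x hx 1 (one_mem _) (h.trans (map_one π).symm))
    obtain ⟨k', hk', hkk⟩ := S.trans _ (heT e he) (hne e he he1) _ (heT e' he') (hne e' he' he'1)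
    obtain ⟨n, hn⟩ := hnat _ (inv_mem hk')
    refine ⟨n, ?_⟩
    obtain ⟨hm, h⟩ := htact n e he
    refine hinj _ hm _ he' (h.trans ?_)
    rw [hn, inv_inv, hkk]
  · intro g hgv hgN
    have hga : g • a = a := by
      obtain ⟨x, hx, hxv⟩ := C.exists_commute_at (mul_self_eq_one hv.1) ha
      obtain ⟨e, he, he1, -⟩ := hE.cover x ⟨hx, hxv⟩
      have h1 := hE.mem _ ((mem_normalizer_iff.1 hgN e).1 he) fun h => he1 (conj_eq_one_iff.1 h)
      exact C.fix_unique h1.1.1 (C.conj_mem_Za (g := g) (hE.mem e he he1).1).2 h1.1.2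
    have hgL : ∀ z ∈ C.L v, g * z * g⁻¹ ∈ C.L v := by
      intro z hz
      induction hz using closure_induction with
      | mem z hz =>
        refine C.mem_L (C.conj_mem_Z hz.1 g) ?_
        exact (hgv.mul_left hz.2).mul_left hgv.inv_left
      | one => rw [mul_one, mul_inv_cancel]; exact one_mem _
      | mul z z' _ _ h h' =>
        rw [show g * (z * z') * g⁻¹ = g * z * g⁻¹ * (g * z' * g⁻¹) by group]; exact mul_mem h h'
      | inv z _ h => rw [show g * z⁻¹ * g⁻¹ = (g * z * g⁻¹)⁻¹ by group]; exact inv_mem h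
    exact hall _ (hgL t htL) (by rw [mul_smul, mul_smul, inv_smul_eq_iff.2 hga.symm, hta, hga])
      (mul_mem (mul_mem hgN htN) (inv_mem hgN))

end Ctx

end CfsgLib.Criterion
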