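import Cfsg.Agent.Criterion.Kernel
import Cfsg.Agent.Criterion.Torus
import Mathlib.GroupTheory.GroupAction.Quotient

/-!
# The strong embedding criterion: a kernel larger than `⟨v⟩` is impossible

With `n - 1 = q ^ 3`, no crossing member and a kernel on `Fix v` larger than `⟨v⟩` the kernel `K₀` is
elementary of order `ρ ≥ 4`, the tori of `v` and of `v x` give the translations `𝒯` of order
`q ^ 2 ρ` acting on `⟨E, K₀⟩`, and the orbit count of `𝒯` on the points is not integral.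
-/

set_option autoImplicit false
set_option linter.style.haveILetI false
set_option linter.unusedSectionVars false

namespace CfsgLib.Criterion

open Subgroup CfsgLib.Invol CfsgLib.Bender

universe u

variable {G : Type u} [Group G] [Finite G]

/-- The number of points fixed by an element and the orbit count: Burnside. -/
theorem card_dvd_sum_fixed {K : Type*} [Group K] [Finite K] {X : Type*} [Finite X] [MulAction K X] :
    Nat.card K ∣ Nat.card (Σ g : K, MulAction.fixedBy X g) :=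
  ⟨_, (Nat.card_congr (MulAction.sigmaFixedByEquivOrbitsProdGroup K X)).trans
    ((Nat.card_prod _ _).trans (mul_comm _ _))⟩

namespace Ctx

variable (C : Ctx G)

/-- An element centralising `v` normalises its local group. -/
theorem conj_mem_L_cent {v g : G} (hg : Commute g v) {y : G} (hy : y ∈ C.L v) :
    g * y * g⁻¹ ∈ C.L v := by
  induction hy using closure_induction with
  | mem y hy =>
    exact subset_closure ⟨C.conj_mem_Z hy.1 g, (hg.mul_left hy.2).mul_left hg.inv_left⟩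
  | one => simp
  | mul y y' _ _ h h' => rw [← conj_mul]; exact mul_mem h h'
  | inv y _ h => rw [← conj_inv]; exact inv_mem h

/-- If no element of the local group fixes all fixed points, an element centralising `v` and fixing
all of them centralises the local group. -/
theorem commute_L_of_fixed {v : G} (hO : ∀ o ∈ C.Om v, o = 1) {g : G} (hg : Commute g v)
    (hfix : ∀ c : C.Pt, v • c = c → g • c = c) {l : G} (hl : l ∈ C.L v) : Commute g l := by
  refine mul_inv_eq_iff_eq_mul.1 (mul_inv_eq_one.1 (hO (g * l * g⁻¹ * l⁻¹)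
    (C.mem_Om.2 ⟨mul_mem (C.conj_mem_L_cent hg hl) (inv_mem hl), fun c hc => ?_⟩)))
  have hlc : v • (l⁻¹ • c) = l⁻¹ • c := by
    rw [smul_smul, ← (C.commute_of_mem_L (inv_mem hl)).eq, mul_smul, hc]
  rw [mul_smul, mul_smul, mul_smul, inv_smul_eq_iff.2 (hfix _ hlc).symm, smul_inv_smul, hfix c hc]

/-- Everything used for a large kernel. -/
structure Big (v : G) (a b : C.Pt) (E R : Subgroup G) : Prop where
  ker : C.Ker v a b E R
  faithful : ∀ g : G, (∀ c : C.Pt, g • c = c) → g = 1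
  n_eq : Nat.card C.Pt = Nat.card E ^ 3 + 1
  big : ∃ r ∈ R, r ≠ 1 ∧ r ≠ v

namespace Big

variable {C} {v : G} {a b : C.Pt} {E R : Subgroup G} (B : C.Big v a b E R)
include B

theorem hf : ∀ v : G, orderOf v = 2 → ∃ c : C.Pt, v • c ≠ c := B.ker.faith

theorem hbad : C.Bad v := B.ker.bad

theorem va : v • a = a := B.ker.fix_a

theorem vb : v • b = b := B.ker.fix_b

theorem hE : C.IsE v a E := B.ker.isE

theorem vv : v * v = 1 := mul_self_eq_one B.hbad.1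

theorem Om_v {o : G} (ho : o ∈ C.Om v) : o = 1 := by
  obtain ⟨r, hr, hr1, hrv⟩ := B.big
  exact B.faithful o (B.ker.Om_trivial C hr hr1 hrv ho)

theorem Om_vx {x : G} (hx : x ∈ E) {o : G} (ho : o ∈ C.Om (v * x)) : o = 1 := by
  obtain ⟨r, hr, hr1, hrv⟩ := B.big
  rcases eq_or_ne x 1 with rfl | hx1
  · rw [mul_one] at ho; exact B.Om_v ho
  · exact B.faithful o (B.ker.Om_mul_trivial C hr hr1 hrv hx hx1 ho)

/-- The members at `a` are those of `E`. -/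
theorem mem_E_iff {x : G} : x ∈ E ↔ x = 1 ∨ x ∈ C.Za a := by
  constructor
  · intro hx
    exact or_iff_not_imp_left.2 fun h => (B.hE.mem x hx h).1
  classical
  haveI := Fintype.ofFinite (C.Ea v a)
  rintro (rfl | hx)
  · exact one_mem _
  have hEa : ∀ y ∈ C.Ea v a, y ∈ E := by
    intro y hy
    obtain ⟨e, he, he1, hodd⟩ := B.hE.cover y hy
    have h1 := B.Om_v ((B.hbad.odd_iff C B.ker.pair B.va hy (B.hE.mem e he he1)).1 hodd)
    rw [eq_inv_of_mul_eq_one_left h1]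
    exact inv_mem he
  suffices C.Za a = C.Ea v a from hEa x (this ▸ hx)
  have hsub : C.Ea v a ⊆ C.Za a := fun y hy => hy.1
  refine (Set.eq_of_subset_of_ncard_le hsub (le_of_eq ?_) (Set.toFinite _)).symm
  rw [← Nat.card_coe_set_eq, ← Nat.card_coe_set_eq, B.hbad.card_Za_eq C B.hf B.va, B.ker.cross]
  have h0 : Nat.card (∅ : Set G) = 0 := by simp
  rw [h0, add_zero]
  refine Nat.card_congr (Equiv.ofBijective Sigma.fst ⟨?_, ?_⟩)
  · rintro ⟨e, s, hs⟩ ⟨e', s', hs'⟩ (rfl : e = e')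
    obtain ⟨hb, hba, hex, hp⟩ := B.hbad.mul_Ea C B.hf B.ker.pair B.va e.2
    have key : ∀ {t : G}, t ∈ C.cls (v * e.1) a e.1 → t = e.1 := fun {t} ht => by
      have h1 := B.Om_vx (hEa _ e.2) ((hb.odd_iff C hp hba hex ht.1).1 ht.2)
      rw [eq_inv_of_mul_eq_one_left h1, C.inv_Z ht.1.1.1]
    obtain rfl : s = s' := (key hs).trans (key hs').symm
    rfl
  · intro e
    obtain ⟨-, -, hex, -⟩ := B.hbad.mul_Ea C B.hf B.ker.pair B.va e.2
    exact ⟨⟨e, e.1, hex, by rw [C.mul_self_Z hex.1.1, orderOf_one]; exact odd_one⟩, rfl⟩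

theorem Ea_a {e : G} (he : e ∈ E) : e • a = a := B.hE.le_stab C he

theorem Ecomm {e e' : G} (he : e ∈ E) (he' : e' ∈ E) : Commute e e' := B.hE.commute C he he'

theorem Esq {e : G} (he : e ∈ E) : e * e = 1 := B.hE.mul_self C he

theorem Ev {e : G} (he : e ∈ E) : Commute e v := B.hE.commute_v C he

/-- The stabiliser of `a` normalises `E`. -/
theorem conj_E {g e : G} (hg : g • a = a) (he : e ∈ E) : g * e * g⁻¹ ∈ E := by
  rcases B.mem_E_iff.1 he with rfl | h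
  · simp
  · exact B.mem_E_iff.2 (Or.inr (C.mem_Za_fix hg h))

theorem full_mul {x : G} (hx : x ∈ E) : C.Full (v * x) a E := by
  have hcomm : ∀ e ∈ E, Commute e (v * x) := fun e he => (B.Ev he).mul_right (B.Ecomm he hx)
  rcases eq_or_ne x 1 with rfl | h1
  · rw [mul_one]; exact B.ker.full_v C
  · obtain ⟨hb, hxa, -, -⟩ := B.hbad.mul_Ea C B.hf B.ker.pair B.va (B.hE.mem x hx h1)
    exact ⟨hb, hxa, hcomm, B.ker.size _ hb hxa hcomm⟩

theorem exists_point_mul {x : G} (hx : x ∈ E) :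
    ∃ c : C.Pt, (v * x) • c = c ∧ c ≠ a ∧ (x ≠ 1 → v • c ≠ c) := by
  obtain ⟨c, hca, hc⟩ := (B.full_mul hx).bad.exists_other C a
  refine ⟨c, hc, hca, fun hx1 hvc => hca (C.fix_unique (B.hE.mem x hx hx1).1.1 ?_ (B.Ea_a hx))⟩
  have h1 := congrArg (v • ·) hc
  simp only [smul_smul, ← mul_assoc, B.vv, one_mul, hvc] at h1
  exact h1

theorem exists_ne_one : ∃ x ∈ E, x ≠ 1 := by
  obtain ⟨x₀, hx₀, -⟩ := B.hbad.exists_pair C B.ker.pair B.va
  obtain ⟨e, he, hne, -⟩ := B.hE.cover x₀ hx₀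
  exact ⟨e, he, hne⟩

/-! ### The kernel -/

/-- The elements fixing `a`, `b` and centralising `v` and `E`. -/
def K0 (_B : C.Big v a b E R) : Subgroup G :=
  (MulAction.stabilizer G a ⊓ MulAction.stabilizer G b) ⊓
    (centralizer ({v} : Set G) ⊓ centralizer (E : Set G))

theorem mem_K0 {g : G} :
    g ∈ B.K0 ↔ (g • a = a ∧ g • b = b) ∧ Commute g v ∧ ∀ e ∈ E, Commute e g := by
  simp only [K0, mem_inf, MulAction.mem_stabilizer_iff, mem_centralizer_iff, Set.mem_singleton_iff,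
    forall_eq, SetLike.mem_coe]
  exact ⟨fun h => ⟨h.1, h.2.1.symm, h.2.2⟩, fun h => ⟨h.1, h.2.1.symm, h.2.2⟩⟩

theorem v_K0 : v ∈ B.K0 := B.mem_K0.2 ⟨⟨B.va, B.vb⟩, Commute.refl v, fun _ he => B.Ev he⟩

theorem R_le : R ≤ B.K0 := fun _ hr => B.mem_K0.2 ⟨B.ker.fix _ hr, B.ker.comm _ hr⟩

theorem K0_fixed {g : G} (hg : g ∈ B.K0) {c : C.Pt} (hc : v • c = c) : g • c = c :=
  (B.ker.full_v C).fix_of_commute C B.hE (B.mem_K0.1 hg).1.1 (B.mem_K0.1 hg).2.2 B.vb B.ker.ne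
    (B.mem_K0.1 hg).1.2 hc

theorem K0_L {g : G} (hg : g ∈ B.K0) {l : G} (hl : l ∈ C.L v) : Commute g l :=
  C.commute_L_of_fixed (fun _ ho => B.Om_v ho) (B.mem_K0.1 hg).2.1 (fun _ hc => B.K0_fixed hg hc) hl

/-- An element of the kernel fixing one further point of some `v x` is trivial. -/
theorem K0_free {g : G} (hg : g ∈ B.K0) {x : G} (hx : x ∈ E) (hx1 : x ≠ 1) {c₀ : C.Pt}
    (hc₀ : (v * x) • c₀ = c₀) (hca : c₀ ≠ a) (h : g • c₀ = c₀) : g = 1 := by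
  obtain ⟨⟨hga, -⟩, -, hgE⟩ := B.mem_K0.1 hg
  refine B.faithful g fun c => ?_
  by_cases hc : v • c = c
  · exact B.K0_fixed hg hc
  obtain ⟨w, hw, hwv⟩ := C.exists_swap_commute B.vv (Ne.symm hc)
    (Or.inr ⟨rfl, by rw [smul_smul, B.vv, one_smul]⟩)
  obtain ⟨p, hp⟩ := C.exists_fix hw.1
  obtain ⟨l, hl, -, -, hlw⟩ := B.hbad.exists_carry C ⟨hw.1, hwv⟩ hp (B.hE.mem x hx hx1)
  have hcw : (v * w) • c = c := by rw [mul_smul, hw.2, smul_smul, B.vv, one_smul]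
  have hlc : (v * x) • l • c = l • c := by rw [← hlw, mul_smul, mul_smul, inv_smul_smul, hcw]
  have h1 := (B.full_mul hx).fix_of_commute C B.hE hga hgE hc₀ hca h hlc
  rw [smul_smul, (B.K0_L hg hl).eq, mul_smul] at h1
  exact smul_left_cancel l h1

theorem exists_shift {g : G} (hg : g ∈ B.K0) {x : G} (hx : x ∈ E) {c : C.Pt}
    (hc : (v * x) • c = c) (hca : c ≠ a) : ∃ e ∈ E, e • c = g • c := by
  obtain ⟨⟨hga, -⟩, hgv, hgE⟩ := B.mem_K0.1 hg
  refine (B.full_mul hx).exists_translate C B.hE hc hca ?_ ?_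
  · rw [smul_smul, ← (hgv.mul_right (hgE x hx).symm).eq, mul_smul, hc]
  · exact fun h => hca (smul_left_cancel g (h.trans hga.symm))

/-- **The kernel is elementary.** -/
theorem K0_sq {g : G} (hg : g ∈ B.K0) : g * g = 1 := by
  obtain ⟨x, hx, hx1⟩ := B.exists_ne_one
  obtain ⟨c, hc, hca, -⟩ := B.exists_point_mul hx
  obtain ⟨e, he, hec⟩ := B.exists_shift hg hx hc hca
  refine B.K0_free (mul_mem hg hg) hx hx1 hc hca ?_
  rw [mul_smul, ← hec, smul_smul, ← ((B.mem_K0.1 hg).2.2 e he).eq, mul_smul, ← hec, smul_smul,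
    B.Esq he, one_smul]

theorem kerK0 : C.Ker v a b E B.K0 where
  bad := B.hbad
  faith := B.hf
  pair := B.ker.pair
  fix_a := B.va
  ne := B.ker.ne
  fix_b := B.vb
  isE := B.hE
  cross := B.ker.cross
  size := B.ker.size
  two := fun g => ⟨1, Subtype.ext (by rw [pow_one, sq]; exact B.K0_sq g.2)⟩
  fix := fun _ hr => (B.mem_K0.1 hr).1
  comm := fun _ hr => (B.mem_K0.1 hr).2

theorem four_dvd_K0 : 4 ∣ Nat.card B.K0 := by
  haveI : Fact (Nat.Prime 2) := ⟨Nat.prime_two⟩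
  classical
  obtain ⟨k, hk⟩ := IsPGroup.iff_card.1 B.kerK0.two
  obtain ⟨r, hr, hr1, hrv⟩ := B.big
  have h3 : 3 ≤ Nat.card B.K0 := by
    haveI := Fintype.ofFinite B.K0
    rw [Nat.card_eq_fintype_card]
    have h := Finset.card_le_univ ({1, ⟨r, B.R_le hr⟩, ⟨v, B.v_K0⟩} : Finset B.K0)
    rw [Finset.card_insert_of_notMem, Finset.card_insert_of_notMem, Finset.card_singleton] at h
    · exact h
    · simp only [Finset.mem_singleton]
      exact fun e => hrv (congrArg Subtype.val e)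
    · simp only [Finset.mem_insert, Finset.mem_singleton, not_or]
      exact ⟨fun e => hr1 (congrArg Subtype.val e).symm,
        fun e => ne_one B.hbad.1 (congrArg Subtype.val e).symm⟩
  rw [hk] at h3 ⊢
  exact pow_dvd_pow 2 (show 2 ≤ k by
    by_contra h
    have := Nat.pow_le_pow_right two_pos (show k ≤ 1 by omega)
    omega)

theorem mem_K0_E {g : G} (hg : g ∈ B.K0) (hgE : g ∈ E) : g = 1 :=
  B.hE.free C hgE B.ker.ne (B.mem_K0.1 hg).1.2

/-! ### The translations -/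

/-- The elements fixing `a` that act trivially on `E K₀` modulo `E`. -/
def Nsub (B : C.Big v a b E R) : Subgroup G where
  carrier := {g | g • a = a ∧ ∀ k ∈ B.K0, g * k * g⁻¹ * k⁻¹ ∈ E}
  one_mem' := ⟨one_smul _ a, fun k _ => by simp⟩
  mul_mem' := by
    rintro g h ⟨hg, hg'⟩ ⟨hh, hh'⟩
    refine ⟨by rw [mul_smul, hh, hg], fun k hk => ?_⟩
    rw [show g * h * k * (g * h)⁻¹ * k⁻¹ = g * (h * k * h⁻¹ * k⁻¹) * g⁻¹ * (g * k * g⁻¹ * k⁻¹) by group]
    exact mul_mem (B.conj_E hg (hh' k hk)) (hg' k hk)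
  inv_mem' := by
    rintro g ⟨hg, hg'⟩
    have hga : g⁻¹ • a = a := inv_smul_eq_iff.2 hg.symm
    refine ⟨hga, fun k hk => ?_⟩
    rw [show g⁻¹ * k * g⁻¹⁻¹ * k⁻¹ = g⁻¹ * (g * k * g⁻¹ * k⁻¹)⁻¹ * g⁻¹⁻¹ by group]
    exact B.conj_E hga (inv_mem (hg' k hk))

/-- The translations. -/
def Tsub (B : C.Big v a b E R) : Subgroup G := B.Nsub ⊓ centralizer (E : Set G)

theorem mem_Tsub {g : G} : g ∈ B.Tsub ↔ g ∈ B.Nsub ∧ ∀ e ∈ E, Commute e g := by
  simp only [Tsub, mem_inf, mem_centralizer_iff]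
  rfl

/-- The translation of `v`. -/
def dl (_B : C.Big v a b E R) (g : G) : G := g * v * g⁻¹ * v⁻¹

theorem dl_mem {g : G} (hg : g ∈ B.Nsub) : B.dl g ∈ E := hg.2 v B.v_K0

theorem conj_v {g : G} (hg : g ∈ B.Nsub) : g * v * g⁻¹ = v * B.dl g := by
  rw [← (B.Ev (B.dl_mem hg)).eq, dl, inv_mul_cancel_right]

theorem E_le_T {e : G} (he : e ∈ E) : e ∈ B.Tsub := B.mem_Tsub.2 ⟨⟨B.Ea_a he, fun k hk => by
  rw [((B.mem_K0.1 hk).2.2 e he).eq]; simp⟩, fun _ he' => B.Ecomm he' he⟩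

theorem K0_le_T {k : G} (hk : k ∈ B.K0) : k ∈ B.Tsub := B.mem_Tsub.2 ⟨⟨(B.mem_K0.1 hk).1.1,
  fun k' hk' => by
    have hc : k * k' = k' * k := by
      have h := inv_eq_of_mul_eq_one_right (B.K0_sq (mul_mem hk hk'))
      rw [mul_inv_rev, inv_eq_of_mul_eq_one_right (B.K0_sq hk),
        inv_eq_of_mul_eq_one_right (B.K0_sq hk')] at h
      exact h.symm
    rw [hc]; simp⟩, (B.mem_K0.1 hk).2.2⟩

/-- The translation of `v` as a homomorphism. -/
def dlHom (B : C.Big v a b E R) : B.Tsub →* E where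
  toFun g := ⟨B.dl g, B.dl_mem (B.mem_Tsub.1 g.2).1⟩
  map_one' := Subtype.ext (show B.dl ((1 : B.Tsub) : G) = 1 by simp [dl])
  map_mul' g h := Subtype.ext (show B.dl ((g : G) * h) = B.dl g * B.dl h by
    have hh := B.dl_mem (B.mem_Tsub.1 h.2).1
    have h1 : B.dl ((g : G) * h) = (g : G) * B.dl h * (g : G)⁻¹ * B.dl g := by
      simp only [dl]; group
    rw [h1, ← ((B.mem_Tsub.1 g.2).2 _ hh).eq, mul_inv_cancel_right,
      (B.Ecomm hh (B.dl_mem (B.mem_Tsub.1 g.2).1)).eq])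

/-- A translation fixing the fixed points of `v` setwise lies in `E K₀`. -/
theorem exists_eq_mul {g : G} (hg : g ∈ B.Tsub) (hline : v • (g • b) = g • b) :
    B.dl g = 1 ∧ ∃ e ∈ E, ∃ k ∈ B.K0, g = e * k := by
  obtain ⟨hgN, hgE⟩ := B.mem_Tsub.1 hg
  have hga : g • a = a := hgN.1
  have hgb : g • b ≠ a := fun h => B.ker.ne (smul_left_cancel g (h.trans hga.symm))
  obtain ⟨e, he, hec⟩ := (B.ker.full_v C).exists_translate C B.hE B.vb B.ker.ne hline hgb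
  have hd := B.dl_mem hgN
  have hd1 : B.dl g = 1 := by
    refine B.hE.free C hd hgb ?_
    have h1 : (v * B.dl g) • g • b = g • b := by
      rw [← B.conj_v hgN, mul_smul, mul_smul, inv_smul_smul, B.vb]
    rw [mul_smul] at h1
    have h2 : v • v • B.dl g • g • b = v • g • b := congrArg (v • ·) h1
    rwa [smul_smul v v, B.vv, one_smul, hline] at h2
  refine ⟨hd1, e, he, e⁻¹ * g, B.mem_K0.2 ⟨⟨?_, ?_⟩, ?_, ?_⟩, (mul_inv_cancel_left e g).symm⟩
  · rw [mul_smul, hga, inv_smul_eq_iff, B.Ea_a he]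
  · rw [mul_smul, ← hec, inv_smul_smul]
  · refine (B.Ev (inv_mem he)).mul_left (mul_inv_eq_iff_eq_mul.1 ?_)
    rw [B.conj_v hgN, hd1, mul_one]
  · exact fun e' he' => (B.Ecomm he' (inv_mem he)).mul_right (hgE e' he')

theorem ker_dl {g : G} (hg : g ∈ B.Tsub) :
    B.dl g = 1 ↔ ∃ e ∈ E, ∃ k ∈ B.K0, g = e * k := by
  constructor
  · intro h
    refine (B.exists_eq_mul hg ?_).2
    have h1 : Commute g v :=
      mul_inv_eq_iff_eq_mul.1 (by rw [B.conj_v (B.mem_Tsub.1 hg).1, h, mul_one])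
    rw [smul_smul, ← h1.eq, mul_smul, B.vb]
  · rintro ⟨e, he, k, hk, rfl⟩
    have h1 : Commute (e * k) v := (B.Ev he).mul_left (B.mem_K0.1 hk).2.1
    rw [dl, h1.eq]; group

/-- A translation centralising a nontrivial element of the kernel lies in `E K₀`. -/
theorem dl_one_of_commute {g k : G} (hg : g ∈ B.Tsub) (hk : k ∈ B.K0) (hk1 : k ≠ 1)
    (hc : Commute g k) : B.dl g = 1 := by
  refine (B.exists_eq_mul hg ((B.kerK0.fix_iff C hk
    (orderOf_eq_two (B.K0_sq hk) hk1) _).1 ?_)).1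
  rw [smul_smul, ← hc.eq, mul_smul, (B.mem_K0.1 hk).1.2]

/-- Translations square into `E`. -/
theorem sq_mem_E {g : G} (hg : g ∈ B.Tsub) : g * g ∈ E := by
  have h2 : B.dl (g * g) = 1 := by
    have h := map_mul B.dlHom ⟨g, hg⟩ ⟨g, hg⟩
    exact (congrArg Subtype.val h).trans (B.Esq (B.dl_mem (B.mem_Tsub.1 hg).1))
  obtain ⟨e, he, k, hk, hek⟩ := (B.ker_dl (mul_mem hg hg)).1 h2
  by_cases hk1 : k = 1
  · rw [hek, hk1, mul_one]; exact he
  have hge : Commute g e := ((B.mem_Tsub.1 hg).2 e he).symm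
  have hc : Commute g k := by
    have h1 : Commute g (e * k) := hek ▸ (Commute.refl g).mul_right (Commute.refl g)
    rw [show k = e⁻¹ * (e * k) by group]
    exact hge.inv_right.mul_right h1
  obtain ⟨e', he', k', hk', rfl⟩ := (B.ker_dl hg).1 (B.dl_one_of_commute hg hk hk1 hc)
  rw [((B.mem_K0.1 hk').2.2 e' he').symm.mul_mul_mul_comm, B.Esq he', B.K0_sq hk', mul_one]
  exact one_mem _

/-! ### The tori -/

theorem exists_torus_v : ∃ t : G, t ∈ B.Nsub ∧ Commute t v ∧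
    (∀ k ∈ B.K0, Commute t k) ∧
      ∀ e ∈ E, ∀ e' ∈ E, e ≠ 1 → e' ≠ 1 → ∃ m : ℕ, t ^ m * e * (t ^ m)⁻¹ = e' := by
  obtain ⟨t, htL, hta, -, -, htr, -, -⟩ := B.hbad.exists_torus C B.ker.pair B.va B.vb B.ker.ne B.hE
    (B.ker.full_v C).size
  have hc : ∀ k ∈ B.K0, Commute t k := fun k hk => (B.K0_L hk htL).symm
  exact ⟨t, ⟨hta, fun k hk => by rw [(hc k hk).eq]; simp⟩, C.commute_of_mem_L htL, hc, htr⟩

theorem exists_torus_mul {x : G} (hx : x ∈ E) (hx1 : x ≠ 1) :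
    ∃ t : G, t ∈ B.Nsub ∧ Commute t (v * x) ∧
      ∀ e ∈ E, ∀ e' ∈ E, e ≠ 1 → e' ≠ 1 → ∃ m : ℕ, t ^ m * e * (t ^ m)⁻¹ = e' := by
  obtain ⟨hb, hxa, -, hp⟩ := B.hbad.mul_Ea C B.hf B.ker.pair B.va (B.hE.mem x hx hx1)
  have hfull := B.full_mul hx
  obtain ⟨c, hc, hca, -⟩ := B.exists_point_mul hx
  have hEu : C.IsE (v * x) a E :=
    ⟨fun e he h1 => ⟨(B.hE.mem e he h1).1, hfull.comm e he⟩, fun y hy =>
      ⟨y, B.mem_E_iff.2 (Or.inr hy.1), ne_one (C.orderOf_Z hy.1.1),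
        by rw [C.mul_self_Z hy.1.1, orderOf_one]; exact odd_one⟩⟩
  obtain ⟨t, htL, hta, -, -, htr, -, -⟩ := hb.exists_torus C hp hxa hc hca hEu hfull.size
  refine ⟨t, ⟨hta, fun k hk => ?_⟩, C.commute_of_mem_L htL, htr⟩
  obtain ⟨e, he, hec⟩ := B.exists_shift hk hx hc hca
  obtain ⟨⟨hka, -⟩, hkv, hkE⟩ := B.mem_K0.1 hk
  -- `e k` fixes every fixed point of `v x`
  have hl : ∀ d : C.Pt, (v * x) • d = d → (e * k) • d = d := fun d hd => by
    refine hfull.fix_of_commute C B.hE ?_ ?_ hc hca ?_ hd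
    · rw [mul_smul, hka, B.Ea_a he]
    · exact fun e' he' => (B.Ecomm he' he).mul_right (hkE e' he')
    · rw [mul_smul, ← hec, smul_smul, B.Esq he, one_smul]
  have h1 : Commute (e * k) t := C.commute_L_of_fixed (fun _ ho => B.Om_vx hx ho)
    ((hfull.comm e he).mul_left (hkv.mul_right (hkE x hx).symm)) hl htL
  have h2 : t * k * t⁻¹ * k⁻¹ = (t * e * t⁻¹) * e := by
    rw [show k = e * (e * k) by rw [← mul_assoc, B.Esq he, one_mul]]
    rw [show t * (e * (e * k)) * t⁻¹ * (e * (e * k))⁻¹ =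
      t * e * t⁻¹ * (t * (e * k) * t⁻¹) * (e * k)⁻¹ * e⁻¹ by group,
      ← h1.eq, mul_inv_cancel_right, mul_inv_cancel_right, inv_eq_of_mul_eq_one_right (B.Esq he)]
  rw [h2]
  exact mul_mem (B.conj_E hta he) he

/-- **Some translation moves `v`.** -/
theorem exists_translation : ∃ g ∈ B.Tsub, B.dl g ≠ 1 := by
  classical
  obtain ⟨r, hrR, hr1, hrv⟩ := B.big
  have hr := B.R_le hrR
  obtain ⟨⟨hra, -⟩, hrcv, hrE⟩ := B.mem_K0.1 hr
  -- the companion of `e` : `r e'` fixes the fixed points of `v e`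
  let P : G → G → Prop := fun e e' => ∀ d : C.Pt, (v * e) • d = d → (r * e') • d = d
  have huniq : ∀ {e e₁ e₂ : G}, e ∈ E → e₁ ∈ E → e₂ ∈ E → P e e₁ → P e e₂ → e₁ = e₂ := by
    intro e e₁ e₂ he he₁ he₂ h₁ h₂
    obtain ⟨c, hc, hca, -⟩ := B.exists_point_mul he
    have h := (h₁ c hc).trans (h₂ c hc).symm
    rw [mul_smul, mul_smul] at h
    exact inv_mul_eq_one.1 (B.hE.free C (mul_mem (inv_mem he₁) he₂) hca
      (by rw [mul_smul, ← smul_left_cancel r h, inv_smul_smul]))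
  have hex : ∀ e ∈ E, ∃ e' ∈ E, P e e' := by
    intro e he
    obtain ⟨c, hc, hca, -⟩ := B.exists_point_mul he
    obtain ⟨e', he', hec⟩ := B.exists_shift hr he hc hca
    refine ⟨e', he', fun d hd => (B.full_mul he).fix_of_commute C B.hE ?_ ?_ hc hca ?_ hd⟩
    · rw [mul_smul, B.Ea_a he', hra]
    · exact fun f hf => (hrE f hf).mul_right (B.Ecomm hf he')
    · rw [mul_smul, hec, smul_smul, B.K0_sq hr, one_smul]
  have hconj : ∀ {g e e' : G}, g ∈ B.Nsub → e ∈ E → e' ∈ E → P e e' →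
      P (B.dl g * (g * e * g⁻¹)) (g * r * g⁻¹ * r⁻¹ * (g * e' * g⁻¹)) := by
    intro g e e' hg he he' hP d hd
    have h1 : g * (v * e) * g⁻¹ = v * (B.dl g * (g * e * g⁻¹)) := by
      rw [← mul_assoc v, ← B.conj_v hg]; group
    have hcr := hg.2 r hr
    have h2 : g * (r * e') * g⁻¹ = r * (g * r * g⁻¹ * r⁻¹ * (g * e' * g⁻¹)) := by
      rw [← mul_assoc r, ← (hrE _ hcr).eq]; group
    rw [← h2, mul_smul, mul_smul, hP, smul_inv_smul]
    rw [← h1, mul_smul, mul_smul, eq_inv_smul_iff.symm] at hd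
    exact hd
  obtain ⟨x₁, hx₁, hx₁1⟩ := B.exists_ne_one
  obtain ⟨t, ht, htv, htK, htr⟩ := B.exists_torus_v
  obtain ⟨y₁, hy₁, hP₁⟩ := hex x₁ hx₁
  have hne_one : ∀ {e e' : G}, e ∈ E → e ≠ 1 → e' ∈ E → P e e' → e' ≠ 1 ∧ e' ≠ e := by
    intro e e' he he1 he' hP
    obtain ⟨c, hc, hca, hvc⟩ := B.exists_point_mul he
    refine ⟨fun h => hr1 (B.K0_free hr he he1 hc hca ?_), fun h => hrv ?_⟩
    · have := hP c hc
      rwa [h, mul_one] at this
    · have h3 : (r * v) • c = c := by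
        have h4 := hP c hc
        rw [h] at h4
        calc (r * v) • c = (r * v) • (v * e) • c := by rw [hc]
          _ = (r * e) • c := by rw [smul_smul, mul_assoc r v, ← mul_assoc v v, B.vv, one_mul]
          _ = c := h4
      rw [eq_inv_of_mul_eq_one_left (B.K0_free (mul_mem hr B.v_K0) he he1 hc hca h3),
        inv_eq_self B.hbad.1]
  obtain ⟨l, hl⟩ := htr x₁ hx₁ y₁ hy₁ hx₁1 (hne_one hx₁ hx₁1 hy₁ hP₁).1
  set τ := t ^ l with hτdef
  have hτ : τ ∈ B.Nsub := pow_mem ht l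
  have hP1 : P 1 1 := fun d hd => by rw [mul_one] at hd ⊢; exact B.K0_fixed hr hd
  -- the companion is given by `τ`
  have hPτ : ∀ e ∈ E, P e (τ * e * τ⁻¹) := by
    intro e he
    rcases eq_or_ne e 1 with rfl | he1
    · simpa using hP1
    obtain ⟨m, hm⟩ := htr x₁ hx₁ e he hx₁1 he1
    have h1 := hconj (pow_mem ht m) hx₁ hy₁ hP₁
    have hd : B.dl (t ^ m) = 1 := by
      rw [dl, (htv.pow_left m).eq]; simp
    have hd' : t ^ m * r * (t ^ m)⁻¹ * r⁻¹ = 1 := by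
      rw [((htK r hr).pow_left m).eq]; simp
    rw [hd, hd', one_mul, one_mul, hm] at h1
    convert h1 using 1
    rw [← hm, ← hl]
    have hc : t ^ m * τ = τ * t ^ m := by rw [hτdef, ← pow_add, ← pow_add, add_comm]
    calc τ * (t ^ m * x₁ * (t ^ m)⁻¹) * τ⁻¹ = (τ * t ^ m) * x₁ * (τ * t ^ m)⁻¹ := by group
      _ = (t ^ m * τ) * x₁ * (t ^ m * τ)⁻¹ := by rw [hc]
      _ = _ := by group
  -- an element moving `v`
  obtain ⟨t', ht', ht'x, htr'⟩ := B.exists_torus_mul hx₁ hx₁1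
  set x₂ := τ * x₁ * τ⁻¹ with hx₂def
  have hx₂E : x₂ ∈ E := B.conj_E hτ.1 hx₁
  have hx₂1 : x₂ ≠ 1 := fun h => hx₁1 (conj_eq_one_iff.1 h)
  have hx₂x : x₂ ≠ x₁ := fun h => (hne_one hx₁ hx₁1 hx₂E (hPτ x₁ hx₁)).2 h
  obtain ⟨m, hm⟩ := htr' x₁ hx₁ x₂ hx₂E hx₁1 hx₂1
  set g := t' ^ m with hgdef
  have hg : g ∈ B.Nsub := pow_mem ht' m
  have hgv : g * v * g⁻¹ = v * (x₁ * x₂) := by
    calc g * v * g⁻¹ = g * ((v * x₁) * x₁) * g⁻¹ := by rw [mul_assoc v, B.Esq hx₁, mul_one]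
      _ = (g * (v * x₁) * g⁻¹) * (g * x₁ * g⁻¹) := by group
      _ = (v * x₁) * x₂ := by rw [(ht'x.pow_left m).eq, mul_inv_cancel_right, hm]
      _ = _ := mul_assoc _ _ _
  set c := B.dl g with hcdef
  have hcE : c ∈ E := B.dl_mem hg
  have hcc : c = x₁ * x₂ := mul_left_cancel ((B.conj_v hg).symm.trans hgv)
  have hc1 : c ≠ 1 := fun h => hx₂x (by
    rw [eq_inv_of_mul_eq_one_right (hcc.symm.trans h), inv_eq_of_mul_eq_one_right (B.Esq hx₁)])
  -- `τ` commutes with `g` on `E`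
  have hga := hg.1
  have hτga : ∀ e ∈ E, τ * (g * e * g⁻¹) * τ⁻¹ = g * (τ * e * τ⁻¹) * g⁻¹ := by
    intro e he
    have hcr := hg.2 r hr
    have h1 : P c (g * r * g⁻¹ * r⁻¹) := by
      have h := hconj hg (one_mem E) (one_mem E) hP1
      simpa using h
    have h2 : τ * c * τ⁻¹ = g * r * g⁻¹ * r⁻¹ :=
      huniq hcE (B.conj_E hτ.1 hcE) hcr (hPτ c hcE) h1
    have h3 := hconj hg he (B.conj_E hτ.1 he) (hPτ e he)
    have h4 : τ * (c * (g * e * g⁻¹)) * τ⁻¹ = g * r * g⁻¹ * r⁻¹ * (g * (τ * e * τ⁻¹) * g⁻¹) :=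
      huniq (mul_mem hcE (B.conj_E hga he)) (B.conj_E hτ.1 (mul_mem hcE (B.conj_E hga he)))
        (mul_mem hcr (B.conj_E hga (B.conj_E hτ.1 he))) (hPτ _ (mul_mem hcE (B.conj_E hga he))) h3
    rw [← conj_mul, h2] at h4
    exact mul_left_cancel h4
  have hgi : g⁻¹ • a = a := inv_smul_eq_iff.2 hga.symm
  refine ⟨g * τ * g⁻¹ * τ⁻¹, B.mem_Tsub.2
    ⟨mul_mem (mul_mem (mul_mem hg hτ) (inv_mem hg)) (inv_mem hτ), fun e he => ?_⟩, ?_⟩
  · -- centralises `E`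
    set f := τ⁻¹ * e * τ with hfdef
    have hf : f ∈ E := by
      have := B.conj_E (inv_mem hτ).1 he
      rwa [inv_inv] at this
    have hf' : g⁻¹ * f * g ∈ E := by
      have := B.conj_E hgi hf
      rwa [inv_inv] at this
    have h5 : g * τ * g⁻¹ * τ⁻¹ * e * (g * τ * g⁻¹ * τ⁻¹)⁻¹ = e := by
      calc g * τ * g⁻¹ * τ⁻¹ * e * (g * τ * g⁻¹ * τ⁻¹)⁻¹
          = g * (τ * (g⁻¹ * f * g) * τ⁻¹) * g⁻¹ := by rw [hfdef]; group
        _ = τ * (g * (g⁻¹ * f * g) * g⁻¹) * τ⁻¹ := (hτga _ hf').symm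
        _ = e := by rw [hfdef]; group
    exact (mul_inv_eq_iff_eq_mul.1 h5).symm
  · -- moves `v`
    have hτv : Commute τ v := htv.pow_left l
    set d := g⁻¹ * c * g with hddef
    have hdE : d ∈ E := by
      have := B.conj_E hgi hcE
      rwa [inv_inv] at this
    have hinv : g⁻¹ * v * g = v * d := by
      have h : g * (v * d) * g⁻¹ = v := by
        rw [show g * (v * d) * g⁻¹ = g * v * g⁻¹ * c by rw [hddef]; group, B.conj_v hg,
          mul_assoc, B.Esq hcE, mul_one]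
      conv_lhs => rw [← h]
      group
    have hv2 : B.dl (g * τ * g⁻¹ * τ⁻¹) = c * (τ * c * τ⁻¹) := by
      have h1 : g * τ * g⁻¹ * τ⁻¹ * v * (g * τ * g⁻¹ * τ⁻¹)⁻¹ = v * c * (τ * c * τ⁻¹) :=
        calc g * τ * g⁻¹ * τ⁻¹ * v * (g * τ * g⁻¹ * τ⁻¹)⁻¹
            = g * (τ * (g⁻¹ * (τ⁻¹ * v * τ) * g) * τ⁻¹) * g⁻¹ := by group
          _ = g * (τ * (g⁻¹ * v * g) * τ⁻¹) * g⁻¹ := by
              rw [hτv.inv_left.eq, inv_mul_cancel_right]
          _ = g * ((τ * v * τ⁻¹) * (τ * d * τ⁻¹)) * g⁻¹ := by rw [hinv]; group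
          _ = (g * v * g⁻¹) * (g * (τ * d * τ⁻¹) * g⁻¹) := by
              rw [hτv.eq, mul_inv_cancel_right]; group
          _ = v * c * (τ * (g * d * g⁻¹) * τ⁻¹) := by rw [B.conj_v hg, ← hτga d hdE]
          _ = _ := by rw [hddef]; group
      have hm' : v * (c * (τ * c * τ⁻¹)) = c * (τ * c * τ⁻¹) * v :=
        (B.Ev (mul_mem hcE (B.conj_E hτ.1 hcE))).eq.symm
      show g * τ * g⁻¹ * τ⁻¹ * v * (g * τ * g⁻¹ * τ⁻¹)⁻¹ * v⁻¹ = _
      rw [h1, mul_assoc v, hm', mul_inv_cancel_right]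
    rw [hv2]
    intro h
    exact (hne_one hcE hc1 (B.conj_E hτ.1 hcE) (hPτ c hcE)).2
      ((eq_inv_of_mul_eq_one_right h).trans (inv_eq_of_mul_eq_one_right (B.Esq hcE)))

theorem dlHom_surjective : Function.Surjective B.dlHom := by
  obtain ⟨g, hg, hg1⟩ := B.exists_translation
  obtain ⟨t, ht, htv, htK, htr⟩ := B.exists_torus_v
  rintro ⟨e, he⟩
  rcases eq_or_ne e 1 with rfl | he1
  · exact ⟨1, map_one _⟩
  obtain ⟨m, hm⟩ := htr _ (B.dl_mem (B.mem_Tsub.1 hg).1) e he hg1 he1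
  obtain ⟨hgN, hgE⟩ := B.mem_Tsub.1 hg
  refine ⟨⟨t ^ m * g * (t ^ m)⁻¹, B.mem_Tsub.2
    ⟨mul_mem (mul_mem (pow_mem ht m) hgN) (inv_mem (pow_mem ht m)), fun f hf => ?_⟩⟩, Subtype.ext ?_⟩
  · have h1 := B.conj_E (inv_mem (pow_mem ht m)).1 hf
    rw [show f = t ^ m * ((t ^ m)⁻¹ * f * (t ^ m)⁻¹⁻¹) * (t ^ m)⁻¹ by group, Commute.conj_iff]
    exact hgE _ h1
  · show B.dl (t ^ m * g * (t ^ m)⁻¹) = e
    have hv' : Commute (t ^ m) v := htv.pow_left m
    rw [← hm]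
    simp only [dl]
    rw [show t ^ m * g * (t ^ m)⁻¹ * v * (t ^ m * g * (t ^ m)⁻¹)⁻¹ * v⁻¹ =
      t ^ m * g * ((t ^ m)⁻¹ * v * t ^ m) * g⁻¹ * ((t ^ m)⁻¹ * v⁻¹ * t ^ m) * (t ^ m)⁻¹ by group,
      hv'.inv_left.eq, inv_mul_cancel_right, hv'.inv_left.inv_right.eq, inv_mul_cancel_right]
    group

theorem card_ker : Nat.card B.dlHom.ker = Nat.card E * Nat.card B.K0 := by
  rw [← Nat.card_prod]
  refine Nat.card_congr (Equiv.ofBijective (fun p : E × B.K0 =>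
    (⟨⟨p.1 * p.2, mul_mem (B.E_le_T p.1.2) (B.K0_le_T p.2.2)⟩, Subtype.ext
      ((B.ker_dl (mul_mem (B.E_le_T p.1.2) (B.K0_le_T p.2.2))).2
        ⟨_, p.1.2, _, p.2.2, rfl⟩)⟩ : B.dlHom.ker)) ⟨?_, ?_⟩).symm
  · rintro ⟨e, k⟩ ⟨e', k'⟩ h
    have h1 : (e : G) * k = e' * k' := congrArg (fun z : B.dlHom.ker => ((z : B.Tsub) : G)) h
    have h2 : (e' : G)⁻¹ * e = k' * (k : G)⁻¹ :=
      eq_mul_inv_of_mul_eq (by rw [mul_assoc, h1, inv_mul_cancel_left])
    have h3 := B.mem_K0_E (h2 ▸ mul_mem k'.2 (inv_mem k.2)) (mul_mem (inv_mem e'.2) e.2)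
    obtain rfl : e' = e := Subtype.ext (inv_mul_eq_one.1 h3)
    exact Prod.ext rfl (Subtype.ext (mul_left_cancel h1))
  · rintro ⟨⟨g, hg⟩, hker⟩
    obtain ⟨e, he, k, hk, rfl⟩ := (B.ker_dl hg).1 (congrArg Subtype.val hker)
    exact ⟨(⟨e, he⟩, ⟨k, hk⟩), rfl⟩

theorem card_Tsub : Nat.card B.Tsub = Nat.card E * Nat.card E * Nat.card B.K0 := by
  rw [← B.dlHom.ker.index_mul_card, B.card_ker, index_ker,
    MonoidHom.range_eq_top.2 B.dlHom_surjective, card_top]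
  ring

/-! ### The count -/

/-- The involutions among the translations outside `E`, over a given translation of `v`. -/
def J (B : C.Big v a b E R) (e : G) : Set G :=
  {s | s ∈ B.Tsub ∧ s * s = 1 ∧ s ∉ E ∧ B.dl s = e}

theorem card_J_one : Nat.card (B.J 1) = Nat.card E * (Nat.card B.K0 - 1) := by
  classical
  haveI := Fintype.ofFinite B.K0
  have e1 : Nat.card {k : B.K0 // k ≠ 1} = Nat.card B.K0 - 1 := by
    rw [Nat.card_eq_fintype_card, Nat.card_eq_fintype_card, Fintype.card_subtype_compl,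
      Fintype.card_subtype_eq]
  rw [← e1, ← Nat.card_prod]
  refine Nat.card_congr (Equiv.ofBijective (fun p : E × {k : B.K0 // k ≠ 1} =>
    (⟨(p.1 : G) * p.2.1.1, mul_mem (B.E_le_T p.1.2) (B.K0_le_T p.2.1.2), ?_, ?_, ?_⟩ : B.J 1)) ⟨?_, ?_⟩).symm
  · rw [((B.mem_K0.1 p.2.1.2).2.2 _ p.1.2).symm.mul_mul_mul_comm, B.Esq p.1.2, B.K0_sq p.2.1.2, mul_one]
  · intro h
    refine p.2.2 (Subtype.ext (B.mem_K0_E p.2.1.2 ?_))
    have := mul_mem (inv_mem p.1.2) h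
    rwa [inv_mul_cancel_left] at this
  · exact (B.ker_dl (mul_mem (B.E_le_T p.1.2) (B.K0_le_T p.2.1.2))).2 ⟨_, p.1.2, _, p.2.1.2, rfl⟩
  · rintro ⟨e, k, hk⟩ ⟨e', k', hk'⟩ h
    have h1 : (e : G) * k = e' * k' := congrArg Subtype.val h
    have h2 : (e' : G)⁻¹ * e = k' * (k : G)⁻¹ :=
      eq_mul_inv_of_mul_eq (by rw [mul_assoc, h1, inv_mul_cancel_left])
    have h3 := B.mem_K0_E (h2 ▸ mul_mem k'.2 (inv_mem k.2)) (mul_mem (inv_mem e'.2) e.2)
    obtain rfl : e' = e := Subtype.ext (inv_mul_eq_one.1 h3)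
    obtain rfl : k = k' := Subtype.ext (mul_left_cancel h1)
    rfl
  · rintro ⟨s, hs, hss, hsE, hd⟩
    obtain ⟨e, he, k, hk, rfl⟩ := (B.ker_dl hs).1 hd
    exact ⟨(⟨e, he⟩, ⟨⟨k, hk⟩, fun h => hsE (by
      rw [show k = 1 from congrArg Subtype.val h, mul_one]; exact he)⟩), rfl⟩

theorem card_J {e : G} (he1 : e ≠ 1) : Nat.card (B.J e) = 0 ∨ Nat.card (B.J e) = Nat.card E := by
  rcases isEmpty_or_nonempty (B.J e) with h | ⟨⟨s, hs, hss, hsE, hd⟩⟩
  · exact Or.inl Nat.card_of_isEmpty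
  refine Or.inr (Nat.card_congr (Equiv.ofBijective (fun f : E =>
    (⟨s * f, mul_mem hs (B.E_le_T f.2), ?_, ?_, ?_⟩ : B.J e)) ⟨?_, ?_⟩).symm)
  · rw [(((B.mem_Tsub.1 hs).2 _ f.2)).mul_mul_mul_comm, hss, B.Esq f.2, mul_one]
  · intro h
    refine hsE ?_
    have := mul_mem h (inv_mem f.2)
    rwa [mul_inv_cancel_right] at this
  · have h := map_mul B.dlHom ⟨s, hs⟩ ⟨f, B.E_le_T f.2⟩
    have hf : B.dlHom ⟨f, B.E_le_T f.2⟩ = 1 := Subtype.ext (show B.dl (f : G) = 1 from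
      (B.ker_dl (B.E_le_T f.2)).2 ⟨_, f.2, 1, one_mem _, (mul_one _).symm⟩)
    rw [hf, mul_one] at h
    exact (congrArg Subtype.val h).trans hd
  · exact fun f f' h => Subtype.ext (mul_left_cancel (congrArg Subtype.val h))
  · rintro ⟨s', hs', hss', -, hd'⟩
    have h1 : B.dl (s * s') = 1 := by
      have h := map_mul B.dlHom ⟨s, hs⟩ ⟨s', hs'⟩
      refine (congrArg Subtype.val h).trans ?_
      show B.dl s * B.dl s' = 1
      rw [hd, hd', ← hd]
      exact B.Esq (B.dl_mem (B.mem_Tsub.1 hs).1)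
    obtain ⟨f, hf, k, hk, hfk⟩ := (B.ker_dl (mul_mem hs hs')).1 h1
    have hs'e : s' = s * (f * k) := by rw [← hfk, ← mul_assoc, hss, one_mul]
    have hk1 : k = 1 := by
      by_contra hk1
      refine he1 (hd.symm.trans (B.dl_one_of_commute hs hk hk1 ?_))
      have hsf := ((B.mem_Tsub.1 hs).2 f hf)
      have hfk' := (B.mem_K0.1 hk).2.2 f hf
      have h3 : s * k * (s * k) = 1 := by
        have h4 : s * (f * k) = f * (s * k) := by rw [← mul_assoc, ← hsf.eq, mul_assoc]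
        rw [hs'e, h4, ((hsf.mul_right hfk').symm).mul_mul_mul_comm, B.Esq hf, one_mul] at hss'
        exact hss'
      have h5 := eq_inv_of_mul_eq_one_left h3
      rw [mul_inv_rev, inv_eq_of_mul_eq_one_right hss, inv_eq_of_mul_eq_one_right (B.K0_sq hk)] at h5
      exact h5
    exact ⟨⟨f, hf⟩, Subtype.ext (show s * f = s' by rw [hs'e, hk1, mul_one])⟩

theorem card_J_eq {e e' : G} (he : e ∈ E) (he' : e' ∈ E) (h1 : e ≠ 1) (h1' : e' ≠ 1) :
    Nat.card (B.J e) = Nat.card (B.J e') := by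
  obtain ⟨t, ht, htv, -, htr⟩ := B.exists_torus_v
  have key : ∀ {e e' : G}, e ∈ E → e' ∈ E → e ≠ 1 → e' ≠ 1 →
      Nat.card (B.J e) ≤ Nat.card (B.J e') := by
    intro e e' he he' h1 h1'
    obtain ⟨m, hm⟩ := htr e he e' he' h1 h1'
    have hgN := pow_mem ht m
    have hgv : Commute (t ^ m) v := htv.pow_left m
    refine Nat.card_le_card_of_injective (fun s : B.J e =>
      (⟨t ^ m * s * (t ^ m)⁻¹, ?_, ?_, ?_, ?_⟩ : B.J e')) fun s s' h =>
        Subtype.ext (mul_left_cancel (mul_right_cancel (congrArg Subtype.val h)))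
    · obtain ⟨hsN, hsE⟩ := B.mem_Tsub.1 s.2.1
      refine B.mem_Tsub.2 ⟨mul_mem (mul_mem hgN hsN) (inv_mem hgN), fun f hf => ?_⟩
      rw [show f = t ^ m * ((t ^ m)⁻¹ * f * (t ^ m)⁻¹⁻¹) * (t ^ m)⁻¹ by group, Commute.conj_iff]
      exact hsE _ (B.conj_E (inv_mem hgN).1 hf)
    · rw [show t ^ m * (s : G) * (t ^ m)⁻¹ * (t ^ m * (s : G) * (t ^ m)⁻¹) =
          t ^ m * ((s : G) * s) * (t ^ m)⁻¹ by group, s.2.2.1, mul_one, mul_inv_cancel]
    · intro h
      refine s.2.2.2.1 ?_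
      have h2 := B.conj_E (inv_mem hgN).1 h
      rwa [show (t ^ m)⁻¹ * (t ^ m * (s : G) * (t ^ m)⁻¹) * (t ^ m)⁻¹⁻¹ = s by group] at h2
    · refine Eq.trans ?_ ((congrArg (fun x => t ^ m * x * (t ^ m)⁻¹) s.2.2.2.2).trans hm)
      simp only [dl]
      rw [show t ^ m * (s : G) * (t ^ m)⁻¹ * v * (t ^ m * (s : G) * (t ^ m)⁻¹)⁻¹ * v⁻¹ =
        t ^ m * (s : G) * ((t ^ m)⁻¹ * v * t ^ m) * (s : G)⁻¹ * ((t ^ m)⁻¹ * v⁻¹ * t ^ m) * (t ^ m)⁻¹ by
          group,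
        hgv.inv_left.eq, inv_mul_cancel_right, hgv.inv_left.inv_right.eq, inv_mul_cancel_right]
      group
  exact le_antisymm (key he he' h1 h1') (key he' he h1' h1)

/-- The points fixed by a translation. -/
theorem card_fixed [DecidableEq G] [DecidablePred (· ∈ E)] (g : B.Tsub) :
    Nat.card (MulAction.fixedBy C.Pt g) = 1 + (if g = 1 then Nat.card E ^ 3 else 0) +
      (if (g : G) * g = 1 ∧ (g : G) ∉ E then Nat.card E else 0) := by
  obtain ⟨g, hg⟩ := g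
  obtain ⟨hgN, hgE⟩ := B.mem_Tsub.1 hg
  show Nat.card {c : C.Pt // g • c = c} = _
  by_cases h1 : g = 1
  · subst h1
    rw [if_pos (by rfl), if_neg (fun h => h.2 (one_mem E)), add_zero, add_comm 1, ← B.n_eq]
    exact Nat.card_congr (Equiv.subtypeUnivEquiv fun c => one_smul G c)
  rw [if_neg (fun h => h1 (congrArg Subtype.val h)), add_zero]
  by_cases h2 : g * g = 1 ∧ g ∉ E
  · rw [if_pos h2, add_comm]
    have ho : orderOf g = 2 := orderOf_eq_two h2.1 h1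
    have hbad : C.Bad g := (C.mem_Z_or_bad B.hf ho).resolve_left fun h =>
      h2.2 (B.mem_E_iff.2 (Or.inr ⟨h, hgN.1⟩))
    rw [show Nat.card {c : C.Pt // g • c = c} = C.fn g from rfl, C.fn_eq hgN.1,
      B.ker.size g hbad hgN.1 hgE]
  · rw [if_neg h2, add_zero]
    refine Nat.card_eq_one_iff_unique.2 ⟨⟨fun c d => Subtype.ext ?_⟩, ⟨⟨a, hgN.1⟩⟩⟩
    have key : ∀ c : C.Pt, g • c = c → c = a := by
      intro c hc
      by_contra hca
      by_cases hgEm : g ∈ E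
      · exact h1 (B.hE.free C hgEm hca hc)
      refine h2 ⟨B.hE.free C (B.sq_mem_E hg) hca (by rw [mul_smul, hc, hc]), hgEm⟩
    rw [key c.1 c.2, key d.1 d.2]

theorem card_invol :
    ∃ s : ℕ, (s = 0 ∨ s = 1) ∧ Nat.card {g : B.Tsub // (g : G) * g = 1 ∧ (g : G) ∉ E} =
      Nat.card E * (Nat.card B.K0 - 1) + (Nat.card E - 1) * (Nat.card E * s) := by
  classical
  haveI := Fintype.ofFinite E
  obtain ⟨x₁, hx₁, hx₁1⟩ := B.exists_ne_one
  obtain ⟨s, hs, hJ⟩ : ∃ s : ℕ, (s = 0 ∨ s = 1) ∧ Nat.card (B.J x₁) = Nat.card E * s := by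
    rcases B.card_J hx₁1 with h | h
    · exact ⟨0, Or.inl rfl, by rw [h, mul_zero]⟩
    · exact ⟨1, Or.inr rfl, by rw [h, mul_one]⟩
  refine ⟨s, hs, ?_⟩
  have e : {g : B.Tsub // (g : G) * g = 1 ∧ (g : G) ∉ E} ≃ Σ f : E, B.J f :=
    { toFun := fun g => ⟨⟨B.dl g.1, B.dl_mem (B.mem_Tsub.1 g.1.2).1⟩, g.1.1, g.1.2, g.2.1, g.2.2, rfl⟩
      invFun := fun p => ⟨⟨p.2.1, p.2.2.1⟩, p.2.2.2.1, p.2.2.2.2.1⟩
      left_inv := fun _ => rfl
      right_inv := by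
        rintro ⟨⟨f, hf⟩, g, hg, hgg, hgE, hgf⟩
        obtain rfl : B.dl g = f := hgf
        rfl }
  rw [Nat.card_congr e, Nat.card_sigma, ← Finset.add_sum_erase _ _ (Finset.mem_univ (1 : E)),
    coe_one, B.card_J_one, Finset.sum_congr rfl (fun f hf => (B.card_J_eq f.2 hx₁
      (fun h => Finset.ne_of_mem_erase hf (Subtype.ext h)) hx₁1).trans hJ),
    Finset.sum_const, smul_eq_mul, Finset.card_erase_of_mem (Finset.mem_univ _), Finset.card_univ,
    ← Nat.card_eq_fintype_card]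

/-- **A kernel larger than `⟨v⟩` is impossible.** -/
theorem false_of_big : False := by
  classical
  haveI : Fact (Nat.Prime 2) := ⟨Nat.prime_two⟩
  haveI := Fintype.ofFinite B.Tsub
  have hsum := card_dvd_sum_fixed (K := B.Tsub) (X := C.Pt)
  rw [Nat.card_sigma, Finset.sum_congr rfl (fun g _ => B.card_fixed g), Finset.sum_add_distrib,
    Finset.sum_add_distrib, Finset.sum_const, smul_eq_mul, mul_one, Finset.card_univ,
    ← Nat.card_eq_fintype_card, Finset.sum_ite_eq' Finset.univ (1 : B.Tsub),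
    if_pos (Finset.mem_univ _), ← Finset.sum_filter, Finset.sum_const, smul_eq_mul,
    ← Fintype.card_subtype, ← Nat.card_eq_fintype_card] at hsum
  obtain ⟨s, hs, hI⟩ := B.card_invol
  rw [hI, B.card_Tsub] at hsum
  obtain ⟨k, hk⟩ := B.four_dvd_K0
  obtain ⟨n, hn⟩ := IsPGroup.iff_card.1 (B.hE.isPGroup C)
  have hE2 : 2 ≤ Nat.card E := by
    obtain ⟨x, hx, hx1⟩ := B.exists_ne_one
    exact Finite.one_lt_card_iff_nontrivial.2 ⟨⟨x, hx⟩, 1, fun h => hx1 (congrArg Subtype.val h)⟩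
  have heven : 2 ∣ Nat.card E := by
    rw [hn]
    refine dvd_pow_self 2 fun h => ?_
    rw [hn, h] at hE2
    omega
  have hk0 : 0 < k := by
    rcases Nat.eq_zero_or_pos k with h | h
    · have := Nat.card_pos (α := B.K0)
      omega
    · exact h
  rw [hk] at hsum
  generalize Nat.card E = q at *
  rw [add_assoc, Nat.dvd_add_right dvd_rfl,
    show q ^ 3 + (q * (4 * k - 1) + (q - 1) * (q * s)) * q = q * q * (q + (4 * k - 1) + (q - 1) * s) by
      ring] at hsum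
  have h4 : 4 ∣ q + (4 * k - 1) + (q - 1) * s :=
    dvd_trans (dvd_mul_right 4 k) (Nat.dvd_of_mul_dvd_mul_left (by positivity) hsum)
  rcases hs with rfl | rfl <;> omega

end Big

/-- **The kernel is `⟨v⟩`.** -/
theorem Ker.eq_one_or_eq {v : G} {a b : C.Pt} {E R : Subgroup G} (K : C.Ker v a b E R)
    (hfaith : ∀ g : G, (∀ c : C.Pt, g • c = c) → g = 1) (hn : Nat.card C.Pt = Nat.card E ^ 3 + 1)
    {r : G} (hr : r ∈ R) : r = 1 ∨ r = v := by
  by_contra h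
  exact Big.false_of_big ⟨K, hfaith, hn, r, hr, (not_or.1 h).1, (not_or.1 h).2⟩

end Ctx

end CfsgLib.Criterion
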