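import Cfsg.Agent.Criterion.Basic
import Cfsg.Agent.Transfer.Basic
import Cfsg.Agent.Invol.FocalTransfer
import Mathlib.GroupTheory.Focal

/-!
# The strong embedding criterion: the transfer end

`H` controls the fusion in the Sylow subgroup `P`, and so does the normaliser of a central weakly
closed subgroup of `P` containing `z`.  Hence, when `G` is generated by the class, a homomorphism of
`P` into an abelian group which respects that fusion and is trivial on `z` is trivial.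
-/

set_option autoImplicit false
set_option linter.style.haveILetI false
set_option linter.unusedSectionVars false

namespace CfsgLib.Criterion

open Subgroup CfsgLib.Invol
open scoped commutatorElement

universe u

variable {G : Type u} [Group G]

namespace Ctx

variable [Finite G] (C : Ctx G)

/-- Fusion of elements centralised by `z` is controlled by `H`. -/
theorem exists_conj_mem_H {x y g : G} (hx : Commute x C.z) (hy : Commute y C.z)
    (hg : g * x * g⁻¹ = y) : ∃ h ∈ C.H, h * x * h⁻¹ = y := by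
  by_cases hgH : g ∈ C.H
  · exact ⟨g, hgH, hg⟩
  set z' := g⁻¹ * C.z * g with hz'
  have hz'Z : z' ∈ C.Z := by
    have := C.conj_mem_Z C.z_mem_Z g⁻¹
    rwa [inv_inv] at this
  have hz'fix : z' • (g⁻¹ • C.base) = g⁻¹ • C.base := by
    rw [hz', mul_smul, mul_smul, smul_inv_smul, C.z_smul_base]
  have hne : C.base ≠ g⁻¹ • C.base := fun h => hgH (by
    have := CfsgLib.StrongEmbed.smul_mk_one_iff.1 (h.symm : g⁻¹ • C.base = C.base)
    simpa using inv_mem this)
  obtain ⟨c, hc, hcz⟩ := exists_conj_of_odd (C.orderOf_Z C.z_mem_Z) (C.orderOf_Z hz'Z)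
    (C.odd_mul C.z_mem_Z hz'Z C.z_smul_base hz'fix hne)
  have hxz' : Commute x z' := by
    have := (Commute.conj_iff g⁻¹).2 hy
    rwa [inv_inv, ← hg, show g⁻¹ * (g * x * g⁻¹) * g = x by group] at this
  have hcx : c ∈ centralizer ({x} : Set G) := by
    refine (closure_le _).2 ?_ hc
    rintro w (rfl | rfl)
    exacts [mem_centralizer_singleton_iff.2 hx.eq.symm, mem_centralizer_singleton_iff.2 hxz'.eq.symm]
  refine ⟨g * c, C.centralizer_z_le (mem_centralizer_singleton_iff.2 (mul_inv_eq_iff_eq_mul.1 ?_)), ?_⟩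
  · rw [show g * c * C.z * (g * c)⁻¹ = g * (c * C.z * c⁻¹) * g⁻¹ by group, hcz, hz']
    group
  · rw [show g * c * x * (g * c)⁻¹ = g * (c * x * c⁻¹) * g⁻¹ by group,
      mul_inv_eq_iff_eq_mul.2 (mem_centralizer_singleton_iff.1 hcx), hg]

theorem commute_z_of_mem {x : G} (hx : x ∈ (C.P : Subgroup G)) : Commute x C.z :=
  mem_centralizer_singleton_iff.1 (C.P_le_centralizer hx)

/-- `H` controls the fusion in the Sylow subgroup. -/
theorem exists_conj_P {x y g : G} (hx : x ∈ (C.P : Subgroup G)) (hy : y ∈ (C.P : Subgroup G))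
    (hg : g * x * g⁻¹ = y) : ∃ h ∈ C.H, h * x * h⁻¹ = y :=
  C.exists_conj_mem_H (C.commute_z_of_mem hx) (C.commute_z_of_mem hy) hg

/-- The normaliser in `H` of a central weakly closed subgroup containing `z` controls the fusion in
the Sylow subgroup. -/
theorem exists_conj_normalizer {E : Subgroup G} (hzE : C.z ∈ E) (hEP : E ≤ (C.P : Subgroup G))
    (hEc : E ≤ centralizer ((C.P : Subgroup G) : Set G))
    (hW : ∀ g : G, E.map (MulAut.conj g).toMonoidHom ≤ (C.P : Subgroup G) →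
      E.map (MulAut.conj g).toMonoidHom = E) {x y g : G} (hx : x ∈ (C.P : Subgroup G))
    (hy : y ∈ (C.P : Subgroup G)) (hg : g * x * g⁻¹ = y) :
    ∃ n ∈ C.H ⊓ normalizer (E : Set G), n * x * n⁻¹ = y := by
  haveI : Fact (Nat.Prime 2) := ⟨Nat.prime_two⟩
  obtain ⟨n, hn, e⟩ := CfsgLib.TransferBasic.exists_normalizer_conj C.P hEc hEP hW hx (u := g)
    (hg.symm ▸ hy)
  refine ⟨n, mem_inf.2 ⟨?_, hn⟩, e.trans hg⟩
  have h1 : n⁻¹ * C.z * n ∈ C.H := by
    have h2 := (mem_normalizer_iff.1 (inv_mem hn) C.z).1 hzE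
    rw [inv_inv] at h2
    exact C.centralizer_z_le (mem_centralizer_singleton_iff.2 (C.commute_z_of_mem (hEP h2)).eq)
  refine C.z_smul_mk.1 ?_
  rwa [CfsgLib.StrongEmbed.smul_mk_iff]

/-- **The transfer end**: in a group generated by the class a homomorphism of the Sylow subgroup into
an abelian group respecting the fusion and trivial on `z` is trivial. -/
theorem eq_one_of_fusion (hgen : closure C.Z = ⊤) {A : Type*} [CommGroup A]
    (φ : ↥(C.P : Subgroup G) →* A)
    (hinv : ∀ x y : ↥(C.P : Subgroup G), (∃ g : G, g * (x : G) * g⁻¹ = y) → φ x = φ y)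
    (hz : ∀ x : ↥(C.P : Subgroup G), (x : G) = C.z → φ x = 1) (v : ↥(C.P : Subgroup G)) : φ v = 1 := by
  haveI : Fact (Nat.Prime 2) := ⟨Nat.prime_two⟩
  have hzP : C.z ∈ (C.P : Subgroup G) := by
    obtain ⟨c, -, e⟩ := C.z_center
    rw [← e]
    exact c.2
  have hfoc : (C.P : Subgroup G).focalSubgroup ≤ φ.ker.map (C.P : Subgroup G).subtype := by
    rw [focalSubgroup_def, closure_le]
    rintro _ ⟨hc, x, hx, u, rfl⟩
    have hy := CfsgLib.TransferBasic.conj_mem_of_commutator_mem hx hc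
    refine ⟨⟨_, hc⟩, ?_, rfl⟩
    have e : (⟨⁅x, u⁆, hc⟩ : ↥(C.P : Subgroup G)) = ⟨x, hx⟩ * (⟨_, hy⟩ : ↥(C.P : Subgroup G))⁻¹ :=
      Subtype.ext (show ⁅x, u⁆ = x * (u * x * u⁻¹)⁻¹ by rw [commutatorElement_def]; group)
    show φ _ = 1
    rw [e, map_mul, map_inv, ← hinv ⟨x, hx⟩ ⟨_, hy⟩ ⟨u, rfl⟩, mul_inv_cancel]
  have habel : ∀ g : G, ∃ k : ℤ, g * C.z ^ k ∈ _root_.commutator G := by
    intro g
    have hg : g ∈ (⊤ : Subgroup G) := mem_top g
    rw [← hgen] at hg
    have : Abelianization.of g ∈ zpowers (Abelianization.of C.z) := by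
      induction hg using closure_induction with
      | mem g hg =>
        obtain ⟨h, rfl⟩ := C.exists_conj hg
        rw [map_mul, map_mul, mul_comm (Abelianization.of h), map_inv, mul_inv_cancel_right]
        exact mem_zpowers _
      | one => simp
      | mul g g' _ _ h h' => rw [map_mul]; exact mul_mem h h'
      | inv g _ h => rw [map_inv]; exact inv_mem h
    obtain ⟨k, hk⟩ := mem_zpowers_iff.1 this
    refine ⟨-k, ?_⟩
    rw [← Abelianization.ker_of, MonoidHom.mem_ker, map_mul, map_zpow, zpow_neg, hk, mul_inv_cancel]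
  obtain ⟨k, hk⟩ := habel v
  have hmem : (v : G) * C.z ^ k ∈ _root_.commutator G ⊓ (C.P : Subgroup G) :=
    ⟨hk, mul_mem v.2 (zpow_mem hzP k)⟩
  rw [commutator_inf_eq_focalSubgroup] at hmem
  obtain ⟨⟨w, hw⟩, hwker, e⟩ := hfoc hmem
  have e' : (⟨w, hw⟩ : ↥(C.P : Subgroup G)) = v * (⟨C.z, hzP⟩ : ↥(C.P : Subgroup G)) ^ k :=
    Subtype.ext (by rw [coe_mul, coe_zpow]; exact e)
  have h1 : φ (⟨w, hw⟩ : ↥(C.P : Subgroup G)) = 1 := hwker
  rwa [e', map_mul, map_zpow, hz ⟨C.z, hzP⟩ rfl, one_zpow, mul_one] at h1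

/-- The transfer end through `H`. -/
theorem eq_one_of_H (hgen : closure C.Z = ⊤) {A : Type*} [CommGroup A] (ψ : ↥C.H →* A)
    (hz : ∀ x : ↥C.H, (x : G) = C.z → ψ x = 1) {v : G} (hv : v ∈ (C.P : Subgroup G)) :
    ψ ⟨v, C.centralizer_z_le (C.P_le_centralizer hv)⟩ = 1 := by
  have hPH : (C.P : Subgroup G) ≤ C.H := C.P_le_centralizer.trans C.centralizer_z_le
  refine C.eq_one_of_fusion hgen (ψ.comp (Subgroup.inclusion hPH)) (fun x y ⟨g, hg⟩ => ?_)
    (fun x hx => hz _ hx) ⟨v, hv⟩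
  obtain ⟨h, hh, e⟩ := C.exists_conj_P x.2 y.2 hg
  have hxy : Subgroup.inclusion hPH y = ⟨h, hh⟩ * Subgroup.inclusion hPH x * (⟨h, hh⟩ : ↥C.H)⁻¹ :=
    Subtype.ext (by simp [e])
  show ψ _ = ψ _
  rw [hxy, map_mul, map_mul, map_inv, mul_comm (ψ ⟨h, hh⟩), mul_inv_cancel_right]

/-- The transfer end through the normaliser of a central weakly closed subgroup containing `z`. -/
theorem eq_one_of_weaklyClosed (hgen : closure C.Z = ⊤) {E : Subgroup G} (hzE : C.z ∈ E)
    (hEP : E ≤ (C.P : Subgroup G)) (hEc : E ≤ centralizer ((C.P : Subgroup G) : Set G))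
    (hW : ∀ g : G, E.map (MulAut.conj g).toMonoidHom ≤ (C.P : Subgroup G) →
      E.map (MulAut.conj g).toMonoidHom = E) {A : Type*} [CommGroup A]
    (φ : ↥(C.P : Subgroup G) →* A)
    (hinv : ∀ n ∈ C.H ⊓ normalizer (E : Set G), ∀ x y : ↥(C.P : Subgroup G),
      n * (x : G) * n⁻¹ = y → φ x = φ y)
    (hz : ∀ x : ↥(C.P : Subgroup G), (x : G) = C.z → φ x = 1) (v : ↥(C.P : Subgroup G)) : φ v = 1 :=
  C.eq_one_of_fusion hgen φ (fun x y ⟨g, hg⟩ => by
    obtain ⟨n, hn, e⟩ := C.exists_conj_normalizer hzE hEP hEc hW x.2 y.2 hg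
    exact hinv n hn x y e) hz v

/-- **The transfer end at one involution**: a homomorphism of a Sylow subgroup into an abelian group,
trivial on the class and constant on the conjugates of an involution `v`, is trivial on `v`. -/
theorem eq_one_of_transfer (hgen : closure C.Z = ⊤) (T : Sylow 2 G) {A : Type*} [CommGroup A]
    (φ : ↥(T : Subgroup G) →* A) (hZ : ∀ x : ↥(T : Subgroup G), (x : G) ∈ C.Z → φ x = 1)
    {v : ↥(T : Subgroup G)} (hv : v * v = 1)
    (hconj : ∀ x : ↥(T : Subgroup G), IsConj (v : G) x → φ x = φ v) : φ v = 1 := by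
  haveI : Fact (Nat.Prime 2) := ⟨Nat.prime_two⟩
  have heval : ∀ g : ↥(T : Subgroup G), g * g = 1 →
      (∀ x : ↥(T : Subgroup G), IsConj (g : G) x → φ x = φ g) →
      MonoidHom.transfer φ (g : G) = φ g := by
    intro g hg hcg
    have hpow : ∀ k : ℕ, Odd k → φ g ^ k = φ g := fun k hk => by
      obtain ⟨j, rfl⟩ := hk
      rw [pow_succ, pow_mul, sq, ← map_mul, hg, map_one, one_pow, one_mul]
    rw [CfsgLib.FocalTransfer.transfer_eq_of_fusion φ g.2 fun k g₀ h => ?_,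
      hpow _ (Nat.odd_iff.2 (Nat.two_dvd_ne_zero.1 T.not_dvd_index))]
    rcases Nat.even_or_odd k with ⟨j, rfl⟩ | hk
    · have hgj : (g : G) ^ (j + j) = 1 := by
        rw [← two_mul, pow_mul, sq, ← coe_mul, hg, coe_one, one_pow]
      have e : (⟨g₀⁻¹ * (g : G) ^ (j + j) * g₀, h⟩ : ↥(T : Subgroup G)) = 1 :=
        Subtype.ext (show g₀⁻¹ * (g : G) ^ (j + j) * g₀ = 1 by rw [hgj]; group)
      rw [e, map_one, ← two_mul, pow_mul, sq, ← map_mul, hg, map_one, one_pow]
    · rw [hpow k hk]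
      refine hcg _ (isConj_iff.2 ⟨g₀⁻¹, ?_⟩)
      obtain ⟨j, rfl⟩ := hk
      show g₀⁻¹ * (g : G) * g₀⁻¹⁻¹ = g₀⁻¹ * (g : G) ^ (2 * j + 1) * g₀
      rw [inv_inv, pow_succ, pow_mul, sq, ← coe_mul, hg, coe_one, one_pow, one_mul]
  have hle : (⊤ : Subgroup G) ≤ (MonoidHom.transfer φ).ker := hgen ▸ (closure_le _).2 fun x hx => by
    obtain ⟨g, hg⟩ := C.exists_conj hx
    obtain ⟨S, hS⟩ := (IsPGroup.of_card (p := 2) (n := 1) (by
      rw [Nat.card_zpowers, C.orderOf_Z C.z_mem_Z, pow_one]) : IsPGroup 2 (zpowers C.z)).exists_le_sylow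
    obtain ⟨c, hc⟩ := MulAction.exists_smul_eq G S T
    have hzT : c * C.z * c⁻¹ ∈ (T : Subgroup G) := by
      rw [← hc]; exact ⟨C.z, hS (mem_zpowers _), rfl⟩
    have h1 := heval ⟨_, hzT⟩ (Subtype.ext (C.mul_self_Z (C.conj_mem_Z C.z_mem_Z c))) fun y hy => by
      rw [hZ y ((C.conj_mem_Z C.z_mem_Z c : IsConj C.z _).trans hy), hZ ⟨_, hzT⟩ (C.conj_mem_Z C.z_mem_Z c)]
    rw [hZ ⟨_, hzT⟩ (C.conj_mem_Z C.z_mem_Z c)] at h1
    show MonoidHom.transfer φ x = 1
    rw [← hg, show g * C.z * g⁻¹ = g * c⁻¹ * (c * C.z * c⁻¹) * (g * c⁻¹)⁻¹ by group, map_mul, map_mul,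
      map_inv, h1, mul_one, mul_inv_cancel]
  have h2 : MonoidHom.transfer φ (v : G) = 1 := hle (mem_top _)
  rwa [heval v hv hconj] at h2

end Ctx

end CfsgLib.Criterion
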