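import Cfsg.Agent.Criterion.RegularLocal
import Cfsg.Agent.Criterion.TransferEnd
import Cfsg.Agent.InvChar.UniqueInvolution

/-!
# The strong embedding criterion: `W` regular is impossible

With `v` the only involution of a Sylow 2-subgroup `R` of the two-point stabiliser `D`, a quaternion
group in `R` would give three involutions on the abelian group `T` of order `q - 1`, each fixing
`√q - 1` elements, against `|T| |C(all)| ^ 2 = ∏ |C(x)|`.  So `R` is cyclic, `D` has a normal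
2-complement and the transfer kills `v` (`notes/criterion_master.md`, CASE I).
-/

set_option autoImplicit false
set_option linter.style.haveILetI false
set_option linter.unusedSectionVars false

namespace CfsgLib.Criterion

open Subgroup CfsgLib.Invol

universe u

variable {G : Type u} [Group G]

/-- The elements of a commutative subgroup inverted by conjugation with `x`. -/
def invPart (A : Subgroup G) (hA : ∀ a ∈ A, ∀ b ∈ A, Commute a b) (x : G) : Subgroup G where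
  carrier := {a | a ∈ A ∧ x * a * x⁻¹ = a⁻¹}
  one_mem' := ⟨one_mem _, by simp⟩
  mul_mem' {a b} ha hb := ⟨mul_mem ha.1 hb.1, by
    rw [← conj_mul, ha.2, hb.2, ← mul_inv_rev, (hA a ha.1 b hb.1).eq]⟩
  inv_mem' {a} ha := ⟨inv_mem ha.1, by rw [← conj_inv, ha.2]⟩

theorem mem_invPart {A : Subgroup G} {hA : ∀ a ∈ A, ∀ b ∈ A, Commute a b} {x a : G} :
    a ∈ invPart A hA x ↔ a ∈ A ∧ x * a * x⁻¹ = a⁻¹ := Iff.rfl

/-- A commutative group of odd order is the product of the fixed and inverted parts. -/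
theorem card_split [Finite G] {A : Subgroup G} (hA : ∀ a ∈ A, ∀ b ∈ A, Commute a b)
    (hodd : ∀ a ∈ A, Odd (orderOf a)) {x : G} (hn : ∀ a ∈ A, x * a * x⁻¹ ∈ A)
    (h2 : ∀ a ∈ A, Commute (x * x) a) :
    Nat.card A = Nat.card ↥(A ⊓ centralizer ({x} : Set G)) * Nat.card ↥(invPart A hA x) := by
  rw [← Nat.card_prod]
  refine (Nat.card_congr (Equiv.ofBijective
    (fun p : ↥(A ⊓ centralizer ({x} : Set G)) × ↥(invPart A hA x) =>
      (⟨(p.1 : G) * p.2, mul_mem p.1.2.1 p.2.2.1⟩ : A)) ⟨fun p p' he => ?_, fun a => ?_⟩)).symm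
  · have he' : (p.1 : G) * p.2 = (p'.1 : G) * p'.2 := congrArg Subtype.val he
    set d := (p'.1 : G)⁻¹ * p.1 with hd
    have hd' : d = (p'.2 : G) * (p.2 : G)⁻¹ := by
      rw [hd, eq_mul_inv_iff_mul_eq, mul_assoc, he', inv_mul_cancel_left]
    have hfix : x * d * x⁻¹ = d :=
      mul_inv_eq_iff_eq_mul.2 (mem_centralizer_singleton_iff.1 (mul_mem (inv_mem p'.1.2.2) p.1.2.2)).symm
    have hmem : d ∈ invPart A hA x := hd' ▸ mul_mem p'.2.2 (inv_mem p.2.2)
    have h1 := hmem.2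
    rw [hfix] at h1
    have hd1 : d = 1 := by
      obtain ⟨j, hj⟩ := hodd d hmem.1
      have hdd : d * d = 1 := mul_eq_one_iff_eq_inv.2 h1
      have := pow_orderOf_eq_one d
      rwa [hj, pow_succ, pow_mul, sq, hdd, one_pow, one_mul] at this
    have e1 : (p'.1 : G) = p.1 := inv_mul_eq_one.1 hd1
    rw [e1] at he'
    exact Prod.ext (Subtype.ext e1.symm) (Subtype.ext (mul_left_cancel he'))
  · obtain ⟨a, ha⟩ := a
    set b := a * (x * a * x⁻¹) with hb
    have hbA : b ∈ A := mul_mem ha (hn a ha)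
    have hbx : Commute b x := (mul_inv_eq_iff_eq_mul.1 (by
      rw [hb, ← conj_mul, show x * (x * a * x⁻¹) * x⁻¹ = x * x * a * (x * x)⁻¹ by group, (h2 a ha).eq,
        mul_inv_cancel_right, (hA _ (hn a ha) _ ha).eq] : x * b * x⁻¹ = b)).symm
    obtain ⟨j, hj⟩ := hodd b hbA
    set c := b ^ (j + 1) with hc
    have hcc : c * c = b := by
      rw [hc, ← pow_add, show j + 1 + (j + 1) = orderOf b + 1 by omega, pow_succ, pow_orderOf_eq_one,
        one_mul]
    have hcA : c ∈ A := pow_mem hbA _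
    have hcx : x * c * x⁻¹ = c := mul_inv_eq_iff_eq_mul.2 (hbx.pow_left _).eq.symm
    refine ⟨⟨⟨c, hcA, mem_centralizer_singleton_iff.2 (hbx.pow_left _).eq⟩,
      ⟨c⁻¹ * a, mul_mem (inv_mem hcA) ha, ?_⟩⟩, Subtype.ext (mul_inv_cancel_left c a)⟩
    rw [← conj_mul, ← conj_inv, hcx, eq_inv_iff_mul_eq_one]
    calc c⁻¹ * (x * a * x⁻¹) * (c⁻¹ * a) = c⁻¹ * ((x * a * x⁻¹) * c⁻¹) * a := by group
      _ = c⁻¹ * c⁻¹ * ((x * a * x⁻¹) * a) := by
          rw [(hA _ (hn a ha) _ (inv_mem hcA)).eq]; group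
      _ = _ := by rw [(hA _ (hn a ha) _ ha).eq, ← mul_inv_rev, hcc, ← hb, inv_mul_cancel]

/-- Two involutive automorphisms generating a four group on a commutative group of odd order. -/
theorem card_four [Finite G] {A : Subgroup G} (hA : ∀ a ∈ A, ∀ b ∈ A, Commute a b)
    (hodd : ∀ a ∈ A, Odd (orderOf a)) {i j : G} (hi : ∀ a ∈ A, i * a * i⁻¹ ∈ A)
    (hj : ∀ a ∈ A, j * a * j⁻¹ ∈ A) (hi2 : ∀ a ∈ A, Commute (i * i) a)
    (hj2 : ∀ a ∈ A, Commute (j * j) a)
    (hcom : ∀ a ∈ A, i * (j * a * j⁻¹) * i⁻¹ = j * (i * a * i⁻¹) * j⁻¹) :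
    Nat.card A * Nat.card ↥(A ⊓ centralizer ({i} : Set G) ⊓ centralizer ({j} : Set G)) ^ 2 =
      Nat.card ↥(A ⊓ centralizer ({i} : Set G)) * Nat.card ↥(A ⊓ centralizer ({j} : Set G)) *
        Nat.card ↥(A ⊓ centralizer ({i * j} : Set G)) := by
  have hfix : ∀ {y a : G}, a ∈ centralizer ({y} : Set G) ↔ y * a * y⁻¹ = a := fun {y a} => by
    rw [mem_centralizer_singleton_iff, mul_inv_eq_iff_eq_mul, eq_comm]
  set I := invPart A hA i with hI
  have hIA : ∀ a ∈ I, a ∈ A := fun a ha => ha.1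
  have h1 := card_split hA hodd hi hi2
  have h2 := card_split (A := I) (fun a ha b hb => hA a ha.1 b hb.1) (fun a ha => hodd a ha.1)
    (x := j) (fun a ha => ⟨hj a ha.1, by rw [hcom a ha.1, ha.2, conj_inv]⟩) (fun a ha => hj2 a ha.1)
  set A2 := A ⊓ centralizer ({j} : Set G) with hA2
  have h3 := card_split (A := A2) (fun a ha b hb => hA a ha.1 b hb.1) (fun a ha => hodd a ha.1)
    (x := i) (fun a ha => ⟨hi a ha.1, hfix.2 (by rw [← hcom a ha.1, hfix.1 ha.2])⟩)
    (fun a ha => hi2 a ha.1)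
  set A3 := A ⊓ centralizer ({i * j} : Set G) with hA3
  have h4 := card_split (A := A3) (fun a ha b hb => hA a ha.1 b hb.1) (fun a ha => hodd a ha.1)
    (x := i) (fun a ha => ⟨hi a ha.1, hfix.2 (by
      calc i * j * (i * a * i⁻¹) * (i * j)⁻¹ = i * (j * (i * a * i⁻¹) * j⁻¹) * i⁻¹ := by group
        _ = i * (i * (j * a * j⁻¹) * i⁻¹) * i⁻¹ := by rw [hcom a ha.1]
        _ = i * (i * j * a * (i * j)⁻¹) * i⁻¹ := by group
        _ = _ := by rw [hfix.1 ha.2])⟩) (fun a ha => hi2 a ha.1)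
  have e1 : A2 ⊓ centralizer ({i} : Set G) = A ⊓ centralizer ({i} : Set G) ⊓ centralizer ({j} : Set G) := by
    rw [hA2, inf_right_comm]
  have e2 : A3 ⊓ centralizer ({i} : Set G) = A ⊓ centralizer ({i} : Set G) ⊓ centralizer ({j} : Set G) := by
    ext a
    simp only [hA3, mem_inf, hfix]
    constructor
    · rintro ⟨⟨ha, h3⟩, h1⟩
      refine ⟨⟨ha, h1⟩, ?_⟩
      calc j * a * j⁻¹ = i⁻¹ * (i * j * a * (i * j)⁻¹) * i := by group
        _ = i⁻¹ * (i * a * i⁻¹) * i := by rw [h3, h1]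
        _ = a := by group
    · rintro ⟨⟨ha, h1⟩, h2⟩
      refine ⟨⟨ha, ?_⟩, h1⟩
      calc i * j * a * (i * j)⁻¹ = i * (j * a * j⁻¹) * i⁻¹ := by group
        _ = a := by rw [h2, h1]
  have e3 : invPart A2 (fun a ha b hb => hA a ha.1 b hb.1) i = I ⊓ centralizer ({j} : Set G) := by
    ext a
    simp only [mem_invPart, hA2, hI, mem_inf]
    tauto
  have e4 : invPart A3 (fun a ha b hb => hA a ha.1 b hb.1) i =
      invPart I (fun a ha b hb => hA a ha.1 b hb.1) j := by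
    ext a
    simp only [mem_invPart, hA3, hI, mem_inf, hfix]
    constructor
    · rintro ⟨⟨ha, h3⟩, h1⟩
      refine ⟨⟨ha, h1⟩, ?_⟩
      calc j * a * j⁻¹ = i⁻¹ * (i * j * a * (i * j)⁻¹) * i := by group
        _ = i⁻¹ * (i * a * i⁻¹)⁻¹ * i := by rw [h3, h1, inv_inv]
        _ = a⁻¹ := by group
    · rintro ⟨⟨ha, h1⟩, h2⟩
      refine ⟨⟨ha, ?_⟩, h1⟩
      calc i * j * a * (i * j)⁻¹ = i * (j * a * j⁻¹) * i⁻¹ := by group
        _ = a := by rw [h2, ← conj_inv, h1, inv_inv]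
  rw [e1, e3] at h3
  rw [e2, e4] at h4
  rw [h1, h2, h3, h4]
  ring

namespace Ctx

namespace RegW

variable [Finite G] {C : Ctx G} {S : Set G} {v : G} {a b : C.Pt} (h : C.RegW S v a b)
include h

theorem v_commute_T {t : G} (ht : t ∈ h.T) : Commute v t :=
  (C.commute_of_mem_L (h.mem_T.1 ht).1).symm

theorem T_conj {g : G} (hga : g • a = a) (hgb : g • b = b) (hgv : Commute g v) {t : G} (ht : t ∈ h.T) :
    g * t * g⁻¹ ∈ h.T := by
  have huL : ∀ x ∈ C.L v, g * x * g⁻¹ ∈ C.L v := by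
    intro x hx
    induction hx using closure_induction with
    | mem x hx =>
      refine C.mem_L (C.conj_mem_Z hx.1 g) ?_
      have := (Commute.conj_iff g).2 hx.2
      rwa [show g * v * g⁻¹ = v by rw [hgv.eq, mul_inv_cancel_right]] at this
    | one => simp
    | mul x y _ _ hx hy => rw [← conj_mul]; exact mul_mem hx hy
    | inv x _ hx => rw [← conj_inv]; exact inv_mem hx
  obtain ⟨htL, hta, htb⟩ := h.mem_T.1 ht
  refine h.mem_T.2 ⟨huL t htL, ?_, ?_⟩
  · rw [mul_smul, mul_smul, inv_smul_eq_iff.2 hga.symm, hta, hga]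
  · rw [mul_smul, mul_smul, inv_smul_eq_iff.2 hgb.symm, htb, hgb]

theorem T_conj_inj {t t' e : G} (ht : t ∈ h.T) (ht' : t' ∈ h.T) (he : e ∈ C.EZ v a)
    (heq : t * e * t⁻¹ = t' * e * t'⁻¹) : t = t' := by
  have hx : t'⁻¹ * t ∈ h.T := mul_mem (inv_mem ht') ht
  refine (inv_mul_eq_one.1 (h.T_free hx (Or.inr he) (fun h1 => ?_)
    ((h.fix_iff (h.mem_T.1 hx).2.1 (h.mem_T.1 hx).2.2 (Or.inr he.1)).2 ?_))).symm
  · have := C.orderOf_Z he.1.1
    rw [h1, orderOf_one] at this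
    omega
  · refine mul_inv_eq_iff_eq_mul.1 ?_
    rw [show t'⁻¹ * t * e * (t'⁻¹ * t)⁻¹ = t'⁻¹ * (t * e * t⁻¹) * t' by group, heq]
    group

/-- An element whose square is `v` moves a member of `E`. -/
theorem not_central {x : G} (hxa : x • a = a) (_hxb : x • b = b) (hxx : x * x = v) :
    ¬ ∀ e ∈ h.E, Commute x e := by
  intro hxE
  have hxv : Commute x v := hxx ▸ (Commute.refl x).mul_right (Commute.refl x)
  obtain ⟨w, hw, hn⟩ := h.eq_one_of_fix_all h.hbad.1 h.va h.vb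
  refine hn (mul_inv_eq_iff_eq_mul.1 ?_)
  set e := w * (x * w * x⁻¹) with he
  have heE : e ∈ h.E := h.comm_mem_E hxa hxv hxE hw
  have e1 : x * w * x⁻¹ = w * e := by rw [he, ← mul_assoc, h.fam.W_sq h.hv h.va hw, one_mul]
  calc v * w * v⁻¹ = x * (x * w * x⁻¹) * x⁻¹ := by rw [← hxx]; group
    _ = x * (w * e) * x⁻¹ := by rw [e1]
    _ = x * w * x⁻¹ * (x * e * x⁻¹) := by group
    _ = w := by
      rw [e1, (hxE e heE).eq, mul_inv_cancel_right, mul_assoc, h.fam.E_sq h.hv h.va heE, mul_one]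

/-- An element whose square is `v` fixes `√q - 1` elements of `T`. -/
theorem sqrt_fix {x : G} (hxa : x • a = a) (hxb : x • b = b) (hxx : x * x = v) :
    ∃ m, 1 ≤ m ∧ Nat.card h.E = 2 ^ (2 * m) ∧
      Nat.card ↥(h.T ⊓ centralizer ({x} : Set G)) + 1 = 2 ^ m := by
  have hxv : Commute x v := hxx ▸ (Commute.refl x).mul_right (Commute.refl x)
  obtain ⟨r, hr⟩ := h.exists_two_pow (K := h.EC x) inf_le_left
  obtain ⟨s, hs⟩ := h.exists_two_pow le_rfl
  have hsq := h.E_le_EC_sq hxa hxv (fun e he => hxx ▸ (h.fam.E_commute h.hv h.va he).symm)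
  have hlt : Nat.card (h.EC x) < Nat.card h.E := by
    refine lt_of_le_of_ne (card_le_of_le inf_le_left) fun heq => h.not_central hxa hxb hxx fun e he => ?_
    have : e ∈ h.EC x := (eq_of_le_of_card_ge (inf_le_left : h.EC x ≤ h.E) heq.ge).ge he
    exact (mem_centralizer_singleton_iff.1 this.2).symm
  rw [hr, hs] at hlt
  rw [hr, hs, ← pow_mul] at hsq
  have hrs := (Nat.pow_lt_pow_iff_right (Nat.le_refl 2)).1 hlt
  have hsr := (Nat.pow_le_pow_iff_right (Nat.le_refl 2)).1 hsq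
  -- a fixed member
  obtain ⟨e0, he0, he01⟩ := (bot_or_exists_ne_one (h.EC x)).resolve_left (fun hbot => by
    rw [hbot, card_bot] at hr
    have : r = 0 := by
      rcases Nat.eq_zero_or_pos r with h0 | h0
      · exact h0
      · have := Nat.one_lt_two_pow (n := r) (by omega); omega
    omega)
  have he0E := he0.1.resolve_left he01
  have he0x : x * e0 * x⁻¹ = e0 :=
    mul_inv_eq_iff_eq_mul.2 (mem_centralizer_singleton_iff.1 he0.2).symm
  set K := h.T ⊓ centralizer ({x} : Set G) with hK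
  have hKT : ∀ t ∈ h.T, t ∈ K ↔ Commute x (t * e0 * t⁻¹) := by
    intro t ht
    constructor
    · intro htK
      refine mul_inv_eq_iff_eq_mul.1 ?_
      rw [← conj_mul, ← conj_mul, ← conj_inv, he0x,
        mul_inv_eq_iff_eq_mul.2 (mem_centralizer_singleton_iff.1 htK.2).symm]
    · intro hc
      refine ⟨ht, mem_centralizer_singleton_iff.2 (mul_inv_eq_iff_eq_mul.1
        (h.T_conj_inj (h.T_conj hxa hxb hxv ht) ht he0E ?_)).symm⟩
      calc x * t * x⁻¹ * e0 * (x * t * x⁻¹)⁻¹ = x * t * x⁻¹ * (x * e0 * x⁻¹) * (x * t * x⁻¹)⁻¹ := by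
            rw [he0x]
        _ = x * (t * e0 * t⁻¹) * x⁻¹ := by group
        _ = _ := by rw [hc.eq, mul_inv_cancel_right]
  have hcard : Nat.card K + 1 = Nat.card (h.EC x) := by
    classical
    haveI := Fintype.ofFinite K
    let f : Option K → h.EC x := fun o => o.elim 1 fun t => ⟨(t : G) * e0 * (t : G)⁻¹,
      Or.inr (h.fam.conj_mem_EZ h.hv h.va (h.mem_T.1 t.2.1).2.1
        (C.commute_of_mem_L (h.mem_T.1 t.2.1).1) he0E),
      mem_centralizer_singleton_iff.2 ((hKT t t.2.1).1 t.2).symm.eq⟩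
    have hf : Function.Bijective f := by
      refine ⟨?_, fun e => ?_⟩
      · rintro (_ | t) (_ | t') he <;> have he' := congrArg Subtype.val he
        · rfl
        · exact absurd (conj_eq_one_iff.1 he'.symm) he01
        · exact absurd (conj_eq_one_iff.1 he') he01
        · exact congrArg some (Subtype.ext (h.T_conj_inj t.2.1 t'.2.1 he0E he'))
      · obtain ⟨e, heE, hex⟩ := e
        by_cases he1 : e = 1
        · exact ⟨none, Subtype.ext he1.symm⟩
        obtain ⟨t, ht, hte⟩ := h.exists_T_conj he0E (heE.resolve_left he1)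
        exact ⟨some ⟨t, (hKT t ht).2 (hte ▸ (mem_centralizer_singleton_iff.1 hex).symm)⟩,
          Subtype.ext hte⟩
    rw [← Nat.card_congr (Equiv.ofBijective f hf), Nat.card_eq_fintype_card (α := Option _),
      Fintype.card_option, ← Nat.card_eq_fintype_card]
  have hTq : Nat.card h.T + 1 = 2 ^ s := by rw [h.card_T, ← hs, h.fam.card_E h.hv h.va]
  have hdvd := card_dvd_of_le (inf_le_left : K ≤ h.T)
  rw [hr] at hcard
  have hs2 : s = 2 * r := by
    by_contra hne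
    obtain ⟨d, rfl⟩ : ∃ d, s = r + d := ⟨s - r, by omega⟩
    have hd : 2 ^ d < 2 ^ r := Nat.pow_lt_pow_right one_lt_two (by omega)
    have hd1 : 1 < 2 ^ d := Nat.one_lt_two_pow (by omega)
    obtain ⟨m, hm⟩ := hdvd
    rw [pow_add, ← hcard] at hTq
    rcases lt_or_ge m (2 ^ d) with h1 | h1
    · nlinarith
    · rcases Nat.eq_or_lt_of_le h1 with h2 | h2
      · nlinarith
      · nlinarith
  exact ⟨r, by omega, by rw [hs, hs2], hcard⟩

/-- **No quaternion group in the two-point stabiliser.** -/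
theorem no_quaternion {i j : G} (hia : i • a = a) (hib : i • b = b) (hja : j • a = a)
    (hjb : j • b = b) (hii : i * i = v) (hjj : j * j = v) (hji : j * i = i⁻¹ * j) : False := by
  have hij : (i * j) * (i * j) = v := by
    rw [show i * j * (i * j) = i * (j * i) * j by group, hji, mul_inv_cancel_left, hjj]
  obtain ⟨m, hm, hq, hTi⟩ := h.sqrt_fix hia hib hii
  obtain ⟨m2, -, hq2, hTj⟩ := h.sqrt_fix hja hjb hjj
  obtain ⟨m3, -, hq3, hTk⟩ := h.sqrt_fix (x := i * j) (by rw [mul_smul, hja, hia])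
    (by rw [mul_smul, hjb, hib]) hij
  rw [hq] at hq2 hq3
  have e2 := Nat.pow_right_injective (le_refl 2) hq2
  have e3 := Nat.pow_right_injective (le_refl 2) hq3
  obtain rfl : m = m2 := by omega
  obtain rfl : m = m3 := by omega
  have hiv : Commute i v := hii ▸ (Commute.refl i).mul_right (Commute.refl i)
  have hjv : Commute j v := hjj ▸ (Commute.refl j).mul_right (Commute.refl j)
  have h4 := card_four (fun _ ha _ hb => h.T_comm ha hb) (fun _ ha => h.odd_T ha)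
    (fun _ ht => h.T_conj hia hib hiv ht) (fun _ ht => h.T_conj hja hjb hjv ht)
    (fun _ ht => hii ▸ h.v_commute_T ht) (fun _ ht => hjj ▸ h.v_commute_T ht) (fun t ht => by
      have e : j * i * t * (j * i)⁻¹ = i * j * t * (i * j)⁻¹ := by
        rw [hji, show i⁻¹ * j * t * (i⁻¹ * j)⁻¹ = i⁻¹ * (j * t * j⁻¹) * i by group,
          show i * j * t * (i * j)⁻¹ = i⁻¹ * ((i * i) * (j * t * j⁻¹) * (i * i)⁻¹) * i by group, hii,
          (h.v_commute_T (h.T_conj hja hjb hjv ht)).eq, mul_inv_cancel_right]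
      calc i * (j * t * j⁻¹) * i⁻¹ = i * j * t * (i * j)⁻¹ := by group
        _ = j * i * t * (j * i)⁻¹ := e.symm
        _ = _ := by group)
  have hT : Nat.card h.T + 1 = 2 ^ (2 * m) := by rw [h.card_T, ← hq, h.fam.card_E h.hv h.va]
  have hpos : 0 < Nat.card ↥(h.T ⊓ centralizer ({i} : Set G)) := Nat.card_pos
  generalize Nat.card ↥(h.T ⊓ centralizer ({i} : Set G) ⊓ centralizer ({j} : Set G)) = t0 at h4
  generalize Nat.card ↥(h.T ⊓ centralizer ({i} : Set G)) = t1 at h4 hTi hpos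
  generalize Nat.card ↥(h.T ⊓ centralizer ({j} : Set G)) = t2 at h4 hTj
  generalize Nat.card ↥(h.T ⊓ centralizer ({i * j} : Set G)) = t3 at h4 hTk
  generalize Nat.card h.T = T at h4 hT
  have e12 : t2 = t1 := by omega
  subst t2
  have e13 : t3 = t1 := by omega
  subst t3
  rw [pow_mul', ← hTi] at hT
  have hT' : T = t1 * (t1 + 2) := by nlinarith
  subst hT'
  have h5 : (t1 + 2) * t0 ^ 2 = t1 * t1 := Nat.eq_of_mul_eq_mul_left hpos (by linarith)
  have h6 : t1 + 2 ∣ 4 := by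
    have h7 : t1 + 2 ∣ t1 * t1 + 4 * (t1 + 1) := ⟨t1 + 2, by ring⟩
    have h8 : t1 + 2 ∣ 4 * (t1 + 1) := (Nat.dvd_add_right ⟨t0 ^ 2, h5.symm⟩).1 h7
    have h9 : t1 + 2 ∣ 4 * (t1 + 1) + 4 := ⟨4, by ring⟩
    exact (Nat.dvd_add_right h8).1 h9
  have h10 := Nat.le_of_dvd (by norm_num) h6
  have h11 : Even (2 ^ m) := (Nat.even_pow).2 ⟨even_two, by omega⟩
  rw [← hTi] at h11
  obtain ⟨l, hl⟩ := h11
  have h12 : t1 ≤ 2 := by omega
  interval_cases t1 <;> omega

/-- The Sylow 2-subgroup of the two-point stabiliser is cyclic. -/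
theorem isCyclic_sylow {D : Subgroup G} (hD : D ≤ MulAction.stabilizer G a ⊓ MulAction.stabilizer G b)
    (R : Sylow 2 ↥D) (hcen : ∀ x : ↥(R : Subgroup ↥D), Commute ((x : ↥D) : G) v) :
    IsCyclic ↥(R : Subgroup ↥D) := by
  haveI : Fact (Nat.Prime 2) := ⟨Nat.prime_two⟩
  let ι : ↥(R : Subgroup ↥D) →* G := D.subtype.comp (R : Subgroup ↥D).subtype
  have hι : Function.Injective ι := fun x y e => Subtype.ext (Subtype.ext e)
  have hfix : ∀ x : ↥(R : Subgroup ↥D), ι x • a = a ∧ ι x • b = b := fun x =>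
    ⟨MulAction.mem_stabilizer_iff.1 (hD x.1.2).1, MulAction.mem_stabilizer_iff.1 (hD x.1.2).2⟩
  have hinv : ∀ x : ↥(R : Subgroup ↥D), orderOf x = 2 → ι x = v := fun x hx =>
    h.eq_v (by rw [orderOf_injective ι hι, hx]) (hfix x).1 (hfix x).2 (hcen x)
  rcases CfsgLib.UniqueInvol.cyclic_or_quaternion R.isPGroup' (fun x y hx hy => by
      rw [hι ((hinv x hx).trans (hinv y hy).symm)]
      exact mem_zpowers y) with hc | ⟨-, n, hn, ⟨e⟩⟩
  · exact hc
  exfalso
  haveI : NeZero (2 ^ n) := ⟨by positivity⟩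
  set c : ZMod (2 * 2 ^ n) := ((2 ^ (n - 1) : ℕ) : ZMod (2 * 2 ^ n)) with hcdef
  have hcc : c + c = ((2 ^ n : ℕ) : ZMod (2 * 2 ^ n)) := by
    rw [hcdef, ← Nat.cast_add]
    congr 1
    obtain ⟨k, rfl⟩ : ∃ k, n = k + 1 := ⟨n - 1, by omega⟩
    rw [Nat.add_sub_cancel, pow_succ, mul_two]
  have hmm : ((2 ^ n : ℕ) : ZMod (2 * 2 ^ n)) + ((2 ^ n : ℕ) : ZMod (2 * 2 ^ n)) = 0 := by
    rw [← Nat.cast_add, ← two_mul, ZMod.natCast_self]
  have hm0 : ((2 ^ n : ℕ) : ZMod (2 * 2 ^ n)) ≠ 0 := by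
    rw [Ne, ZMod.natCast_eq_zero_iff]
    intro hdvd
    have h1 := Nat.le_of_dvd (by positivity) hdvd
    have h2 : 0 < 2 ^ n := by positivity
    omega
  let J : QuaternionGroup (2 ^ n) →* G := ι.comp e.symm.toMonoidHom
  have hJfix : ∀ y, J y • a = a ∧ J y • b = b := fun y => hfix (e.symm y)
  have hJinj : Function.Injective J := hι.comp e.symm.injective
  have hsq : J (.a ((2 ^ n : ℕ) : ZMod (2 * 2 ^ n))) = v := by
    refine hinv _ ?_
    rw [← orderOf_injective e.toMonoidHom e.injective]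
    simp only [MulEquiv.coe_toMonoidHom, MulEquiv.apply_symm_apply]
    refine orderOf_eq_two (by rw [QuaternionGroup.a_mul_a, hmm]; rfl) fun he => hm0 ?_
    rw [QuaternionGroup.one_def] at he
    exact QuaternionGroup.a.inj he
  refine h.no_quaternion (i := J (.a c)) (j := J (.xa 0)) (hJfix _).1 (hJfix _).2 (hJfix _).1
    (hJfix _).2 ?_ ?_ ?_
  · rw [← map_mul, QuaternionGroup.a_mul_a, hcc, hsq]
  · rw [← map_mul, QuaternionGroup.xa_mul_xa, add_zero, sub_zero, hsq]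
  · rw [← map_inv, ← map_mul, ← map_mul, QuaternionGroup.xa_mul_a]
    congr 1
    show _ = QuaternionGroup.a (-c) * QuaternionGroup.xa 0
    rw [QuaternionGroup.a_mul_xa, zero_sub, neg_neg, zero_add]

end RegW

/-- **`W` transitive on the points other than the base point is impossible.** -/
theorem RegW.false [Finite G] {C : Ctx G} {S : Set G} {v : G} {b : C.Pt} (h : C.RegW S v C.base b)
    (hgen : closure C.Z = ⊤) {D : Subgroup G}
    (hD : D = MulAction.stabilizer G C.base ⊓ MulAction.stabilizer G b) (R : Sylow 2 ↥D)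
    (hvR : ∀ hv : v ∈ D, (⟨v, hv⟩ : ↥D) ∈ (R : Subgroup ↥D))
    (hcen : ∀ x : ↥(R : Subgroup ↥D), Commute ((x : ↥D) : G) v) : False := by
  haveI : Fact (Nat.Prime 2) := ⟨Nat.prime_two⟩
  have hcyc := h.isCyclic_sylow hD.le R hcen
  have hvD : v ∈ D := hD.symm ▸
    mem_inf.2 ⟨MulAction.mem_stabilizer_iff.2 h.va, MulAction.mem_stabilizer_iff.2 h.vb⟩
  have hDm : ∀ {g : G}, g ∈ D ↔ g • C.base = C.base ∧ g • b = b := fun {g} => by
    rw [hD, mem_inf, MulAction.mem_stabilizer_iff, MulAction.mem_stabilizer_iff]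
  have hmin : (Nat.card D).minFac = 2 := (Nat.minFac_eq_two_iff _).2 (by
    have h1 := Subgroup.orderOf_dvd_natCard D hvD
    rwa [h.hbad.1] at h1)
  have hN := hcyc.normalizer_le_centralizer hmin
  letI : CommGroup ↥(R : Subgroup ↥D) := IsCyclic.commGroup
  set θ : ↥D →* ↥(R : Subgroup ↥D) := MonoidHom.transferSylow R hN with hθ
  have hstab : ∀ g : G, g ∈ C.H ↔ g • C.base = C.base := fun g =>
    CfsgLib.StrongEmbed.smul_mk_one_iff.symm
  -- the projection of `H = W D` onto `D`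
  have hdec : ∀ g : ↥C.H, ∃ w ∈ h.W, w⁻¹ * (g : G) ∈ D := by
    intro g
    have hga := (hstab g).1 g.2
    obtain ⟨w, hw, hwb⟩ := h.trans ((g : G) • b)
      fun he => h.hab (smul_left_cancel (g : G) (hga.trans he.symm))
    refine ⟨w, hw, hDm.2 ⟨?_, ?_⟩⟩
    · rw [mul_smul, hga, inv_smul_eq_iff.2 (h.W_fix hw).symm]
    · rw [mul_smul, ← hwb, inv_smul_smul]
  choose wf hwf hdf using hdec
  have huniq : ∀ (g : ↥C.H) (w : G), w ∈ h.W → w⁻¹ * (g : G) ∈ D → w = wf g := by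
    intro g w hw hwd
    refine h.W_inj hw (hwf g) ?_
    rw [← inv_smul_eq_iff.1 ((mul_smul _ _ _).symm.trans (hDm.1 hwd).2),
      ← inv_smul_eq_iff.1 ((mul_smul _ _ _).symm.trans (hDm.1 (hdf g)).2)]
  let π : ↥C.H →* ↥D := MonoidHom.mk' (fun g => ⟨(wf g)⁻¹ * g, hdf g⟩) fun g g' => by
    refine Subtype.ext ?_
    set d := (wf g)⁻¹ * (g : G) with hd
    have hda : d • C.base = C.base := (hDm.1 (hdf g)).1
    have hw : wf g * (d * wf g' * d⁻¹) ∈ h.W := mul_mem (hwf g) (h.conj_W hda (hwf g'))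
    have e : wf (g * g') = wf g * (d * wf g' * d⁻¹) := by
      refine (huniq _ _ hw ?_).symm
      rw [show (wf g * (d * wf g' * d⁻¹))⁻¹ * ((g * g' : ↥C.H) : G) = d * ((wf g')⁻¹ * (g' : G)) by
        rw [Subgroup.coe_mul, hd]; group]
      exact mul_mem (hdf g) (hdf g')
    show (wf (g * g'))⁻¹ * ((g * g' : ↥C.H) : G) = d * ((wf g')⁻¹ * (g' : G))
    rw [e, Subgroup.coe_mul, hd]; group
  have hπW : ∀ g : ↥C.H, (g : G) ∈ h.W → π g = 1 := by
    intro g hg
    refine Subtype.ext (show (wf g)⁻¹ * (g : G) = 1 from ?_)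
    rw [← huniq g g hg (by rw [inv_mul_cancel]; exact one_mem _), inv_mul_cancel]
  have hπD : ∀ g : ↥C.H, (g : G) ∈ D → ((π g : ↥D) : G) = g := by
    intro g hg
    show (wf g)⁻¹ * (g : G) = g
    rw [← huniq g 1 (one_mem _) (by rwa [inv_one, one_mul]), inv_one, one_mul]
  -- `v` is conjugate into the Sylow subgroup of `H`
  have hvH : v ∈ C.H := (hstab v).2 h.va
  have hPH : (C.P : Subgroup G) ≤ C.H := C.P_le_centralizer.trans C.centralizer_z_le
  have hv2 : orderOf (⟨v, hvH⟩ : ↥C.H) = 2 := by rw [← Subgroup.orderOf_coe]; exact h.hbad.1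
  have hpg : IsPGroup 2 (zpowers (⟨v, hvH⟩ : ↥C.H)) :=
    IsPGroup.of_card (n := 1) (by rw [Nat.card_zpowers, hv2, pow_one])
  obtain ⟨Q, hQ⟩ := hpg.exists_le_sylow
  obtain ⟨g, hg⟩ := MulAction.exists_smul_eq (↥C.H) Q (C.P.subtype hPH)
  have hmem : g * (⟨v, hvH⟩ : ↥C.H) * g⁻¹ ∈ ((C.P.subtype hPH : Sylow 2 ↥C.H) : Subgroup ↥C.H) := by
    rw [← hg, Sylow.coe_subgroup_smul]
    exact ⟨_, hQ (mem_zpowers _), rfl⟩
  rw [Sylow.coe_subtype, mem_subgroupOf] at hmem
  have hzb : C.z ∈ h.W := Or.inr ⟨C.z_mem_Z, C.z_smul_base⟩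
  have hkill := C.eq_one_of_H hgen (θ.comp π) (fun x hx => by
    rw [MonoidHom.comp_apply, hπW x (hx ▸ hzb), map_one]) hmem
  have hkill' : θ (π ⟨v, hvH⟩) = 1 := by
    have h1 : θ.comp π (g * ⟨v, hvH⟩ * g⁻¹) = 1 := hkill
    rwa [map_mul, map_mul, map_inv, mul_comm (θ.comp π g), mul_inv_cancel_right] at h1
  have hπv : π ⟨v, hvH⟩ = ⟨v, hvD⟩ := Subtype.ext (hπD ⟨v, hvH⟩ hvD)
  rw [hπv] at hkill'
  have hvker : (⟨v, hvD⟩ : ↥D) ∈ θ.ker ⊓ (R : Subgroup ↥D) := ⟨hkill', hvR hvD⟩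
  rw [disjoint_iff.1 (MonoidHom.ker_transferSylow_disjoint R hN (R : Subgroup ↥D) R.isPGroup'),
    mem_bot] at hvker
  have h2 := h.hbad.1
  rw [show v = 1 from congrArg Subtype.val hvker, orderOf_one] at h2
  omega

end Ctx

end CfsgLib.Criterion
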