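import Cfsg.Agent.Criterion.CrossFam
import Cfsg.Agent.Criterion.Types
import Cfsg.Agent.Criterion.Regular

/-!
# The strong embedding criterion: a crossed bad involution of type `L₂` is impossible

At a largest two-point stabiliser a crossed bad involution with `Q = q` makes the members at a point
a regular elementary group off that point (`CrossFam`), and the local group modulo its odd core is
`L₂(q)`, where no element of odd order centralises an involution; so `RegW.false` applies.
-/

set_option autoImplicit false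
set_option linter.style.haveILetI false
set_option linter.unusedSectionVars false

namespace CfsgLib.Recog.RankOneSuzuki

open MulAction CfsgLib.Recog.RankOne

variable {G Ω : Type*} [Group G] [MulAction G Ω] [Finite G] {a : Ω} {t : G} {Q : Subgroup G}

/-- For `Q = Z` the centraliser in `L` of an involution of `Z` lies in `Q`. -/
theorem Data.mem_Q_of_commute (S : Data a t Q) (hQ : Q ≤ S.Z) {z x : G} (hz : z ∈ S.Z) (hz1 : z ≠ 1)
    (hx : x ∈ S.L) (hc : Commute x z) : x ∈ Q := by
  have hza : z • a = a := S.setup.le (S.Z_le hz)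
  have hxa : x • a = a := same_fix S.setup hz1 (S.Z_sq hz) hc.eq hza
  obtain ⟨g, hg, k, hk, rfl⟩ := S.mem_L_stab (S.isSplit_of_le hQ) hx hxa
  by_cases hk1 : k = 1
  · rwa [hk1, mul_one]
  · refine absurd (S.fpf k hk hk1 z (S.Z_le hz) (mul_left_cancel (a := g) ?_)) hz1
    rw [← mul_assoc, hc.eq, ← mul_assoc z, S.central z hz g hg, mul_assoc]

end CfsgLib.Recog.RankOneSuzuki

namespace CfsgLib.Criterion

open Subgroup CfsgLib.Invol CfsgLib.Bender

universe u

variable {G : Type u} [Group G] [Finite G]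

namespace Ctx

variable (C : Ctx G)

/-- Conjugation carries local groups to local groups. -/
theorem conj_mem_local {v x : G} (g : G) (hx : x ∈ C.L v) : g * x * g⁻¹ ∈ C.L (g * v * g⁻¹) := by
  induction hx using closure_induction with
  | mem x hx => exact subset_closure ⟨C.conj_mem_Z hx.1 g, (Commute.conj_iff g).2 hx.2⟩
  | one => rw [mul_one, mul_inv_cancel]; exact one_mem _
  | mul x y _ _ hx hy =>
    have h := mul_mem hx hy
    rwa [show g * x * g⁻¹ * (g * y * g⁻¹) = g * (x * y) * g⁻¹ by group] at h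
  | inv x _ hx =>
    have h := inv_mem hx
    rwa [show (g * x * g⁻¹)⁻¹ = g * x⁻¹ * g⁻¹ by group] at h

/-- For `Q = q` and no odd core an element of odd order of the local group centralising a member of
the class is trivial. -/
theorem Bad.odd_cent_of_qn {v : G} (hv : C.Bad v) (hp : PairRank ↥(C.L v)) {a : C.Pt}
    (ha : v • a = a) {E : Subgroup G} (hE : C.IsE v a E) (hQ : C.qn v a = Nat.card E)
    (hker : C.fixKer v = ⊥) :
    ∀ e ∈ C.ZC v, ∀ x ∈ C.L v, Commute x e → Odd (orderOf x) → x = 1 := by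
  obtain ⟨K, hfa, T, t, S, hT, hZ, -⟩ := hv.exists_setup C hp ha hE
  haveI := hfa
  set O := Cfsg.oddCore ↥(C.L v) with hOdef
  have hO : O = ⊥ := (hv.oddCore_eq_fixKer C hp).trans hker
  set π := QuotientGroup.mk' O with hπ
  have hπ1 : ∀ y : ↥(C.L v), π y = 1 → y = 1 := fun y hy => by
    have h : y ∈ O := (QuotientGroup.eq_one_iff y).1 hy
    rwa [hO, mem_bot] at h
  have hTZ : T ≤ S.Z := (eq_of_le_of_card_ge S.Z_le (by rw [hT, hQ, hZ])).ge
  have htop : ∀ y : ↥(C.L v), π y ∈ S.L := by
    rintro ⟨y, hy⟩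
    induction hy using closure_induction with
    | mem y hy =>
      refine S.invol_mem_L ?_
      rw [← map_mul]
      exact (congrArg π (Subtype.ext (C.mul_self_Z hy.1) :
        (⟨y, subset_closure hy⟩ : ↥(C.L v)) * ⟨y, subset_closure hy⟩ = 1)).trans (map_one π)
    | one => exact (congrArg (· ∈ S.L) (map_one π)).mpr (one_mem _)
    | mul y y' hy hy' h h' =>
      have h2 := mul_mem h h'
      rwa [← map_mul] at h2
    | inv y hy h =>
      have h2 := inv_mem h
      rwa [← map_inv] at h2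
  intro e he x hx hc hodd
  set eL : ↥(C.L v) := ⟨e, C.mem_L he.1 he.2⟩
  set xL : ↥(C.L v) := ⟨x, hx⟩
  have he1 : π eL ≠ 1 := fun h => by
    have h2 := C.orderOf_Z he.1
    rw [show e = 1 from congrArg Subtype.val (hπ1 _ h), orderOf_one] at h2
    omega
  have hsq : π eL * π eL = 1 := by
    rw [← map_mul, show eL * eL = 1 from Subtype.ext (C.mul_self_Z he.1), map_one]
  obtain ⟨p, hp'⟩ := Recog.RankOne.exists_fix S.setup hsq
  obtain ⟨l, hl, hlp⟩ := S.L_trans p
  set z := l * π eL * l⁻¹ with hz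
  set y := l * π xL * l⁻¹ with hy
  have hzT : z ∈ T := Recog.RankOne.mem_Q S.setup
    (by rw [hz, mul_smul, mul_smul, ← hlp, inv_smul_smul, hp'])
    (by rw [hz, show l * π eL * l⁻¹ * (l * π eL * l⁻¹) = l * (π eL * π eL) * l⁻¹ by group, hsq,
      mul_one, mul_inv_cancel])
  have hcL : Commute y z :=
    (Commute.conj_iff l).2 (Commute.map (Subtype.ext hc.eq : Commute xL eL) π)
  have hyT := S.mem_Q_of_commute hTZ (hTZ hzT) (fun h => he1 (conj_eq_one_iff.1 h))
    (mul_mem (mul_mem hl (htop xL)) (inv_mem hl)) hcL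
  have hyy : y * y = 1 := ((S.mem_Z _).1 (hTZ hyT)).2
  rw [hy, show l * π xL * l⁻¹ * (l * π xL * l⁻¹) = l * (π xL * π xL) * l⁻¹ by group,
    conj_eq_one_iff, ← map_mul] at hyy
  have hxG : x * x = 1 := congrArg Subtype.val (hπ1 _ hyy)
  exact Consumers.eq_one_of_two_of_odd hodd (i := 1) (by rw [pow_one, sq, hxG])

/-- The regular situation at another point of the orbit. -/
theorem RegW.conj {S : Set G} {v : G} {a b : C.Pt} (h : C.RegW S v a b) (g : G) :
    C.RegW S (g * v * g⁻¹) (g • a) (g • b) where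
  fam := h.fam
  hv := h.fam.conj v h.hv g
  va := by rw [mul_smul, mul_smul, inv_smul_smul, h.va]
  vb := by rw [mul_smul, mul_smul, inv_smul_smul, h.vb]
  hab e := h.hab (smul_left_cancel g e)
  trans c hc := by
    obtain ⟨w, hw, hwb⟩ := h.trans (g⁻¹ • c) fun e => hc (inv_smul_eq_iff.1 e)
    refine ⟨g * w * g⁻¹, hw.imp (fun e => by rw [e, mul_one, mul_inv_cancel]) C.conj_mem_Za, ?_⟩
    rw [mul_smul, mul_smul, inv_smul_smul, hwb, smul_inv_smul]
  faithful := by
    refine (eq_bot_iff_forall _).2 fun x hx => Subtype.ext (show (x : G) = 1 from ?_)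
    have hxL : g⁻¹ * (x : G) * g ∈ C.L v := by
      have := C.conj_mem_local g⁻¹ x.2
      rwa [inv_inv, show g⁻¹ * (g * v * g⁻¹) * g = v by group] at this
    have h1 : (⟨_, hxL⟩ : ↥(C.L v)) ∈ C.fixKer v := C.mem_fixKer.2 fun p hp => by
      show (g⁻¹ * (x : G) * g) • p = p
      rw [mul_smul, mul_smul, inv_smul_eq_iff]
      exact C.mem_fixKer.1 hx (g • p) (by rw [mul_smul, mul_smul, inv_smul_smul, hp])
    rw [h.faithful, mem_bot] at h1
    have h2 : g⁻¹ * (x : G) * g = 1 := congrArg Subtype.val h1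
    exact (conj_eq_one_iff (a := g⁻¹)).1 (by rwa [inv_inv])
  odd_cent e he x hx hc hodd := by
    have hxL : g⁻¹ * x * g ∈ C.L v := by
      have := C.conj_mem_local g⁻¹ hx
      rwa [inv_inv, show g⁻¹ * (g * v * g⁻¹) * g = v by group] at this
    have hee : g⁻¹ * e * g ∈ C.ZC v := by
      refine ⟨?_, ?_⟩
      · have := C.conj_mem_Z he.1 g⁻¹
        rwa [inv_inv] at this
      · have := (Commute.conj_iff g⁻¹).2 he.2
        simpa [mul_assoc] using this
    have hcc : Commute (g⁻¹ * x * g) (g⁻¹ * e * g) := by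
      have := (Commute.conj_iff g⁻¹).2 hc
      rwa [inv_inv] at this
    have h2 := h.odd_cent _ hee _ hxL hcc (by
      rwa [show g⁻¹ * x * g = g⁻¹ * x * g⁻¹⁻¹ by rw [inv_inv], orderOf_conj_eq])
    exact (conj_eq_one_iff (a := g⁻¹)).1 (by rwa [inv_inv])

/-- **CASE I.** A crossed bad involution at a largest pair does not have `Q = q`. -/
theorem Bad.false_case_one {v : G} (hv : C.Bad v) (hgen : closure C.Z = ⊤)
    (hf : ∀ v : G, orderOf v = 2 → ∃ c : C.Pt, v • c ≠ c)
    (hfaith : ∀ g : G, (∀ c : C.Pt, g • c = c) → g = 1) (hp : PairRank ↥(C.L v)) {a b : C.Pt}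
    {D : Subgroup G} (hM : C.MaxPair v a b D) {E : Subgroup G} (hE : C.IsE v a E)
    (hne : (C.Cross v a).Nonempty) (hQ : C.qn v a = Nat.card E) : False := by
  haveI : Fact (Nat.Prime 2) := ⟨Nat.prime_two⟩
  obtain ⟨hn, hZa, -, hker, hfam⟩ := hv.case_one C hf hfaith hp hM hE hne hQ
  obtain ⟨hva, hvb, -⟩ := hM.fix v hM.mem
  have hvS : v ∈ ({u | ∃ g : G, g * v * g⁻¹ = u} : Set G) :=
    ⟨1, by rw [one_mul, inv_one, mul_one]⟩
  set W := hfam.W hvS hva with hW
  have hfree : ∀ w ∈ W, w • b = b → w = 1 := fun w hw hwb =>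
    hw.resolve_right fun h => hM.ne (C.fix_unique h.1 h.2 hwb)
  have hWa : ∀ w ∈ W, w • a = a := fun w hw => by
    rcases hw with rfl | hw
    exacts [one_smul _ _, hw.2]
  let f : W → {c : C.Pt // c ≠ a} := fun w => ⟨(w : G) • b, fun h =>
    hM.ne (smul_left_cancel (w : G) ((hWa _ w.2).trans h.symm))⟩
  have hfi : Function.Injective f := fun w w' h => Subtype.ext (inv_mul_eq_one.1
    (hfree _ (mul_mem (inv_mem w.2) w'.2) (by
      rw [mul_smul, ← show (w : G) • b = (w' : G) • b from congrArg Subtype.val h, inv_smul_smul])))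
  have hcard : Nat.card {c : C.Pt // c ≠ a} ≤ Nat.card W := by
    classical
    haveI := Fintype.ofFinite C.Pt
    have h1 : Nat.card {c : C.Pt // c ≠ a} = Nat.card C.Pt - 1 := by
      rw [Nat.card_eq_fintype_card, Fintype.card_subtype_compl, Fintype.card_subtype_eq,
        Nat.card_eq_fintype_card]
    have h2 : Nat.card W = Nat.card (C.Za a) + 1 := by
      have h0 : (1 : G) ∉ C.Za a := fun h => by
        have := C.orderOf_Z h.1
        rw [orderOf_one] at this
        omega
      rw [show Nat.card W = (insert (1 : G) (C.Za a)).ncard from Nat.card_coe_set_eq _,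
        Set.ncard_insert_of_notMem h0, Nat.card_coe_set_eq]
    omega
  have hreg : C.RegW {u | ∃ g : G, g * v * g⁻¹ = u} v a b :=
    { fam := hfam
      hv := hvS
      va := hva
      vb := hvb
      hab := hM.ne
      trans := fun c hc => by
        obtain ⟨w, hw⟩ := (hfi.bijective_of_nat_card_le hcard).2 ⟨c, hc⟩
        exact ⟨w, w.2, congrArg Subtype.val hw⟩
      faithful := hker
      odd_cent := hv.odd_cent_of_qn C hp hva hE hQ hker }
  obtain ⟨g, hg⟩ : ∃ g : G, g • a = C.base := MulAction.exists_smul_eq G a C.base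
  have hreg' := hreg.conj C g
  rw [hg] at hreg'
  -- the largest 2-group as a Sylow group of the two-point stabiliser
  set D₀ := MulAction.stabilizer G C.base ⊓ MulAction.stabilizer G (g • b) with hD₀
  set D' := D.map (MulAut.conj g).toMonoidHom with hD'
  have hle : D' ≤ D₀ := by
    rintro _ ⟨x, hx, rfl⟩
    obtain ⟨h1, h2, -⟩ := hM.fix x hx
    simp [hD₀, mul_smul, ← hg, h1, h2]
  have h2' : IsPGroup 2 (D'.subgroupOf D₀) :=
    (hM.two.map _).of_equiv (subgroupOfEquivOfLe hle).symm
  obtain ⟨R, hR⟩ := h2'.exists_le_sylow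
  have hRle : Nat.card (R : Subgroup ↥D₀) ≤ Nat.card (D'.subgroupOf D₀) := by
    rw [Nat.card_congr (subgroupOfEquivOfLe hle).toEquiv, hD',
      card_map_of_injective (MulAut.conj g).injective,
      ← card_map_of_injective (K := (R : Subgroup ↥D₀)) D₀.subtype_injective]
    refine hM.max C.base (g • b) hreg'.hab _ (R.isPGroup'.map _) ?_
    rintro _ ⟨x, -, rfl⟩
    obtain ⟨h1, h2⟩ := mem_inf.1 x.2
    exact ⟨MulAction.mem_stabilizer_iff.1 h1, MulAction.mem_stabilizer_iff.1 h2⟩
  have hRD : (R : Subgroup ↥D₀) = D'.subgroupOf D₀ := (eq_of_le_of_card_ge hR hRle).symm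
  refine hreg'.false hgen hD₀ R (fun hv' => ?_) (fun x => ?_)
  · rw [hRD, mem_subgroupOf]
    exact ⟨v, hM.mem, rfl⟩
  · obtain ⟨y, hy, e⟩ : ((x : ↥D₀) : G) ∈ D' := by
      rw [← mem_subgroupOf, ← hRD]
      exact x.2
    rw [← e]
    exact (Commute.conj_iff g).2 (hM.fix y hy).2.2

end Ctx

end CfsgLib.Criterion
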