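import Cfsg.Agent.Criterion.TypesArith

/-!
# The strong embedding criterion: real elements of a local group with `Q = q ^ 3`

In a rank one group with `|Q| = q ^ 3` two involutions with different fixed points lie, up to
conjugation, in the group `SL₂(q)` of a block, so an element of odd order inverted by an involution
has order dividing `q ^ 2 - 1`.  Hence every prime divisor of the orbit length `d` divides `q ^ 2 - 1`.
-/

set_option autoImplicit false
set_option linter.style.haveILetI false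
set_option linter.unusedSectionVars false

namespace CfsgLib.Criterion

open Subgroup CfsgLib.Invol CfsgLib.Bender

universe u

/-- In a rank one group with `|Q| = q ^ 3` an element of odd order inverted by an involution has order
dividing `q ^ 2 - 1`. -/
theorem orderOf_real_dvd {X Ω : Type*} [Group X] [MulAction X Ω] [Finite X] [FaithfulSMul X Ω]
    {a : Ω} {t : X} {T : Subgroup X} (S : Recog.RankOneSuzuki.Data a t T)
    (hcube : Nat.card T = Nat.card S.Z ^ 3) {w y : X} (hw : w * w = 1) (hw1 : w ≠ 1)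
    (hy : w * y * w = y⁻¹) (hodd : Odd (orderOf y)) : orderOf y ∣ Nat.card S.Z ^ 2 - 1 := by
  classical
  have hna : ∃ x ∈ T, ∃ z ∈ T, x * z ≠ z * x := by
    by_contra hc
    push Not at hc
    have h1 := card_le_of_le (S.le_Z_of_abelian hc)
    have h4 := S.four_le
    rw [hcube] at h1
    generalize Nat.card S.Z = q at *
    nlinarith [Nat.mul_le_mul_left q (Nat.mul_le_mul h4 h4)]
  obtain ⟨F, iF, iFt, iC, n, B, hn, hF, hZ, -⟩ := S.exists_block (S.r_mem_Z_of_cube hcube hna)
  by_cases hy1 : y = 1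
  · simp [hy1]
  set w' := w * y with hw'def
  have hy' : y = w * w' := by rw [hw'def, ← mul_assoc, hw, one_mul]
  have hw' : w' * w' = 1 := by
    rw [hw'def, show w * y * (w * y) = w * y * w * y by group, hy, inv_mul_cancel]
  have hw'1 : w' ≠ 1 := fun h => by
    rw [hy', h, mul_one] at hodd
    rw [orderOf_eq_two hw hw1] at hodd
    exact absurd hodd (by decide)
  obtain ⟨p, hp⟩ := Recog.RankOne.exists_fix S.setup hw
  obtain ⟨p', hp'⟩ := Recog.RankOne.exists_fix S.setup hw'
  obtain ⟨g, hg, hg'⟩ : ∃ g : X, (g * w * g⁻¹) • a = a ∧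
      ((g * w' * g⁻¹) • a = a ∨ (g * w' * g⁻¹) • t • a = t • a) := by
    haveI := Recog.RankOne.pretransitive S.setup
    by_cases hpp : p' = p
    · obtain ⟨g, hg⟩ := MulAction.exists_smul_eq X p a
      refine ⟨g, ?_, Or.inl ?_⟩ <;> rw [← hg, mul_smul, mul_smul, inv_smul_smul]
      · rw [hp]
      · rw [← hpp, hp']
    · obtain ⟨g, hg, hg'⟩ := Recog.RankOne.exists_pair S.setup (Ne.symm hpp)
        (Recog.RankOne.b_ne S.setup).symm
      refine ⟨g, ?_, Or.inr ?_⟩
      · rw [← hg, mul_smul, mul_smul, inv_smul_smul, hp]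
      · rw [← hg', mul_smul, mul_smul, inv_smul_smul, hp']
  have hcj : ∀ {x : X}, x * x = 1 → g * x * g⁻¹ * (g * x * g⁻¹) = 1 := fun {x} hx => by
    rw [show g * x * g⁻¹ * (g * x * g⁻¹) = g * (x * x) * g⁻¹ by group, hx]; group
  obtain ⟨e, he⟩ := B.invol _ (hcj hw) ⟨(1, 0), by simp, by rw [B.P_a]; exact hg⟩
  obtain ⟨e', he'⟩ : ∃ e', B.el e' = g * w' * g⁻¹ := by
    rcases hg' with h | h
    · exact B.invol _ (hcj hw') ⟨(1, 0), by simp, by rw [B.P_a]; exact h⟩
    · exact B.invol _ (hcj hw') ⟨(0, 1), by simp, by rw [B.P_b]; exact h⟩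
  have h1 : orderOf y ∣ Nat.card (Matrix.SpecialLinearGroup (Fin 2) F) := by
    rw [← Invol.orderOf_conj_eq g, show g * y * g⁻¹ = B.el (e * e') by
      rw [map_mul, he, he', hy']; group, orderOf_injective B.el B.el_inj]
    exact orderOf_dvd_natCard _
  have h2 : Nat.card (Matrix.SpecialLinearGroup (Fin 2) F) = 2 ^ n * ((2 ^ n) ^ 2 - 1) := by
    have := CfsgLib.SL2C.card_SL2_mul (F := F)
    rw [hF] at this
    exact this
  rw [h2] at h1
  rw [hZ]
  exact ((Nat.coprime_two_left.2 hodd).symm.pow_right n).dvd_of_dvd_mul_left h1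

variable {G : Type u} [Group G] [Finite G]

namespace Ctx

variable (C : Ctx G)

/-- For `Q = q ^ 3` the prime divisors of the orbit length at a moved point divide `q ^ 2 - 1`. -/
theorem Bad.cube_orbit {v : G} (hv : C.Bad v) (hp : PairRank ↥(C.L v)) {a : C.Pt} (ha : v • a = a)
    {E : Subgroup G} (hE : C.IsE v a E) (hQ : C.qn v a = Nat.card E ^ 3) {c : C.Pt} (hc : v • c ≠ c)
    {w : G} (hw : w ∈ C.CX v c) {p : C.Pt} (hwp : w • p = p) {r : ℕ} (hr : r.Prime)
    (hrd : r ∣ C.dn v c p) : r ∣ Nat.card E ^ 2 - 1 := by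
  haveI : Fact r.Prime := ⟨hr⟩
  obtain ⟨K, hfa, T, t, S, hT, hZ, -⟩ := hv.exists_setup C hp ha hE
  haveI := hfa
  obtain ⟨hwX, hwv⟩ := hw
  have hwL : w ∈ C.L v := C.mem_L hwX.1 hwv
  have hww := C.mul_self_Z hwX.1
  have hvp : v • p = p := C.smul_eq_of_commute_Z hwX.1 hwv hwp
  set Y := C.L v ⊓ MulAction.stabilizer G c with hY
  have hodd := hv.odd_stab_moved C hc
  have horb : C.dn v c p * Nat.card ↥(Y ⊓ MulAction.stabilizer G p) = Nat.card Y := card_orbit_sub Y p
  -- an invariant Sylow subgroup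
  have hnorm : ∀ y ∈ Y, w * y * w ∈ Y := fun y hy => by
    refine ⟨mul_mem (mul_mem hwL hy.1) hwL, ?_⟩
    show (w * y * w) • c = c
    have hyvc : y • (v • c) = v • c := by
      rw [smul_smul, (C.commute_of_mem_L hy.1).eq, mul_smul, hy.2]
    rw [mul_smul, mul_smul, hwX.2, hyvc, (C.X_symm hwX).2]
  let φ : MulAut ↥Y :=
    { toFun := fun y => ⟨w * y * w, hnorm y y.2⟩
      invFun := fun y => ⟨w * y * w, hnorm y y.2⟩
      left_inv := fun y => Subtype.ext (show w * (w * (y : G) * w) * w = y by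
        rw [show w * (w * (y : G) * w) * w = w * w * y * (w * w) by group, hww, one_mul, mul_one])
      right_inv := fun y => Subtype.ext (show w * (w * (y : G) * w) * w = y by
        rw [show w * (w * (y : G) * w) * w = w * w * y * (w * w) by group, hww, one_mul, mul_one])
      map_mul' := fun y z => Subtype.ext (show w * ((y : G) * z) * w = w * y * w * (w * z * w) by
        rw [show w * (y : G) * w * (w * z * w) = w * y * (w * w) * z * w by group, hww, mul_one]
        group) }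
  have hφ : Function.Involutive (fun P : Sylow r ↥Y => φ • P) := fun P => by
    show φ • φ • P = P
    rw [smul_smul, show φ * φ = 1 from MulEquiv.ext fun y => φ.left_inv y, one_smul]
  obtain ⟨R, hR⟩ := exists_fixed_of_involutive
    ((hodd.of_dvd_nat ((Sylow.card_dvd_index (Classical.arbitrary (Sylow r ↥Y))).trans
      (Subgroup.index_dvd_card _))) : Odd (Nat.card (Sylow r ↥Y))) hφ
  have hRw : ∀ x ∈ (R : Subgroup ↥Y), φ x ∈ (R : Subgroup ↥Y) := fun x hx => by
    have h : φ • R = R := hR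
    rw [← h, Sylow.pointwise_smul_def]
    exact Subgroup.smul_mem_pointwise_smul x φ _ hx
  -- it moves `p`
  obtain ⟨x, hx, hxp⟩ : ∃ x ∈ (R : Subgroup ↥Y), (x : G) • p ≠ p := by
    by_contra hall
    push Not at hall
    have hle : (R : Subgroup ↥Y).map Y.subtype ≤ Y ⊓ MulAction.stabilizer G p := by
      rintro _ ⟨x, hx, rfl⟩
      exact ⟨x.2, hall x hx⟩
    have h1 := card_dvd_of_le hle
    rw [card_map_of_injective Y.subtype_injective] at h1
    refine R.not_dvd_index ?_
    have h2 := (R : Subgroup ↥Y).index_mul_card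
    rw [← horb] at h2
    obtain ⟨k, hk⟩ := h1
    rw [hk, ← mul_assoc, mul_right_comm] at h2
    rw [Nat.eq_of_mul_eq_mul_right Nat.card_pos h2]
    exact hrd.mul_right k
  set y : ↥Y := x⁻¹ * φ x with hy
  have hyR : y ∈ (R : Subgroup ↥Y) := mul_mem (inv_mem hx) (hRw x hx)
  have hyinv : w * (y : G) * w = (y : G)⁻¹ := by
    show w * ((x : G)⁻¹ * (w * x * w)) * w = ((x : G)⁻¹ * (w * x * w))⁻¹
    rw [show w * ((x : G)⁻¹ * (w * x * w)) * w = w * (x : G)⁻¹ * w * x * (w * w) by group, hww,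
      mul_one, mul_inv_rev, mul_inv_rev, mul_inv_rev, inv_inv, C.inv_Z hwX.1]
    group
  have hyO : (y : G) ∉ C.Om v := fun h => by
    have h1 : (w * (x : G)) • p = (x : G) • p := by
      rw [show w * (x : G) = x * y * w by
        show w * (x : G) = x * ((x : G)⁻¹ * (w * x * w)) * w
        rw [show (x : G) * ((x : G)⁻¹ * (w * x * w)) * w = w * x * (w * w) by group, hww, mul_one],
        mul_smul, hwp, mul_smul, (C.mem_Om.1 h).2 p hvp]
    rw [mul_smul] at h1
    exact hxp (C.fix_unique hwX.1 h1 hwp)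
  set π := QuotientGroup.mk' (Cfsg.oddCore ↥(C.L v)) with hπ
  set yb : ↥(C.L v) ⧸ Cfsg.oddCore ↥(C.L v) := π ⟨y, y.2.1⟩ with hybar
  have hy1 : yb ≠ 1 := fun h => by
    have h2 := (QuotientGroup.eq_one_iff _).1 h
    rw [hv.oddCore_eq_fixKer C hp] at h2
    exact hyO ⟨_, h2, rfl⟩
  obtain ⟨k, hk⟩ := IsPGroup.iff_orderOf.1 R.2 ⟨y, hyR⟩
  rw [Subgroup.orderOf_mk] at hk
  have hdvd : orderOf yb ∣ orderOf y := by
    refine (orderOf_map_dvd _ _).trans (dvd_of_eq ?_)
    rw [← Subgroup.orderOf_coe, ← Subgroup.orderOf_coe y]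
  obtain ⟨l, -, hl⟩ := (Nat.dvd_prime_pow hr).1 (hk ▸ hdvd)
  have hl0 : l ≠ 0 := fun h => hy1 (orderOf_eq_one_iff.1 (by rw [hl, h, pow_zero]))
  have hwbar : π ⟨w, hwL⟩ * π ⟨w, hwL⟩ = 1 := by
    rw [← map_mul, show (⟨w, hwL⟩ : ↥(C.L v)) * ⟨w, hwL⟩ = 1 from Subtype.ext hww, map_one]
  have hwbar1 : π ⟨w, hwL⟩ ≠ 1 := fun h => by
    have h1 := IsoApps.odd_of_mem_oddCore ((QuotientGroup.eq_one_iff _).1 h)
    rw [← Subgroup.orderOf_coe, C.orderOf_Z hwX.1] at h1
    exact absurd h1 (by decide)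
  have hinv : π ⟨w, hwL⟩ * yb * π ⟨w, hwL⟩ = yb⁻¹ := by
    rw [hybar, ← map_mul, ← map_mul, ← map_inv]
    exact congrArg π (Subtype.ext hyinv)
  have h := orderOf_real_dvd S (by rw [hT, hQ, hZ]) hwbar hwbar1 hinv
    ((hodd.of_dvd_nat (orderOf_dvd_natCard y)).of_dvd_nat hdvd)
  rw [hZ, hl] at h
  exact (dvd_pow_self r hl0).trans h

end Ctx

end CfsgLib.Criterion
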