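import Cfsg.Agent.Criterion.ClosedCtx
import Cfsg.Agent.Criterion.CubeReal

/-!
# The strong embedding criterion: every bad involution at the point has `Q = q`

If `n - 1` is a power of 2 every bad involution has `Q = q` and `n - 1 ≤ q ^ 3`.  If moreover no member
crosses `v` at `a` and `Q = q` for `v`, every bad involution fixing `a` has the same `q`, is crossed by
no member, and centralises `E` if it normalises it.
-/

set_option autoImplicit false
set_option linter.style.haveILetI false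
set_option linter.unusedSectionVars false

namespace CfsgLib.Criterion

open Subgroup CfsgLib.Invol CfsgLib.Bender
open CfsgLib.DGroup (coreIn coreIn_le odd_coreIn normalizer_coreIn le_coreIn)

universe u

/-! ### Arithmetic -/

theorem pow_gcd_dvd {x s t : ℕ} (hs : x ∣ 2 ^ s - 1) (ht : x ∣ 2 ^ t - 1) : x ∣ 2 ^ Nat.gcd s t - 1 :=
  Nat.pow_sub_one_gcd_pow_sub_one 2 s t ▸ Nat.dvd_gcd hs ht

/-- No solution of Suzuki type. -/
theorem no_suzuki_pow {m s d i k : ℕ} (hm : 1 ≤ m) (hs : s ≠ 0)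
    (hk : k ∈ CfsgLib.Suzuki.torusOrders m) (hd : d ∣ k)
    (hb : 2 ^ s - 1 ≤ ((2 ^ (2 * m + 1)) ^ 2 + 1) * (2 ^ (2 * m + 1) - 1))
    (h : (2 ^ s - 1) * d = ((2 ^ (2 * m + 1)) ^ 2 + 1) * (2 ^ (2 * m + 1) - 1) * i) : False := by
  set q := 2 ^ (2 * m + 1) with hq
  set l := 2 ^ (m + 1) with hl
  have hsq : l * l = 2 * q := by
    rw [hq, hl, ← pow_add, ← pow_succ']; ring_nf
  have hl4 : 4 ≤ l := le_trans (by norm_num : 4 ≤ 2 ^ 2) (Nat.pow_le_pow_right two_pos (by omega))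
  have hlq : l + 4 ≤ q := by nlinarith
  have hq2 : (2 : ℕ) ^ (4 * (2 * m + 1)) = q ^ 4 := by rw [hq, ← pow_mul]; ring_nf
  have hs3 : s < 3 * (2 * m + 1) := by
    by_contra hle
    have h1 : q ^ 3 ≤ 2 ^ s := by
      rw [hq, ← pow_mul]; exact Nat.pow_le_pow_right two_pos (by omega)
    have h2 : (q ^ 2 + 1) * (q - 1) + q ^ 2 + 1 ≤ q ^ 3 + q := by
      obtain ⟨c, hc⟩ : ∃ c, q = c + 1 := ⟨q - 1, by omega⟩
      rw [hc, Nat.add_sub_cancel]; ring_nf; omega
    have h3 : 2 * q ≤ q ^ 2 := by rw [pow_two]; exact Nat.mul_le_mul_right q (by omega)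
    omega
  obtain ⟨e, he⟩ := hd
  have h' : (2 ^ s - 1) * k = (q ^ 2 + 1) * (q - 1) * (i * e) := by
    rw [he, ← mul_assoc, h, mul_assoc]
  simp only [CfsgLib.Suzuki.torusOrders, Set.mem_insert_iff, Set.mem_singleton_iff, ← hq, ← hl] at hk
  have hsplit : (q + l + 1) * (q - l + 1) = q ^ 2 + 1 := by
    zify [show l ≤ q by omega]
    have : (l : ℤ) * l = 2 * q := by exact_mod_cast hsq
    linear_combination -this
  have hkl : k = q - 1 ∨ ∃ k', k * k' = q ^ 2 + 1 ∧ (k' = q + l + 1 ∨ k' = q - l + 1) := by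
    rcases hk with hk | hk | hk
    · exact Or.inl hk
    · exact Or.inr ⟨q - l + 1, by rw [hk, hsplit], Or.inr rfl⟩
    · exact Or.inr ⟨q + l + 1, by rw [hk, mul_comm, hsplit], Or.inl rfl⟩
  rcases hkl with hk | ⟨k', hkk', hk'⟩
  · have h1 : q ^ 2 + 1 ∣ 2 ^ s - 1 := ⟨i * e, Nat.eq_of_mul_eq_mul_right (show 0 < q - 1 by omega)
      (by rw [hk] at h'; rw [h']; ring)⟩
    have h2 : q ^ 2 + 1 ∣ 2 ^ (4 * (2 * m + 1)) - 1 := by
      rw [hq2]
      exact ⟨q ^ 2 - 1, by rw [← Nat.sq_sub_sq, one_pow, show (q ^ 2) ^ 2 = q ^ 4 by ring]⟩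
    have h3 := pow_gcd_dvd h1 h2
    set g := Nat.gcd s (4 * (2 * m + 1))
    have hgs : g ≤ s := Nat.le_of_dvd (Nat.pos_of_ne_zero hs) (Nat.gcd_dvd_left _ _)
    have hg0 : 0 < g := Nat.gcd_pos_of_pos_left _ (Nat.pos_of_ne_zero hs)
    obtain ⟨c, hc⟩ : g ∣ 4 * (2 * m + 1) := Nat.gcd_dvd_right _ _
    have hc2 : 2 ≤ c := by
      rcases Nat.lt_or_ge c 2 with h4 | h4
      · interval_cases c <;> omega
      · exact h4
    have hg2 : g * 2 ≤ g * c := Nat.mul_le_mul_left _ hc2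
    have h5 : 2 ^ g ≤ q ^ 2 := by
      rw [hq, ← pow_mul]; exact Nat.pow_le_pow_right two_pos (by omega)
    have h6 : 2 ≤ 2 ^ g := Nat.le_pow hg0.ne'.bot_lt
    have := Nat.le_of_dvd (by omega) h3
    omega
  · have hk0 : 0 < k := Nat.pos_of_ne_zero fun h0 => by rw [h0, zero_mul] at hkk'; omega
    have h1 : 2 ^ s - 1 = k' * (q - 1) * (i * e) := Nat.eq_of_mul_eq_mul_right hk0 (by
      rw [h', ← hkk']; ring)
    have h2 := pow_gcd_dvd (show q - 1 ∣ 2 ^ s - 1 from ⟨k' * (i * e), by rw [h1]; ring⟩)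
      (show q - 1 ∣ 2 ^ (2 * m + 1) - 1 from dvd_rfl)
    have hg0 : 0 < Nat.gcd s (2 * m + 1) := Nat.gcd_pos_of_pos_left _ (Nat.pos_of_ne_zero hs)
    have hga : Nat.gcd s (2 * m + 1) = 2 * m + 1 := by
      refine le_antisymm (Nat.gcd_le_right _ (by omega)) ?_
      refine (Nat.pow_le_pow_iff_right (le_refl 2)).1 ?_
      have h6 : 2 ≤ 2 ^ Nat.gcd s (2 * m + 1) := Nat.le_pow hg0.ne'.bot_lt
      have := Nat.le_of_dvd (by omega) h2
      rw [← hq]
      omega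
    have hdvd : 2 * m + 1 ∣ s := hga ▸ Nat.gcd_dvd_left _ _
    obtain ⟨c, rfl⟩ := hdvd
    have hc : c = 1 ∨ c = 2 := by
      have hc3 : c < 3 := Nat.lt_of_mul_lt_mul_left (show (2 * m + 1) * c < (2 * m + 1) * 3 by omega)
      rcases c with _ | _ | _ | c
      · exact absurd rfl hs
      · exact Or.inl rfl
      · exact Or.inr rfl
      · omega
    have hke : k' ∣ q + 1 := by
      rcases hc with rfl | rfl
      · rw [mul_one, ← hq] at h1
        refine (Dvd.intro (i * e) ?_).trans (one_dvd (q + 1))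
        exact Nat.eq_of_mul_eq_mul_right (show 0 < q - 1 by omega) (by rw [one_mul]; linarith)
      · refine Dvd.intro (i * e) (Nat.eq_of_mul_eq_mul_right (show 0 < q - 1 by omega) ?_)
        rw [← Nat.sq_sub_sq, one_pow, hq, ← pow_mul, h1]; ring
    have hlk : k' ∣ l := by
      rcases hk' with rfl | rfl
      · have := Nat.le_of_dvd (by omega) hke; omega
      · rw [← Nat.dvd_add_right (dvd_refl (q - l + 1)), show q - l + 1 + l = q + 1 by omega]
        exact hke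
    obtain ⟨j, -, hj⟩ := (Nat.dvd_prime_pow Nat.prime_two).1 hlk
    have hodd : Odd k' := by
      have hev : Even q := by rw [hq]; exact even_two.pow_of_ne_zero (by omega)
      have hevl : Even l := by rw [hl]; exact even_two.pow_of_ne_zero (by omega)
      rcases hk' with rfl | rfl
      · exact (hev.add hevl).add_one
      · exact ((Nat.even_sub (by omega)).2 (iff_of_true hev hevl)).add_one
    rcases j with _ | j
    · rw [hj] at hk'; omega
    · rw [hj] at hodd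
      exact Nat.not_even_iff_odd.2 hodd (even_two.pow_of_ne_zero (by omega))

/-- No solution of unitary type. -/
theorem no_cube_pow {a s d i : ℕ} (ha : 2 ≤ a) (hs : s ≠ 0)
    (hd : ∀ r : ℕ, r.Prime → r ∣ d → r ∣ (2 ^ a) ^ 2 - 1) (hd0 : d ≠ 0)
    (hb : 2 ^ s - 1 ≤ ((2 ^ a) ^ 3 + 1) * (2 ^ a - 1))
    (h : (2 ^ s - 1) * d = ((2 ^ a) ^ 3 + 1) * (2 ^ a - 1) * i) : False := by
  set q := 2 ^ a with hq
  have hq4 : 4 ≤ q := le_trans (by norm_num : 4 ≤ 2 ^ 2) (Nat.pow_le_pow_right two_pos ha)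
  have hs4 : s ≤ 4 * a := by
    by_contra hlt
    have h1 : q ^ 4 * 2 ≤ 2 ^ s := by
      rw [hq, ← pow_mul, ← pow_succ]; exact Nat.pow_le_pow_right two_pos (by omega)
    have h2 : (q ^ 3 + 1) * (q - 1) ≤ (q ^ 3 + 1) * q := Nat.mul_le_mul_left _ (by omega)
    have h3 : q * 4 ≤ q * q ^ 3 := Nat.mul_le_mul_left _ (hq4.trans (Nat.le_pow (by norm_num)))
    have h4 : (q ^ 3 + 1) * q = q ^ 4 + q := by ring
    have h5 : q * q ^ 3 = q ^ 4 := by ring
    omega
  obtain ⟨M, hM⟩ : ∃ M, M + q = q * q + 1 := ⟨q * q + 1 - q, by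
    have : q ≤ q * q := Nat.le_mul_self q
    omega⟩
  have hM3 : q ^ 3 + 1 = (q + 1) * M := by
    zify at hM ⊢
    linear_combination -((q : ℤ) + 1) * hM
  -- the prime divisors of `gcd M d`
  have hcom : ∀ r : ℕ, r ∣ M → r ∣ q ^ 2 - 1 → r ∣ 3 := by
    intro r h1 h2
    have h3 : (r : ℤ) ∣ (q : ℤ) ^ 2 - 1 := by
      have := Int.natCast_dvd_natCast.2 h2
      rwa [Nat.cast_sub (Nat.one_le_pow _ _ (by omega)), Nat.cast_pow, Nat.cast_one] at this
    have h4 : (r : ℤ) ∣ (M : ℤ) := Int.natCast_dvd_natCast.2 h1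
    have h5 : (M : ℤ) + q = q * q + 1 := by exact_mod_cast hM
    have h6 : (r : ℤ) ∣ (3 : ℤ) := by
      have h7 := (h3.sub ((h3.sub h4).mul_right ((q : ℤ) + 2)))
      rwa [show (q : ℤ) ^ 2 - 1 - ((q : ℤ) ^ 2 - 1 - M) * ((q : ℤ) + 2) = 3 by
        rw [show (M : ℤ) = q * q + 1 - q by linarith]; ring] at h7
    exact_mod_cast h6
  have hg : Nat.gcd M d ∣ 3 := by
    set g := Nat.gcd M d
    have hg0 : g ≠ 0 := Nat.gcd_ne_zero_right hd0
    have hg3 : g = 3 ^ g.primeFactorsList.length := Nat.eq_prime_pow_of_unique_prime_dvd hg0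
      fun {r} hr hrg => (Nat.prime_dvd_prime_iff_eq hr Nat.prime_three).1
        (hcom r (hrg.trans (Nat.gcd_dvd_left _ _)) (hd r hr (hrg.trans (Nat.gcd_dvd_right _ _))))
    rcases hlen : g.primeFactorsList.length with _ | _ | j
    · rw [hg3, hlen]; norm_num
    · rw [hg3, hlen]; norm_num
    · exfalso
      have h9 : 9 ∣ M := by
        refine dvd_trans ?_ (Nat.gcd_dvd_left M d)
        show 3 ^ 2 ∣ g
        rw [hg3, hlen]
        exact pow_dvd_pow 3 (by omega)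
      have : (M : ZMod 9) = 0 := (ZMod.natCast_eq_zero_iff _ _).2 h9
      have h10 : (M : ZMod 9) + q = q * q + 1 := by exact_mod_cast congrArg (Nat.cast : ℕ → ZMod 9) hM
      rw [this, zero_add] at h10
      revert h10
      generalize (q : ZMod 9) = x
      revert x
      decide
  obtain ⟨P, hP⟩ := Nat.gcd_dvd_left M d
  obtain ⟨d', hd'⟩ := Nat.gcd_dvd_right M d
  have hgpos : 0 < Nat.gcd M d := Nat.gcd_pos_of_pos_right _ (Nat.pos_of_ne_zero hd0)
  have hco : Nat.Coprime P d' := by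
    have := Nat.coprime_div_gcd_div_gcd hgpos
    rwa [Nat.div_eq_of_eq_mul_right hgpos hP, Nat.div_eq_of_eq_mul_right hgpos hd'] at this
  have hPs : P ∣ 2 ^ s - 1 := by
    refine hco.dvd_of_dvd_mul_right ⟨(q + 1) * (q - 1) * i, Nat.eq_of_mul_eq_mul_left hgpos ?_⟩
    rw [hM3] at h
    calc Nat.gcd M d * ((2 ^ s - 1) * d') = (2 ^ s - 1) * (Nat.gcd M d * d') := by ring
      _ = (q + 1) * M * (q - 1) * i := by rw [← hd', h]
      _ = (q + 1) * (Nat.gcd M d * P) * (q - 1) * i := by rw [← hP]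
      _ = _ := by ring
  have hP3 : P ∣ q ^ 3 + 1 := ⟨(q + 1) * Nat.gcd M d, by rw [hM3]; nth_rw 1 [hP]; ring⟩
  have hbig : q * q + 1 ≤ q + 3 * P := by
    have := Nat.mul_le_mul_right P (Nat.le_of_dvd (by norm_num) hg)
    rw [← hP] at this
    omega
  have hqq : 4 * q ≤ q * q := Nat.mul_le_mul_right q hq4
  have hnot2 : ¬ P ∣ q ^ 3 - 1 := fun h1 => by
    have h2 := Nat.dvd_sub hP3 h1
    rw [show q ^ 3 + 1 - (q ^ 3 - 1) = 2 by have := Nat.one_le_pow 3 q (by omega); omega] at h2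
    have := Nat.le_of_dvd two_pos h2
    omega
  have h6 : P ∣ 2 ^ (6 * a) - 1 := by
    rw [show 2 ^ (6 * a) = (q ^ 3) ^ 2 by rw [hq, ← pow_mul, ← pow_mul]; ring_nf]
    exact hP3.trans ⟨q ^ 3 - 1, by rw [← Nat.sq_sub_sq, one_pow]⟩
  have hh := pow_gcd_dvd hPs h6
  set g := Nat.gcd s (6 * a)
  have hgs : g ≤ 4 * a := (Nat.le_of_dvd (Nat.pos_of_ne_zero hs) (Nat.gcd_dvd_left _ _)).trans hs4
  have hg0 : 0 < g := Nat.gcd_pos_of_pos_left _ (Nat.pos_of_ne_zero hs)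
  obtain ⟨k, hk⟩ : g ∣ 6 * a := Nat.gcd_dvd_right _ _
  rcases Nat.lt_or_ge k 5 with hk5 | hk5
  · interval_cases k
    · omega
    · omega
    · refine hnot2 ?_
      rwa [hq, ← pow_mul, show a * 3 = g by omega]
    · have h7 : P ∣ q ^ 2 - 1 := by rwa [hq, ← pow_mul, show a * 2 = g by omega]
      have := Nat.le_of_dvd (by norm_num) (hcom P (Dvd.intro_left _ hP.symm) h7)
      omega
    · refine hnot2 ?_
      rw [hq, ← pow_mul, show a * 3 = g * 2 by omega, pow_mul]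
      exact hh.trans (Nat.sub_one_dvd_pow_sub_one _ _)
  · have h5 : g * 5 ≤ g * k := Nat.mul_le_mul_left _ hk5
    have h8 : 2 ^ g * 4 ≤ q * q := by
      rw [hq, ← pow_add, show (4 : ℕ) = 2 ^ 2 from rfl, ← pow_add]
      exact Nat.pow_le_pow_right two_pos (by omega)
    have h9 : 2 ≤ 2 ^ g := Nat.le_pow hg0.ne'.bot_lt
    have := Nat.le_of_dvd (by omega) hh
    omega

variable {G : Type u} [Group G] [Finite G]

namespace Ctx

variable (C : Ctx G)

/-- **If `n - 1` is a power of 2** a bad involution has `Q = q` and `n - 1 ≤ q ^ 3`. -/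
theorem Bad.qn_eq_of_pow {v : G} (hv : C.Bad v) (hf : ∀ v : G, orderOf v = 2 → ∃ c : C.Pt, v • c ≠ c)
    (hp : PairRank ↥(C.L v)) {a : C.Pt} (ha : v • a = a) {E : Subgroup G} (hE : C.IsE v a E)
    {N : ℕ} (hn : Nat.card C.Pt = 2 ^ N + 1) :
    C.qn v a = Nat.card E ∧ 2 ^ N ≤ Nat.card E ^ 3 := by
  haveI : Fact (Nat.Prime 2) := ⟨Nat.prime_two⟩
  obtain ⟨x, hx, hxv⟩ := C.exists_commute_at (mul_self_eq_one hv.1) ha
  have hxE : x ∈ C.Ea v a := ⟨hx, hxv⟩
  obtain ⟨c, hc⟩ := hf v hv.1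
  obtain ⟨h1, h2⟩ := hv.count C hf hp ha hxE hE hc
  obtain ⟨hq4, hQ⟩ := hv.qn_cases C hp ha hE
  obtain ⟨α, hα⟩ := IsPGroup.iff_card.1 (hE.isPGroup C)
  have hα2 : 2 ≤ α := by
    by_contra h
    have : 2 ^ α ≤ 2 ^ 1 := Nat.pow_le_pow_right two_pos (by omega)
    omega
  have hj := Bad.card_cls_pos C hxE
  have hj' := Bad.card_cls_pos C (hv.mul_Ea C hf hp ha hxE).2.2.1
  have hrj : Nat.card (C.cls v a x) ≤ Nat.card (C.CX v c) := by
    have h3 : Nat.card (C.cls v a x) * ((Nat.card E - 1) * Nat.card (C.cls (v * x) a x)) ≤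
        Nat.card (C.CX v c) * ((Nat.card E - 1) * Nat.card (C.cls (v * x) a x)) := by
      rw [h2]
      refine le_trans (le_of_eq ?_) (Nat.le_add_right _ _)
      ring
    exact Nat.le_of_mul_le_mul_right h3 (Nat.mul_pos (by omega) hj')
  obtain ⟨w, hwX, hwv⟩ := C.exists_swap_commute (mul_self_eq_one hv.1) (Ne.symm hc)
    (Or.inr ⟨rfl, by rw [smul_smul, mul_self_eq_one hv.1, one_smul]⟩)
  obtain ⟨p, hwp⟩ := C.exists_fix hwX.1
  obtain ⟨i, hi, hd, hri, -⟩ := hv.orbit_data_at C hf hp hxE hc ⟨hwX, hwv⟩ hwp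
  change Nat.card (C.CX v c) * i = Nat.card (C.cls v a x) * C.dn v c p at hri
  change C.dn v c p ≤ C.fn v at hd
  have hd0 : C.dn v c p ≠ 0 := fun h0 => by
    rw [h0, mul_zero] at hri
    rcases Nat.mul_eq_zero.1 hri with h | h <;> omega
  have hle : C.qn v a + 1 ≤ 2 ^ N + 1 := hn ▸ C.fn_eq ha ▸ Finite.card_subtype_le _
  rw [C.fn_eq ha, hn, Nat.add_sub_add_right] at h1
  have hQ' : ∃ e : ℕ, 1 ≤ e ∧ C.qn v a = 2 ^ (α * e) ∧ (e = 1 ∨ e = 2 ∨ e = 3) := by
    rcases hQ with h | h | h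
    · exact ⟨1, le_rfl, by rw [mul_one, ← hα, h], Or.inl rfl⟩
    · exact ⟨2, by omega, by rw [pow_mul, ← hα, h], Or.inr (Or.inl rfl)⟩
    · exact ⟨3, by omega, by rw [pow_mul, ← hα, h], Or.inr (Or.inr rfl)⟩
  obtain ⟨e, -, hQe, hecases⟩ := hQ'
  rw [hQe] at h1 hle
  have hNe : α * e ≤ N := (Nat.pow_le_pow_iff_right (le_refl 2)).1 (by omega)
  obtain ⟨s, rfl⟩ := Nat.exists_eq_add_of_le hNe
  rw [pow_add, ← Nat.mul_sub_one] at h1
  have h5 : (2 ^ s - 1) * Nat.card (C.CX v c) =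
      (2 ^ (α * e) + 1) * ((Nat.card E - 1) * Nat.card (C.cls v a x)) :=
    Nat.eq_of_mul_eq_mul_left (pow_pos two_pos (α * e)) (by linarith)
  have hb : 2 ^ s - 1 ≤ (2 ^ (α * e) + 1) * (Nat.card E - 1) := by
    refine Nat.le_of_mul_le_mul_right ?_ hj
    calc (2 ^ s - 1) * Nat.card (C.cls v a x) ≤ (2 ^ s - 1) * Nat.card (C.CX v c) :=
          Nat.mul_le_mul_left _ hrj
      _ = _ := by rw [h5, mul_assoc]
  have heq : (2 ^ s - 1) * C.dn v c p = (2 ^ (α * e) + 1) * (Nat.card E - 1) * i :=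
    Nat.eq_of_mul_eq_mul_right hj (by
      calc (2 ^ s - 1) * C.dn v c p * Nat.card (C.cls v a x)
          = (2 ^ s - 1) * (Nat.card (C.cls v a x) * C.dn v c p) := by ring
        _ = (2 ^ s - 1) * Nat.card (C.CX v c) * i := by rw [← hri]; ring
        _ = _ := by rw [h5]; ring)
  have hs : e ≠ 1 → s ≠ 0 := fun _ h0 => by
    rw [h0, pow_zero, Nat.sub_self, zero_mul] at heq
    rcases Nat.mul_eq_zero.1 heq.symm with h | h
    · rcases Nat.mul_eq_zero.1 h with h | h <;> omega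
    · omega
  rcases hecases with rfl | rfl | rfl
  · refine ⟨by rw [hQe, mul_one, hα], ?_⟩
    rw [pow_add, mul_one, ← hα]
    rw [mul_one, ← hα] at hb
    generalize Nat.card E = q at *
    have h6 : (q + 1) * (q - 1) = q ^ 2 - 1 := by rw [← Nat.sq_sub_sq, one_pow]
    have h7 : 2 ^ s ≤ q ^ 2 := by
      have := Nat.one_le_pow 2 q (by omega)
      omega
    calc q * 2 ^ s ≤ q * q ^ 2 := Nat.mul_le_mul_left _ h7
      _ = q ^ 3 := by ring
  · exfalso
    obtain ⟨m, hm, hq, htor⟩ := hv.suzuki_orbit C hp ha hE (by rw [hQe, pow_mul, hα])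
    obtain ⟨k, hk, hdk⟩ := htor c hc w ⟨hwX, hwv⟩ p hwp
    rw [pow_mul, ← hα, hq] at hb heq
    exact no_suzuki_pow hm (hs (by omega)) hk hdk hb heq
  · exfalso
    rw [pow_mul, hα] at hb heq
    exact no_cube_pow hα2 (hs (by omega)) (fun r hr hrd => by
      have := hv.cube_orbit C hp ha hE (by rw [hQe, pow_mul, hα]) hc ⟨hwX, hwv⟩ hwp hr hrd
      rwa [hα] at this) hd0 hb heq

/-- A member at `a` centralising `u` has a partner in `E`. -/
theorem Bad.exists_partner {v : G} (hv : C.Bad v) (hf : ∀ v : G, orderOf v = 2 → ∃ c : C.Pt, v • c ≠ c)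
    (hp : PairRank ↥(C.L v)) {a : C.Pt} (ha : v • a = a) {E : Subgroup G} (hE : C.IsE v a E)
    (h0 : C.Cross v a = ∅) {y : G} (hy : y ∈ C.Za a) :
    ∃ e ∈ E, e ≠ 1 ∧ y * e ∈ coreIn (MulAction.stabilizer G a) := by
  have hH := MulAction.mem_stabilizer_iff.2 hy.2
  obtain ⟨r, hr, hre⟩ := (hv.closedHyp C hf hp ha hE h0).exists_conj_mem hy hH
  refine ⟨_, hre, fun h => ne_one (C.orderOf_Z hy.1) (conj_eq_one_iff.1 h), ?_⟩
  rw [show y * (r * y * r⁻¹) = y * r * y * r⁻¹ by group]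
  refine mul_mem ?_ (inv_mem hr)
  have h1 := (mem_normalizer_iff.1 ((normalizer_coreIn (MulAction.stabilizer G a)) hH) r).1 hr
  rwa [C.inv_Z hy.1] at h1

/-- An element of `E` in the odd core of the stabiliser is trivial. -/
theorem IsE.eq_one_of_core {v : G} {a : C.Pt} {E : Subgroup G} (hE : C.IsE v a E) {e : G} (he : e ∈ E)
    (hc : e ∈ coreIn (MulAction.stabilizer G a)) : e = 1 :=
  Consumers.eq_one_of_two_of_odd ((odd_coreIn _).of_dvd_nat (orderOf_dvd_natCard _ hc))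
    (i := 1) (by rw [pow_one, pow_two]; exact hE.mul_self C he)

/-- **Every bad involution at `a` has the same `q`**, `Q = q`, and centralises `E` if it normalises it. -/
theorem Bad.size_at {v : G} (hv : C.Bad v) (hf : ∀ v : G, orderOf v = 2 → ∃ c : C.Pt, v • c ≠ c)
    (hp : ∀ u : G, C.Bad u → PairRank ↥(C.L u)) {a : C.Pt} (ha : v • a = a) {E : Subgroup G}
    (hE : C.IsE v a E) (h0 : C.Cross v a = ∅) (hQ : C.qn v a = Nat.card E) {u : G} (hu : C.Bad u)
    (hua : u • a = a) :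
    C.qn u a = Nat.card E ∧ (∀ E' : Subgroup G, C.IsE u a E' → Nat.card E' = Nat.card E) ∧
      (u ∈ normalizer (E : Set G) → ∀ e ∈ E, Commute e u) := by
  classical
  haveI : Fact (Nat.Prime 2) := ⟨Nat.prime_two⟩
  obtain ⟨x, hx, hxv⟩ := C.exists_commute_at (mul_self_eq_one hv.1) ha
  have hn := hv.count_of_cross_empty C hf (hp v hv) ha ⟨hx, hxv⟩ hE h0
  have hn3 : Nat.card C.Pt = Nat.card E ^ 3 + 1 := by
    rw [hn, hQ]
    obtain ⟨c, hc⟩ : ∃ c, Nat.card E = c + 1 := ⟨Nat.card E - 1, by have := Nat.card_pos (α := E); omega⟩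
    rw [hc, Nat.add_sub_cancel]; ring
  obtain ⟨α, hα⟩ := IsPGroup.iff_card.1 (hE.isPGroup C)
  have hN : Nat.card C.Pt = 2 ^ (α * 3) + 1 := by rw [hn3, hα, pow_mul]
  -- a map from the group of `u` into `E`
  have key : ∀ E' : Subgroup G, C.IsE u a E' → C.qn u a = Nat.card E' ∧ Nat.card E' = Nat.card E ∧
      (u ∈ normalizer (E : Set G) → ∀ e ∈ E, Commute e u) := by
    intro E' hE'
    obtain ⟨hQu, hle⟩ := hu.qn_eq_of_pow C hf (hp u hu) hua hE' hN
    rw [pow_mul, ← hα] at hle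
    have hge : Nat.card E ≤ Nat.card E' := (Nat.pow_le_pow_iff_left (by norm_num)).1 hle
    have hex : ∀ f : E', ∃ e : E, (f : G) * e ∈ coreIn (MulAction.stabilizer G a) := fun f => by
      by_cases h : (f : G) = 1
      · exact ⟨1, by rw [h, coe_one, one_mul]; exact one_mem _⟩
      · obtain ⟨e, he, -, hm⟩ := hv.exists_partner C hf (hp v hv) ha hE h0 (hE'.mem f f.2 h).1
        exact ⟨⟨e, he⟩, hm⟩
    choose F hF using hex
    have hinj : Function.Injective F := fun f g h => by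
      refine Subtype.ext (hE'.eq_of_odd C f.2 g.2 ?_)
      have h1 := mul_mem (hF f) (inv_mem (hF g))
      rw [h, mul_inv_rev, ← mul_assoc, mul_inv_cancel_right,
        inv_eq_of_mul_eq_one_right (hE'.mul_self C g.2)] at h1
      exact (odd_coreIn _).of_dvd_nat (orderOf_dvd_natCard _ h1)
    have hcard : Nat.card E' = Nat.card E := le_antisymm (Nat.card_le_card_of_injective F hinj) hge
    refine ⟨hQu, hcard, fun huN e he => ?_⟩
    obtain ⟨f, hfe⟩ := (hinj.bijective_of_nat_card_le hcard.ge).2 ⟨e, he⟩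
    have hfm : (f : G) * e ∈ coreIn (MulAction.stabilizer G a) := by
      have := hF f
      rwa [hfe] at this
    have huH : u ∈ MulAction.stabilizer G a := MulAction.mem_stabilizer_iff.2 hua
    have hfu : Commute (f : G) u := by
      by_cases h : (f : G) = 1
      · rw [h]; exact Commute.one_left u
      · exact (hE'.mem f f.2 h).2
    have h2 := (mem_normalizer_iff.1 ((normalizer_coreIn (MulAction.stabilizer G a)) huH) _).1 hfm
    have h3 := mul_mem (inv_mem hfm) h2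
    rw [show u * ((f : G) * e) * u⁻¹ = u * f * u⁻¹ * (u * e * u⁻¹) by group,
      mul_inv_eq_iff_eq_mul.2 hfu.eq.symm, mul_inv_rev, mul_assoc, inv_mul_cancel_left] at h3
    have h4 := hE.eq_one_of_core C
      (mul_mem (inv_mem he) ((mem_normalizer_iff.1 huN e).1 he)) h3
    exact (mul_inv_eq_iff_eq_mul.1 (inv_mul_eq_one.1 h4).symm).symm
  obtain ⟨y, hy, hyu⟩ := C.exists_commute_at (mul_self_eq_one hu.1) hua
  obtain ⟨E₁, hE₁, -⟩ := hu.exists_E C (hp u hu) hua ⟨hy, hyu⟩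
  obtain ⟨h1, h2, h3⟩ := key E₁ hE₁
  exact ⟨h1.trans h2, fun E' hE' => (key E' hE').2.1, h3⟩

/-- Such an involution is crossed by no member. -/
theorem Bad.cross_empty_at {v : G} (hv : C.Bad v) (hf : ∀ v : G, orderOf v = 2 → ∃ c : C.Pt, v • c ≠ c)
    (hp : ∀ u : G, C.Bad u → PairRank ↥(C.L u)) {a : C.Pt} (ha : v • a = a) {E : Subgroup G}
    (hE : C.IsE v a E) (h0 : C.Cross v a = ∅) (hQ : C.qn v a = Nat.card E) {u : G} (hu : C.Bad u)
    (hua : u • a = a) : C.Cross u a = ∅ := by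
  obtain ⟨x, hx, hxv⟩ := C.exists_commute_at (mul_self_eq_one hv.1) ha
  have hn := hv.count_of_cross_empty C hf (hp v hv) ha ⟨hx, hxv⟩ hE h0
  obtain ⟨hQu, hEu, -⟩ := hv.size_at C hf hp ha hE h0 hQ hu hua
  obtain ⟨y, hy, hyu⟩ := C.exists_commute_at (mul_self_eq_one hu.1) hua
  obtain ⟨E₁, hE₁, -⟩ := hu.exists_E C (hp u hu) hua ⟨hy, hyu⟩
  obtain ⟨c, hc⟩ := hf u hu.1
  obtain ⟨h1, h2⟩ := hu.count C hf (hp u hu) hua ⟨hy, hyu⟩ hE₁ hc
  have hq := Bad.one_lt_E C ⟨hx, hxv⟩ hE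
  rw [hn, C.fn_eq hua, hQu, hQ, hEu E₁ hE₁, Nat.add_sub_cancel_left] at h1
  rw [hEu E₁ hE₁] at h2
  by_contra hne
  obtain ⟨z, hz⟩ := Set.nonempty_iff_ne_empty.2 hne
  haveI : Nonempty (C.Cross u a) := ⟨⟨z, hz⟩⟩
  have hA : 0 < Nat.card (C.Cross u a) := Nat.card_pos
  generalize Nat.card E = q at *
  have hr : Nat.card (C.CX u c) = Nat.card (C.cls u a y) := by
    refine Nat.eq_of_mul_eq_mul_left
      (Nat.mul_pos (Nat.mul_pos ((Nat.add_pos_right q Nat.one_pos)) (Nat.sub_pos_of_lt hq)) (by omega : 0 < q)) ?_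
    rw [h1]; ring
  rw [hr, show Nat.card (C.cls u a y) * ((q - 1) * Nat.card (C.cls (u * y) a y)) =
    (q - 1) * Nat.card (C.cls u a y) * Nat.card (C.cls (u * y) a y) by ring] at h2
  omega

end Ctx

end CfsgLib.Criterion
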