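import Cfsg.Agent.Solvable.Basics
import Mathlib.GroupTheory.Sylow
import Mathlib.GroupTheory.Index
import Mathlib.GroupTheory.Abelianization.Defs

/-!
# Commutator maps and complements for the layers of a two-group over an involution

`kap v x = [v, x]` and the complement `shiftSub g P N` of `⟨v⟩` in a section `P / N` of exponent two
cut out by an automorphism `g` without fixed points off `⟨v⟩`.
-/

set_option autoImplicit false
set_option linter.style.haveILetI false
set_option linter.unusedSectionVars false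

namespace CfsgLib.Criterion.Layers

open Subgroup

variable {G : Type*} [Group G]

/-- The commutator of the involution `v` with `x`. -/
def kap (v x : G) : G := v * x * v * x⁻¹

theorem conj_eq_mul_kap {v : G} (hv : v * v = 1) (x : G) : x * v * x⁻¹ = v * kap v x := by
  rw [kap, show v * (v * x * v * x⁻¹) = v * v * (x * v * x⁻¹) by group, hv, one_mul]

theorem kap_mul {v : G} (hv : v * v = 1) (x y : G) :
    kap v (x * y) = kap v x * (x * kap v y * x⁻¹) := by
  calc kap v (x * y) = v * x * (v * v) * (y * v * y⁻¹) * x⁻¹ := by rw [hv, kap]; group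
    _ = kap v x * (x * kap v y * x⁻¹) := by rw [kap, kap]; group

theorem kap_mul_of_commute {v : G} (hv : v * v = 1) {x y : G} (h : Commute x (kap v y)) :
    kap v (x * y) = kap v x * kap v y := by
  rw [kap_mul hv, h.eq, mul_inv_cancel_right]

theorem kap_eq_one {v : G} (hv : v * v = 1) {x : G} : kap v x = 1 ↔ Commute x v := by
  constructor
  · intro h
    have h1 := conj_eq_mul_kap hv x
    rw [h, mul_one] at h1
    exact mul_inv_eq_iff_eq_mul.1 h1
  · intro h
    rw [kap, mul_assoc v x v, h.eq, ← mul_assoc, hv, one_mul, mul_inv_cancel]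

theorem kap_conj {v g x : G} (hg : Commute g v) : kap v (g * x * g⁻¹) = g * kap v x * g⁻¹ := by
  have h : g * v * g⁻¹ = v := mul_inv_eq_iff_eq_mul.2 hg.eq
  calc kap v (g * x * g⁻¹) = (g * v * g⁻¹) * (g * x * g⁻¹) * (g * v * g⁻¹) * (g * x * g⁻¹)⁻¹ := by
        rw [h, kap]
    _ = g * kap v x * g⁻¹ := by rw [kap]; group

theorem kap_one (v : G) (hv : v * v = 1) : kap v 1 = 1 := by simp [kap, hv]

/-- Membership in `⟨v⟩ N` for an involution normalising `N`. -/
theorem mem_zpowers_sup {v : G} {N : Subgroup G} (hv : v * v = 1) (hvN : v ∈ normalizer (N : Set G))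
    {x : G} : x ∈ zpowers v ⊔ N ↔ x ∈ N ∨ x * v ∈ N := by
  constructor
  · intro hx
    rw [← SetLike.mem_coe, coe_mul_of_left_le_normalizer_right _ _ (zpowers_le.2 hvN)] at hx
    obtain ⟨w, hw, n, hn, rfl⟩ := hx
    obtain ⟨k, rfl⟩ := mem_zpowers_iff.1 hw
    have hvi : v⁻¹ = v := inv_eq_of_mul_eq_one_right hv
    rcases Int.even_or_odd k with ⟨j, rfl⟩ | ⟨j, rfl⟩
    · left
      show v ^ (j + j) * n ∈ N
      rwa [← two_mul, zpow_mul, zpow_two, hv, one_zpow, one_mul]
    · right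
      show v ^ (2 * j + 1) * n * v ∈ N
      rw [zpow_add, zpow_mul, zpow_two, hv, one_zpow, one_mul, zpow_one]
      have := (mem_normalizer_iff.1 hvN n).1 hn
      rwa [hvi] at this
  · rintro (h | h)
    · exact mem_sup_right h
    · rw [show x = x * v * v by rw [mul_assoc, hv, mul_one]]
      exact mul_mem (mem_sup_right h) (mem_sup_left (mem_zpowers v))

/-- If the squares of `P` lie in the normal subgroup `N`, so do the commutators. -/
theorem comm_mem_of_sq {P N : Subgroup G} (hPn : P ≤ normalizer (N : Set G))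
    (hsq : ∀ x ∈ P, x * x ∈ N) {x y : G} (hx : x ∈ P) (hy : y ∈ P) : x * y * x⁻¹ * y⁻¹ ∈ N := by
  have h2 : y⁻¹ * (x⁻¹ * x⁻¹) * y ∈ N := by
    have := (mem_normalizer_iff.1 (hPn (inv_mem hy)) _).1 (hsq _ (inv_mem hx))
    rwa [inv_inv] at this
  have e : x * y * x⁻¹ * y⁻¹ = x * y * (x * y) * (y⁻¹ * (x⁻¹ * x⁻¹) * y) * (y⁻¹ * y⁻¹) := by group
  rw [e]
  exact mul_mem (mul_mem (hsq _ (mul_mem hx hy)) h2) (hsq _ (inv_mem hy))

/-! ### The complement cut out by an automorphism -/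

/-- The subgroup generated by `N` and the commutators `[g, x]`, `x ∈ P`. -/
def shiftSub (g : G) (P N : Subgroup G) : Subgroup G :=
  N ⊔ closure ((fun x => g * x * g⁻¹ * x⁻¹) '' (P : Set G))

theorem le_shiftSub (g : G) (P N : Subgroup G) : N ≤ shiftSub g P N := le_sup_left

theorem shift_mem {g : G} {P N : Subgroup G} {x : G} (hx : x ∈ P) :
    g * x * g⁻¹ * x⁻¹ ∈ shiftSub g P N := mem_sup_right (subset_closure ⟨x, hx, rfl⟩)

theorem shift_pow_mem {g : G} {P N : Subgroup G} (hgP : g ∈ normalizer (P : Set G)) (k : ℕ) {x : G}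
    (hx : x ∈ P) : g ^ k * x * (g ^ k)⁻¹ * x⁻¹ ∈ shiftSub g P N := by
  induction k with
  | zero => simp
  | succ k ih =>
    have hy : g ^ k * x * (g ^ k)⁻¹ ∈ P := (mem_normalizer_iff.1 (pow_mem hgP k) x).1 hx
    have := mul_mem (shift_mem (g := g) (N := N) hy) ih
    convert this using 1
    rw [pow_succ']
    group

theorem shiftSub_le {g : G} {P N : Subgroup G} (hNP : N ≤ P) (hgP : g ∈ normalizer (P : Set G)) :
    shiftSub g P N ≤ P := by
  refine sup_le hNP ((closure_le _).2 ?_)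
  rintro _ ⟨x, hx, rfl⟩
  exact mul_mem ((mem_normalizer_iff.1 hgP x).1 hx) (inv_mem hx)

/-- A map conjugating `g` to a power of itself modulo `N` normalises the complement. -/
theorem mem_normalizer_shiftSub [Finite G] {g h : G} {P N : Subgroup G}
    (hgP : g ∈ normalizer (P : Set G)) (hhP : h ∈ normalizer (P : Set G))
    (hhN : h ∈ normalizer (N : Set G)) {k : ℕ}
    (hk : ∀ x ∈ P, (h * g * h⁻¹) * x * (h * g * h⁻¹)⁻¹ * ((g ^ k) * x * (g ^ k)⁻¹)⁻¹ ∈ N) :
    h ∈ normalizer (shiftSub g P N : Set G) := by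
  have hle : (shiftSub g P N).map (MulAut.conj h).toMonoidHom ≤ shiftSub g P N := by
    rw [shiftSub, Subgroup.map_sup, MonoidHom.map_closure]
    refine sup_le ?_ ((closure_le _).2 ?_)
    · rintro _ ⟨x, hx, rfl⟩
      exact mem_sup_left ((mem_normalizer_iff.1 hhN x).1 hx)
    · rintro _ ⟨_, ⟨x, hx, rfl⟩, rfl⟩
      show h * (g * x * g⁻¹ * x⁻¹) * h⁻¹ ∈ shiftSub g P N
      have hy : h * x * h⁻¹ ∈ P := (mem_normalizer_iff.1 hhP x).1 hx
      have := mul_mem (le_shiftSub g P N (hk _ hy)) (shift_pow_mem (N := N) hgP k hy)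
      convert this using 1
      group
  exact mem_normalizer_iff_map_conj_eq.2
    (eq_of_le_of_card_ge hle (card_map_of_injective (MulAut.conj h).injective).ge)

theorem mem_normalizer_shiftSub_self [Finite G] {g : G} {P N : Subgroup G}
    (hgP : g ∈ normalizer (P : Set G)) (hgN : g ∈ normalizer (N : Set G)) :
    g ∈ normalizer (shiftSub g P N : Set G) :=
  mem_normalizer_shiftSub hgP hgP hgN (k := 1) fun x _ => by
    rw [show g * g * g⁻¹ * x * (g * g * g⁻¹)⁻¹ * (g ^ 1 * x * (g ^ 1)⁻¹)⁻¹ = 1 by group]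
    exact one_mem N

/-- The complement: it misses `v` and meets every coset of `⟨v⟩ N`. -/
theorem shiftSub_spec [Finite G] {g v : G} {P N : Subgroup G} (hNP : N ≤ P)
    (hPn : P ≤ normalizer (N : Set G)) (hsq : ∀ x ∈ P, x * x ∈ N) (hgP : g ∈ normalizer (P : Set G))
    (hgN : g ∈ normalizer (N : Set G)) (hv2 : v * v = 1) (hv : v ∈ P) (hgv : Commute g v) (hvN : v ∉ N)
    (hfix : ∀ x ∈ P, g * x * g⁻¹ * x⁻¹ ∈ zpowers v ⊔ N → x ∈ zpowers v ⊔ N) :
    v ∉ shiftSub g P N ∧ ∀ x ∈ P, x ∈ shiftSub g P N ∨ x * v ∈ shiftSub g P N := by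
  haveI hnn : (N.subgroupOf P).Normal := (normal_subgroupOf_iff_le_normalizer hNP).2 hPn
  set q := QuotientGroup.mk' (N.subgroupOf P) with hq
  have hq1 : ∀ {x : ↥P}, q x = 1 ↔ (x : G) ∈ N := fun {x} => by
    rw [← MonoidHom.mem_ker, hq, QuotientGroup.ker_mk', mem_subgroupOf]
  have hcomm : ∀ a b : ↥P ⧸ N.subgroupOf P, a * b = b * a := by
    intro a b
    obtain ⟨a, rfl⟩ := QuotientGroup.mk'_surjective _ a
    obtain ⟨b, rfl⟩ := QuotientGroup.mk'_surjective _ b
    refine mul_inv_eq_one.1 ?_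
    rw [← map_mul, ← map_mul, ← map_inv, ← map_mul, hq1]
    simpa [mul_assoc] using comm_mem_of_sq hPn hsq a.2 b.2
  let δ : ↥P →* ↥P ⧸ N.subgroupOf P :=
    { toFun := fun x =>
        q ⟨g * x * g⁻¹ * (x : G)⁻¹, mul_mem ((mem_normalizer_iff.1 hgP x).1 x.2) (inv_mem x.2)⟩
      map_one' := by
        rw [hq1]
        simp
      map_mul' := fun x y => by
        rw [hcomm, ← map_mul]
        have e : (⟨g * (x * y : ↥P) * g⁻¹ * ((x * y : ↥P) : G)⁻¹,
            mul_mem ((mem_normalizer_iff.1 hgP _).1 (x * y).2) (inv_mem (x * y).2)⟩ : ↥P) =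
          ⟨g * x * g⁻¹ * (x : G)⁻¹, mul_mem ((mem_normalizer_iff.1 hgP x).1 x.2) (inv_mem x.2)⟩ *
            (x * ⟨g * y * g⁻¹ * (y : G)⁻¹, mul_mem ((mem_normalizer_iff.1 hgP y).1 y.2) (inv_mem y.2)⟩ *
              x⁻¹) := by
          refine Subtype.ext ?_
          push_cast
          group
        rw [e, map_mul, map_mul, map_mul, map_inv, hcomm (q x), mul_inv_cancel_right, hcomm]
        rw [map_mul] }
  have hδ : ∀ x : ↥P, δ x = 1 ↔ g * x * g⁻¹ * (x : G)⁻¹ ∈ N := fun x => hq1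
  set M := shiftSub g P N with hM
  have hMP : M ≤ P := shiftSub_le hNP hgP
  have hMr : M.subgroupOf P = δ.range.comap q := by
    refine le_antisymm ?_ ?_
    · intro x hx
      have hle : M ≤ (δ.range.comap q).map P.subtype := by
        refine sup_le (fun n hn => ⟨⟨n, hNP hn⟩, ?_, rfl⟩) ((closure_le _).2 ?_)
        · show q ⟨n, hNP hn⟩ ∈ δ.range
          rw [hq1.2 hn]
          exact one_mem _
        · rintro _ ⟨y, hy, rfl⟩
          exact ⟨⟨_, _⟩, ⟨⟨y, hy⟩, rfl⟩, rfl⟩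
      obtain ⟨y, hy, e⟩ := hle hx
      obtain rfl : y = x := Subtype.ext e
      exact hy
    · rintro x ⟨y, hy⟩
      have h1 : q (⟨g * y * g⁻¹ * (y : G)⁻¹, mul_mem ((mem_normalizer_iff.1 hgP y).1 y.2) (inv_mem y.2)⟩⁻¹ *
          x) = 1 := by
        rw [map_mul, map_inv]
        exact inv_mul_eq_one.2 hy
      have h2 := mul_mem (shift_mem (g := g) (N := N) y.2) (le_shiftSub g P N (hq1.1 h1))
      show (x : G) ∈ M
      push_cast at h2
      rwa [mul_inv_cancel_left] at h2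
  have hker : ∀ x : ↥P, x ∈ δ.ker → q x = 1 ∨ q x = q ⟨v, hv⟩ := by
    intro x hx
    rcases (mem_zpowers_sup hv2 (hPn hv)).1 (hfix x x.2 (mem_sup_right ((hδ x).1 hx))) with h | h
    · exact Or.inl (hq1.2 h)
    · right
      have h1 : q (x * ⟨v, hv⟩) = 1 := hq1.2 h
      rw [map_mul] at h1
      rw [eq_inv_of_mul_eq_one_left h1, ← map_inv]
      exact congrArg q (Subtype.ext (inv_eq_of_mul_eq_one_right hv2))
  have hvker : δ ⟨v, hv⟩ = 1 := (hδ _).2 (by
    show g * v * g⁻¹ * v⁻¹ ∈ N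
    rw [hgv.eq, mul_inv_cancel_right, mul_inv_cancel]
    exact one_mem N)
  have hvq : q ⟨v, hv⟩ ≠ 1 := fun h => hvN (hq1.1 h)
  have hvR : q ⟨v, hv⟩ ∉ δ.range := by
    rintro ⟨x, hx⟩
    have h1 : g * x * g⁻¹ * (x : G)⁻¹ ∈ zpowers v ⊔ N := by
      refine (mem_zpowers_sup hv2 (hPn hv)).2 (Or.inr ?_)
      have h2 : q (⟨g * x * g⁻¹ * (x : G)⁻¹, mul_mem ((mem_normalizer_iff.1 hgP x).1 x.2) (inv_mem x.2)⟩ *
          ⟨v, hv⟩) = 1 := by
        rw [map_mul, show q ⟨g * x * g⁻¹ * (x : G)⁻¹, _⟩ = q ⟨v, hv⟩ from hx, ← map_mul,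
          show (⟨v, hv⟩ * ⟨v, hv⟩ : ↥P) = 1 from Subtype.ext hv2, map_one]
      exact hq1.1 h2
    refine hvq (hx ▸ ?_)
    rcases (mem_zpowers_sup hv2 (hPn hv)).1 (hfix x x.2 h1) with h | h
    · refine (hδ x).2 ?_
      exact mul_mem ((mem_normalizer_iff.1 hgN x).1 h) (inv_mem h)
    · have : δ (x * ⟨v, hv⟩) = 1 :=
        (hδ _).2 (mul_mem ((mem_normalizer_iff.1 hgN _).1 h) (inv_mem h))
      rwa [map_mul, hvker, mul_one] at this
  refine ⟨fun h => hvR (?_ : _), fun x hx => ?_⟩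
  · have : (⟨v, hv⟩ : ↥P) ∈ M.subgroupOf P := h
    rwa [hMr] at this
  -- the range has index two
  have hindex : ∀ c, c ∈ δ.range ∨ c * q ⟨v, hv⟩ ∈ δ.range := by
    set R := δ.range with hR
    have hk2 : Nat.card ↥(δ.ker.map q) ≤ 2 := by
      classical
      have hsub : (δ.ker.map q : Set (↥P ⧸ N.subgroupOf P)) ⊆ {1, q ⟨v, hv⟩} := by
        rintro _ ⟨x, hx, rfl⟩
        exact hker x hx
      calc Nat.card ↥(δ.ker.map q) ≤ Nat.card ↥({1, q ⟨v, hv⟩} : Set (↥P ⧸ N.subgroupOf P)) :=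
            Nat.card_mono (Set.toFinite _) hsub
        _ ≤ 2 := by rw [Nat.card_coe_set_eq]; exact (Set.ncard_insert_le _ _).trans (by simp)
    have hNk : N.subgroupOf P ≤ δ.ker := fun x hx =>
      (hδ x).2 (mul_mem ((mem_normalizer_iff.1 hgN x).1 hx) (inv_mem hx))
    have hcard : Nat.card (↥P ⧸ N.subgroupOf P) ≤ 2 * Nat.card R := by
      have h1 : Nat.card R = δ.ker.index := (index_ker δ).symm
      have h2 : (δ.ker.map q).index = δ.ker.index := by
        refine index_map_eq _ (QuotientGroup.mk'_surjective _) ?_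
        rw [hq, QuotientGroup.ker_mk']
        exact hNk
      rw [← card_mul_index (δ.ker.map q), h2, ← h1]
      exact Nat.mul_le_mul_right _ hk2
    intro c
    by_contra hc
    obtain ⟨hc1, hc2⟩ := not_or.1 hc
    have h3 : R.index ≤ 2 := by
      have := R.card_mul_index
      have hpos : 0 < Nat.card R := Nat.card_pos
      nlinarith
    have h4 : R.index ≠ 1 := fun h => hc1 (by rw [index_eq_one.1 h]; exact mem_top c)
    have h5 : R.index = 2 := by
      have := R.index_ne_zero_of_finite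
      omega
    exact hc2 ((mul_mem_iff_of_index_two h5).2 (iff_of_false hc1 hvR))
  rcases hindex (q ⟨x, hx⟩) with h | h
  · left
    have : (⟨x, hx⟩ : ↥P) ∈ M.subgroupOf P := by rw [hMr]; exact h
    exact this
  · right
    have : (⟨x, hx⟩ * ⟨v, hv⟩ : ↥P) ∈ M.subgroupOf P := by rw [hMr]; show q _ ∈ δ.range; rw [map_mul]; exact h
    exact this

/-! ### Subgroups with large abelian parts -/

/-- Two abelian subgroups of index two in a group whose centraliser of the first is small coincide. -/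
theorem eq_of_commutative [Finite G] {S U U' : Subgroup G} (hU : U ≤ S) (hU' : U' ≤ S)
    (hSU : S ≤ normalizer (U : Set G)) (hcU : ∀ x ∈ U, ∀ y ∈ U, Commute x y)
    (hcU' : ∀ x ∈ U', ∀ y ∈ U', Commute x y) (hcard : Nat.card U' = Nat.card U) {v : G}
    (hS : ∀ x ∈ S, x ∈ U ∨ x * v ∈ U) {E : Subgroup G}
    (hker : ∀ x ∈ U, Commute x v → x ∈ E) (hbig : Nat.card S * Nat.card E < Nat.card U * Nat.card U) :
    U' = U := by
  by_contra hne
  obtain ⟨m, hm, hmU⟩ := SetLike.not_le_iff_exists.1 (fun h : U' ≤ U => hne (eq_of_le_of_card_ge h hcard.ge))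
  have hmv : m * v ∈ U := (hS m (hU' hm)).resolve_left hmU
  have hinf : U' ⊓ U ≤ E := by
    rintro x ⟨hx', hx⟩
    refine hker x hx ?_
    have h1 : Commute x (m⁻¹ * (m * v)) :=
      (hcU' x hx' m hm).inv_right.mul_right (hcU x hx _ hmv)
    rwa [inv_mul_cancel_left] at h1
  have h := CfsgLib.Solvable.card_sup_mul_card_inf (hU'.trans hSU)
  have h1 : Nat.card ↥(U' ⊔ U) ≤ Nat.card S := card_le_of_le (sup_le hU' hU)
  have h2 : Nat.card ↥(U' ⊓ U) ≤ Nat.card E := card_le_of_le hinf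
  have := Nat.mul_le_mul h1 h2
  rw [h, hcard] at this
  omega

end CfsgLib.Criterion.Layers
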