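import Cfsg.Agent.Criterion.Orbit
import Cfsg.Agent.Criterion.TransferEnd
import Cfsg.Agent.Criterion.LayerAlg

/-!
# The strong embedding criterion: the setting of the layers, and generalities

`notes/criterion_case2_helper1.md`, item 2: the maximal pair `(base, b)` with the bad involution `v`
central in a largest two-point stabiliser `D`, no member crossing a bad involution, `R = ⟨v⟩` and
`n - 1 = q ^ 3`.
-/

set_option autoImplicit false
set_option linter.style.haveILetI false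
set_option linter.unusedSectionVars false

namespace CfsgLib.Criterion

open Subgroup CfsgLib.Invol Layers

universe u

variable {G : Type u} [Group G] [Finite G]

/-- A subgroup has a largest 2-subgroup with the Sylow conjugation property. -/
theorem exists_two_max (K : Subgroup G) :
    ∃ S : Subgroup G, S ≤ K ∧ IsPGroup 2 S ∧
      (∀ P : Subgroup G, IsPGroup 2 P → P ≤ K → ∃ n ∈ K, ∀ x ∈ P, n * x * n⁻¹ ∈ S) ∧
      ∀ k : ℕ, 2 ^ k ∣ Nat.card K → 2 ^ k ≤ Nat.card S := by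
  haveI : Fact (Nat.Prime 2) := ⟨Nat.prime_two⟩
  obtain ⟨S⟩ : Nonempty (Sylow 2 K) := inferInstance
  refine ⟨(S : Subgroup K).map K.subtype, map_subtype_le _, S.2.map _, fun P hP hPK => ?_, fun k hk => ?_⟩
  · obtain ⟨S', hS'⟩ := (hP.comap_subtype (K := K)).exists_le_sylow
    obtain ⟨n, hn⟩ := MulAction.exists_smul_eq K S' S
    refine ⟨n, n.2, fun x hx => ⟨n * ⟨x, hPK hx⟩ * n⁻¹, ?_, rfl⟩⟩
    rw [← hn]
    exact ⟨⟨x, hPK hx⟩, hS' hx, rfl⟩
  · obtain ⟨P, hP⟩ := Sylow.exists_subgroup_card_pow_prime 2 hk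
    obtain ⟨S', hS'⟩ := (IsPGroup.of_card hP).exists_le_sylow
    rw [card_map_of_injective K.subtype_injective]
    calc 2 ^ k = Nat.card P := hP.symm
      _ ≤ Nat.card S' := card_le_of_le hS'
      _ = Nat.card S := (Sylow.equiv S' S).toEquiv |> Nat.card_congr

/-- A normal 2-subgroup of `K` lies in every largest one. -/
theorem le_two_max {K S V : Subgroup G}
    (hS : ∀ P : Subgroup G, IsPGroup 2 P → P ≤ K → ∃ n ∈ K, ∀ x ∈ P, n * x * n⁻¹ ∈ S)
    (hV : IsPGroup 2 V) (hVK : V ≤ K) (hn : K ≤ normalizer (V : Set G)) : V ≤ S := by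
  intro x hx
  obtain ⟨n, hn', h⟩ := hS V hV hVK
  have h1 := h _ ((mem_normalizer_iff.1 (hn (inv_mem hn')) x).1 hx)
  rwa [show n * (n⁻¹ * x * n⁻¹⁻¹) * n⁻¹ = x by group] at h1

/-- A largest 2-subgroup containing no larger one. -/
theorem eq_two_max {K S P : Subgroup G}
    (hS : ∀ P : Subgroup G, IsPGroup 2 P → P ≤ K → ∃ n ∈ K, ∀ x ∈ P, n * x * n⁻¹ ∈ S)
    (hP : IsPGroup 2 P) (hPK : P ≤ K) (hSP : S ≤ P) : P = S := by
  obtain ⟨n, -, h⟩ := hS P hP hPK
  refine (eq_of_le_of_card_ge hSP ?_).symm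
  calc Nat.card P = Nat.card ↥(P.map (MulAut.conj n).toMonoidHom) :=
        (card_map_of_injective (MulAut.conj n).injective).symm
    _ ≤ Nat.card S := card_le_of_le (by rintro _ ⟨x, hx, rfl⟩; exact h x hx)

/-- The Frattini argument for a largest 2-subgroup. -/
theorem exists_frattini {K S : Subgroup G} (hSK : S ≤ K) (hS2 : IsPGroup 2 S)
    (hS : ∀ P : Subgroup G, IsPGroup 2 P → P ≤ K → ∃ n ∈ K, ∀ x ∈ P, n * x * n⁻¹ ∈ S)
    {g : G} (hg : g ∈ normalizer (K : Set G)) : ∃ n ∈ K, n * g ∈ normalizer (S : Set G) := by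
  obtain ⟨n, hn, h⟩ := hS (S.map (MulAut.conj g).toMonoidHom) (hS2.map _)
    (by rintro _ ⟨x, hx, rfl⟩; exact (mem_normalizer_iff.1 hg x).1 (hSK hx))
  refine ⟨n, hn, mem_normalizer_iff_map_conj_eq.2
    (eq_of_le_of_card_ge ?_ (card_map_of_injective (MulAut.conj (n * g)).injective).ge)⟩
  rintro _ ⟨x, hx, rfl⟩
  show n * g * x * (n * g)⁻¹ ∈ S
  have := h _ ⟨x, hx, rfl⟩
  convert this using 1
  simp [mul_assoc]

namespace Ctx

/-- The hypotheses of the layers. -/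
structure Lay (C : Ctx G) (v a : G) (b : C.Pt) (E D : Subgroup G) : Prop where
  hv : C.Bad v
  v_base : v • C.base = C.base
  b_ne : b ≠ C.base
  E_sq : ∀ e ∈ E, e * e = 1
  E_Za : ∀ e ∈ E, e ≠ 1 → e ∈ C.Za C.base
  E_v : ∀ e ∈ E, Commute e v
  q_ge : 4 ≤ Nat.card E
  a_v : Commute a v
  a_E : a ∈ normalizer (E : Set G)
  a_trans : ∀ e ∈ E, ∀ e' ∈ E, e ≠ 1 → e' ≠ 1 → ∃ k : ℕ, a ^ k * e * (a ^ k)⁻¹ = e'
  a_norm : ∀ g : G, Commute g v → g ∈ normalizer (E : Set G) →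
    ∃ k : ℕ, ∀ e ∈ E, g * a * g⁻¹ * e * (g * a * g⁻¹)⁻¹ = a ^ k * e * (a ^ k)⁻¹
  D_two : IsPGroup 2 D
  v_mem_D : v ∈ D
  D_fix : ∀ g ∈ D, g • C.base = C.base ∧ g • b = b ∧ Commute g v
  D_E : D ≤ normalizer (E : Set G)
  Z_two : ∀ S : Subgroup G, IsPGroup 2 S → v ∈ S → E ≤ S → ∀ x ∈ S, x ∈ C.Z → x ∈ E
  bad_cent : ∀ S : Subgroup G, IsPGroup 2 S → v ∈ S → E ≤ S → ∀ u ∈ S, C.Bad u →
    u ∈ centralizer (E : Set G)
  ker : ∀ u ∈ centralizer (E : Set G), IsConj v u → ∀ S : Subgroup G, IsPGroup 2 S →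
    S ≤ centralizer (E : Set G) ⊓ centralizer ({u} : Set G) → S ≤ zpowers u ⊔ E
  n_eq : Nat.card C.Pt = Nat.card E ^ 3 + 1
  fix_card : ∀ e ∈ E, Nat.card {c : C.Pt // (v * e) • c = c ∧ c ≠ C.base} = Nat.card E
  stab_le : ∀ c : C.Pt, c ≠ C.base → ∀ S : Subgroup G, IsPGroup 2 S →
    (∀ g ∈ S, g • C.base = C.base ∧ g • c = c) → Nat.card S ≤ Nat.card D
  stab_comm : ∀ S : Subgroup G, IsPGroup 2 S →
    (∀ g ∈ S, g • C.base = C.base ∧ g • b = b ∧ Commute g v) → ∀ x ∈ S, ∀ y ∈ S, Commute x y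

namespace Lay

variable {C : Ctx G} {v a : G} {b : C.Pt} {E D : Subgroup G} (Y : C.Lay v a b E D)
include Y

theorem v_sq : v * v = 1 := mul_self_eq_one Y.hv.1

theorem v_b : v • b = b := (Y.D_fix v Y.v_mem_D).2.1

theorem v_not_E : v ∉ E := fun h =>
  Y.hv.not_mem_Z C (Y.E_Za v h (ne_one Y.hv.1)).1

theorem v_cent : v ∈ centralizer (E : Set G) := mem_centralizer_iff.2 fun e he => (Y.E_v e he).eq

theorem E_fix {e : G} (he : e ∈ E) (he1 : e ≠ 1) {c : C.Pt} (h : e • c = c) : c = C.base :=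
  C.fix_unique (Y.E_Za e he he1).1 h (Y.E_Za e he he1).2

theorem E_base {e : G} (he : e ∈ E) : e • C.base = C.base := by
  rcases eq_or_ne e 1 with rfl | h
  · exact one_smul _ _
  · exact (Y.E_Za e he h).2

theorem E_comm {x y : G} (hx : x ∈ E) (hy : y ∈ E) : Commute x y := by
  have h := Y.E_sq _ (mul_mem hx hy)
  show x * y = y * x
  rw [eq_inv_of_mul_eq_one_left h, mul_inv_rev, inv_eq_of_mul_eq_one_right (Y.E_sq x hx),
    inv_eq_of_mul_eq_one_right (Y.E_sq y hy)]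

theorem E_le_cent : E ≤ centralizer (E : Set G) := fun x hx =>
  mem_centralizer_iff.2 fun _ he => (Y.E_comm he hx).eq

theorem E_two : IsPGroup 2 E := fun e => ⟨1, Subtype.ext (by
  rw [pow_one, sq]; exact Y.E_sq e e.2)⟩

theorem exists_q : ∃ n : ℕ, 2 ≤ n ∧ Nat.card E = 2 ^ n := by
  haveI : Fact (Nat.Prime 2) := ⟨Nat.prime_two⟩
  obtain ⟨n, hn⟩ := IsPGroup.iff_card.1 Y.E_two
  refine ⟨n, ?_, hn⟩
  by_contra h
  have := Y.q_ge
  rw [hn] at this
  have : 2 ^ n ≤ 2 ^ 1 := Nat.pow_le_pow_right two_pos (by omega)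
  omega

theorem exists_ne_one : ∃ e ∈ E, e ≠ 1 := by
  refine E.bot_or_exists_ne_one.resolve_left fun h => ?_
  have := Y.q_ge
  rw [h, card_bot] at this
  omega

/-- Elements normalising `E` fix the base point. -/
theorem base_of_normalizer {g : G} (hg : g ∈ normalizer (E : Set G)) : g • C.base = C.base := by
  obtain ⟨e, he, he1⟩ := Y.exists_ne_one
  have h1 : g * e * g⁻¹ ∈ E := (mem_normalizer_iff.1 hg e).1 he
  refine Y.E_fix h1 (by simpa using he1) ?_
  rw [mul_smul, mul_smul, inv_smul_smul, Y.E_base he]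

/-- A 2-group containing `v` and `E` normalises `E`. -/
theorem le_normalizer_of_two {S : Subgroup G} (hS : IsPGroup 2 S) (hv : v ∈ S) (hE : E ≤ S) :
    S ≤ normalizer (E : Set G) := fun g hg => by
  refine mem_normalizer_iff_map_conj_eq.2
    (eq_of_le_of_card_ge ?_ (card_map_of_injective (MulAut.conj g).injective).ge)
  rintro _ ⟨e, he, rfl⟩
  rcases eq_or_ne e 1 with rfl | h
  · simp
  · exact Y.Z_two S hS hv hE _ (mul_mem (mul_mem hg (hE he)) (inv_mem hg)) (C.conj_mem_Z (Y.E_Za e he h).1 g)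

theorem v_norm : v ∈ normalizer (E : Set G) := centralizer_le_normalizer _ Y.v_cent

theorem not_E_of_conj {u : G} (hu : IsConj v u) : u ∉ E := by
  intro h
  obtain ⟨g, rfl⟩ := isConj_iff.1 hu
  refine Y.hv.not_mem_Z C ?_
  have := C.conj_mem_Z (Y.E_Za _ h fun e => ne_one Y.hv.1 (conj_eq_one_iff.1 e)).1 g⁻¹
  simpa [mul_assoc] using this

theorem conj_bad {u : G} (hu : IsConj v u) : C.Bad u := by
  obtain ⟨g, rfl⟩ := isConj_iff.1 hu
  obtain ⟨h2, p, p', hne, hp, hp'⟩ := Y.hv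
  exact ⟨by rw [orderOf_conj_eq, h2], g • p, g • p', fun e => hne (smul_left_cancel g e),
    by rw [mul_smul, mul_smul, inv_smul_smul, hp], by rw [mul_smul, mul_smul, inv_smul_smul, hp']⟩

/-! ### The group `⟨v⟩ E` -/

theorem mem_VE {x : G} : x ∈ zpowers v ⊔ E ↔ x ∈ E ∨ x * v ∈ E :=
  mem_zpowers_sup Y.v_sq Y.v_norm

theorem VE_le_cent : zpowers v ⊔ E ≤ centralizer (E : Set G) :=
  sup_le (zpowers_le.2 Y.v_cent) Y.E_le_cent

theorem VE_commute {x : G} (hx : x ∈ zpowers v ⊔ E) : Commute x v := by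
  rcases Y.mem_VE.1 hx with h | h
  · exact Y.E_v x h
  · have := Y.E_v _ h
    rw [show x = x * v * v by rw [mul_assoc, Y.v_sq, mul_one]]
    exact this.mul_left (Commute.refl v)

theorem VE_sq {x : G} (hx : x ∈ zpowers v ⊔ E) : x * x = 1 := by
  rcases Y.mem_VE.1 hx with h | h
  · exact Y.E_sq x h
  · have h1 := Y.E_sq _ h
    rwa [(Y.VE_commute hx).symm.mul_mul_mul_comm, Y.v_sq, mul_one] at h1

theorem VE_two : IsPGroup 2 ↥(zpowers v ⊔ E) := fun x => ⟨1, Subtype.ext (by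
  rw [pow_one, sq]; exact Y.VE_sq x.2)⟩

theorem card_VE : Nat.card ↥(zpowers v ⊔ E) = 2 * Nat.card E := by
  have h := CfsgLib.Solvable.card_sup_mul_card_inf (zpowers_le.2 Y.v_norm)
  rw [Nat.card_zpowers v, Y.hv.1, show zpowers v ⊓ E = ⊥ from ?_, card_bot, mul_one] at h
  · exact h
  · rw [eq_bot_iff]
    rintro x ⟨hx, hxE⟩
    obtain ⟨k, rfl⟩ := mem_zpowers_iff.1 hx
    rcases Int.even_or_odd k with ⟨j, rfl⟩ | ⟨j, rfl⟩
    · rw [mem_bot, ← two_mul, zpow_mul, zpow_two, Y.v_sq, one_zpow]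
    · rw [zpow_add, zpow_mul, zpow_two, Y.v_sq, one_zpow, one_mul, zpow_one] at hxE
      exact absurd hxE Y.v_not_E

/-- A 2-group centralising `v` and `E` lies in `⟨v⟩ E`. -/
theorem two_le_VE {S : Subgroup G} (hS : IsPGroup 2 S)
    (hle : S ≤ centralizer (E : Set G) ⊓ centralizer ({v} : Set G)) : S ≤ zpowers v ⊔ E :=
  Y.ker v Y.v_cent (IsConj.refl v) S hS hle

/-- Elements moving `v` inside `v E`. -/
theorem kap_mem {x : G} (h : x * v * x⁻¹ ∈ zpowers v ⊔ E) : kap v x ∈ E := by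
  rcases Y.mem_VE.1 h with h1 | h1
  · exact absurd h1 (Y.not_E_of_conj (isConj_iff.2 ⟨x, rfl⟩))
  · rw [kap, show v * x * v * x⁻¹ = v⁻¹ * (x * v * x⁻¹) by
      rw [inv_eq_of_mul_eq_one_right Y.v_sq]; group]
    have hc := (Y.VE_commute h).symm
    rwa [hc.inv_left.eq, inv_eq_of_mul_eq_one_right Y.v_sq]

/-- The two-group `D` meets `C(E)` in `⟨v⟩`. -/
theorem mem_of_fix_b {x : G} (hx : x ∈ zpowers v ⊔ E) (hb : x • b = b) : x = 1 ∨ x = v := by
  rcases Y.mem_VE.1 hx with h | h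
  · exact Or.inl (by_contra fun h1 => Y.b_ne (Y.E_fix h h1 hb))
  · refine Or.inr ?_
    have h1 : x * v = 1 := by_contra fun h1 => Y.b_ne (Y.E_fix h h1 (by rw [mul_smul, Y.v_b, hb]))
    rw [eq_inv_of_mul_eq_one_left h1, inv_eq_of_mul_eq_one_right Y.v_sq]

/-- `a` fixes no element of `E` but the identity. -/
theorem a_fix {e : G} (he : e ∈ E) (h : a * e * a⁻¹ = e) : e = 1 := by
  by_contra he1
  have hall : ∀ e' ∈ E, e' = 1 ∨ e' = e := fun e' he' => by
    by_cases h1 : e' = 1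
    · exact Or.inl h1
    obtain ⟨k, hk⟩ := Y.a_trans e he e' he' he1 h1
    refine Or.inr ?_
    rw [← hk]
    exact mul_inv_eq_iff_eq_mul.2 ((Commute.pow_left (mul_inv_eq_iff_eq_mul.1 h : Commute a e) k).eq)
  have hsub : (E : Set G) ⊆ {1, e} := fun e' he' => hall e' he'
  have h2 := Nat.card_mono (Set.toFinite _) hsub
  have h3 : Nat.card ({1, e} : Set G) ≤ 2 := by
    rw [Nat.card_coe_set_eq]; exact (Set.ncard_insert_le _ _).trans (by simp)
  have := Y.q_ge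
  exact absurd (this.trans (h2.trans h3)) (by omega)

/-- A set closed under `a` containing one nontrivial element of `E` contains all. -/
theorem all_of_closed {p : G → Prop} (h1 : p 1) {e : G} (he : e ∈ E) (he1 : e ≠ 1) (hp : p e)
    (hcl : ∀ x, p x → p (a * x * a⁻¹)) {e' : G} (he' : e' ∈ E) : p e' := by
  rcases eq_or_ne e' 1 with rfl | h
  · exact h1
  obtain ⟨k, rfl⟩ := Y.a_trans e he e' he' he1 h
  clear he' h
  induction k with
  | zero => simpa using hp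
  | succ k ih =>
    have := hcl _ ih
    convert this using 1
    rw [pow_succ']
    group

end Lay

end Ctx

end CfsgLib.Criterion
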