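import Cfsg.Agent.Criterion.Kernel
import Cfsg.Agent.Criterion.LayerSetting
import Cfsg.Agent.Criterion.Torus
import Cfsg.Agent.Criterion.CaseTwoSize
import Cfsg.Agent.Criterion.Semilinear

/-!
# The strong embedding criterion: the data of the layers

A maximal pair whose bad involution `v` has `Q = q` and no crossing member gives the setting
`Ctx.Lay` of the layers, once the kernels on fixed points are of order 2.
-/

set_option autoImplicit false
set_option linter.style.haveILetI false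
set_option linter.unusedSectionVars false

namespace CfsgLib.Criterion

open Subgroup CfsgLib.Invol CfsgLib.Bender
open CfsgLib.DGroup (coreIn coreIn_le odd_coreIn normalizer_coreIn le_coreIn)

universe u

variable {G : Type u} [Group G] [Finite G]

namespace Ctx

variable (C : Ctx G)

/-- All kernels on fixed points have order 2. -/
def SmallKernels : Prop :=
  ∀ (u : G) (a b : C.Pt) (E R : Subgroup G), C.Ker u a b E R →
    Nat.card C.Pt = Nat.card E ^ 3 + 1 → ∀ r ∈ R, r = 1 ∨ r = u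

/-- A 2-group centralising `v` at `a` is conjugate there into the normaliser of `E`. -/
theorem IsE.exists_normalize {v : G} {a : C.Pt} {E : Subgroup G} (hE : C.IsE v a E) (hv : C.Bad v)
    (hp : PairRank ↥(C.L v)) (ha : v • a = a) {P : Subgroup G} (hP : IsPGroup 2 P)
    (hPv : ∀ g ∈ P, g • a = a ∧ Commute g v) :
    ∃ n : G, Commute n v ∧ n • a = a ∧ ∀ x ∈ P, n * x * n⁻¹ ∈ normalizer (E : Set G) := by
  haveI : Fact (Nat.Prime 2) := ⟨Nat.prime_two⟩
  set K := closure (C.Ea v a) with hK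
  set Cv := centralizer ({v} : Set G) ⊓ MulAction.stabilizer G a with hCv
  have hEK : E ≤ K := fun e he => by
    by_cases h : e = 1
    · rw [h]; exact one_mem _
    · exact subset_closure (hE.mem e he h)
  have hECv : E ≤ Cv := fun e he =>
    ⟨mem_centralizer_singleton_iff.2 (hE.commute_v C he).eq, hE.le_stab C he⟩
  have hPCv : P ≤ Cv := fun g hg => ⟨mem_centralizer_singleton_iff.2 (hPv g hg).2.eq, (hPv g hg).1⟩
  obtain ⟨R, hR⟩ := IsPGroup.exists_le_sylow (p := 2)
    ((hE.isPGroup C).of_equiv (subgroupOfEquivOfLe hECv).symm)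
  obtain ⟨R', hR'⟩ := IsPGroup.exists_le_sylow (p := 2) (hP.of_equiv (subgroupOfEquivOfLe hPCv).symm)
  obtain ⟨n, hn⟩ := MulAction.exists_smul_eq ↥Cv R' R
  set T := (R : Subgroup ↥Cv).map Cv.subtype with hT
  have hTC : T ≤ Cv := map_subtype_le _
  have hET : E ≤ T := fun e he =>
    ⟨⟨e, hECv he⟩, hR (show (⟨e, hECv he⟩ : ↥Cv) ∈ E.subgroupOf Cv from he), rfl⟩
  have hCK : ∀ g ∈ Cv, ∀ k ∈ K, g * k * g⁻¹ ∈ K := fun g hg k hk => by
    induction hk using closure_induction with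
    | mem k hk =>
      refine subset_closure ?_
      have := C.conj_mem_Ea (g := g) hk
      rwa [show g • a = a from hg.2,
        show g * v * g⁻¹ = v from mul_inv_eq_iff_eq_mul.2 (mem_centralizer_singleton_iff.1 hg.1)] at this
    | one => rw [mul_one, mul_inv_cancel]; exact one_mem _
    | mul k l _ _ h h' =>
      rw [show g * (k * l) * g⁻¹ = g * k * g⁻¹ * (g * l * g⁻¹) by group]; exact mul_mem h h'
    | inv k _ h => rw [show g * k⁻¹ * g⁻¹ = (g * k * g⁻¹)⁻¹ by group]; exact inv_mem h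
  have hTK : T ⊓ K = E := (eq_of_le_of_card_ge (le_inf hET hEK)
    (hE.card_two_le C hv hp ha ((R.2.map _).to_le inf_le_left) inf_le_right)).symm
  have hTE : T ≤ normalizer (E : Set G) := fun t ht => by
    refine mem_normalizer_iff_map_conj_eq.2
      (eq_of_le_of_card_ge ?_ (card_map_of_injective (MulAut.conj t).injective).ge)
    rintro _ ⟨e, he, rfl⟩
    rw [← hTK]
    exact mem_inf.2 ⟨T.mul_mem (T.mul_mem ht (hET he)) (T.inv_mem ht),
      hCK t (hTC ht) e (hEK he)⟩
  refine ⟨n, mem_centralizer_singleton_iff.1 n.2.1, n.2.2, fun x hx => hTE ⟨n * ⟨x, hPCv hx⟩ * n⁻¹, ?_, rfl⟩⟩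
  rw [← hn, Sylow.coe_subgroup_smul]
  exact Subgroup.smul_mem_pointwise_smul _ (MulAut.conj n) _ (hR' hx)

/-- The stabiliser group of a maximal pair normalises one of the elementary groups. -/
theorem Bad.exists_E_invariant {v : G} (hv : C.Bad v) (hp : PairRank ↥(C.L v)) {a b : C.Pt}
    {D : Subgroup G} (hM : C.MaxPair v a b D) {E : Subgroup G} (hE : C.IsE v a E) :
    ∃ E' : Subgroup G, C.IsE v a E' ∧ Nat.card E' = Nat.card E ∧ D ≤ normalizer (E' : Set G) := by
  have ha := (hM.fix v hM.mem).1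
  obtain ⟨n, hnv, hna, hn⟩ := hE.exists_normalize C hv hp ha hM.two
    fun g hg => ⟨(hM.fix g hg).1, (hM.fix g hg).2.2⟩
  have hv' : n⁻¹ * v * n⁻¹⁻¹ = v := mul_inv_eq_iff_eq_mul.2 hnv.inv_left.eq
  have ha' : n⁻¹ • a = a := inv_smul_eq_iff.2 hna.symm
  have hmove : ∀ {y : G}, y ∈ C.Ea v a → n * y * n⁻¹ ∈ C.Ea v a := fun {y} hy => by
    have h2 := C.conj_mem_Ea (g := n) hy
    rwa [hna, show n * v * n⁻¹ = v from mul_inv_eq_iff_eq_mul.2 hnv.eq] at h2
  set E' := E.map (MulAut.conj n⁻¹).toMonoidHom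
  have hE' : C.IsE v a E' := by
    refine ⟨?_, fun x hx => ?_⟩
    · rintro _ ⟨e, he, rfl⟩ hne
      have h1 := C.conj_mem_Ea (g := n⁻¹) (hE.mem e he fun h => hne (by rw [h, map_one]))
      rw [hv', ha'] at h1
      exact h1
    · obtain ⟨e, he, he1, hodd⟩ := hE.cover _ (hmove hx)
      refine ⟨n⁻¹ * e * n⁻¹⁻¹, ⟨e, he, rfl⟩, fun h => he1 (conj_eq_one_iff.1 h), ?_⟩
      rw [← orderOf_conj_eq n, show n * (x * (n⁻¹ * e * n⁻¹⁻¹)) * n⁻¹ = n * x * n⁻¹ * e by group]
      exact hodd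
  refine ⟨E', hE', card_map_of_injective (MulAut.conj n⁻¹).injective, fun g hg => ?_⟩
  refine mem_normalizer_iff_map_conj_eq.2
    (eq_of_le_of_card_ge ?_ (card_map_of_injective (MulAut.conj g).injective).ge)
  rintro _ ⟨_, ⟨e, he, rfl⟩, rfl⟩
  refine ⟨n * g * n⁻¹ * e * (n * g * n⁻¹)⁻¹, (mem_normalizer_iff.1 (hn g hg) e).1 he, ?_⟩
  show n⁻¹ * (n * g * n⁻¹ * e * (n * g * n⁻¹)⁻¹) * n⁻¹⁻¹ = g * (n⁻¹ * e * n⁻¹⁻¹) * g⁻¹
  group

/-- An involution at `a` centralising `E` has `E` as its elementary group. -/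
theorem Bad.isE_at {v : G} (hv : C.Bad v) (hf : ∀ v : G, orderOf v = 2 → ∃ c : C.Pt, v • c ≠ c)
    (hp : PairRank ↥(C.L v)) {a : C.Pt} (ha : v • a = a) {E : Subgroup G} (hE : C.IsE v a E)
    (h0 : C.Cross v a = ∅) {u : G} (hu : ∀ e ∈ E, Commute e u) : C.IsE u a E := by
  refine ⟨fun e he h => ⟨(hE.mem e he h).1, hu e he⟩, fun y hy => ?_⟩
  obtain ⟨e, he, he1, hm⟩ := hv.exists_partner C hf hp ha hE h0 hy.1
  exact ⟨e, he, he1, (odd_coreIn _).of_dvd_nat (orderOf_dvd_natCard _ hm)⟩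

/-- A 2-group at two points centralising `v` is commutative. -/
theorem Bad.stab_comm_of_small {v : G} (hv : C.Bad v) (hf : ∀ v : G, orderOf v = 2 → ∃ c : C.Pt, v • c ≠ c)
    (hp : ∀ u : G, C.Bad u → PairRank ↥(C.L u)) {a b : C.Pt} (ha : v • a = a) (hb : v • b = b)
    (hab : b ≠ a) {E : Subgroup G} (hE : C.IsE v a E) (h0 : C.Cross v a = ∅)
    (hQ : C.qn v a = Nat.card E) (hn : Nat.card C.Pt = Nat.card E ^ 3 + 1) (hsmall : C.SmallKernels)
    {S : Subgroup G} (hS : IsPGroup 2 S) (hSfix : ∀ g ∈ S, g • a = a ∧ g • b = b ∧ Commute g v) :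
    ∀ x ∈ S, ∀ y ∈ S, Commute x y := by
  obtain ⟨n, hnv, hna, hnE⟩ := hE.exists_normalize C hv (hp v hv) ha hS
    fun g hg => ⟨(hSfix g hg).1, (hSfix g hg).2.2⟩
  set S' := S.map (MulAut.conj n).toMonoidHom with hS'
  set c := n • b with hc
  have hvc : v • c = c := by rw [hc, smul_smul, ← hnv.eq, mul_smul, hb]
  have hca : c ≠ a := fun h => hab (smul_left_cancel n (h.trans hna.symm))
  have hfix' : ∀ g ∈ S', g • a = a ∧ g • c = c ∧ Commute g v ∧ g ∈ normalizer (E : Set G) := by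
    rintro _ ⟨g, hg, rfl⟩
    refine ⟨?_, ?_, (hnv.mul_left (hSfix g hg).2.2).mul_left hnv.inv_left, hnE g hg⟩
    · show (n * g * n⁻¹) • a = a
      rw [mul_smul, mul_smul, inv_smul_eq_iff.2 hna.symm, (hSfix g hg).1, hna]
    · show (n * g * n⁻¹) • c = c
      rw [hc, mul_smul, mul_smul, inv_smul_smul, (hSfix g hg).2.1]
  have hS'2 : IsPGroup 2 S' := hS.map _
  have hker : ∀ g ∈ S', (∀ e ∈ E, Commute e g) → g = 1 ∨ g = v := by
    intro g hg hgE
    have K : C.Ker v a c E (S' ⊓ centralizer (E : Set G)) :=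
      ⟨hv, hf, hp v hv, ha, hca, hvc, hE, h0,
        fun u hu hua _ => (hv.size_at C hf hp ha hE h0 hQ hu hua).1,
        hS'2.to_le inf_le_left, fun r hr => ⟨(hfix' r hr.1).1, (hfix' r hr.1).2.1⟩,
        fun r hr => ⟨(hfix' r hr.1).2.2.1, fun e he => mem_centralizer_iff.1 hr.2 e he⟩⟩
    exact hsmall v a c E _ K hn g ⟨hg, mem_centralizer_iff.2 fun e he => (hgE e he).eq⟩
  -- the action on `E`
  obtain ⟨t, -, -, -, htN, htr, -, hnorm⟩ := hv.exists_torus C (hp v hv) ha hb hab hE hQ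
  have hle : S' ≤ (normalizer (E : Set G) : Subgroup G) := fun g hg => (hfix' g hg).2.2.2
  set ψ : ↥S' →* MulAut ↥E := E.normalizerMonoidHom.comp (Subgroup.inclusion hle) with hψ
  set α : MulAut ↥E := E.normalizerMonoidHom ⟨t, htN⟩ with hα
  have hαk : ∀ (k : ℕ) (e : ↥E), ((α ^ k) e : G) = t ^ k * e * (t ^ k)⁻¹ := fun k e => by
    rw [hα, ← map_pow, normalizerMonoidHom_apply_apply_coe]
    simp
  haveI hcyc : IsCyclic ψ.range := by
    refine Semilinear.isCyclic_two (fun e => Subtype.ext (hE.mul_self C e.2)) α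
      (fun e e' he he' => ?_) (hv.qn_cases C (hp v hv) ha hE).1 ψ.range
      (hS'2.of_surjective ψ.rangeRestrict ψ.rangeRestrict_surjective) ?_
    · obtain ⟨k, hk⟩ := htr e e.2 e' e'.2 (fun h => he (Subtype.ext h)) fun h => he' (Subtype.ext h)
      exact ⟨k, Subtype.ext ((hαk k e).trans hk)⟩
    · rintro _ ⟨g, rfl⟩
      obtain ⟨k, hk⟩ := hnorm g (hfix' g g.2).2.2.1 (hfix' g g.2).2.2.2
      refine ⟨k, MulEquiv.ext fun e => Subtype.ext ?_⟩
      rw [hαk, ← hk e e.2, hψ, MonoidHom.comp_apply, hα, ← map_inv, ← map_mul, ← map_mul,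
        normalizerMonoidHom_apply_apply_coe]
      simp
  have hcomm : ∀ x y : ↥S', x * y = y * x := fun x y =>
    (MonoidHom.isMulCommutative_of_isCyclic_of_ker_le_center ψ.rangeRestrict (fun g hg => by
      rw [MonoidHom.ker_rangeRestrict, MonoidHom.mem_ker] at hg
      rcases hker g g.2 (fun e he => by
        have h1 : ((ψ g) ⟨e, he⟩ : G) = e := by rw [hg]; rfl
        rw [hψ, MonoidHom.comp_apply, normalizerMonoidHom_apply_apply_coe] at h1
        exact (mul_inv_eq_iff_eq_mul.1 h1).symm) with h | h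
      · rw [show g = 1 from Subtype.ext h]; exact one_mem _
      · refine mem_center_iff.2 fun y => Subtype.ext ?_
        show (y : G) * g = g * y
        rw [h]
        exact (hfix' y y.2).2.2.1.eq)).is_comm.comm x y
  intro x hx y hy
  have h1 := congrArg Subtype.val (hcomm ⟨_, x, hx, rfl⟩ ⟨_, y, hy, rfl⟩)
  refine (MulAut.conj n).injective ?_
  rw [map_mul, map_mul]
  exact h1

/-- **The data of the layers.** -/
theorem Bad.exists_lay {v : G} (hv : C.Bad v) (hf : ∀ v : G, orderOf v = 2 → ∃ c : C.Pt, v • c ≠ c)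
    (hp : ∀ u : G, C.Bad u → PairRank ↥(C.L u)) {b : C.Pt} {D : Subgroup G}
    (hM : C.MaxPair v C.base b D) {E₀ : Subgroup G} (hE₀ : C.IsE v C.base E₀)
    (h0 : C.Cross v C.base = ∅) (hQ₀ : C.qn v C.base = Nat.card E₀) (hsmall : C.SmallKernels) :
    ∃ (t : G) (E : Subgroup G), Nat.card E = Nat.card E₀ ∧ C.Lay v t b E D := by
  haveI : Fact (Nat.Prime 2) := ⟨Nat.prime_two⟩
  obtain ⟨ha, hb, -⟩ := hM.fix v hM.mem
  obtain ⟨E, hE, hcard, hDE⟩ := hv.exists_E_invariant C (hp v hv) hM hE₀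
  have hQ : C.qn v C.base = Nat.card E := by rw [hcard, hQ₀]
  obtain ⟨t, htL, -, -, htN, htr, -, hnorm⟩ := hv.exists_torus C (hp v hv) ha hb hM.ne.symm hE hQ
  obtain ⟨x, hx, hxv⟩ := C.exists_commute_at (mul_self_eq_one hv.1) ha
  have hq4 := (hv.qn_cases C (hp v hv) ha hE).1
  have hn : Nat.card C.Pt = Nat.card E ^ 3 + 1 := by
    rw [hv.count_of_cross_empty C hf (hp v hv) ha ⟨hx, hxv⟩ hE h0, hQ]
    obtain ⟨c, hc⟩ : ∃ c, Nat.card E = c + 1 := ⟨Nat.card E - 1, by omega⟩
    rw [hc, Nat.add_sub_cancel]; ring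
  have hsize : ∀ {u : G}, C.Bad u → u • C.base = C.base → C.qn u C.base = Nat.card E :=
    fun hu hua => (hv.size_at C hf hp ha hE h0 hQ hu hua).1
  obtain ⟨e₀, he₀, he₀1⟩ : ∃ e ∈ E, e ≠ 1 := E.bot_or_exists_ne_one.resolve_left fun h => by
    rw [h, card_bot] at hq4; omega
  have hbase : ∀ {u : G}, Commute e₀ u → u • C.base = C.base := fun hu =>
    C.smul_eq_of_commute_Z (hE.mem e₀ he₀ he₀1).1.1 hu (hE.mem e₀ he₀ he₀1).1.2
  have hSbase : ∀ S : Subgroup G, IsPGroup 2 S → E ≤ S → ∀ g ∈ S, g • C.base = C.base := by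
    intro S hS hES g hg
    obtain ⟨Q, hQ'⟩ := hS.exists_le_sylow
    obtain ⟨k, hk⟩ := MulAction.exists_smul_eq G C.P Q
    have hfix : ∀ y ∈ S, y • (k • C.base) = k • C.base := by
      intro y hy
      have h1 : k⁻¹ * y * k ∈ (C.P : Subgroup G) := by
        have h2 := hQ' hy
        rw [← hk, Sylow.coe_subgroup_smul] at h2
        obtain ⟨p, hp', e⟩ := h2
        have e' : k * p * k⁻¹ = y := e
        rw [← e', show k⁻¹ * (k * p * k⁻¹) * k = p by group]
        exact hp'
      have hcz : Commute C.z (k⁻¹ * y * k) := by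
        obtain ⟨z', hz', ez⟩ := C.z_center
        have h3 := congrArg Subtype.val (mem_center_iff.1 hz' ⟨_, h1⟩)
        rw [← ez]
        exact h3.symm
      have h4 := C.smul_eq_of_commute_Z C.z_mem_Z hcz C.z_smul_base
      rw [mul_smul, mul_smul, inv_smul_eq_iff] at h4
      exact h4
    have hm := hE.mem e₀ he₀ he₀1
    have hkb : k • C.base = C.base := C.fix_unique hm.1.1 (hfix e₀ (hES he₀)) hm.1.2
    have := hfix g hg
    rwa [hkb] at this
  have hZ2 : ∀ S : Subgroup G, IsPGroup 2 S → v ∈ S → E ≤ S → ∀ x ∈ S, x ∈ C.Z → x ∈ E :=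
    fun S hS _ hES y hy hyZ => hv.closed_E C hf ha hE h0
      (fun g hg => MulAction.mem_stabilizer_iff.2 (hSbase S hS hES g hg)) hS hES
      ⟨hyZ, hSbase S hS hES y hy⟩ hy
  refine ⟨t, E, hcard, hv, ha, hM.ne.symm, fun e he => hE.mul_self C he,
    fun e he h => (hE.mem e he h).1, fun e he => hE.commute_v C he, hq4, C.commute_of_mem_L htL, htN,
    fun e he e' he' h h' => htr e he e' he' h h', hnorm, hM.two, hM.mem, hM.fix, hDE, hZ2, ?_, ?_, hn,
    ?_, fun c hc S hS hSf => hM.max C.base c hc.symm S hS hSf,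
    fun S hS hSf => hv.stab_comm_of_small C hf hp ha hb hM.ne.symm hE h0 hQ hn hsmall hS hSf⟩
  · intro S hS hvS hES u huS hu
    refine mem_centralizer_iff.2 fun e he => ?_
    refine ((hv.size_at C hf hp ha hE h0 hQ hu (hSbase S hS hES u huS)).2.2 ?_ e he).eq
    refine mem_normalizer_iff_map_conj_eq.2
      (eq_of_le_of_card_ge ?_ (card_map_of_injective (MulAut.conj u).injective).ge)
    rintro _ ⟨e', he', rfl⟩
    rcases eq_or_ne e' 1 with rfl | h
    · rw [map_one]; exact one_mem _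
    · exact hZ2 S hS hvS hES _ (S.mul_mem (S.mul_mem huS (hES he')) (S.inv_mem huS))
        (C.conj_mem_Z (hE.mem e' he' h).1.1 u)
  · intro u hu hvu S hS hSC s hs
    obtain ⟨g, rfl⟩ := isConj_iff.1 hvu
    set u := g * v * g⁻¹ with hu'
    have hub : C.Bad u := by
      obtain ⟨h2, p, p', hne, h1, h1'⟩ := id hv
      refine ⟨by rw [hu', orderOf_conj_eq, h2], g • p, g • p', fun e => hne (smul_left_cancel g e), ?_, ?_⟩
      · rw [hu', mul_smul, mul_smul, inv_smul_smul, h1]
      · rw [hu', mul_smul, mul_smul, inv_smul_smul, h1']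
    have hEu : ∀ e ∈ E, Commute e u := fun e he => mem_centralizer_iff.1 hu e he
    have hua : u • C.base = C.base := hbase (hEu e₀ he₀)
    have hfull : C.Full u C.base E := ⟨hub, hua, hEu, hsize hub hua⟩
    obtain ⟨c, hca, huc⟩ := hub.exists_other C C.base
    have hSb : ∀ y ∈ S, y • C.base = C.base := fun y hy =>
      hbase (mem_centralizer_iff.1 (hSC hy).1 e₀ he₀)
    obtain ⟨e, he, hec⟩ := hfull.exists_translate C hE (c := s • c) (d := c)
      (by rw [smul_smul, ← mem_centralizer_singleton_iff.1 (hSC hs).2, mul_smul, huc])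
      (fun h => hca (smul_left_cancel s (h.trans (hSb s hs).symm))) huc hca
    -- the group generated by all three
    have hcE : ∀ y ∈ E, ∀ w ∈ E, Commute y w := fun y hy w hw => hE.commute C hy hw
    set W := S ⊔ (zpowers u ⊔ E) with hW
    have hWC : W ≤ centralizer (E : Set G) ⊓ centralizer ({u} : Set G) :=
      sup_le hSC (sup_le (zpowers_le.2 ⟨hu, mem_centralizer_singleton_iff.2 rfl⟩) fun y hy =>
        ⟨mem_centralizer_iff.2 fun w hw => (hcE w hw y hy).eq,
          mem_centralizer_singleton_iff.2 (hEu y hy).eq⟩)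
    have hUE : IsPGroup 2 ↥(zpowers u ⊔ E) :=
      IsPGroup.to_sup_of_normal_right' (IsPGroup.of_card (n := 1) (by
        rw [Nat.card_zpowers, hub.1, pow_one])) (hE.isPGroup C)
        (zpowers_le.2 (centralizer_le_normalizer _ hu))
    have hW2 : IsPGroup 2 W := IsPGroup.to_sup_of_normal_right' hS hUE fun y hy => by
      have h1 : zpowers u ⊔ E ≤ centralizer ({y} : Set G) :=
        sup_le (zpowers_le.2 (mem_centralizer_singleton_iff.2
            (mem_centralizer_singleton_iff.1 (hSC hy).2).symm))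
          fun w hw => mem_centralizer_singleton_iff.2 (mem_centralizer_iff.1 (hSC hy).1 w hw)
      exact centralizer_le_normalizer _
        (mem_centralizer_iff.2 fun w hw => mem_centralizer_singleton_iff.1 (h1 hw))
    have hWb : ∀ y ∈ W, y • C.base = C.base := fun y hy =>
      hbase (mem_centralizer_iff.1 (hWC hy).1 e₀ he₀)
    have K : C.Ker u C.base c E (W ⊓ MulAction.stabilizer G c) :=
      ⟨hub, hf, hp u hub, hua, hca, huc, hv.isE_at C hf (hp v hv) ha hE h0 hEu,
        hv.cross_empty_at C hf hp ha hE h0 hQ hub hua, fun u' hu' hu'a _ => hsize hu' hu'a,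
        hW2.to_le inf_le_left, fun r hr => ⟨hWb r hr.1, hr.2⟩,
        fun r hr => ⟨mem_centralizer_singleton_iff.1 (hWC hr.1).2,
          fun w hw => mem_centralizer_iff.1 (hWC hr.1).1 w hw⟩⟩
    have hmem : e * s ∈ W ⊓ MulAction.stabilizer G c :=
      ⟨W.mul_mem (mem_sup_right (mem_sup_right he)) (mem_sup_left hs), by
        show (e * s) • c = c
        rw [mul_smul, hec]⟩
    have hes : s = e⁻¹ * (e * s) := (inv_mul_cancel_left e s).symm
    rcases hsmall u C.base c E _ K hn _ hmem with h | h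
    · rw [hes, h, mul_one]; exact mem_sup_right (inv_mem he)
    · rw [hes, h]; exact mul_mem (mem_sup_right (inv_mem he)) (mem_sup_left (mem_zpowers u))
  · intro e he
    rcases eq_or_ne e 1 with rfl | h
    · rw [mul_one, ← hQ]
      rfl
    · obtain ⟨h1, h2, -, -⟩ := hv.mul_Ea C hf (hp v hv) ha (hE.mem e he h)
      exact hsize h1 h2

end Ctx

end CfsgLib.Criterion
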