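import Cfsg.Agent.Criterion.Quot

/-!
# The strong embedding criterion: the members at a point centralising a bad involution

For `v` bad fixing `a` the members `x` at `a` centralising `v` fall into classes, two of them being
in the same class when their product has odd order.  An elementary abelian group `E` meets each
class once, and each member is central in a 2-group that is regular on the other fixed points of
`v`.
-/

set_option autoImplicit false
set_option linter.style.haveILetI false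
set_option linter.unusedSectionVars false

namespace CfsgLib.Criterion

open Subgroup CfsgLib.Invol CfsgLib.Bender

universe u

variable {G : Type u} [Group G] [Finite G]

/-- The orbit of a point under a subgroup times its stabiliser in the subgroup. -/
theorem card_orbit_sub {α : Type*} [MulAction G α] (D : Subgroup G) (p : α) :
    Nat.card {q : α // ∃ d ∈ D, d • p = q} * Nat.card ↥(D ⊓ MulAction.stabilizer G p) = Nat.card D := by
  have h1 : Nat.card {q : α // ∃ d ∈ D, d • p = q} = (MulAction.stabilizer ↥D p).index := by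
    rw [← Nat.card_congr (Equiv.subtypeEquivRight fun q =>
      (⟨fun ⟨d, h⟩ => ⟨d, d.2, h⟩, fun ⟨d, hd, h⟩ => ⟨⟨d, hd⟩, h⟩⟩ :
        q ∈ MulAction.orbit ↥D p ↔ ∃ d ∈ D, d • p = q)), index,
      ← Nat.card_congr (MulAction.orbitEquivQuotientStabilizer ↥D p)]
  have h2 : Nat.card ↥(D ⊓ MulAction.stabilizer G p) = Nat.card (MulAction.stabilizer ↥D p) :=
    Nat.card_congr
      { toFun := fun x => ⟨⟨x.1, x.2.1⟩, x.2.2⟩
        invFun := fun x => ⟨x.1.1, x.1.2, x.2⟩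
        left_inv := fun _ => rfl
        right_inv := fun _ => rfl }
  rw [h1, h2, index_mul_card]

/-- The conjugates of an element under a subgroup times its centraliser in the subgroup. -/
theorem card_conj_sub (D : Subgroup G) (x : G) :
    Nat.card {y : G // ∃ d ∈ D, d * x * d⁻¹ = y} * Nat.card ↥(D ⊓ centralizer {x}) = Nat.card D := by
  haveI : Finite (ConjAct G) := ‹Finite G›
  have h := card_orbit_sub (G := ConjAct G) (D.map ConjAct.toConjAct.toMonoidHom) x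
  have e1 : ({y : G // ∃ d ∈ D, d * x * d⁻¹ = y}) ≃
      {y : G // ∃ d ∈ D.map (ConjAct.toConjAct (G := G)).toMonoidHom, d • x = y} :=
    Equiv.subtypeEquivRight fun y => ⟨fun ⟨d, hd, e⟩ => ⟨_, mem_map_of_mem _ hd, e⟩,
      fun ⟨_, ⟨d, hd, rfl⟩, e⟩ => ⟨d, hd, e⟩⟩
  rw [← Nat.card_congr e1, card_map_of_injective (ConjAct.toConjAct (G := G)).injective] at h
  convert h using 2
  refine Nat.card_congr (Equiv.subtypeEquiv (ConjAct.toConjAct (G := G)).toEquiv fun d => ?_)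
  constructor
  · rintro ⟨hd, hc⟩
    exact ⟨mem_map_of_mem _ hd, mul_inv_eq_iff_eq_mul.2 (mem_centralizer_singleton_iff.1 hc)⟩
  · rintro ⟨⟨d', hd', e⟩, hc⟩
    obtain rfl := (ConjAct.toConjAct (G := G)).injective e
    exact ⟨hd', mem_centralizer_singleton_iff.2 (mul_inv_eq_iff_eq_mul.1 hc)⟩

namespace Ctx

variable (C : Ctx G)

/-- The members at `a` centralising `v`. -/
def Ea (v : G) (a : C.Pt) : Set G := {x | x ∈ C.Za a ∧ Commute x v}

/-- The class of `x` among the members at `a` centralising `v`. -/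
def cls (v : G) (a : C.Pt) (x : G) : Set G := {y | y ∈ C.Ea v a ∧ Odd (orderOf (x * y))}

/-- The number of fixed points of `v`. -/
noncomputable def fn (v : G) : ℕ := Nat.card {c : C.Pt // v • c = c}

/-- The number of fixed points of `v` other than `a`. -/
noncomputable def qn (v : G) (a : C.Pt) : ℕ := Nat.card {c : C.Pt // v • c = c ∧ c ≠ a}

theorem fn_eq {v : G} {a : C.Pt} (ha : v • a = a) : C.fn v = C.qn v a + 1 := by
  haveI := Fintype.ofFinite C.Pt
  classical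
  rw [fn, qn, Nat.card_eq_fintype_card, Nat.card_eq_fintype_card, Fintype.card_subtype,
    Fintype.card_subtype, ← Finset.card_erase_add_one (show a ∈ Finset.univ.filter fun c => v • c = c from
      Finset.mem_filter.2 ⟨Finset.mem_univ _, ha⟩)]
  congr 2
  ext c
  simp [and_comm]

/-- The elements of the local group fixing all fixed points. -/
def Om (v : G) : Subgroup G := (C.fixKer v).map (C.L v).subtype

theorem mem_Om {v g : G} : g ∈ C.Om v ↔ g ∈ C.L v ∧ ∀ c : C.Pt, v • c = c → g • c = c := by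
  constructor
  · rintro ⟨x, hx, rfl⟩
    exact ⟨x.2, C.mem_fixKer.1 hx⟩
  · exact fun h => ⟨⟨g, h.1⟩, C.mem_fixKer.2 h.2, rfl⟩

theorem Bad.odd_Om {v : G} (hv : C.Bad v) : Odd (Nat.card (C.Om v)) := by
  rw [Om, card_map_of_injective (C.L v).subtype_injective]
  exact hv.odd_fixKer C

theorem conj_mem_Om {v g o : G} (hg : Commute g v) (ho : o ∈ C.Om v) (hgL : g ∈ C.L v) :
    g * o * g⁻¹ ∈ C.Om v := by
  obtain ⟨hoL, hof⟩ := C.mem_Om.1 ho
  refine C.mem_Om.2 ⟨mul_mem (mul_mem hgL hoL) (inv_mem hgL), fun c hc => ?_⟩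
  rw [mul_smul, mul_smul, hof (g⁻¹ • c), smul_inv_smul]
  rw [smul_smul, ← hg.inv_left.eq, mul_smul, hc]

theorem mem_L_of_Ea {v x : G} {a : C.Pt} (hx : x ∈ C.Ea v a) : x ∈ C.L v := C.mem_L hx.1.1 hx.2

theorem Bad.mem_Ea {v : G} (hv : C.Bad v) {a : C.Pt} {s : G} (hs : s ∈ C.L v) (hso : orderOf s = 2)
    (hsa : s • a = a) : s ∈ C.Ea v a :=
  ⟨⟨hv.mem_Z_of_mem_L C hs hso, hsa⟩, C.commute_of_mem_L hs⟩

/-- Two members at one point have a product of odd order exactly when it fixes all fixed points. -/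
theorem Bad.odd_iff {v : G} (hv : C.Bad v) (hp : PairRank ↥(C.L v)) {a : C.Pt} (ha : v • a = a)
    {x y : G} (hx : x ∈ C.Ea v a) (hy : y ∈ C.Ea v a) :
    Odd (orderOf (x * y)) ↔ x * y ∈ C.Om v := by
  constructor
  · intro hodd
    have h := hv.commutator_mem_oddCore C hp ha (x := ⟨x, C.mem_L_of_Ea hx⟩) (y := ⟨y, C.mem_L_of_Ea hy⟩)
      (by rw [← Subgroup.orderOf_coe]; exact C.orderOf_Z hx.1.1)
      (by rw [← Subgroup.orderOf_coe]; exact C.orderOf_Z hy.1.1) hx.1.2 hy.1.2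
    rw [hv.oddCore_eq_fixKer C hp] at h
    have h2 : (x * y) ^ 2 ∈ C.Om v := by
      refine ⟨_, h, ?_⟩
      show x * y * x⁻¹ * y⁻¹ = (x * y) ^ 2
      rw [C.inv_Z hx.1.1, C.inv_Z hy.1.1, sq]
      group
    obtain ⟨l, hl⟩ := hodd
    have e : x * y = ((x * y) ^ 2) ^ (l + 1) := by
      rw [← pow_mul, show 2 * (l + 1) = orderOf (x * y) + 1 by omega, pow_succ, pow_orderOf_eq_one,
        one_mul]
    rw [e]
    exact pow_mem h2 _
  · exact fun h => (hv.odd_Om C).of_dvd_nat (orderOf_dvd_natCard _ h)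

/-- Members at one point with a product of odd order are conjugate by an element fixing all fixed
points. -/
theorem Bad.exists_conj_Om {v : G} (hv : C.Bad v) (hp : PairRank ↥(C.L v)) {a : C.Pt}
    (ha : v • a = a) {x y : G} (hx : x ∈ C.Ea v a) (hy : y ∈ C.Ea v a) (h : Odd (orderOf (x * y))) :
    ∃ o ∈ C.Om v, o * x * o⁻¹ = y := by
  obtain ⟨l, hl⟩ := id h
  have hxx := C.mul_self_Z hx.1.1
  have hc := conj_mul_inv (C.orderOf_Z hx.1.1) (C.orderOf_Z hy.1.1)
  refine ⟨(x * y) ^ ((l : ℕ) : ℤ), zpow_mem ((hv.odd_iff C hp ha hx hy).1 h) _, ?_⟩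
  rw [zpow_conj_invol hxx hc]
  calc x * (x * y) ^ (-(2 * (l : ℤ))) = x * (x * y) ^ (1 : ℤ) := by
        congr 1
        rw [zpow_eq_zpow_iff_modEq, hl, Int.modEq_iff_dvd]
        exact ⟨1, by push_cast; ring⟩
    _ = y := by rw [zpow_one, ← mul_assoc, hxx, one_mul]

/-- A class is an orbit of the elements fixing all fixed points. -/
theorem Bad.cls_eq {v : G} (hv : C.Bad v) (hp : PairRank ↥(C.L v)) {a : C.Pt} (ha : v • a = a)
    {x : G} (hx : x ∈ C.Ea v a) : C.cls v a x = {y | ∃ o ∈ C.Om v, o * x * o⁻¹ = y} := by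
  ext y
  constructor
  · exact fun ⟨hy, h⟩ => hv.exists_conj_Om C hp ha hx hy h
  · rintro ⟨o, ho, rfl⟩
    obtain ⟨hoL, hof⟩ := C.mem_Om.1 ho
    have hy : o * x * o⁻¹ ∈ C.Ea v a := by
      refine hv.mem_Ea C (mul_mem (mul_mem hoL (C.mem_L_of_Ea hx)) (inv_mem hoL))
        (by rw [orderOf_conj_eq, C.orderOf_Z hx.1.1]) ?_
      rw [mul_smul, mul_smul, inv_smul_eq_iff.2 (hof a ha).symm, hx.1.2, hof a ha]
    refine ⟨hy, (hv.odd_iff C hp ha hx hy).2 ?_⟩
    rw [show x * (o * x * o⁻¹) = x * o * x⁻¹ * o⁻¹ by rw [C.inv_Z hx.1.1]; group]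
    exact mul_mem (C.conj_mem_Om hx.2 ho (C.mem_L_of_Ea hx)) (inv_mem ho)

/-! ### Pairs -/

theorem exists_mem_L_move {v : G} (hv : C.Bad v) {a b : C.Pt} (ha : v • a = a) (hb : v • b = b) :
    ∃ g ∈ C.L v, g • a = b := by
  by_cases hab : a = b
  · exact ⟨1, one_mem _, by rw [one_smul, hab]⟩
  · obtain ⟨w, hw, -, hwL⟩ := C.exists_swap_L (mul_self_eq_one hv.1) hab ha hb
    exact ⟨w, hwL, hw.2⟩

theorem conj_mem_Ea {g v x : G} {a : C.Pt} (hx : x ∈ C.Ea v a) :
    g * x * g⁻¹ ∈ C.Ea (g * v * g⁻¹) (g • a) :=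
  ⟨C.conj_mem_Za hx.1, (Commute.conj_iff g).2 hx.2⟩

theorem conj_mem_Ea_L {g v x : G} (hg : g ∈ C.L v) {a : C.Pt} (hx : x ∈ C.Ea v a) :
    g * x * g⁻¹ ∈ C.Ea v (g • a) := by
  have h := C.conj_mem_Ea (g := g) hx
  rwa [show g * v * g⁻¹ = v from mul_inv_eq_iff_eq_mul.2 (C.commute_of_mem_L hg).eq] at h

/-- A local group with two commuting involutions has them at every fixed point. -/
theorem Bad.exists_pair {v : G} (hv : C.Bad v) (hp : PairRank ↥(C.L v)) {a : C.Pt} (ha : v • a = a) :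
    ∃ x ∈ C.Ea v a, ∃ y ∈ C.Ea v a, x ≠ y ∧ Commute x y := by
  obtain ⟨s, t, hs, ht, hne, hst⟩ := hp
  rw [← Subgroup.orderOf_coe] at hs ht
  have hsZ := hv.mem_Z_of_mem_L C s.2 hs
  obtain ⟨c, hc⟩ := C.exists_fix hsZ
  have htc : (t : G) • c = c := C.smul_eq_of_commute_Z hsZ (congrArg Subtype.val hst.eq) hc
  have hvc : v • c = c := C.smul_eq_of_commute_Z hsZ (C.commute_of_mem_L s.2) hc
  obtain ⟨g, hg, rfl⟩ := C.exists_mem_L_move hv hvc ha
  exact ⟨_, C.conj_mem_Ea_L hg (hv.mem_Ea C s.2 hs hc), _, C.conj_mem_Ea_L hg (hv.mem_Ea C t.2 ht htc),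
    fun e => hne (Subtype.ext (mul_left_cancel (mul_right_cancel e))),
    (Commute.conj_iff g).2 (congrArg Subtype.val hst.eq)⟩

/-- The members at a point are conjugate in the stabiliser inside the local group. -/
theorem Bad.exists_conj_at {v : G} (hv : C.Bad v) {a : C.Pt} {x y : G} (hx : x ∈ C.Ea v a)
    (hy : y ∈ C.Ea v a) : ∃ g ∈ C.L v, g • a = a ∧ g * x * g⁻¹ = y := by
  obtain ⟨g, hg, e⟩ := hv.exists_conj_L C ⟨hx.1.1, hx.2⟩ ⟨hy.1.1, hy.2⟩
  refine ⟨g, hg, C.fix_unique hy.1.1 ?_ hy.1.2, e⟩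
  rw [← e, mul_smul, mul_smul, inv_smul_smul, hx.1.2]

/-! ### The elementary group -/

/-- `E` is an elementary abelian group meeting every class once. -/
structure IsE (v : G) (a : C.Pt) (E : Subgroup G) : Prop where
  mem : ∀ e ∈ E, e ≠ 1 → e ∈ C.Ea v a
  cover : ∀ x ∈ C.Ea v a, ∃ e ∈ E, e ≠ 1 ∧ Odd (orderOf (x * e))

theorem IsE.mul_self {v : G} {a : C.Pt} {E : Subgroup G} (hE : C.IsE v a E) {e : G} (he : e ∈ E) :
    e * e = 1 := by
  by_cases h : e = 1
  · rw [h, one_mul]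
  · exact C.mul_self_Z (hE.mem e he h).1.1

theorem IsE.commute {v : G} {a : C.Pt} {E : Subgroup G} (hE : C.IsE v a E) {e e' : G} (he : e ∈ E)
    (he' : e' ∈ E) : Commute e e' := by
  have h := inv_eq_of_mul_eq_one_right (hE.mul_self C (mul_mem he he'))
  rw [mul_inv_rev, inv_eq_of_mul_eq_one_right (hE.mul_self C he),
    inv_eq_of_mul_eq_one_right (hE.mul_self C he')] at h
  exact h.symm

theorem IsE.eq_of_odd {v : G} {a : C.Pt} {E : Subgroup G} (hE : C.IsE v a E) {e e' : G} (he : e ∈ E)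
    (he' : e' ∈ E) (h : Odd (orderOf (e * e'))) : e = e' := by
  have h1 : e * e' = 1 := Consumers.eq_one_of_two_of_odd h (i := 1)
    (by rw [pow_one, sq]; exact hE.mul_self C (mul_mem he he'))
  rw [eq_inv_of_mul_eq_one_left h1, inv_eq_of_mul_eq_one_right (hE.mul_self C he')]

theorem IsE.le_stab {v : G} {a : C.Pt} {E : Subgroup G} (hE : C.IsE v a E) {e : G} (he : e ∈ E) :
    e • a = a := by
  by_cases h : e = 1
  · rw [h, one_smul]
  · exact (hE.mem e he h).1.2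

theorem IsE.isPGroup {v : G} {a : C.Pt} {E : Subgroup G} (hE : C.IsE v a E) : IsPGroup 2 E :=
  fun e => ⟨1, Subtype.ext (by rw [pow_one, SubmonoidClass.coe_pow, sq]; exact hE.mul_self C e.2)⟩

/-- Such a group contains any given member. -/
theorem Bad.exists_E {v : G} (hv : C.Bad v) (hp : PairRank ↥(C.L v)) {a : C.Pt} (ha : v • a = a)
    {x : G} (hx : x ∈ C.Ea v a) : ∃ E : Subgroup G, C.IsE v a E ∧ x ∈ E := by
  haveI : Fact (Nat.Prime 2) := ⟨Nat.prime_two⟩
  set π := QuotientGroup.mk' (Cfsg.oddCore ↥(C.L v))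
  set K : Subgroup ↥(C.L v) := closure {y | (y : G) ∈ C.Ea v a}
  have hcom : ∀ y z : ↥(C.L v), (y : G) ∈ C.Ea v a → (z : G) ∈ C.Ea v a → Commute (π y) (π z) := by
    intro y z hy hz
    have h := (QuotientGroup.eq_one_iff _).2 (hv.commutator_mem_oddCore C hp ha (x := y) (y := z)
      (by rw [← Subgroup.orderOf_coe]; exact C.orderOf_Z hy.1.1)
      (by rw [← Subgroup.orderOf_coe]; exact C.orderOf_Z hz.1.1) hy.1.2 hz.1.2)
    have h' : π y * π z * (π y)⁻¹ * (π z)⁻¹ = 1 := by rw [← map_inv, ← map_inv, ← map_mul, ← map_mul, ← map_mul]; exact h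
    exact mul_inv_eq_iff_eq_mul.1 (mul_inv_eq_one.1 h')
  have hcomK : ∀ k ∈ K, ∀ l ∈ K, Commute (π k) (π l) := by
    have h1 : ∀ y : ↥(C.L v), (y : G) ∈ C.Ea v a → ∀ l ∈ K, Commute (π y) (π l) := by
      intro y hy l hl
      induction hl using closure_induction with
      | mem l hl => exact hcom y l hy hl
      | one => rw [map_one]; exact Commute.one_right _
      | mul l l' _ _ h h' => rw [map_mul]; exact h.mul_right h'
      | inv l _ h => rw [map_inv]; exact h.inv_right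
    intro k hk l hl
    induction hk using closure_induction with
    | mem k hk => exact h1 k hk l hl
    | one => rw [map_one]; exact Commute.one_left _
    | mul k k' _ _ h h' => rw [map_mul]; exact h.mul_left h'
    | inv k _ h => rw [map_inv]; exact h.inv_left
  have hsqK : ∀ k ∈ K, π k * π k = 1 := by
    intro k hk
    induction hk using closure_induction with
    | mem k hk =>
      rw [← map_mul, show k * k = 1 from Subtype.ext (C.mul_self_Z hk.1.1), map_one]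
    | one => rw [map_one, mul_one]
    | mul k k' hk hk' h h' =>
      rw [map_mul, (hcomK k' hk' k hk).mul_mul_mul_comm, h, h', one_mul]
    | inv k _ h => rw [map_inv, ← mul_inv_rev, h, inv_one]
  have hfix : ∀ k ∈ K, (k : G) • a = a := by
    intro k hk
    induction hk using closure_induction with
    | mem k hk => exact hk.1.2
    | one => exact one_smul _ a
    | mul k k' _ _ h h' => rw [coe_mul, mul_smul, h', h]
    | inv k _ h => rw [coe_inv, inv_smul_eq_iff, h]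
  set x' : ↥K := ⟨⟨x, C.mem_L_of_Ea hx⟩, subset_closure hx⟩ with hx'
  have hx2 : x' * x' = 1 := Subtype.ext (Subtype.ext (C.mul_self_Z hx.1.1))
  obtain ⟨S, hS⟩ := IsPGroup.exists_le_sylow (p := 2) (P := zpowers x')
    (IsPGroup.of_card (n := 1) (by
      rw [Nat.card_zpowers, pow_one]
      exact orderOf_eq_two hx2 fun e => ne_one (C.orderOf_Z hx.1.1)
        (congrArg (fun t : ↥K => ((t : ↥(C.L v)) : G)) e)))
  refine ⟨((S : Subgroup ↥K).map K.subtype).map (C.L v).subtype, ⟨?_, ?_⟩,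
    ⟨x'.1, ⟨x', hS (mem_zpowers _), rfl⟩, rfl⟩⟩
  · rintro _ ⟨_, ⟨s, hs, rfl⟩, rfl⟩ hne
    have hss : s * s = 1 := by
      obtain ⟨i, hi⟩ := S.2 ⟨s * s, mul_mem hs hs⟩
      refine Consumers.eq_one_of_two_of_odd ?_ (congrArg Subtype.val hi)
      rw [← Subgroup.orderOf_coe]
      exact IsoApps.odd_of_mem_oddCore ((QuotientGroup.eq_one_iff _).1 (hsqK s s.2))
    exact hv.mem_Ea C (s : ↥(C.L v)).2
      (orderOf_eq_two (congrArg (fun t : ↥K => ((t : ↥(C.L v)) : G)) hss) hne) (hfix s s.2)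
  · intro y hy
    set y' : ↥K := ⟨⟨y, C.mem_L_of_Ea hy⟩, subset_closure hy⟩
    have hy2 : y' * y' = 1 := Subtype.ext (Subtype.ext (C.mul_self_Z hy.1.1))
    obtain ⟨S', hS'⟩ := IsPGroup.exists_le_sylow (p := 2) (P := zpowers y')
      (IsPGroup.of_card (n := 1) (by
        rw [Nat.card_zpowers, pow_one]
        exact orderOf_eq_two hy2 fun e => ne_one (C.orderOf_Z hy.1.1)
          (congrArg (fun t : ↥K => ((t : ↥(C.L v)) : G)) e)))
    obtain ⟨k, hk⟩ := MulAction.exists_smul_eq ↥K S' S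
    have hmem : k * y' * k⁻¹ ∈ (S : Subgroup ↥K) := by
      rw [← hk, Sylow.coe_subgroup_smul]
      exact Subgroup.smul_mem_pointwise_smul y' (MulAut.conj k) _ (hS' (mem_zpowers _))
    set e : G := (((k * y' * k⁻¹ : ↥K) : ↥(C.L v)) : G) with he
    refine ⟨e, ⟨_, ⟨_, hmem, rfl⟩, rfl⟩, fun h1 => ?_, ?_⟩
    · have : orderOf y = 2 := C.orderOf_Z hy.1.1
      rw [← orderOf_conj_eq ((k : ↥(C.L v)) : G), show ((k : ↥(C.L v)) : G) * y * ((k : ↥(C.L v)) : G)⁻¹ = e
        from rfl, h1, orderOf_one] at this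
      exact absurd this (by decide)
    · have h1 : π (y'.1 * (k * y' * k⁻¹ : ↥K).1) = 1 := by
        rw [map_mul, coe_mul, coe_mul, coe_inv, map_mul, map_mul, map_inv,
          (hcomK k k.2 y' y'.2).eq, mul_inv_cancel_right]
        exact hsqK y' y'.2
      rw [show y * e = ((y'.1 * (k * y' * k⁻¹ : ↥K).1 : ↥(C.L v)) : G) from rfl, Subgroup.orderOf_coe]
      exact IsoApps.odd_of_mem_oddCore ((QuotientGroup.eq_one_iff _).1 h1)

/-- Such groups for two involutions are comparable through their elements. -/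
theorem IsE.card_le {v v' : G} {a : C.Pt} {E E' : Subgroup G} (hE : C.IsE v a E) (hE' : C.IsE v' a E')
    (hv' : C.Bad v') (hp' : PairRank ↥(C.L v')) (ha' : v' • a = a)
    (hsub : ∀ e ∈ E, e ≠ 1 → e ∈ C.Ea v' a) : Nat.card E ≤ Nat.card E' := by
  classical
  have hch : ∀ e : E, ∃ e' : E', ((e : G) = 1 → e' = 1) ∧
      ((e : G) ≠ 1 → (e' : G) ≠ 1 ∧ Odd (orderOf ((e : G) * e'))) := by
    intro e
    by_cases h : (e : G) = 1
    · exact ⟨1, fun _ => rfl, fun hne => absurd h hne⟩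
    · obtain ⟨e', he', hne, hodd⟩ := hE'.cover _ (hsub e e.2 h)
      exact ⟨⟨e', he'⟩, fun he => absurd he h, fun _ => ⟨hne, hodd⟩⟩
  choose F hF1 hF2 using hch
  refine Nat.card_le_card_of_injective F fun e₁ e₂ h => Subtype.ext ?_
  by_cases h1 : (e₁ : G) = 1
  · by_contra hne
    exact (hF2 e₂ fun h2 => hne (h1.trans h2.symm)).1 (by rw [← h, hF1 e₁ h1]; rfl)
  · by_cases h2 : (e₂ : G) = 1
    · exact absurd (by rw [h, hF1 e₂ h2]; rfl) (hF2 e₁ h1).1
    · obtain ⟨hne, ho1⟩ := hF2 e₁ h1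
      obtain ⟨-, ho2⟩ := hF2 e₂ h2
      rw [← h] at ho2
      refine hE.eq_of_odd C e₁.2 e₂.2 ((hv'.odd_iff C hp' ha' (hsub _ e₁.2 h1) (hsub _ e₂.2 h2)).2 ?_)
      have hm := hE'.mem _ (F e₁).2 hne
      have := mul_mem ((hv'.odd_iff C hp' ha' (hsub _ e₁.2 h1) hm).1 ho1)
        (inv_mem ((hv'.odd_iff C hp' ha' (hsub _ e₂.2 h2) hm).1 ho2))
      rwa [mul_inv_rev, C.inv_Z (hsub _ e₂.2 h2).1.1, ← mul_assoc, mul_inv_cancel_right] at this

/-- All classes have the same size. -/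
theorem Bad.card_cls {v : G} (hv : C.Bad v) {a : C.Pt} {x y : G} (hx : x ∈ C.Ea v a)
    (hy : y ∈ C.Ea v a) : Nat.card (C.cls v a x) = Nat.card (C.cls v a y) := by
  obtain ⟨g, hg, hga, rfl⟩ := hv.exists_conj_at C hx hy
  refine Nat.card_congr (Equiv.subtypeEquiv (MulAut.conj g).toEquiv fun z => ?_)
  have hgv : g * v * g⁻¹ = v := mul_inv_eq_iff_eq_mul.2 (C.commute_of_mem_L hg).eq
  show z ∈ C.cls v a x ↔ g * z * g⁻¹ ∈ C.cls v a (g * x * g⁻¹)
  have e : g * x * g⁻¹ * (g * z * g⁻¹) = g * (x * z) * g⁻¹ := by group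
  constructor
  · rintro ⟨h1, h2⟩
    refine ⟨?_, by rw [e, orderOf_conj_eq]; exact h2⟩
    have := C.conj_mem_Ea_L hg h1
    rwa [hga] at this
  · rintro ⟨h1, h2⟩
    refine ⟨?_, by rwa [e, orderOf_conj_eq] at h2⟩
    have := C.conj_mem_Ea_L (inv_mem hg) h1
    rwa [inv_smul_eq_iff.2 hga.symm, inv_inv, ← mul_assoc, ← mul_assoc, inv_mul_cancel, one_mul,
      inv_mul_cancel_right] at this

/-- The members at a point number the classes times the class size. -/
theorem Bad.card_Ea {v : G} (hv : C.Bad v) (hp : PairRank ↥(C.L v)) {a : C.Pt} (ha : v • a = a)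
    {x : G} (hx : x ∈ C.Ea v a) {E : Subgroup G} (hE : C.IsE v a E) :
    Nat.card (C.Ea v a) = (Nat.card E - 1) * Nat.card (C.cls v a x) := by
  classical
  haveI := Fintype.ofFinite {e : E // (e : G) ≠ 1}
  have e : (Σ e : {e : E // (e : G) ≠ 1}, C.cls v a e.1) ≃ C.Ea v a :=
    Equiv.ofBijective (fun p => ⟨p.2.1, p.2.2.1⟩) ⟨by
      rintro ⟨⟨⟨e, he⟩, hne⟩, y, hy⟩ ⟨⟨⟨e', he'⟩, hne'⟩, y', hy'⟩ h
      obtain rfl : y = y' := congrArg Subtype.val h
      obtain rfl : e = e' := by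
        refine hE.eq_of_odd C he he' ((hv.odd_iff C hp ha (hE.mem e he hne) (hE.mem e' he' hne')).2 ?_)
        have := mul_mem ((hv.odd_iff C hp ha (hE.mem e he hne) hy.1).1 hy.2)
          (inv_mem ((hv.odd_iff C hp ha (hE.mem e' he' hne') hy.1).1 hy'.2))
        rwa [mul_inv_rev, C.inv_Z (hE.mem e' he' hne').1.1, ← mul_assoc, mul_inv_cancel_right] at this
      rfl, fun y => by
      obtain ⟨e, he, hne, hodd⟩ := hE.cover y.1 y.2
      refine ⟨⟨⟨⟨e, he⟩, hne⟩, y.1, y.2, ?_⟩, rfl⟩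
      rwa [← mul_inv_rev_invol (C.orderOf_Z y.2.1.1) (C.orderOf_Z (hE.mem e he hne).1.1), orderOf_inv]⟩
  rw [← Nat.card_congr e, Nat.card_sigma,
    Finset.sum_congr rfl (fun e _ => hv.card_cls C (hE.mem _ e.1.2 e.2) hx),
    Finset.sum_const, Finset.card_univ, smul_eq_mul, ← Nat.card_eq_fintype_card]
  congr 1
  haveI := Fintype.ofFinite E
  rw [Nat.card_eq_fintype_card, Nat.card_eq_fintype_card, Fintype.card_subtype_compl,
    Fintype.card_subtype_eq' (1 : E) |>.symm]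
  congr 1
  exact Fintype.card_congr (Equiv.subtypeEquivRight fun e => ⟨fun h => (Subtype.ext h).symm, fun h => h ▸ rfl⟩)

/-! ### The regular 2-group -/

/-- A 2-group of the local group fixing `a`, regular on the other fixed points of `v`. -/
structure Reg (v : G) (a : C.Pt) (S : Subgroup G) : Prop where
  le : S ≤ C.L v
  fix : ∀ s ∈ S, s • a = a
  two : IsPGroup 2 S
  trans : ∀ b c : C.Pt, v • b = b → b ≠ a → v • c = c → c ≠ a → ∃ s ∈ S, s • b = c

theorem Bad.exists_reg {v : G} (hv : C.Bad v) (hp : PairRank ↥(C.L v)) {a : C.Pt} (ha : v • a = a) :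
    ∃ S : Subgroup G, C.Reg v a S := by
  haveI : Fact (Nat.Prime 2) := ⟨Nat.prime_two⟩
  set π := QuotientGroup.mk' (Cfsg.oddCore ↥(C.L v)) with hπ
  set M := C.LH v a with hM
  have hO : Cfsg.oddCore ↥(C.L v) ≤ M := hv.oddCore_le_LH C hp ha
  obtain ⟨T, hTM, hn, hT2, htr⟩ :=
    Consumers.quot_shape Consumers.structure_all (hv.isStronglyEmbedded C ha) hp
  obtain ⟨S₀⟩ : Nonempty (Sylow 2 ↥M) := inferInstance
  let f : ↥M →* ↥(M.map π) := π.subgroupMap M
  have hf : Function.Surjective f := π.subgroupMap_surjective M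
  set S₁ := S₀.mapSurjective hf
  haveI hTn : (T.subgroupOf (M.map π)).Normal := (normal_subgroupOf_iff_le_normalizer hTM).2 hn
  have hTle : T.subgroupOf (M.map π) ≤ (S₁ : Subgroup ↥(M.map π)) :=
    IsPGroup.le_sylow_of_normal (hT2.of_equiv (subgroupOfEquivOfLe hTM).symm) S₁
  refine ⟨((S₀ : Subgroup ↥M).map M.subtype).map (C.L v).subtype, map_subtype_le _, ?_,
    (S₀.2.map _).map _, ?_⟩
  · rintro _ ⟨_, ⟨s, -, rfl⟩, rfl⟩
    exact C.mem_LH.1 s.2
  · intro b c hb hba hc hca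
    obtain ⟨g₁, hg₁, rfl⟩ := C.exists_mem_L_move hv ha hb
    obtain ⟨g₂, hg₂, rfl⟩ := C.exists_mem_L_move hv ha hc
    have hmem : ∀ g : ↥(C.L v), π g ∈ M.map π → g ∈ M := by
      rintro g ⟨h, hh, e⟩
      have h1 : h⁻¹ * g ∈ Cfsg.oddCore ↥(C.L v) := QuotientGroup.eq.1 e
      simpa using mul_mem hh (hO h1)
    obtain ⟨w, hw, hwg⟩ := htr (π ⟨g₁, hg₁⟩) (π ⟨g₂, hg₂⟩) (fun h => hba (C.mem_LH.1 (hmem _ h)))
      (fun h => hca (C.mem_LH.1 (hmem _ h)))
    obtain ⟨s, hs, hsw⟩ := hTle (show (⟨w, hTM hw⟩ : ↥(M.map π)) ∈ T.subgroupOf (M.map π) from hw)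
    have hsw' : π (s : ↥(C.L v)) = w := congrArg Subtype.val hsw
    refine ⟨_, ⟨_, ⟨s, hs, rfl⟩, rfl⟩, ?_⟩
    have h3 := hmem ((⟨g₂, hg₂⟩ : ↥(C.L v))⁻¹ * ((s : ↥(C.L v)) * ⟨g₁, hg₁⟩))
      (by rw [map_mul, map_mul, map_inv, hsw']; exact hwg)
    have h4 : (g₂⁻¹ * (((s : ↥(C.L v)) : G) * g₁)) • a = a := C.mem_LH.1 h3
    rw [mul_smul, inv_smul_eq_iff, mul_smul] at h4
    exact h4

theorem Bad.reg_free {v : G} (hv : C.Bad v) {a : C.Pt} {S : Subgroup G} (hS : C.Reg v a S) {s : G}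
    (hs : s ∈ S) {c : C.Pt} (hca : c ≠ a) (hsc : s • c = c) : s = 1 := by
  haveI : Fact (Nat.Prime 2) := ⟨Nat.prime_two⟩
  by_contra hne
  obtain ⟨k, hk⟩ := IsPGroup.iff_orderOf.1 hS.two ⟨s, hs⟩
  rw [← Subgroup.orderOf_coe] at hk
  have hk0 : k ≠ 0 := fun h => hne (orderOf_eq_one_iff.1 (by simpa [h] using hk))
  obtain ⟨l, rfl⟩ := Nat.exists_eq_succ_of_ne_zero hk0
  have hu : orderOf (s ^ 2 ^ l) = 2 := by
    rw [orderOf_pow' s (pow_ne_zero _ two_ne_zero), hk, Nat.gcd_eq_right (pow_dvd_pow 2 l.le_succ),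
      pow_succ, Nat.mul_div_cancel_left _ (pow_pos two_pos _)]
  have hfix : ∀ p : C.Pt, s • p = p → (s ^ 2 ^ l) • p = p := fun p h =>
    MulAction.mem_stabilizer_iff.1 (pow_mem (MulAction.mem_stabilizer_iff.2 h) _)
  exact hca (C.fix_unique (hv.mem_Z_of_mem_L C (pow_mem (hS.le hs) _) hu) (hfix c hsc)
    (hfix a (hS.fix s hs)))

theorem Bad.card_reg {v : G} (hv : C.Bad v) {a : C.Pt} (ha : v • a = a) {S : Subgroup G}
    (hS : C.Reg v a S) : Nat.card S = C.qn v a := by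
  obtain ⟨b, hb, hvb⟩ := hv.exists_other C a
  refine Nat.card_congr (Equiv.ofBijective (fun s : S => (⟨(s : G) • b, ?_, ?_⟩ : {c : C.Pt // v • c = c ∧ c ≠ a})) ⟨?_, ?_⟩)
  · rw [smul_smul, ← (C.commute_of_mem_L (hS.le s.2)).eq, mul_smul, hvb]
  · exact fun h => hb (smul_left_cancel (s : G) (h.trans (hS.fix _ s.2).symm))
  · intro s t h
    have h1 : (s : G) • b = (t : G) • b := congrArg Subtype.val h
    exact Subtype.ext (inv_mul_eq_one.1 (hv.reg_free C hS (mul_mem (inv_mem t.2) s.2) hb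
      (by rw [mul_smul, h1, inv_smul_smul]))).symm
  · rintro ⟨c, hc, hca⟩
    obtain ⟨s, hs, e⟩ := hS.trans b c hvb hb hc hca
    exact ⟨⟨s, hs⟩, Subtype.ext e⟩

/-- Every member at `a` is central in such a group. -/
theorem Bad.exists_reg_central {v : G} (hv : C.Bad v) (hp : PairRank ↥(C.L v)) {a : C.Pt}
    (ha : v • a = a) {x : G} (hx : x ∈ C.Ea v a) :
    ∃ S : Subgroup G, C.Reg v a S ∧ x ∈ S ∧ ∀ s ∈ S, Commute s x := by
  haveI : Fact (Nat.Prime 2) := ⟨Nat.prime_two⟩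
  obtain ⟨S, hS⟩ := hv.exists_reg C hp ha
  have hne : Nontrivial ↥S := by
    rw [← Finite.one_lt_card_iff_nontrivial, hv.card_reg C ha hS]
    obtain ⟨x₀, hx₀, y₀, hy₀, hxy, -⟩ := hv.exists_pair C hp ha
    obtain ⟨b, hb, hvb⟩ := hv.exists_other C a
    refine Finite.one_lt_card_iff_nontrivial.2 ⟨⟨b, hvb, hb⟩, ⟨x₀ • b, ?_, ?_⟩, fun h => ?_⟩
    · rw [smul_smul, ← hx₀.2.eq, mul_smul, hvb]
    · exact fun h => hb (smul_left_cancel x₀ (h.trans hx₀.1.2.symm))
    · exact hb (C.fix_unique hx₀.1.1 (congrArg Subtype.val h).symm hx₀.1.2)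
  haveI := hS.two.center_nontrivial
  obtain ⟨i, hi⟩ := exists_prime_orderOf_dvd_card' (G := ↥(Subgroup.center ↥S)) 2
    (by
      obtain ⟨n, hn⟩ := IsPGroup.iff_card.1 (hS.two.to_subgroup (Subgroup.center ↥S))
      rcases Nat.eq_zero_or_pos n with rfl | h
      · exact absurd hn (by rw [pow_zero]; exact (Finite.one_lt_card_iff_nontrivial.2 inferInstance).ne')
      · rw [hn]; exact dvd_pow_self 2 h.ne')
  set z₀ : G := ((i : ↥S) : G) with hz₀
  have hz2 : orderOf z₀ = 2 := by rw [hz₀, Subgroup.orderOf_coe, Subgroup.orderOf_coe, hi]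
  have hzE := hv.mem_Ea C (hS.le (i : ↥S).2) hz2 (hS.fix _ (i : ↥S).2)
  obtain ⟨g, hg, hga, hge⟩ := hv.exists_conj_at C hzE hx
  refine ⟨S.map (MulAut.conj g).toMonoidHom, ⟨?_, ?_, hS.two.map _, ?_⟩, ?_, ?_⟩
  · rintro _ ⟨s, hs, rfl⟩
    exact mul_mem (mul_mem hg (hS.le hs)) (inv_mem hg)
  · rintro _ ⟨s, hs, rfl⟩
    show (g * s * g⁻¹) • a = a
    rw [mul_smul, mul_smul, inv_smul_eq_iff.2 hga.symm, hS.fix s hs, hga]
  · intro b c hb hba hc hca
    have hgi := (C.commute_of_mem_L (inv_mem hg)).eq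
    have hmv : ∀ p : C.Pt, v • p = p → v • (g⁻¹ • p) = g⁻¹ • p := fun p hp => by
      rw [smul_smul, ← hgi, mul_smul, hp]
    have hne' : ∀ p : C.Pt, p ≠ a → g⁻¹ • p ≠ a := fun p hp e => hp (by
      rw [← smul_inv_smul g p, e, hga])
    obtain ⟨s, hs, e⟩ := hS.trans _ _ (hmv b hb) (hne' b hba) (hmv c hc) (hne' c hca)
    refine ⟨_, ⟨s, hs, rfl⟩, ?_⟩
    show (g * s * g⁻¹) • b = c
    rw [mul_smul, mul_smul, e, smul_inv_smul]
  · exact ⟨z₀, (i : ↥S).2, hge⟩
  · rintro _ ⟨s, hs, rfl⟩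
    show Commute (g * s * g⁻¹) x
    rw [← hge]
    exact (Commute.conj_iff g).2 (congrArg Subtype.val (mem_center_iff.1 i.2 ⟨s, hs⟩))

end Ctx

end CfsgLib.Criterion
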