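import Cfsg.Agent.Criterion.ClosedFunctor
import Cfsg.Agent.ZStar.Final

/-!
# The strong embedding criterion: a closed class is contained in `E` modulo the odd core

If two elements of `E` and their product are not central in `Y` the functor applies; otherwise an
element of `E` is isolated modulo the central part and Glauberman's theorem applies.
-/

set_option autoImplicit false
set_option linter.style.haveILetI false
set_option linter.unusedSectionVars false

namespace CfsgLib.Criterion.Closed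

open Subgroup
open CfsgLib.DGroup (coreIn coreIn_le odd_coreIn normalizer_coreIn le_coreIn)

universe u

variable {G : Type u} [Group G] [Finite G]

/-- A normal subgroup which is odd modulo a central 2-subgroup is that subgroup times the odd core. -/
theorem exists_mul_oddCore {X : Type u} [Group X] [Finite X] {A N : Subgroup X}
    (hAc : A ≤ center X) (hA : IsPGroup 2 A) [hN : N.Normal] (hAN : A ≤ N)
    (hodd : Odd (A.relIndex N)) {n : X} (hn : n ∈ N) :
    ∃ a ∈ A, ∃ l ∈ Cfsg.oddCore X, a * l = n := by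
  haveI : Fact (Nat.Prime 2) := ⟨Nat.prime_two⟩
  obtain ⟨j, hj⟩ := IsPGroup.iff_card.1 hA
  haveI : (A.subgroupOf N).Normal := ⟨fun x hx g => by
    rw [mem_subgroupOf] at hx ⊢
    push_cast
    rw [mem_center_iff.1 (hAc hx) g, mul_inv_cancel_right]
    exact hx⟩
  have hcard : Nat.card (A.subgroupOf N) = Nat.card A :=
    Nat.card_congr (subgroupOfEquivOfLe hAN).toEquiv
  obtain ⟨L, hL⟩ := exists_right_complement'_of_coprime (N := A.subgroupOf N) (by
    rw [hcard, hj]
    exact (Nat.coprime_two_left.2 hodd).pow_left j)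
  have hLodd : Odd (Nat.card L) := by
    rw [← hL.symm.index_eq_card]; exact hodd
  -- the complement consists of all elements of odd order, so it is normal in `X`
  have hmem : ∀ z : N, Odd (orderOf z) → z ∈ L := by
    intro z hz
    obtain ⟨⟨⟨q, hq⟩, ⟨l, hl⟩⟩, rfl⟩ := hL.2 z
    have hqc : Commute q l := Subtype.ext (by
      push_cast
      exact ((mem_center_iff.1 (hAc (mem_subgroupOf.1 hq))) (l : X)).symm)
    obtain ⟨i, hi⟩ := hA ⟨(q : X), mem_subgroupOf.1 hq⟩
    have hq2 : q ^ 2 ^ i = 1 := Subtype.ext (by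
      have := congrArg Subtype.val hi
      simpa using this)
    have h1 : q ^ (orderOf (q * l) * Nat.card L) = 1 := by
      have e : (q * l) ^ (orderOf (q * l) * Nat.card L) = 1 := by
        rw [pow_mul, pow_orderOf_eq_one, one_pow]
      rw [hqc.mul_pow, mul_comm (orderOf _) (Nat.card L), pow_mul l] at e
      have hl1 : l ^ Nat.card L = 1 := congrArg Subtype.val (pow_card_eq_one' (x := (⟨l, hl⟩ : L)))
      rw [hl1, one_pow, mul_one] at e
      rwa [mul_comm]
    have hq1 : q = 1 := by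
      rw [← orderOf_eq_one_iff]
      refine Nat.dvd_one.1 ?_
      rw [← Nat.Coprime.gcd_eq_one ((Nat.coprime_two_left.2 (hz.mul hLodd)).pow_left i)]
      exact Nat.dvd_gcd (orderOf_dvd_of_pow_eq_one hq2) (orderOf_dvd_of_pow_eq_one h1)
    show q * l ∈ L
    rw [hq1, one_mul]
    exact hl
  haveI hLn : (L.map N.subtype).Normal := ⟨fun x hx g => by
    obtain ⟨z, hz, rfl⟩ := hx
    refine ⟨⟨g * z * g⁻¹, hN.conj_mem _ z.2 g⟩, hmem _ ?_, rfl⟩
    rw [← Subgroup.orderOf_coe]
    show Odd (orderOf (g * (z : X) * g⁻¹))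
    rw [CfsgLib.Invol.orderOf_conj_eq, Subgroup.orderOf_coe]
    exact hLodd.of_dvd_nat (Subgroup.orderOf_dvd_natCard L hz)⟩
  obtain ⟨⟨⟨q, hq⟩, ⟨l, hl⟩⟩, e⟩ := hL.2 ⟨n, hn⟩
  refine ⟨q, mem_subgroupOf.1 hq, l, DGroup.le_oddCore hLn ?_ ⟨l, hl, rfl⟩, congrArg Subtype.val e⟩
  rwa [card_map_of_injective N.subtype_injective]

namespace Hyp

variable {H : Subgroup G} {S : Set G} {v : G} {E : Subgroup G} (h : Hyp H S v E)
include h

/-- The case of at most one coset of noncentral elements of `E`. -/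
theorem good_of_small {Y : Subgroup G} (hYH : Y ≤ H) (hvY : v ∈ Y) (hEY : E ≤ Y)
    (hsmall : ∀ x ∈ E, ∀ y ∈ E, (∀ w ∈ Y, Commute x w) ∨ (∀ w ∈ Y, Commute y w) ∨
      ∀ w ∈ Y, Commute (x * y) w) : Good S E Y := by
  classical
  haveI : Fact (Nat.Prime 2) := ⟨Nat.prime_two⟩
  have hbot : ∀ {s : G}, s ∈ S → s ∈ Y → (∀ a ∈ E, Commute s a) →
      ∃ r ∈ coreIn Y, r * s * r⁻¹ ∈ E := by
    intro s hs hsY hc
    obtain ⟨k, hk, hkE⟩ := h.exists_conj_into (K := ⊥) bot_le (by simp)
      (fun a _ => mem_normalizer_of_conj fun x hx => by simp [mem_bot.1 hx]) hs (hYH hsY)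
      (mem_normalizer_of_conj fun x hx => by simp [mem_bot.1 hx]) fun a ha => by
        rw [mem_bot, (hc a ha).eq]; group
    refine ⟨1, one_mem _, ?_⟩
    rwa [mem_bot.1 hk] at hkE
  by_cases hall : ∀ x ∈ E, ∀ w ∈ Y, Commute x w
  · exact fun s hs hsY => hbot hs hsY fun a ha => (hall a ha s hsY).symm
  push Not at hall
  obtain ⟨f, hfE, w₀, hw₀, hfw⟩ := hall
  have hf1 : f ≠ 1 := fun e => hfw (e ▸ Commute.one_left w₀)
  set A : Subgroup ↥Y := E.subgroupOf Y ⊓ center ↥Y with hA
  have hAc : A ≤ center ↥Y := inf_le_right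
  haveI : A.Normal := ⟨fun x hx g => by
    rw [mem_center_iff.1 (hAc hx) g, mul_inv_cancel_right]; exact hx⟩
  have hA2 : IsPGroup 2 A := fun a => ⟨1, Subtype.ext (Subtype.ext (by
    push_cast
    rw [pow_two]
    exact h.sq_E _ (mem_subgroupOf.1 (mem_inf.1 a.2).1)))⟩
  have hmemA : ∀ {x : ↥Y}, x ∈ A ↔ (x : G) ∈ E ∧ ∀ w ∈ Y, Commute (x : G) w := fun {x} => by
    rw [hA, mem_inf, mem_subgroupOf, mem_center_iff]
    exact and_congr_right fun _ => ⟨fun hc w hw => (congrArg Subtype.val (hc ⟨w, hw⟩)).symm,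
      fun hc g => Subtype.ext (hc g g.2).eq.symm⟩
  -- every element of `E` is central or `f` times a central one
  have hcos : ∀ e ∈ E, (∀ w ∈ Y, Commute e w) ∨ ∀ w ∈ Y, Commute (e * f) w := by
    intro e he
    rcases hsmall e he f hfE with h1 | h1 | h1
    · exact Or.inl h1
    · exact absurd (h1 w₀ hw₀) hfw
    · exact Or.inr h1
  set f' : ↥Y := ⟨f, hEY hfE⟩ with hf'
  have hf'A : f' ∉ A := fun hc => hfw ((hmemA.1 hc).2 w₀ hw₀)
  have hord : orderOf (QuotientGroup.mk f' : ↥Y ⧸ A) = 2 := orderOf_eq_prime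
    (by rw [pow_two, ← QuotientGroup.mk_mul, QuotientGroup.eq_one_iff]
        rw [show f' * f' = 1 from Subtype.ext (h.sq_E f hfE)]; exact one_mem A)
    (fun e => hf'A ((QuotientGroup.eq_one_iff f').1 e))
  have hiso : Cfsg.IsIsolatedInvolution (QuotientGroup.mk f' : ↥Y ⧸ A) := by
    refine ⟨hord, fun g hg => ?_⟩
    obtain ⟨g, rfl⟩ := QuotientGroup.mk_surjective g
    set x : ↥Y := g * f' * g⁻¹ with hx
    change (QuotientGroup.mk x : ↥Y ⧸ A) = QuotientGroup.mk f'
    change Commute (QuotientGroup.mk f' : ↥Y ⧸ A) (QuotientGroup.mk x) at hg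
    have hxS : (x : G) ∈ S := h.conj g (hYH g.2) f (h.mem_S f hfE hf1)
    have hc : x * f' * x⁻¹ * f'⁻¹ ∈ A := by
      rw [← QuotientGroup.eq_one_iff, QuotientGroup.mk_mul, QuotientGroup.mk_mul,
        QuotientGroup.mk_mul, QuotientGroup.mk_inv, QuotientGroup.mk_inv, ← hg.eq]
      group
    have hxf : (x : G) * f * (x : G)⁻¹ ∈ E := by
      have h1 : (x : G) * f * (x : G)⁻¹ * f⁻¹ ∈ E := (hmemA.1 hc).1
      rw [show (x : G) * f * (x : G)⁻¹ = (x : G) * f * (x : G)⁻¹ * f⁻¹ * f by group]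
      exact mul_mem h1 hfE
    have hxn : (x : G) ∈ normalizer (E : Set G) := mem_normalizer_of_conj fun e he => by
      rcases hcos e he with h1 | h1
      · rw [← (h1 x x.2).eq, mul_inv_cancel_right]; exact he
      · have e1 : (x : G) * (e * f) * (x : G)⁻¹ = e * f := by
          rw [← (h1 x x.2).eq, mul_inv_cancel_right]
        rw [show (x : G) * e * (x : G)⁻¹ = (x : G) * (e * f) * (x : G)⁻¹ * ((x : G) * f * (x : G)⁻¹)⁻¹ by
          group, e1]
        exact mul_mem (mul_mem he hfE) (inv_mem hxf)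
    have hxp : IsPGroup 2 (zpowers (x : G)) := by
      rintro ⟨y, hy⟩
      obtain ⟨i, rfl⟩ := mem_zpowers_iff.1 hy
      exact ⟨1, Subtype.ext (by
        show ((x : G) ^ i) ^ (2 ^ 1) = 1
        rw [pow_one, ← zpow_natCast, ← zpow_mul, mul_comm, zpow_mul, zpow_natCast, pow_two,
          h.sq_S _ hxS, one_zpow])⟩
    have hxE : (x : G) ∈ E := h.closed (E ⊔ zpowers (x : G)) (sup_le h.le (zpowers_le.2 (hYH x.2)))
      (IsPGroup.to_sup_of_normal_left' h.isPGroup_E hxp (zpowers_le.2 hxn)) le_sup_left _ hxS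
      (mem_sup_right (mem_zpowers _))
    rcases hcos _ hxE with h1 | h1
    · refine absurd ?_ hf'A
      have hxA : x ∈ A := hmemA.2 ⟨hxE, h1⟩
      rw [show f' = g⁻¹ * x * g⁻¹⁻¹ by rw [hx]; group]
      exact ‹A.Normal›.conj_mem x hxA g⁻¹
    · refine (QuotientGroup.eq.2 ?_)
      rw [show x⁻¹ = x from Subtype.ext (inv_eq_of_mul_eq_one_right (h.sq_S _ hxS))]
      exact hmemA.2 ⟨mul_mem hxE hfE, h1⟩
  obtain ⟨M, hM, hModd, hMc⟩ := CfsgLib.ZStar.zstar hiso
  set N := M.comap (QuotientGroup.mk' A) with hN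
  haveI : N.Normal := hM.comap _
  have hAN : A ≤ N := fun a ha => by
    rw [hN, mem_comap, QuotientGroup.mk'_apply, (QuotientGroup.eq_one_iff a).2 ha]
    exact one_mem M
  have hrel : Odd (A.relIndex N) := by
    refine hModd.of_dvd_nat ?_
    have h1 := relIndex_ker (QuotientGroup.mk' A) (K := N)
    rw [QuotientGroup.ker_mk', map_comap_eq_self_of_surjective (QuotientGroup.mk'_surjective A)] at h1
    exact dvd_of_eq h1
  intro s hs hsY
  obtain ⟨θ, hθ, hθE⟩ := h.exists_two_steps hYH hvY hEY hs hsY (M := Y)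
    fun _ _ _ _ _ _ _ => inf_le_right
  rcases hcos _ hθE with h1 | h1
  · refine ⟨1, one_mem _, ?_⟩
    rw [inv_one, mul_one, one_mul]
    have e := (h1 θ⁻¹ (inv_mem hθ)).eq
    rw [show θ * s * θ⁻¹ * θ⁻¹ = θ * s * (θ⁻¹ * θ⁻¹) by group] at e
    have : θ * s * θ⁻¹ = s := by
      calc θ * s * θ⁻¹ = θ * s * θ⁻¹ * θ⁻¹ * θ := by group
        _ = θ⁻¹ * (θ * s * θ⁻¹) * θ := by
          rw [show θ * s * θ⁻¹ * θ⁻¹ = θ * s * (θ⁻¹ * θ⁻¹) by group, e]
        _ = s := by group
    rw [← this]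
    exact hθE
  · set θ' : ↥Y := ⟨θ, hθ⟩
    set s' : ↥Y := ⟨s, hsY⟩
    have hef : θ' * s' * θ'⁻¹ * f' ∈ A := hmemA.2 ⟨mul_mem hθE hfE, h1⟩
    have hsf : s' * f' ∈ N := by
      have e1 : (QuotientGroup.mk (θ' * s' * θ'⁻¹) : ↥Y ⧸ A) = QuotientGroup.mk f' := by
        refine (QuotientGroup.eq.2 ?_).symm
        rw [show f'⁻¹ = f' from Subtype.ext (h.inv_E hfE)]
        have := ‹A.Normal›.conj_mem _ hef f'
        rwa [show f' * (θ' * s' * θ'⁻¹ * f') * f'⁻¹ = f' * (θ' * s' * θ'⁻¹) by group] at this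
      have := hMc (QuotientGroup.mk θ'⁻¹)
      rw [hN, mem_comap, QuotientGroup.mk'_apply]
      have hs'' : (QuotientGroup.mk s' : ↥Y ⧸ A) = (QuotientGroup.mk θ'⁻¹) * QuotientGroup.mk f' *
          (QuotientGroup.mk θ'⁻¹)⁻¹ := by
        rw [← e1, ← QuotientGroup.mk_inv, ← QuotientGroup.mk_mul, ← QuotientGroup.mk_mul]
        exact congrArg _ (by group)
      have hf2 : (QuotientGroup.mk f' : ↥Y ⧸ A)⁻¹ = QuotientGroup.mk f' := by
        rw [← QuotientGroup.mk_inv, show f'⁻¹ = f' from Subtype.ext (h.inv_E hfE)]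
      have e2 : (QuotientGroup.mk (s' * f') : ↥Y ⧸ A) = (QuotientGroup.mk f' *
          QuotientGroup.mk θ'⁻¹ * (QuotientGroup.mk f')⁻¹ * (QuotientGroup.mk θ'⁻¹)⁻¹)⁻¹ := by
        rw [QuotientGroup.mk_mul, hs'']
        conv_rhs => simp only [mul_inv_rev, inv_inv]
        rw [hf2]
        group
      rw [e2]
      exact inv_mem this
    obtain ⟨a, haA, l, hl, hal⟩ := exists_mul_oddCore hAc hA2 hAN hrel hsf
    have hlR : (l : G) ∈ coreIn Y := ⟨l, hl, rfl⟩
    have hse : s = (l : G) * ((a : G) * f) := by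
      have e := congrArg Subtype.val hal
      push_cast at e
      have hs' : s = (a : G) * l * f := by
        rw [e, mul_assoc, h.sq_E f hfE, mul_one]
      rw [hs', ((hmemA.1 haA).2 l l.2).eq, mul_assoc]
    have hafE : (a : G) * f ∈ E := mul_mem (hmemA.1 haA).1 hfE
    refine h.exists_conj_into ((coreIn_le Y).trans hYH) (odd_coreIn Y)
      (hEY.trans (normalizer_coreIn Y)) hs (hYH hsY) (normalizer_coreIn Y hsY) fun b hb => ?_
    set e := (a : G) * f
    rw [hse, show (l : G) * e * b * ((l : G) * e)⁻¹ * b⁻¹ = (l : G) * (e * b * e⁻¹ * (l : G)⁻¹ * b⁻¹) by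
      group, (h.comm_E hafE hb).eq, mul_inv_cancel_right]
    exact mul_mem hlR ((mem_normalizer_iff.1 (hEY.trans (normalizer_coreIn Y) hb) _).1 (inv_mem hlR))

/-- The members of the class in `Y` are conjugate into `E` by the odd core of `Y`. -/
theorem good : ∀ (n : ℕ) (Y : Subgroup G), Nat.card Y = n → Y ≤ H → v ∈ Y → E ≤ Y →
    Good S E Y := by
  classical
  intro n
  induction n using Nat.strong_induction_on with
  | _ n ih =>
  intro Y hn hYH hvY hEY
  subst hn
  by_cases hpair : ∃ x ∈ E, ∃ y ∈ E, ¬ (∀ w ∈ Y, Commute x w) ∧ ¬ (∀ w ∈ Y, Commute y w) ∧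
      ¬ ∀ w ∈ Y, Commute (x * y) w
  · obtain ⟨x, hx, y, hy, hxc, hyc, hxyc⟩ := hpair
    have hne : ∀ {b : G}, ¬ (∀ w ∈ Y, Commute b w) → b ≠ 1 := fun hb e =>
      hb fun w _ => e ▸ Commute.one_left w
    set B := closure ({x, y} : Set G) with hB
    have hmem : ∀ b ∈ B, b = 1 ∨ b = x ∨ b = y ∨ b = x * y := by
      intro b hb
      have hxx := h.sq_E x hx
      have hyy := h.sq_E y hy
      have hyx : y * x = x * y := (h.comm_E hy hx).eq
      have hxy1 : x * (x * y) = y := by rw [← mul_assoc, hxx, one_mul]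
      have hxy2 : y * (x * y) = x := by rw [← mul_assoc, hyx, mul_assoc, hyy, mul_one]
      induction hb using closure_induction with
      | mem b hb =>
        rcases hb with rfl | rfl
        exacts [Or.inr (Or.inl rfl), Or.inr (Or.inr (Or.inl rfl))]
      | one => exact Or.inl rfl
      | mul b c _ _ hb hc =>
        rcases hb with rfl | rfl | rfl | rfl <;> rcases hc with rfl | rfl | rfl | rfl <;>
          simp [hxx, hyy, hyx, hxy1, hxy2, mul_assoc]
      | inv b _ hb =>
        rcases hb with rfl | rfl | rfl | rfl <;>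
          simp [h.inv_E hx, h.inv_E hy, hyx]
    have hxyne : x ≠ y := fun e => hxyc fun w _ => by
      rw [e, h.sq_E y hy]; exact Commute.one_left w
    have hB4 : 4 ≤ Nat.card B := by
      have hxB : x ∈ B := subset_closure (by simp)
      have hyB : y ∈ B := subset_closure (by simp)
      have hcard : ({1, x, y, x * y} : Finset G).card = 4 := by
        rw [Finset.card_insert_of_notMem, Finset.card_insert_of_notMem,
          Finset.card_insert_of_notMem, Finset.card_singleton]
        · simp only [Finset.mem_singleton]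
          exact fun e => hne hxc (mul_eq_right.1 e.symm)
        · simp only [Finset.mem_insert, Finset.mem_singleton, not_or]
          exact ⟨hxyne, fun e => hne hyc (mul_eq_left.1 e.symm)⟩
        · simp only [Finset.mem_insert, Finset.mem_singleton, not_or]
          exact ⟨(hne hxc).symm, (hne hyc).symm, (hne hxyc).symm⟩
      rw [← hcard, ← Nat.card_eq_finsetCard]
      exact Nat.card_le_card_of_injective (fun z => (⟨z.1, by
        rcases Finset.mem_insert.1 z.2 with e | e
        · rw [e]; exact one_mem B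
        rcases Finset.mem_insert.1 e with e | e
        · rw [e]; exact hxB
        rcases Finset.mem_insert.1 e with e | e
        · rw [e]; exact hyB
        · rw [Finset.mem_singleton.1 e]; exact mul_mem hxB hyB⟩ : B))
        fun a b e => Subtype.ext (congrArg (fun z : B => (z : G)) e)
    have hBE : B ≤ E := (closure_le _).2 (by rintro b (rfl | rfl) <;> assumption)
    refine h.good_of_complement hYH hvY hEY hBE hB4 fun b hb hb1 => ?_
    have hbc : ¬ ∀ w ∈ Y, Commute b w := by
      rcases hmem b hb with rfl | rfl | rfl | rfl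
      exacts [absurd rfl hb1, hxc, hyc, hxyc]
    refine ih _ ?_ (cen Y b) rfl (inf_le_left.trans hYH)
      (mem_cen.2 ⟨hvY, (h.comm_v b (hBE hb)).symm⟩)
      (fun a ha => mem_cen.2 ⟨hEY ha, h.comm_E ha (hBE hb)⟩)
    refine lt_of_le_of_ne (card_le_of_le inf_le_left) fun e => hbc fun w hw => ?_
    have := CfsgLib.Solvable.eq_of_le_of_card_le (H := cen Y b) inf_le_left e.ge
    exact ((mem_cen.1 (this.symm ▸ hw)).2).symm
  · push Not at hpair
    exact h.good_of_small hYH hvY hEY fun x hx y hy => by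
      by_cases h1 : ∀ w ∈ Y, Commute x w
      · exact Or.inl h1
      by_cases h2 : ∀ w ∈ Y, Commute y w
      · exact Or.inr (Or.inl h2)
      push Not at h1 h2
      exact Or.inr (Or.inr (hpair x hx y hy h1 h2))

/-- **Closed class theorem**: the class is contained in `E` up to conjugation by the odd core. -/
theorem exists_conj_mem {s : G} (hs : s ∈ S) (hsH : s ∈ H) :
    ∃ r ∈ coreIn H, r * s * r⁻¹ ∈ E :=
  h.good (Nat.card H) H rfl le_rfl h.mem_v h.le s hs hsH

end Hyp

end CfsgLib.Criterion.Closed
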