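import Cfsg.Agent.Criterion.Setting
import Cfsg.Agent.DGroup.Fusion
import Cfsg.Agent.Coprime.Basic
import Cfsg.Agent.Signalizer.Basic

/-!
# The strong embedding criterion, closed class: basic lemmas

`S` is a class of involutions of `H` (the members of the class at the base point), `v` an involution
of `H` and `E` an elementary abelian subgroup centralised by `v` which contains the part of `S` in
every 2-subgroup above it.  Every member `s` of `S` centralises a product `v w` with `w` in `⟨s, v⟩`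
centralising `v`, and for `a` in `E` the members centralising `v a` commute modulo an odd subgroup.
-/

set_option autoImplicit false
set_option linter.style.haveILetI false
set_option linter.unusedSectionVars false

namespace CfsgLib.Criterion.Closed

open Subgroup
open CfsgLib.DGroup (coreIn coreIn_le odd_coreIn normalizer_coreIn le_coreIn)

universe u

variable {G : Type u} [Group G] [Finite G]

/-- Hypotheses on a class at a point. -/
structure Hyp (H : Subgroup G) (S : Set G) (v : G) (E : Subgroup G) : Prop where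
  mem_v : v ∈ H
  le : E ≤ H
  v_two : v * v = 1
  v_not_mem : v ∉ E
  conj : ∀ y ∈ H, ∀ s ∈ S, y * s * y⁻¹ ∈ S
  sq_S : ∀ s ∈ S, s * s = 1
  sq_E : ∀ a ∈ E, a * a = 1
  mem_S : ∀ a ∈ E, a ≠ 1 → a ∈ S
  comm_v : ∀ a ∈ E, Commute a v
  closed : ∀ Q : Subgroup G, Q ≤ H → IsPGroup 2 Q → E ≤ Q → ∀ s ∈ S, s ∈ Q → s ∈ E
  mid : ∀ s ∈ S, ∃ w ∈ S, w ∈ closure ({s, v} : Set G) ∧ Commute w v ∧ Commute s (v * w)
  core : ∀ a ∈ E, ∃ K : Subgroup G, K ≤ H ∧ Odd (Nat.card K) ∧ (∀ k ∈ K, Commute k (v * a)) ∧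
    (∀ y ∈ H, Commute y (v * a) → ∀ k ∈ K, y * k * y⁻¹ ∈ K) ∧
    ∀ s ∈ S, ∀ t ∈ S, Commute s (v * a) → Commute t (v * a) → s * t * s⁻¹ * t⁻¹ ∈ K

/-- The members in `Y` are conjugate into `E` by the odd core of `Y`. -/
def Good (S : Set G) (E Y : Subgroup G) : Prop :=
  ∀ s ∈ S, s ∈ Y → ∃ r ∈ coreIn Y, r * s * r⁻¹ ∈ E

/-- The normaliser of a subgroup normalises its odd core. -/
theorem normalizer_le_normalizer_coreIn (L : Subgroup G) :
    normalizer (L : Set G) ≤ normalizer (coreIn L : Set G) := by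
  have key : ∀ g ∈ normalizer (L : Set G),
      (coreIn L).map (MulAut.conj g).toMonoidHom ≤ coreIn L := by
    intro g hg
    refine le_coreIn ?_ (fun h hh => ?_) ?_
    · rintro _ ⟨x, hx, rfl⟩
      exact (mem_normalizer_iff.1 hg x).1 (coreIn_le L hx)
    · have e : h = g * (g⁻¹ * h * g) * g⁻¹ := by group
      rw [e]
      exact le_normalizer_map (MulAut.conj g).toMonoidHom ⟨g⁻¹ * h * g, normalizer_coreIn L
        ((mem_normalizer_iff.1 hg _).2 (by rwa [show g * (g⁻¹ * h * g) * g⁻¹ = h by group])), rfl⟩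
    · rw [card_map_of_injective (MulAut.conj g).injective]
      exact odd_coreIn L
  intro g hg
  exact mem_normalizer_iff.2 fun x => ⟨fun hx => key g hg ⟨x, hx, rfl⟩, fun hx => by
    have := key g⁻¹ (inv_mem hg) ⟨_, hx, rfl⟩
    simpa [mul_assoc] using this⟩

/-- Closure under conjugation by `y` gives membership in the normaliser. -/
theorem mem_normalizer_of_conj {N : Subgroup G} {y : G} (h : ∀ x ∈ N, y * x * y⁻¹ ∈ N) :
    y ∈ normalizer (N : Set G) := by
  have hmap : N.map (MulAut.conj y).toMonoidHom = N := by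
    refine CfsgLib.Solvable.eq_of_le_of_card_le ?_
      (le_of_eq (card_map_of_injective (MulAut.conj y).injective).symm)
    rintro _ ⟨x, hx, rfl⟩
    exact h x hx
  refine mem_normalizer_iff.2 fun x => ⟨h x, fun hx => ?_⟩
  rw [← hmap] at hx
  obtain ⟨x', hx', e⟩ := hx
  rwa [← (MulAut.conj y).injective e]

theorem odd_sup {U W : Subgroup G} (hW : W ≤ normalizer (U : Set G)) (hU : Odd (Nat.card U))
    (hW' : Odd (Nat.card W)) : Odd (Nat.card ↥(U ⊔ W)) :=
  (hU.mul hW').of_dvd_nat (sup_comm U W ▸ mul_comm (Nat.card U) (Nat.card W) ▸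
    CfsgLib.Solvable.card_sup_dvd hW)

theorem orderOf_odd {K : Subgroup G} (hK : Odd (Nat.card K)) {x : G} (hx : x ∈ K) :
    Odd (orderOf x) :=
  hK.of_dvd_nat (Subgroup.orderOf_dvd_natCard K hx)

/-- An element of the odd subgroup `U` which is an element of a 2-subgroup is trivial. -/
theorem eq_one_of_two {U : Subgroup G} (hU : Odd (Nat.card U)) {x : G} (hx : x ∈ U)
    (h2 : x * x = 1) : x = 1 := by
  obtain ⟨m, hm⟩ := orderOf_odd hU hx
  have h := pow_orderOf_eq_one x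
  rwa [hm, pow_succ, pow_mul, sq, h2, one_pow, one_mul] at h

namespace Hyp

variable {H : Subgroup G} {S : Set G} {v : G} {E : Subgroup G} (h : Hyp H S v E)
include h

theorem inv_E {a : G} (ha : a ∈ E) : a⁻¹ = a := inv_eq_of_mul_eq_one_right (h.sq_E a ha)

theorem comm_E {a b : G} (ha : a ∈ E) (hb : b ∈ E) : Commute a b := by
  have e := h.inv_E (mul_mem ha hb)
  rw [mul_inv_rev, h.inv_E ha, h.inv_E hb] at e
  exact e.symm

theorem comm_va {a b : G} (ha : a ∈ E) (hb : b ∈ E) : Commute b (v * a) :=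
  (h.comm_v b hb).mul_right (h.comm_E hb ha)

theorem isPGroup_E : IsPGroup 2 E := fun a => ⟨1, Subtype.ext (by
  simpa [pow_two] using h.sq_E a a.2)⟩

theorem coprime_E {U : Subgroup G} (hU : Odd (Nat.card U)) :
    (Nat.card E).Coprime (Nat.card U) := by
  haveI : Fact (Nat.Prime 2) := ⟨Nat.prime_two⟩
  obtain ⟨k, hk⟩ := IsPGroup.iff_card.1 h.isPGroup_E
  rw [hk]
  exact (Nat.coprime_two_left.2 hU).pow_left k

/-- A member normalising an odd `E`-invariant subgroup `K` and commuting with `E` modulo `K` is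
conjugate into `E` by an element of `K`. -/
theorem exists_conj_into {K : Subgroup G} (hKH : K ≤ H) (hK : Odd (Nat.card K))
    (hEK : E ≤ normalizer (K : Set G)) {s : G} (hs : s ∈ S) (hsH : s ∈ H)
    (hsK : s ∈ normalizer (K : Set G)) (hcomm : ∀ a ∈ E, s * a * s⁻¹ * a⁻¹ ∈ K) :
    ∃ k ∈ K, k * s * k⁻¹ ∈ E := by
  haveI : Fact (Nat.Prime 2) := ⟨Nat.prime_two⟩
  have hEp : IsPGroup 2 ↥(E.map (MulAut.conj : G →* MulAut G)) := h.isPGroup_E.map _
  haveI : Group.IsSolvable ↥(E.map (MulAut.conj : G →* MulAut G)) := by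
    haveI := hEp.isNilpotent
    infer_instance
  have hsm : ∀ (a : ↥(E.map (MulAut.conj : G →* MulAut G))) (x : G),
      ∃ b ∈ E, a • x = b * x * b⁻¹ := by
    rintro ⟨_, b, hb, rfl⟩ x
    exact ⟨b, hb, rfl⟩
  have hss := h.sq_S s hs
  have hsi : s⁻¹ = s := inv_eq_of_mul_eq_one_right hss
  have hcopA : (Nat.card ↥(E.map (MulAut.conj : G →* MulAut G))).Coprime (Nat.card K) := by
    obtain ⟨j, hj⟩ := IsPGroup.iff_card.1 hEp
    rw [hj]
    exact (Nat.coprime_two_left.2 hK).pow_left j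
  obtain ⟨c, hc, hsc⟩ := CfsgLib.Coprime.exists_fixed_mem_coset_of_isSolvable
    (A := ↥(E.map (MulAut.conj : G →* MulAut G))) K
    (fun a n hn => by
      obtain ⟨b, hb, e⟩ := hsm a n
      rw [e]
      exact (mem_normalizer_iff.1 (hEK hb) n).1 hn)
    hcopA s (fun a => by
      obtain ⟨b, hb, e⟩ := hsm a s
      rw [e, hsi, h.inv_E hb]
      have := hcomm b hb
      rw [hsi, h.inv_E hb] at this
      simpa [mul_assoc] using this)
  rw [hsi] at hsc
  -- the involution in `⟨c⟩`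
  have hc2 : c * c ∈ K := by
    have e : c * c = (s * (s * c) * s⁻¹) * (s * c) := by
      rw [show s * (s * c) * s⁻¹ * (s * c) = s * s * c * (s⁻¹ * s) * c by group, hss, inv_mul_cancel,
        one_mul, mul_one]
    rw [e]
    exact mul_mem ((mem_normalizer_iff.1 hsK _).1 hsc) hsc
  obtain ⟨m, hm⟩ := orderOf_odd hK hc2
  set y := c ^ (2 * m + 1) with hy
  have hy2 : y * y = 1 := by
    rw [hy, ← (Commute.refl c).mul_pow, ← hm]
    exact pow_orderOf_eq_one _
  have hk' : s * y ∈ K := by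
    rw [hy, pow_succ', pow_mul, pow_two, ← mul_assoc]
    exact mul_mem hsc (pow_mem hc2 m)
  set k' := s * y with hk'def
  have hsk : s * k' = y := by rw [hk'def, ← mul_assoc, hss, one_mul]
  have hinv : s * k' * s = k'⁻¹ := by
    rw [hsk, hk'def, mul_inv_rev, hsi, inv_eq_of_mul_eq_one_right hy2]
  obtain ⟨n, hn⟩ := orderOf_odd hK hk'
  set t := k' ^ (n + 1) with ht
  have htt : t * t = k' := by
    rw [ht, ← pow_add, show n + 1 + (n + 1) = (2 * n + 1) + 1 by ring, pow_succ, ← hn,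
      pow_orderOf_eq_one, one_mul]
  have hts : s * t * s = t⁻¹ := by
    have e : (s * k' * s⁻¹) ^ (n + 1) = s * k' ^ (n + 1) * s⁻¹ := conj_pow
    rw [hsi] at e
    rw [ht, ← inv_pow, ← hinv, e]
  have hconj : t⁻¹ * s * t⁻¹⁻¹ = y := by
    rw [inv_inv, ← hts, show s * t * s * s * t = s * t * (s * s) * t by group, hss, mul_one,
      mul_assoc, htt, hsk]
  have hkK : t⁻¹ ∈ K := inv_mem (pow_mem hk' _)
  refine ⟨_, hkK, ?_⟩
  rw [hconj]
  have hyS : y ∈ S := hconj ▸ h.conj _ (hKH hkK) s hs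
  have hyH : y ∈ H := hsk ▸ mul_mem hsH (hKH hk')
  have hyc : ∀ a ∈ E, Commute a y := fun a ha => by
    have e : a * c * a⁻¹ = c := hc ⟨MulAut.conj a, a, ha, rfl⟩
    exact (show Commute a c from mul_inv_eq_iff_eq_mul.1 e).pow_right _
  have hyN : zpowers y ≤ normalizer (E : Set G) := zpowers_le.2 (mem_normalizer_of_conj fun a ha => by
    rw [← (hyc a ha).eq, mul_inv_cancel_right]; exact ha)
  have hyp : IsPGroup 2 (zpowers y) := by
    rintro ⟨g, hg⟩
    obtain ⟨i, rfl⟩ := mem_zpowers_iff.1 hg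
    exact ⟨1, Subtype.ext (by
      show (y ^ i) ^ (2 ^ 1) = 1
      rw [pow_one, ← zpow_natCast, ← zpow_mul, mul_comm, zpow_mul, zpow_natCast, sq, hy2, one_zpow])⟩
  exact h.closed (E ⊔ zpowers y) (sup_le h.le (zpowers_le.2 hyH))
    (IsPGroup.to_sup_of_normal_left' h.isPGroup_E hyp hyN) le_sup_left y hyS
    (mem_sup_right (mem_zpowers y))

/-- A member centralising `v a` is conjugate into `E` by the odd subgroup of `v a`. -/
theorem exists_orbit {Y : Subgroup G} (hYH : Y ≤ H) (hEY : E ≤ Y) {a : G} (ha : a ∈ E) {s : G}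
    (hs : s ∈ S) (hsY : s ∈ Y) (hsa : Commute s (v * a)) {K : Subgroup G} (hK : Odd (Nat.card K))
    (hKn : ∀ y ∈ H, Commute y (v * a) → ∀ k ∈ K, y * k * y⁻¹ ∈ K)
    (hKc : ∀ s ∈ S, ∀ t ∈ S, Commute s (v * a) → Commute t (v * a) → s * t * s⁻¹ * t⁻¹ ∈ K) :
    ∃ k ∈ K ⊓ Y, k * s * k⁻¹ ∈ E := by
  have hnorm : ∀ y ∈ Y, Commute y (v * a) → y ∈ normalizer ((K ⊓ Y : Subgroup G) : Set G) :=
    fun y hy hc => mem_normalizer_of_conj fun k hk =>
      mem_inf.2 ⟨hKn y (hYH hy) hc k hk.1, mul_mem (mul_mem hy hk.2) (inv_mem hy)⟩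
  refine h.exists_conj_into (inf_le_right.trans hYH) (hK.of_dvd_nat (card_dvd_of_le inf_le_left))
    (fun b hb => hnorm b (hEY hb) (h.comm_va ha hb)) hs (hYH hsY) (hnorm s hsY hsa) fun b hb => ?_
  refine mem_inf.2 ⟨?_, mul_mem (mul_mem (mul_mem hsY (hEY hb)) (inv_mem hsY)) (inv_mem (hEY hb))⟩
  by_cases hb1 : b = 1
  · subst hb1; simp
  · exact hKc s hs b (h.mem_S b hb hb1) hsa (h.comm_va ha hb)

/-- If an odd `E`-invariant subgroup conjugates the members into `E`, the odd core does. -/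
theorem good_of_conj {Y : Subgroup G} (hYH : Y ≤ H) (hEY : E ≤ Y) {Θ : Subgroup G}
    (hΘ : Odd (Nat.card Θ)) (hEΘ : E ≤ normalizer (Θ : Set G))
    (hconj : ∀ s ∈ S, s ∈ Y → ∃ θ ∈ Θ, θ * s * θ⁻¹ ∈ E) : Good S E Y := by
  set L := closure (S ∩ (Y : Set G)) with hL
  have hLY : L ≤ Y := (closure_le _).2 fun x hx => hx.2
  have hLn : L ≤ normalizer (Θ : Set G) := (closure_le _).2 fun x hx => by
    obtain ⟨θ, hθ, hθE⟩ := hconj x hx.1 hx.2
    have e : x = θ⁻¹ * (θ * x * θ⁻¹) * θ := by group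
    rw [SetLike.mem_coe, e]
    exact mul_mem (mul_mem (inv_mem (le_normalizer hθ)) (hEΘ hθE)) (le_normalizer hθ)
  have hYL : Y ≤ normalizer (L : Set G) := fun y hy => mem_normalizer_of_conj fun x hx => by
    induction hx using closure_induction with
    | mem x hx => exact subset_closure ⟨h.conj y (hYH hy) x hx.1,
        mul_mem (mul_mem hy hx.2) (inv_mem hy)⟩
    | one => simp
    | mul x z _ _ hx hz => rw [← conj_mul]; exact mul_mem hx hz
    | inv x _ hx => rw [← conj_inv]; exact inv_mem hx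
  have hJ : Θ ⊓ L ≤ coreIn L := le_coreIn inf_le_right
    ((le_inf hLn le_normalizer).trans inf_normalizer_le_normalizer_inf)
    (hΘ.of_dvd_nat (card_dvd_of_le inf_le_left))
  have hLR : coreIn L ≤ coreIn Y := le_coreIn ((coreIn_le L).trans hLY)
    (hYL.trans (normalizer_le_normalizer_coreIn L)) (odd_coreIn L)
  intro s hs hsY
  obtain ⟨θ, hθ, hθE⟩ := hconj s hs hsY
  refine h.exists_conj_into ((coreIn_le Y).trans hYH) (odd_coreIn Y)
    (hEY.trans (normalizer_coreIn Y)) hs (hYH hsY) (normalizer_coreIn Y hsY) fun b hb => ?_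
  set e := θ * s * θ⁻¹ with he
  have he1 : e ≠ 1 → e ∈ L := fun hne =>
    subset_closure ⟨h.mem_S e hθE hne, hEY hθE⟩
  have heL : e ∈ L := by
    by_cases hne : e = 1
    · rw [hne]; exact one_mem L
    · exact he1 hne
  set j := s * e with hj
  have hjR : j ∈ coreIn Y := by
    refine hLR (hJ (mem_inf.2 ⟨?_, mul_mem (subset_closure ⟨hs, hsY⟩) heL⟩))
    have e1 : j = θ⁻¹ * (e * θ * e⁻¹) := by
      rw [hj, h.inv_E hθE, he]; group
    rw [e1]
    exact mul_mem (inv_mem hθ) ((mem_normalizer_iff.1 (hEΘ hθE) θ).1 hθ)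
  have hse : s = j * e := by rw [hj, mul_assoc, h.sq_E e hθE, mul_one]
  rw [hse, show j * e * b * (j * e)⁻¹ * b⁻¹ = j * (e * b * e⁻¹ * j⁻¹ * b⁻¹) by group,
    (h.comm_E hθE hb).eq, mul_inv_cancel_right]
  exact mul_mem hjR ((mem_normalizer_iff.1 (hEY.trans (normalizer_coreIn Y) hb) _).1 (inv_mem hjR))

/-- If some `v a` is central in `Y`, the members in `Y` are conjugate into `E` by the odd core. -/
theorem good_of_central {Y : Subgroup G} (hYH : Y ≤ H) (hEY : E ≤ Y) {a : G} (ha : a ∈ E)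
    (hcen : ∀ y ∈ Y, Commute y (v * a)) : Good S E Y := by
  obtain ⟨K, -, hKodd, -, hKn, hKc⟩ := h.core a ha
  refine h.good_of_conj hYH hEY
    (hKodd.of_dvd_nat (card_dvd_of_le inf_le_left))
    (fun b hb => mem_normalizer_of_conj fun k hk => mem_inf.2 ⟨hKn b (h.le hb) (h.comm_va ha hb) k hk.1,
      mul_mem (mul_mem (hEY hb) hk.2) (inv_mem (hEY hb))⟩) fun s hs hsY => ?_
  exact h.exists_orbit hYH hEY ha hs hsY (hcen s hsY) hKodd hKn hKc

/-- Two steps conjugate every member into `E`. -/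
theorem exists_two_steps {Y : Subgroup G} (hYH : Y ≤ H) (hvY : v ∈ Y) (hEY : E ≤ Y) {s : G}
    (hs : s ∈ S) (hsY : s ∈ Y) {M : Subgroup G}
    (hM : ∀ a ∈ E, ∀ K : Subgroup G, K ≤ H → Odd (Nat.card K) → (∀ k ∈ K, Commute k (v * a)) →
      (∀ y ∈ H, Commute y (v * a) → ∀ k ∈ K, y * k * y⁻¹ ∈ K) → K ⊓ Y ≤ M) :
    ∃ θ ∈ M, θ * s * θ⁻¹ ∈ E := by
  obtain ⟨w, hw, hwcl, hwv, hsvw⟩ := h.mid s hs
  have hwY : w ∈ Y := (closure_le _).2 (by
    rintro x (rfl | rfl)
    exacts [hsY, hvY]) hwcl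
  obtain ⟨K, hKH, hKodd, hKcm, hKn, hKc⟩ := h.core 1 (one_mem E)
  obtain ⟨k, hk, hka⟩ := h.exists_orbit hYH hEY (one_mem E) hw hwY (by rwa [mul_one]) hKodd hKn hKc
  set a := k * w * k⁻¹ with ha
  have hkv : k * v * k⁻¹ = v := by
    have e := hKcm k hk.1
    rw [mul_one] at e
    rw [e.eq, mul_inv_cancel_right]
  have hs' : Commute (k * s * k⁻¹) (v * a) := by
    have := (Commute.conj_iff k).2 hsvw
    rwa [← conj_mul, hkv] at this
  obtain ⟨K', hK'H, hK'odd, hK'cm, hK'n, hK'c⟩ := h.core a hka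
  obtain ⟨k', hk', hk'E⟩ := h.exists_orbit hYH hEY hka (h.conj k (hYH hk.2) s hs)
    (mul_mem (mul_mem hk.2 hsY) (inv_mem hk.2)) hs' hK'odd hK'n hK'c
  refine ⟨k' * k, mul_mem (hM a hka K' hK'H hK'odd hK'cm hK'n hk')
    (hM 1 (one_mem E) K hKH hKodd hKcm hKn hk), ?_⟩
  rw [mul_inv_rev]
  simpa [mul_assoc] using hk'E

end Hyp

end CfsgLib.Criterion.Closed
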