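import Cfsg.Agent.Criterion.Count
import Cfsg.Agent.Criterion.Closed

/-!
# The strong embedding criterion: no crossing member

If no member crosses the bad involution `v` at `a`, then `E` contains the members in every 2-group
above it fixing `a`, and every member at `a` is conjugate into `E` by the odd core of the stabiliser.
-/

set_option autoImplicit false
set_option linter.style.haveILetI false
set_option linter.unusedSectionVars false

namespace CfsgLib.Criterion

open Subgroup CfsgLib.Invol CfsgLib.Bender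
open CfsgLib.DGroup (coreIn coreIn_le odd_coreIn normalizer_coreIn le_coreIn)

universe u

variable {G : Type u} [Group G] [Finite G]

namespace Ctx

variable (C : Ctx G)

theorem mem_Za_fix {g x : G} {a : C.Pt} (hg : g • a = a) (hx : x ∈ C.Za a) :
    g * x * g⁻¹ ∈ C.Za a := by
  have := C.conj_mem_Za (g := g) hx
  rwa [hg] at this

/-- An element centralising `v` normalises the elements of the local group fixing all fixed points. -/
theorem conj_mem_Om_cent {v g o : G} (hg : Commute g v) (ho : o ∈ C.Om v) :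
    g * o * g⁻¹ ∈ C.Om v := by
  obtain ⟨hoL, hof⟩ := C.mem_Om.1 ho
  have hL : ∀ y ∈ C.L v, g * y * g⁻¹ ∈ C.L v := by
    intro y hy
    induction hy using closure_induction with
    | mem y hy =>
      exact subset_closure ⟨C.conj_mem_Z hy.1 g, (hg.mul_left hy.2).mul_left hg.inv_left⟩
    | one => simp
    | mul y y' _ _ h h' => rw [← conj_mul]; exact mul_mem h h'
    | inv y _ h => rw [← conj_inv]; exact inv_mem h
  refine C.mem_Om.2 ⟨hL o hoL, fun c hc => ?_⟩
  rw [mul_smul, mul_smul, hof (g⁻¹ • c), smul_inv_smul]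
  rw [smul_smul, ← hg.inv_left.eq, mul_smul, hc]

theorem mul_comm_mem_Om {u : G} (hu : C.Bad u) (hp : PairRank ↥(C.L u)) {a : C.Pt} (ha : u • a = a)
    {x y : G} (hx : x ∈ C.Ea u a) (hy : y ∈ C.Ea u a) : x * y * x⁻¹ * y⁻¹ ∈ C.Om u := by
  have h := hu.commutator_mem_oddCore C hp ha (x := ⟨x, C.mem_L_of_Ea hx⟩)
    (y := ⟨y, C.mem_L_of_Ea hy⟩)
    (by rw [← Subgroup.orderOf_coe]; exact C.orderOf_Z hx.1.1)
    (by rw [← Subgroup.orderOf_coe]; exact C.orderOf_Z hy.1.1) hx.1.2 hy.1.2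
  rw [hu.oddCore_eq_fixKer C hp] at h
  exact ⟨_, h, rfl⟩

/-- A member outside `Cross` centralises the product of `v` with a middle member, and commutes with
`v` if they generate a 2-group. -/
theorem Bad.mid_of_not_cross {v : G} (hv : C.Bad v)
    (hf : ∀ v : G, orderOf v = 2 → ∃ c : C.Pt, v • c ≠ c) {a : C.Pt} (ha : v • a = a) {s : G}
    (hs : s ∈ C.Za a) (hsC : s ∉ C.Cross v a) :
    (∃ w ∈ C.Ea v a, w ∈ closure ({s, v} : Set G) ∧ Commute s (v * w)) ∧
      ((∃ k, orderOf (s * v) = 2 ^ k) → Commute s v) := by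
  have hs2 := C.orderOf_Z hs.1
  have hev : Even (orderOf (s * v)) := even_orderOf_mul_of_not_isConj hs2 hv.1
    fun h => hv.not_mem_Z C (IsConj.trans hs.1 h)
  obtain ⟨hi, his, hiv⟩ := half_props hs2 hv.1 hev
  obtain ⟨l, hl⟩ := hev
  have hl' : orderOf (s * v) / 2 = l := by omega
  have hiZ : (s * v) ^ l ∉ C.Z := fun h => hsC ⟨hs, by rwa [hl']⟩
  rw [hl'] at hi his hiv
  set i := (s * v) ^ l with hidef
  have hia : i • a = a := C.smul_eq_of_commute_Z hs.1 his.symm hs.2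
  have hib : C.Bad i := (C.mem_Z_or_bad hf hi).resolve_left hiZ
  have hvv := mul_self_eq_one hv.1
  have hodd : Odd l := by
    rw [← Nat.not_even_iff_odd]
    rintro ⟨k, hk⟩
    refine absurd (hib.mem_Z_of_mem_L C ?_ hi) (hib.not_mem_Z C)
    have hi2 : i = (s * (v * s * v⁻¹)) ^ k := by
      rw [hidef, hk, ← two_mul, pow_mul, pow_two, inv_eq_self hv.1]
      simp only [mul_assoc]
    have hmem : s * (v * s * v⁻¹) ∈ C.L i := by
      refine mul_mem (C.mem_L hs.1 his.symm) (C.mem_L (C.conj_mem_Z hs.1 v) ?_)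
      have := (Commute.conj_iff v).2 his.symm
      rwa [show v * i * v⁻¹ = i from mul_inv_eq_iff_eq_mul.2 hiv.eq.symm] at this
    nth_rw 2 [hi2]
    exact pow_mem hmem k
  constructor
  · obtain ⟨k, hk⟩ := hodd
    have heZ : v * i ∈ C.Z := by
      have hli : (v * s) ^ l = i := by
        rw [← mul_inv_rev_invol hs2 hv.1, inv_pow, ← hidef, inv_eq_self hi]
      rw [← hli, hk, ← zpow_natCast,
        show ((2 * k + 1 : ℕ) : ℤ) = 2 * (k : ℤ) + 1 by push_cast; ring, mul_zpow_odd hv.1 hs2]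
      exact C.conj_mem_Z hs.1 _
    refine ⟨v * i, ⟨⟨heZ, by rw [mul_smul, hia, ha]⟩, (Commute.refl v).mul_left hiv⟩, ?_, ?_⟩
    · exact mul_mem (subset_closure (by simp))
        (pow_mem (mul_mem (subset_closure (by simp)) (subset_closure (by simp))) l)
    · rw [← mul_assoc, hvv, one_mul]
      exact his.symm
  · rintro ⟨k, hk⟩
    obtain ⟨j, hj⟩ := hodd
    have hl1 : l = 1 := by
      have h1 : l ∣ 2 ^ k := ⟨2, by omega⟩
      obtain ⟨m, -, rfl⟩ := (Nat.dvd_prime_pow Nat.prime_two).1 h1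
      rcases m with _ | m
      · rfl
      · rw [pow_succ] at hj; omega
    rw [hl1] at hl
    have h2 : (s * v) * (s * v) = 1 := by
      have h3 := pow_orderOf_eq_one (s * v)
      rwa [hl, pow_add, pow_one] at h3
    have := eq_inv_of_mul_eq_one_left h2
    rwa [mul_inv_rev, inv_eq_self hv.1, C.inv_Z hs.1] at this

/-- A member centralising `v` in a 2-group above `E` lies in `E`. -/
theorem IsE.mem_of_two {v : G} {a : C.Pt} {E : Subgroup G} (hE : C.IsE v a E) {s : G}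
    (hs : s ∈ C.Ea v a) {P : Subgroup G} (hP : IsPGroup 2 P) (hEP : E ≤ P) (hsP : s ∈ P) : s ∈ E := by
  obtain ⟨e, he, -, hodd⟩ := hE.cover s hs
  obtain ⟨k, hk⟩ := hP ⟨s * e, mul_mem hsP (hEP he)⟩
  have h1 := Consumers.eq_one_of_two_of_odd hodd (congrArg Subtype.val hk)
  rw [eq_inv_of_mul_eq_one_left h1]
  exact inv_mem he

/-- Without crossing members `E` contains the members in every 2-group above it fixing `a`. -/
theorem Bad.closed_E {v : G} (hv : C.Bad v) (hf : ∀ v : G, orderOf v = 2 → ∃ c : C.Pt, v • c ≠ c)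
    {a : C.Pt} (ha : v • a = a) {E : Subgroup G} (hE : C.IsE v a E) (h0 : C.Cross v a = ∅)
    {Q : Subgroup G} (hQ : Q ≤ MulAction.stabilizer G a) (hQ2 : IsPGroup 2 Q) (hEQ : E ≤ Q) {s : G}
    (hs : s ∈ C.Za a) (hsQ : s ∈ Q) : s ∈ E := by
  haveI : Fact (Nat.Prime 2) := ⟨Nat.prime_two⟩
  set H := MulAction.stabilizer G a with hH
  have hEv : ∀ e ∈ E, Commute e v := fun e he => by
    by_cases h : e = 1
    · rw [h]; exact Commute.one_left v
    · exact (hE.mem e he h).2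
  have hvn : zpowers v ≤ normalizer (E : Set G) := zpowers_le.2 (Closed.mem_normalizer_of_conj
    fun e he => by rw [← (hEv e he).eq, mul_inv_cancel_right]; exact he)
  have hP : IsPGroup 2 ↥(E ⊔ zpowers v) := IsPGroup.to_sup_of_normal_left' (hE.isPGroup C)
    (IsPGroup.of_card (n := 1) (by rw [Nat.card_zpowers, hv.1, pow_one])) hvn
  have hPH : E ⊔ zpowers v ≤ H := sup_le (fun e he => hE.le_stab C he)
    (zpowers_le.2 (MulAction.mem_stabilizer_iff.2 ha))
  obtain ⟨T, hT⟩ := IsPGroup.exists_le_sylow (hP.of_equiv (subgroupOfEquivOfLe hPH).symm)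
  obtain ⟨T', hT'⟩ := IsPGroup.exists_le_sylow (hQ2.of_equiv (subgroupOfEquivOfLe hQ).symm)
  obtain ⟨g, hg⟩ := MulAction.exists_smul_eq ↥H T T'
  set T₀ := (T : Subgroup ↥H).map H.subtype with hT₀
  have hET : E ⊔ zpowers v ≤ T₀ := fun x hx =>
    ⟨⟨x, hPH hx⟩, hT (show (⟨x, hPH hx⟩ : ↥H) ∈ (E ⊔ zpowers v).subgroupOf H from hx), rfl⟩
  have hT₀2 : IsPGroup 2 T₀ := T.2.map _
  -- the members in `T₀` lie in `E`
  have hin : ∀ t ∈ C.Za a, t ∈ T₀ → t ∈ E := by
    intro t ht htT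
    have htC : t ∉ C.Cross v a := by rw [h0]; exact Set.notMem_empty t
    have hcomm := (hv.mid_of_not_cross C hf ha ht htC).2 (by
      obtain ⟨k, hk⟩ := IsPGroup.iff_orderOf.1 hT₀2
        ⟨t * v, mul_mem htT (hET (mem_sup_right (mem_zpowers v)))⟩
      exact ⟨k, by rw [← hk]; exact (Subgroup.orderOf_mk _ _).symm⟩)
    exact hE.mem_of_two C ⟨ht, hcomm⟩ hT₀2 (le_sup_left.trans hET) htT
  have hback : ∀ t ∈ Q, (g : G)⁻¹ * t * g ∈ T₀ := by
    intro t ht
    have h1 : (⟨t, hQ ht⟩ : ↥H) ∈ (T' : Subgroup ↥H) := hT' ht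
    rw [← hg, Sylow.coe_subgroup_smul] at h1
    obtain ⟨t₀, ht₀, e⟩ := h1
    refine ⟨t₀, ht₀, ?_⟩
    have e' : (g : G) * (t₀ : G) * (g : G)⁻¹ = t := congrArg Subtype.val e
    show (t₀ : G) = _
    rw [← e']; group
  have hga : (g : G)⁻¹ • a = a := MulAction.mem_stabilizer_iff.1 (inv_mem g.2)
  have hmapE : E.map (MulAut.conj (g : G)⁻¹).toMonoidHom = E := by
    refine CfsgLib.Solvable.eq_of_le_of_card_le ?_
      (le_of_eq (card_map_of_injective (MulAut.conj (g : G)⁻¹).injective).symm)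
    rintro _ ⟨e, he, rfl⟩
    show (g : G)⁻¹ * e * (g : G)⁻¹⁻¹ ∈ E
    rw [inv_inv]
    by_cases h1 : e = 1
    · rw [h1]; simp
    · have h2 := C.mem_Za_fix hga (hE.mem e he h1).1
      rw [inv_inv] at h2
      exact hin _ h2 (hback e (hEQ he))
  have h3 : (g : G)⁻¹ * s * g ∈ E := by
    refine hin _ ?_ (hback s hsQ)
    have h2 := C.mem_Za_fix hga hs
    rwa [inv_inv] at h2
  rw [← hmapE] at h3
  obtain ⟨e, he, e1⟩ := h3
  have e2 : (g : G)⁻¹ * e * (g : G)⁻¹⁻¹ = (g : G)⁻¹ * s * g := e1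
  rw [inv_inv] at e2
  rwa [← mul_left_cancel (mul_right_cancel e2)]

/-- The hypotheses of the closed class theorem. -/
theorem Bad.closedHyp {v : G} (hv : C.Bad v) (hf : ∀ v : G, orderOf v = 2 → ∃ c : C.Pt, v • c ≠ c)
    (hp : PairRank ↥(C.L v)) {a : C.Pt} (ha : v • a = a) {E : Subgroup G} (hE : C.IsE v a E)
    (h0 : C.Cross v a = ∅) : Closed.Hyp (MulAction.stabilizer G a) (C.Za a) v E where
  mem_v := MulAction.mem_stabilizer_iff.2 ha
  le := fun e he => hE.le_stab C he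
  v_two := mul_self_eq_one hv.1
  v_not_mem := fun h => hv.not_mem_Z C (hE.mem v h (ne_one hv.1)).1.1
  conj := fun y hy _ hs => C.mem_Za_fix hy hs
  sq_S := fun _ hs => C.mul_self_Z hs.1
  sq_E := fun _ he => hE.mul_self C he
  mem_S := fun e he h => (hE.mem e he h).1
  comm_v := fun e he => by
    by_cases h : e = 1
    · rw [h]; exact Commute.one_left v
    · exact (hE.mem e he h).2
  closed := fun _ hQ hQ2 hEQ _ hs hsQ => hv.closed_E C hf ha hE h0 hQ hQ2 hEQ hs hsQ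
  mid := fun s hs => by
    obtain ⟨⟨w, hw, hwcl, hc⟩, -⟩ := hv.mid_of_not_cross C hf ha hs
      (by rw [h0]; exact Set.notMem_empty s)
    exact ⟨w, hw.1, hwcl, hw.2, hc⟩
  core := fun e he => by
    obtain ⟨hu, hua, hpu⟩ : C.Bad (v * e) ∧ (v * e) • a = a ∧ PairRank ↥(C.L (v * e)) := by
      by_cases h : e = 1
      · subst h; rw [mul_one]; exact ⟨hv, ha, hp⟩
      · obtain ⟨h1, h2, -, h4⟩ := hv.mul_Ea C hf hp ha (hE.mem e he h)
        exact ⟨h1, h2, h4⟩
    exact ⟨C.Om (v * e), fun k hk => MulAction.mem_stabilizer_iff.2 ((C.mem_Om.1 hk).2 a hua),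
      hu.odd_Om C, fun k hk => C.commute_of_mem_L (C.mem_Om.1 hk).1,
      fun y _ hy k hk => C.conj_mem_Om_cent hy hk,
      fun s hs t ht hsc htc => C.mul_comm_mem_Om hu hpu hua ⟨hs, hsc⟩ ⟨ht, htc⟩⟩

/-- Members at `a` with a product of odd order, one of them in `E`, have that product in the odd
core of the stabiliser. -/
theorem Bad.mul_mem_core {v : G} (hv : C.Bad v) (hf : ∀ v : G, orderOf v = 2 → ∃ c : C.Pt, v • c ≠ c)
    (hp : PairRank ↥(C.L v)) {a : C.Pt} (ha : v • a = a) {E : Subgroup G} (hE : C.IsE v a E)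
    (h0 : C.Cross v a = ∅) {x : G} (hx : x ∈ E) {s : G} (hs : s ∈ C.Za a)
    (hodd : Odd (orderOf (x * s))) : x * s ∈ coreIn (MulAction.stabilizer G a) := by
  set H := MulAction.stabilizer G a with hH
  obtain ⟨r, hr, hrE⟩ := (hv.closedHyp C hf hp ha hE h0).exists_conj_mem hs
    (MulAction.mem_stabilizer_iff.2 hs.2)
  obtain ⟨r', hr', rfl⟩ := hr
  haveI := DGroup.normal_oddCore ↥H
  set e := (r' : G) * s * (r' : G)⁻¹ with he
  have hxH : x ∈ H := hE.le_stab C hx
  have heH : e ∈ H := hE.le_stab C hrE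
  set π := QuotientGroup.mk' (Cfsg.oddCore ↥H)
  have hs' : s ∈ H := MulAction.mem_stabilizer_iff.2 hs.2
  have hπ : π ⟨e, heH⟩ = π ⟨s, hs'⟩ := by
    have h1 : (⟨e, heH⟩ : ↥H) = r' * ⟨s, hs'⟩ * r'⁻¹ := Subtype.ext rfl
    have hr1 : π r' = 1 := (QuotientGroup.eq_one_iff r').2 hr'
    rw [h1, map_mul, map_mul, map_inv, hr1, one_mul, inv_one, mul_one]
  have hxe2 : (⟨x, hxH⟩ * ⟨e, heH⟩ : ↥H) ^ 2 = 1 := Subtype.ext (by
    show (x * e) ^ 2 = 1
    rw [pow_two]; exact hE.mul_self C (mul_mem hx hrE))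
  have hmem : (⟨x, hxH⟩ * ⟨s, hs'⟩ : ↥H) ∈ Cfsg.oddCore ↥H := by
    rw [← QuotientGroup.eq_one_iff]
    show π _ = 1
    refine Consumers.eq_one_of_two_of_odd (i := 1) ?_ ?_
    · exact hodd.of_dvd_nat ((orderOf_map_dvd _ _).trans
        (dvd_of_eq (Subgroup.orderOf_mk _ _)))
    · rw [pow_one, map_mul, ← hπ, ← map_mul, ← map_pow, hxe2, map_one]
  exact ⟨_, hmem, rfl⟩

end Ctx

end CfsgLib.Criterion
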