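import Cfsg.Agent.Criterion.ClosedBasic
import Cfsg.Agent.S0217

/-!
# The strong embedding criterion, closed class: the signalizer functor

On `F = B × ⟨v⟩`, with `B` a complement in `E` of the centre, `θ x` is the odd core of the
centraliser of `x` enlarged by the odd cores of the centralisers of `E` and of `E ⟨v⟩`.
-/

set_option autoImplicit false
set_option linter.style.haveILetI false
set_option linter.unusedSectionVars false

namespace CfsgLib.Criterion.Closed

open Subgroup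
open CfsgLib.DGroup (coreIn coreIn_le odd_coreIn normalizer_coreIn le_coreIn solvable_of_odd)

universe u

variable {G : Type u} [Group G] [Finite G]

theorem mem_sup_exists {U W : Subgroup G} (hW : W ≤ normalizer (U : Set G)) {x : G}
    (hx : x ∈ U ⊔ W) : ∃ p ∈ U, ∃ q ∈ W, p * q = x := by
  rw [← SetLike.mem_coe, coe_mul_of_right_le_normalizer_left U W hW] at hx
  obtain ⟨p, hp, q, hq, rfl⟩ := Set.mem_mul.1 hx
  exact ⟨p, hp, q, hq, rfl⟩

theorem le_normalizer_sup {A U W : Subgroup G} (hU : A ≤ normalizer (U : Set G))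
    (hW : A ≤ normalizer (W : Set G)) : A ≤ normalizer ((U ⊔ W : Subgroup G) : Set G) :=
  fun a ha => mem_normalizer_of_conj fun x hx => by
    have hle : (U ⊔ W).map (MulAut.conj a).toMonoidHom ≤ U ⊔ W := by
      rw [Subgroup.map_sup]
      refine sup_le ?_ ?_ <;> rintro _ ⟨y, hy, rfl⟩
      exacts [mem_sup_left ((mem_normalizer_iff.1 (hU ha) y).1 hy),
        mem_sup_right ((mem_normalizer_iff.1 (hW ha) y).1 hy)]
    exact hle ⟨x, hx, rfl⟩

theorem le_normalizer_inf_cent {A U : Subgroup G} {x : G} (hU : A ≤ normalizer (U : Set G))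
    (hA : ∀ a ∈ A, Commute a x) :
    A ≤ normalizer ((U ⊓ centralizer ({x} : Set G) : Subgroup G) : Set G) :=
  fun a ha => mem_normalizer_of_conj fun k hk => by
    obtain ⟨hk1, hk2⟩ := mem_inf.1 hk
    have hkx : Commute k x := mem_centralizer_singleton_iff.1 hk2
    exact mem_inf.2 ⟨(mem_normalizer_iff.1 (hU ha) k).1 hk1, mem_centralizer_singleton_iff.2
      (((hA a ha).mul_left hkx).mul_left (hA a ha).inv_left).eq⟩

/-- The centraliser of `x` in `Y`. -/
def cen (Y : Subgroup G) (x : G) : Subgroup G := Y ⊓ centralizer ({x} : Set G)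

/-- The centraliser of `E` in `Y`. -/
def cenE (Y E : Subgroup G) : Subgroup G := Y ⊓ centralizer (E : Set G)

/-- The odd core of the centraliser of `E⟨v⟩`. -/
def omega (Y E : Subgroup G) (v : G) : Subgroup G := coreIn (cen (cenE Y E) v)

/-- The common part of the functor. -/
def omega2 (Y E : Subgroup G) (v : G) : Subgroup G := coreIn (cenE Y E) ⊔ omega Y E v

/-- The functor. -/
def theta (Y E : Subgroup G) (v x : G) : Subgroup G :=
  coreIn (cen Y x) ⊔ (omega2 Y E v ⊓ centralizer ({x} : Set G))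

theorem mem_cen {Y : Subgroup G} {x y : G} : y ∈ cen Y x ↔ y ∈ Y ∧ Commute y x := by
  rw [cen, mem_inf, mem_centralizer_singleton_iff]; rfl

theorem mem_cenE {Y E : Subgroup G} {y : G} : y ∈ cenE Y E ↔ y ∈ Y ∧ ∀ a ∈ E, Commute a y := by
  rw [cenE, mem_inf, mem_centralizer_iff]; rfl

variable {Y E : Subgroup G} {v : G}

theorem omega2_le : omega2 Y E v ≤ cenE Y E :=
  sup_le (coreIn_le _) ((coreIn_le _).trans inf_le_left)

theorem odd_omega2 : Odd (Nat.card (omega2 Y E v)) :=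
  odd_sup (((coreIn_le _).trans inf_le_left).trans (normalizer_coreIn _)) (odd_coreIn _) (odd_coreIn _)

theorem omega2_inf_le_normalizer (x : G) :
    omega2 Y E v ⊓ centralizer ({x} : Set G) ≤ normalizer (coreIn (cen Y x) : Set G) :=
  (inf_le_inf_right _ (omega2_le.trans inf_le_left)).trans (normalizer_coreIn _)

theorem theta_le (x : G) : theta Y E v x ≤ cen Y x :=
  sup_le (coreIn_le _) (inf_le_inf_right _ (omega2_le.trans inf_le_left))

theorem odd_theta (x : G) : Odd (Nat.card (theta Y E v x)) :=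
  odd_sup (omega2_inf_le_normalizer x) (odd_coreIn _)
    (odd_omega2.of_dvd_nat (card_dvd_of_le inf_le_left))

namespace Hyp

variable {H : Subgroup G} {S : Set G} (h : Hyp H S v E)
include h

section

variable (hvY : v ∈ Y) (hEY : E ≤ Y)
include hvY hEY

theorem v_mem_cenE : v ∈ cenE Y E := mem_cenE.2 ⟨hvY, h.comm_v⟩

theorem v_le_normalizer_omega2 : zpowers v ≤ normalizer (omega2 Y E v : Set G) :=
  le_normalizer_sup ((zpowers_le.2 (h.v_mem_cenE hvY hEY)).trans (normalizer_coreIn _))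
    ((zpowers_le.2 (mem_cen.2 ⟨h.v_mem_cenE hvY hEY, Commute.refl v⟩)).trans (normalizer_coreIn _))

theorem E_le_normalizer_omega2 : E ≤ normalizer (omega2 Y E v : Set G) := by
  have h1 : E ≤ cenE Y E := fun b hb => mem_cenE.2 ⟨hEY hb, fun a ha => h.comm_E ha hb⟩
  exact le_normalizer_sup (h1.trans (normalizer_coreIn _))
    (fun b hb => normalizer_coreIn _ (mem_cen.2 ⟨h1 hb, h.comm_v b hb⟩))

theorem E_le_normalizer_theta {x : G} (hxE : ∀ a ∈ E, Commute a x) :
    E ≤ normalizer (theta Y E v x : Set G) :=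
  le_normalizer_sup (fun b hb => normalizer_coreIn _ (mem_cen.2 ⟨hEY hb, hxE b hb⟩))
    (le_normalizer_inf_cent (h.E_le_normalizer_omega2 hvY hEY) hxE)

theorem v_le_normalizer_theta {x : G} (hxv : Commute v x) :
    zpowers v ≤ normalizer (theta Y E v x : Set G) :=
  le_normalizer_sup ((zpowers_le.2 (mem_cen.2 ⟨hvY, hxv⟩)).trans (normalizer_coreIn _))
    (le_normalizer_inf_cent (h.v_le_normalizer_omega2 hvY hEY) fun a ha => by
      obtain ⟨i, rfl⟩ := mem_zpowers_iff.1 ha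
      exact hxv.zpow_left i)

/-- The fixed points of `E` in the functor lie in the common part. -/
theorem mem_omega2_of_fixed {x : G} (hx : x ∈ E ∨ ∃ a ∈ E, x = v * a) {y : G}
    (hy : y ∈ theta Y E v x) (hyE : ∀ a ∈ E, Commute a y) : y ∈ omega2 Y E v := by
  obtain ⟨r, hr, w, hw, rfl⟩ := mem_sup_exists (omega2_inf_le_normalizer x) hy
  refine mul_mem ?_ (mem_inf.1 hw).1
  have hrY := mem_cen.1 (coreIn_le _ hr)
  have hrE : ∀ a ∈ E, Commute a r := fun a ha => by
    have := (hyE a ha).mul_right ((mem_cenE.1 (omega2_le (mem_inf.1 hw).1)).2 a ha).inv_right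
    rwa [mul_inv_cancel_right] at this
  rcases hx with hxE | ⟨b, hb, rfl⟩
  · have hle : cenE Y E ≤ cen Y x := fun z hz =>
      mem_cen.2 ⟨(mem_cenE.1 hz).1, ((mem_cenE.1 hz).2 x hxE).symm⟩
    exact mem_sup_left (le_coreIn (N := coreIn (cen Y x) ⊓ cenE Y E) inf_le_right
      ((le_inf (hle.trans (normalizer_coreIn _)) le_normalizer).trans
        inf_normalizer_le_normalizer_inf)
      ((odd_coreIn _).of_dvd_nat (card_dvd_of_le inf_le_left))
      (mem_inf.2 ⟨hr, mem_cenE.2 ⟨hrY.1, hrE⟩⟩))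
  · have hv : ∀ {z : G}, (∀ a ∈ E, Commute a z) → Commute z (v * b) → Commute z v :=
      fun {z} hzE hz => by
        have := hz.mul_right (hzE b hb).symm
        rwa [mul_assoc, h.sq_E b hb, mul_one] at this
    have hle : cen (cenE Y E) v ≤ cen Y (v * b) := fun z hz => by
      obtain ⟨h1, h2⟩ := mem_cen.1 hz
      exact mem_cen.2 ⟨(mem_cenE.1 h1).1, h2.mul_right ((mem_cenE.1 h1).2 b hb).symm⟩
    exact mem_sup_right (le_coreIn (N := coreIn (cen Y (v * b)) ⊓ cen (cenE Y E) v) inf_le_right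
      ((le_inf (hle.trans (normalizer_coreIn _)) le_normalizer).trans
        inf_normalizer_le_normalizer_inf)
      ((odd_coreIn _).of_dvd_nat (card_dvd_of_le inf_le_left))
      (mem_inf.2 ⟨hr, mem_cen.2 ⟨mem_cenE.2 ⟨hrY.1, hrE⟩, hv hrE hrY.2⟩⟩))

/-- An odd `E`-invariant subgroup of a good centraliser lies in the functor if its fixed points
do. -/
theorem absorb (hYH : Y ≤ H) {x : G} (hxE : ∀ a ∈ E, Commute a x) (hgood : Good S E (cen Y x))
    {U : Subgroup G} (hUY : U ≤ cen Y x) (hU : Odd (Nat.card U))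
    (hEU : E ≤ normalizer (U : Set G))
    (hfix : ∀ y ∈ U, (∀ a ∈ E, Commute a y) → y ∈ theta Y E v x) : U ≤ theta Y E v x := by
  set R := coreIn (cen Y x) with hR
  have hEx : E ≤ cen Y x := fun a ha => mem_cen.2 ⟨hEY ha, hxE a ha⟩
  have hER : E ≤ normalizer (R : Set G) := hEx.trans (normalizer_coreIn _)
  have hsolv : Group.IsSolvable E := by
    haveI : Fact (Nat.Prime 2) := ⟨Nat.prime_two⟩
    haveI := h.isPGroup_E.isNilpotent
    infer_instance
  intro y hy
  have hyx := hUY hy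
  have hfixed : ∀ a ∈ E, y⁻¹ * (a * y * a⁻¹) ∈ U ⊓ R := by
    intro a ha
    have h1 : y⁻¹ * (a * y * a⁻¹) ∈ U :=
      mul_mem (inv_mem hy) ((mem_normalizer_iff.1 (hEU ha) y).1 hy)
    refine mem_inf.2 ⟨h1, ?_⟩
    -- `y⁻¹ a y` is conjugate into `E` by `R`
    by_cases ha1 : a = 1
    · subst ha1; simp
    have hs : y⁻¹ * a * y ∈ S := by
      have := h.conj y⁻¹ (hYH (mem_cen.1 (inv_mem hyx)).1) a (h.mem_S a ha ha1)
      rwa [inv_inv] at this
    obtain ⟨r, hr, hrE⟩ := hgood _ hs (mul_mem (mul_mem (inv_mem hyx) (hEx ha)) hyx)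
    have hmem : y⁻¹ * (a * y * a⁻¹) ∈ R ⊔ E := by
      rw [show y⁻¹ * (a * y * a⁻¹) = r⁻¹ * (r * (y⁻¹ * a * y) * r⁻¹) * r * a⁻¹ by group]
      exact mul_mem (mul_mem (mul_mem (mem_sup_left (inv_mem hr)) (mem_sup_right hrE))
        (mem_sup_left hr)) (mem_sup_right (inv_mem ha))
    obtain ⟨p, hp, q, hq, hpq⟩ := mem_sup_exists hER hmem
    -- an element of odd order in `R E` lies in `R`
    have hq1 : q = 1 := by
      have hodd := orderOf_odd hU h1
      rw [← hpq] at hodd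
      obtain ⟨m, hm⟩ := hodd
      have hpow : ∀ n : ℕ, ∃ r' ∈ R, (p * q) ^ n = r' * q ^ n := by
        intro n
        induction n with
        | zero => exact ⟨1, one_mem _, by simp⟩
        | succ n ih =>
          obtain ⟨r', hr', e⟩ := ih
          refine ⟨r' * (q ^ n * p * (q ^ n)⁻¹), mul_mem hr'
            ((mem_normalizer_iff.1 (hER (pow_mem hq n)) p).1 hp), ?_⟩
          rw [pow_succ, e, pow_succ]; group
      obtain ⟨r', hr', e⟩ := hpow (2 * m + 1)
      rw [← hm, pow_orderOf_eq_one, hm, pow_succ, pow_mul, pow_two, h.sq_E q hq, one_pow, one_mul]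
        at e
      refine eq_one_of_two (odd_coreIn (cen Y x)) ?_ (h.sq_E q hq)
      rw [eq_inv_of_mul_eq_one_right e.symm]
      exact inv_mem hr'
    rw [← hpq, hq1, mul_one]
    exact hp
  obtain ⟨c, hc, hyc⟩ := CfsgLib.CoprimeAct.exists_centralizing_mem_coset hEU (h.coprime_E hU)
    (N := U ⊓ R) inf_le_left ((le_inf hEU hER).trans inf_normalizer_le_normalizer_inf) (Or.inl hsolv)
    hy hfixed
  obtain ⟨hcU, hcE⟩ := mem_inf.1 hc
  rw [show y = c * (y⁻¹ * c)⁻¹ by group]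
  exact mul_mem (hfix c hcU (fun a ha => mem_centralizer_iff.1 hcE a ha))
    (mem_sup_left (inv_mem (mem_inf.1 hyc).2))

/-- The odd subgroup of `v a` meets the centralisers in the functor. -/
theorem core_inf_le (hYH : Y ≤ H) {a : G} (ha : a ∈ E) {K : Subgroup G}
    (hK : Odd (Nat.card K)) (hKc : ∀ k ∈ K, Commute k (v * a))
    (hKn : ∀ y ∈ H, Commute y (v * a) → ∀ k ∈ K, y * k * y⁻¹ ∈ K) {x : G}
    (hx : x ∈ E ∨ ∃ b ∈ E, x = v * b) (hgood : Good S E (cen Y x)) :
    K ⊓ cen Y x ≤ theta Y E v x := by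
  have hxE : ∀ b ∈ E, Commute b x := by
    rintro b hb
    rcases hx with hx | ⟨c, hc, rfl⟩
    exacts [h.comm_E hb hx, h.comm_va hc hb]
  refine h.absorb hvY hEY hYH hxE hgood inf_le_right (hK.of_dvd_nat (card_dvd_of_le inf_le_left))
    ?_ fun y hy hyE => mem_sup_right (mem_inf.2 ⟨mem_sup_right ?_,
      (mem_inf.1 (mem_inf.1 hy).2).2⟩)
  · exact (le_inf (fun b hb => mem_normalizer_of_conj fun k hk =>
      hKn b (h.le hb) (h.comm_va ha hb) k hk) ((show E ≤ cen Y x from fun b hb =>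
      mem_cen.2 ⟨hEY hb, hxE b hb⟩).trans le_normalizer)).trans inf_normalizer_le_normalizer_inf
  · obtain ⟨hyK, hyY⟩ := mem_inf.1 hy
    have hle : ∀ z ∈ cen (cenE Y E) v, Commute z (v * a) := fun z hz =>
      (mem_cen.1 hz).2.mul_right ((mem_cenE.1 (mem_cen.1 hz).1).2 a ha).symm
    have hyv : Commute y v := by
      have := (hKc y hyK).mul_right (hyE a ha).symm
      rwa [mul_assoc, h.sq_E a ha, mul_one] at this
    refine le_coreIn (N := K ⊓ cen (cenE Y E) v) inf_le_right ?_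
      (hK.of_dvd_nat (card_dvd_of_le inf_le_left))
      (mem_inf.2 ⟨hyK, mem_cen.2 ⟨mem_cenE.2 ⟨(mem_cen.1 hyY).1, hyE⟩, hyv⟩⟩)
    exact (le_inf (fun z hz => mem_normalizer_of_conj fun k hk =>
      hKn z (hYH (mem_cenE.1 (mem_cen.1 hz).1).1) (hle z hz) k hk) le_normalizer).trans
        inf_normalizer_le_normalizer_inf

end

/-- The main case: a subgroup `B ≤ E` of order at least four whose members have good centralisers. -/
theorem good_of_complement (hYH : Y ≤ H) (hvY : v ∈ Y) (hEY : E ≤ Y) {B : Subgroup G} (hBE : B ≤ E)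
    (hB4 : 4 ≤ Nat.card B) (hgood : ∀ b ∈ B, b ≠ 1 → Good S E (cen Y b)) : Good S E Y := by
  classical
  haveI : Fact (Nat.Prime 2) := ⟨Nat.prime_two⟩
  have hvi : v⁻¹ = v := inv_eq_of_mul_eq_one_right h.v_two
  have hvB : zpowers v ≤ normalizer (B : Set G) := zpowers_le.2 (mem_normalizer_of_conj fun b hb => by
    rw [← (h.comm_v b (hBE hb)).eq, mul_inv_cancel_right]; exact hb)
  set F := B ⊔ zpowers v with hF
  have hmemF : ∀ x ∈ F, x ∈ B ∨ ∃ b ∈ B, x = v * b := by
    intro x hx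
    obtain ⟨b, hb, w, hw, rfl⟩ := mem_sup_exists hvB hx
    obtain ⟨i, rfl⟩ := mem_zpowers_iff.1 hw
    rcases Int.even_or_odd i with ⟨j, rfl⟩ | ⟨j, rfl⟩
    · refine Or.inl ?_
      rwa [← two_mul, zpow_mul, zpow_two, h.v_two, one_zpow, mul_one]
    · refine Or.inr ⟨b, hb, ?_⟩
      rw [zpow_add, zpow_mul, zpow_two, h.v_two, one_zpow, one_mul, zpow_one]
      exact (h.comm_v b (hBE hb)).eq
  have hFE : ∀ x ∈ F, x ∈ E ∨ ∃ b ∈ E, x = v * b := fun x hx =>
    (hmemF x hx).imp (@hBE x) fun ⟨b, hb, e⟩ => ⟨b, hBE hb, e⟩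
  have hcomm : ∀ x ∈ F, (∀ a ∈ E, Commute a x) ∧ Commute v x := by
    intro x hx
    rcases hFE x hx with hxE | ⟨b, hb, rfl⟩
    · exact ⟨fun a ha => h.comm_E ha hxE, (h.comm_v x hxE).symm⟩
    · exact ⟨fun a ha => h.comm_va hb ha, (Commute.refl v).mul_right (h.comm_v b hb).symm⟩
  have hFY : F ≤ Y := sup_le (hBE.trans hEY) (zpowers_le.2 hvY)
  have hFnorm : ∀ {U : Subgroup G}, E ≤ normalizer (U : Set G) →
      zpowers v ≤ normalizer (U : Set G) → F ≤ normalizer (U : Set G) :=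
    fun hU hU' => sup_le (hBE.trans hU) hU'
  have hsq : ∀ x ∈ F, x * x = 1 := by
    intro x hx
    rcases hFE x hx with hxE | ⟨b, hb, rfl⟩
    · exact h.sq_E x hxE
    · rw [(h.comm_v b hb).mul_mul_mul_comm, h.v_two, h.sq_E b hb, one_mul]
  have hFcomm : ∀ x ∈ F, ∀ y ∈ F, x * y = y * x := by
    intro x hx y hy
    rcases hFE x hx with hxE | ⟨b, hb, rfl⟩
    · exact ((hcomm y hy).1 x hxE).eq
    · exact ((hcomm y hy).2.mul_left ((hcomm y hy).1 b hb)).eq
  have hF8 : 2 ^ 3 ≤ Nat.card F := by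
    have hd : Disjoint B (zpowers v) := by
      rw [disjoint_iff, eq_bot_iff]
      intro x hx
      obtain ⟨hxB, hxv⟩ := mem_inf.1 hx
      obtain ⟨i, rfl⟩ := mem_zpowers_iff.1 hxv
      rcases Int.even_or_odd i with ⟨j, rfl⟩ | ⟨j, rfl⟩
      · rw [mem_bot, ← two_mul, zpow_mul, zpow_two, h.v_two, one_zpow]
      · rw [zpow_add, zpow_mul, zpow_two, h.v_two, one_zpow, one_mul, zpow_one] at hxB
        exact absurd (hBE hxB) h.v_not_mem
    have hv2 : orderOf v = 2 :=
      orderOf_eq_prime (by rw [pow_two, h.v_two]) fun e => h.v_not_mem (e ▸ one_mem E)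
    rw [hF, sup_comm, CfsgLib.Solvable.card_sup_of_disjoint hvB (disjoint_iff.1 hd.symm),
      Nat.card_zpowers, hv2]
    omega
  have hgoodF : ∀ x ∈ F, x ≠ 1 → Good S E (cen Y x) := by
    intro x hx hx1
    rcases hmemF x hx with hxB | ⟨b, hb, rfl⟩
    · exact hgood x hxB hx1
    · exact h.good_of_central (inf_le_left.trans hYH)
        (fun a ha => mem_cen.2 ⟨hEY ha, h.comm_va (hBE hb) ha⟩) (hBE hb)
        fun y hy => (mem_cen.1 hy).2
  set θ := theta Y E v with hθ
  have hθC : ∀ x ∈ F, x ≠ 1 → θ x ≤ centralizer ({x} : Set G) :=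
    fun x _ _ => (theta_le x).trans inf_le_right
  have hθn : ∀ x ∈ F, F ≤ normalizer (θ x : Set G) := fun x hx =>
    hFnorm (h.E_le_normalizer_theta hvY hEY (hcomm x hx).1)
      (h.v_le_normalizer_theta hvY hEY (hcomm x hx).2)
  have hbal : ∀ x ∈ F, x ≠ 1 → ∀ y ∈ F, y ≠ 1 →
      θ x ⊓ centralizer ({y} : Set G) ≤ θ y := by
    intro x hx _ y hy hy1
    refine h.absorb hvY hEY hYH (hcomm y hy).1 (hgoodF y hy hy1)
      (le_inf (inf_le_left.trans ((theta_le x).trans inf_le_left)) inf_le_right)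
      ((odd_theta x).of_dvd_nat (card_dvd_of_le inf_le_left))
      (le_normalizer_inf_cent (h.E_le_normalizer_theta hvY hEY (hcomm x hx).1) (hcomm y hy).1)
      fun z hz hzE => mem_sup_right (mem_inf.2 ⟨h.mem_omega2_of_fixed hvY hEY (hFE x hx)
        (mem_inf.1 hz).1 hzE, (mem_inf.1 hz).2⟩)
  obtain ⟨hΘ2, -⟩ := Cfsg.Agent.S0217.result (p := 2) F hFcomm
    (fun x hx => by rw [pow_two]; exact hsq x hx) hF8 θ hθC
    (fun x _ _ => (odd_theta x).not_two_dvd_nat)
    (fun x hx _ b hb y hy => (mem_normalizer_iff.1 (hθn x hx hb) y).1 hy)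
    (fun x _ _ => solvable_of_odd _ (odd_theta x)) hbal
  set Θ := ⨆ a : {a : G // a ∈ F ∧ a ≠ 1}, θ a with hΘdef
  have hΘ : Odd (Nat.card Θ) := Nat.odd_iff.2 (Nat.two_dvd_ne_zero.1 hΘ2)
  have hEΘ : E ≤ normalizer (Θ : Set G) := fun a ha => mem_normalizer_of_conj fun y hy => by
    induction hy using Subgroup.iSup_induction' with
    | hp i z hz =>
      exact mem_iSup_of_mem i ((mem_normalizer_iff.1
        (h.E_le_normalizer_theta hvY hEY (hcomm i i.2.1).1 ha) z).1 hz)
    | h1 => simp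
    | hmul z w _ _ hz hw => rw [← conj_mul]; exact mul_mem hz hw
  have hkey : ∀ a ∈ E, ∀ K : Subgroup G, K ≤ H → Odd (Nat.card K) →
      (∀ k ∈ K, Commute k (v * a)) →
      (∀ y ∈ H, Commute y (v * a) → ∀ k ∈ K, y * k * y⁻¹ ∈ K) → K ⊓ Y ≤ Θ := by
    intro a ha K hKH hK hKc hKn
    have hva : Commute v (v * a) := (Commute.refl v).mul_right (h.comm_v a ha).symm
    have hFK : F ≤ normalizer ((K ⊓ Y : Subgroup G) : Set G) :=
      (le_inf (hFnorm (fun b hb => mem_normalizer_of_conj (hKn b (h.le hb) (h.comm_va ha hb)))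
        (zpowers_le.2 (mem_normalizer_of_conj (hKn v h.mem_v hva))))
          (hFY.trans le_normalizer)).trans inf_normalizer_le_normalizer_inf
    refine Signalizer.le_of_forall_centralizer (p := 2) (A := F)
      ⟨⟨⟨fun x y => Subtype.ext (hFcomm x x.2 y y.2)⟩⟩,
        fun x hx => by rw [pow_two]; exact hsq x hx⟩ le_rfl (by omega) hFK
      ((hK.of_dvd_nat (card_dvd_of_le inf_le_left)).not_two_dvd_nat) fun e he he1 => ?_
    rw [inf_assoc]
    exact (h.core_inf_le hvY hEY hYH ha hK hKc hKn (hFE e he) (hgoodF e he he1)).trans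
      (le_iSup (fun a : {a : G // a ∈ F ∧ a ≠ 1} => θ a) ⟨e, he, he1⟩)
  exact h.good_of_conj hYH hEY hΘ hEΘ fun s hs hsY =>
    h.exists_two_steps hYH hvY hEY hs hsY hkey

end Hyp

end CfsgLib.Criterion.Closed
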