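import Cfsg.Agent.Criterion.Classes

/-!
# The strong embedding criterion: the count at a bad involution

For `v` bad fixing `a` with `Q` further fixed points, `q - 1` classes of size `j` at `a`, `j'` their
size for `v x` and `r` swappers centralising `v` of a moved pair: `(n - (Q + 1)) r = (Q + 1) (q - 1) j Q`,
`|Z_a| = (q - 1) j' r = (q - 1) j j' + |Cross|` and `r i = j d` with `d ≤ Q + 1`, `i` the length of an
orbit of the elements fixing all fixed points of `v`.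
-/

set_option autoImplicit false
set_option linter.style.haveILetI false
set_option linter.unusedSectionVars false

namespace CfsgLib.Criterion

open Subgroup CfsgLib.Invol CfsgLib.Bender

universe u

variable {G : Type u} [Group G] [Finite G]

namespace Ctx

variable (C : Ctx G)

/-- The members at `a` whose product with `v` has a member as central involution. -/
def Cross (v : G) (a : C.Pt) : Set G :=
  {s | s ∈ C.Za a ∧ (s * v) ^ (orderOf (s * v) / 2) ∈ C.Z}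

/-! ### Transport -/

theorem card_Ea_conj (g v : G) (a : C.Pt) :
    Nat.card (C.Ea (g * v * g⁻¹) (g • a)) = Nat.card (C.Ea v a) :=
  (Nat.card_congr (Equiv.subtypeEquiv (MulAut.conj g).toEquiv fun x =>
    ⟨fun h => C.conj_mem_Ea h, fun h => by
      have := C.conj_mem_Ea (g := g⁻¹) h
      simpa [mul_assoc] using this⟩)).symm

theorem qn_conj (g v : G) (a : C.Pt) : C.qn (g * v * g⁻¹) (g • a) = C.qn v a :=
  (Nat.card_congr (Equiv.subtypeEquiv (MulAction.toPerm g) fun c => by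
    show v • c = c ∧ c ≠ a ↔ (g * v * g⁻¹) • g • c = g • c ∧ g • c ≠ g • a
    rw [mul_smul, mul_smul, inv_smul_smul, smul_left_cancel_iff, ne_eq, ne_eq, smul_left_cancel_iff])).symm

theorem card_cls_conj (g v : G) (a : C.Pt) (x : G) :
    Nat.card (C.cls (g * v * g⁻¹) (g • a) (g * x * g⁻¹)) = Nat.card (C.cls v a x) :=
  (Nat.card_congr (Equiv.subtypeEquiv (MulAut.conj g).toEquiv fun y => by
    have e : g * x * g⁻¹ * (g * y * g⁻¹) = g * (x * y) * g⁻¹ := by group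
    show y ∈ C.cls v a x ↔ g * y * g⁻¹ ∈ C.cls (g * v * g⁻¹) (g • a) (g * x * g⁻¹)
    constructor
    · exact fun h => ⟨C.conj_mem_Ea h.1, by rw [e, orderOf_conj_eq]; exact h.2⟩
    · rintro ⟨h1, h2⟩
      refine ⟨?_, by rwa [e, orderOf_conj_eq] at h2⟩
      have := C.conj_mem_Ea (g := g⁻¹) h1
      simpa [mul_assoc] using this)).symm

theorem L_conj_eq {g v : G} (hg : g ∈ C.L v) : g * v * g⁻¹ = v :=
  mul_inv_eq_iff_eq_mul.2 (C.commute_of_mem_L hg).eq

theorem Bad.card_Ea_eq {v : G} (hv : C.Bad v) {a b : C.Pt} (ha : v • a = a) (hb : v • b = b) :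
    Nat.card (C.Ea v b) = Nat.card (C.Ea v a) := by
  obtain ⟨g, hg, rfl⟩ := C.exists_mem_L_move hv ha hb
  have h := C.card_Ea_conj g v a
  rwa [C.L_conj_eq hg] at h

theorem Bad.qn_eq {v : G} (hv : C.Bad v) {a b : C.Pt} (ha : v • a = a) (hb : v • b = b) :
    C.qn v b = C.qn v a := by
  obtain ⟨g, hg, rfl⟩ := C.exists_mem_L_move hv ha hb
  have h := C.qn_conj g v a
  rwa [C.L_conj_eq hg] at h

/-- A member centralising `v` is carried to any member at `a` inside the local group. -/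
theorem Bad.exists_carry {v : G} (hv : C.Bad v) {w : G} (hw : w ∈ C.ZC v) {p : C.Pt} (hp : w • p = p)
    {a : C.Pt} {x : G} (hx : x ∈ C.Ea v a) :
    ∃ g ∈ C.L v, g • p = a ∧ g * w * g⁻¹ = x ∧ g * (v * w) * g⁻¹ = v * x := by
  obtain ⟨g, hg, e⟩ := hv.exists_conj_L C hw ⟨hx.1.1, hx.2⟩
  refine ⟨g, hg, C.fix_unique hx.1.1 ?_ hx.1.2, e, ?_⟩
  · rw [← e, mul_smul, mul_smul, inv_smul_smul, hp]
  · rw [show g * (v * w) * g⁻¹ = g * v * g⁻¹ * (g * w * g⁻¹) by group, C.L_conj_eq hg, e]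

/-! ### The product with a member -/

/-- The product with a member at a fixed point is again bad there, with two commuting involutions. -/
theorem Bad.mul_Ea {v : G} (hv : C.Bad v) (hf : ∀ v : G, orderOf v = 2 → ∃ c : C.Pt, v • c ≠ c)
    (hp : PairRank ↥(C.L v)) {a : C.Pt} (ha : v • a = a) {x : G} (hx : x ∈ C.Ea v a) :
    C.Bad (v * x) ∧ (v * x) • a = a ∧ x ∈ C.Ea (v * x) a ∧ PairRank ↥(C.L (v * x)) := by
  have hc : Commute x (v * x) := hx.2.mul_right (Commute.refl x)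
  refine ⟨hv.mul_bad C (hf v hv.1) ⟨hx.1.1, hx.2⟩, by rw [mul_smul, hx.1.2, ha], ⟨hx.1, hc⟩, ?_⟩
  obtain ⟨E, hE, hxE⟩ := hv.exists_E C hp ha hx
  obtain ⟨x₀, hx₀, y₀, hy₀, hne, hcom⟩ := hv.exists_pair C hp ha
  obtain ⟨e₀, he₀, he₀1, ho₀⟩ := hE.cover x₀ hx₀
  obtain ⟨e₁, he₁, he₁1, ho₁⟩ := hE.cover y₀ hy₀
  obtain ⟨e, he, he1, hex⟩ : ∃ e ∈ E, e ≠ 1 ∧ e ≠ x := by
    by_cases h0 : e₀ = x
    · by_cases h1 : e₁ = x
      · exfalso
        subst h0 h1
        have hm := mul_mem ((hv.odd_iff C hp ha hx₀ hx).1 ho₀)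
          (inv_mem ((hv.odd_iff C hp ha hy₀ hx).1 ho₁))
        rw [mul_inv_rev, C.inv_Z hy₀.1.1, ← mul_assoc, mul_inv_cancel_right] at hm
        refine hne ((eq_inv_of_mul_eq_one_left (Consumers.eq_one_of_two_of_odd
          ((hv.odd_Om C).of_dvd_nat (orderOf_dvd_natCard _ hm)) (i := 1) ?_)).trans (C.inv_Z hy₀.1.1))
        rw [pow_one, sq, hcom.symm.mul_mul_mul_comm, C.mul_self_Z hx₀.1.1, C.mul_self_Z hy₀.1.1, one_mul]
      · exact ⟨e₁, he₁, he₁1, h1⟩
    · exact ⟨e₀, he₀, he₀1, h0⟩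
  have hex' : Commute e x := hE.commute C he hxE
  exact C.pairRank_L ⟨(hE.mem e he he1).1.1, (hE.mem e he he1).2.mul_right hex'⟩ ⟨hx.1.1, hc⟩ hex' hex

theorem mul_mul_Ea {v x : G} {a : C.Pt} (hx : x ∈ C.Ea v a) : v * x * x = v := by
  rw [mul_assoc, C.mul_self_Z hx.1.1, mul_one]

/-- The product with a member at a fixed point fixes as many points. -/
theorem Bad.qn_mul {v : G} (hv : C.Bad v) (hf : ∀ v : G, orderOf v = 2 → ∃ c : C.Pt, v • c ≠ c)
    (hp : PairRank ↥(C.L v)) {a : C.Pt} (ha : v • a = a) {x : G} (hx : x ∈ C.Ea v a) :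
    C.qn (v * x) a = C.qn v a := by
  have key : ∀ {v x : G}, C.Bad v → PairRank ↥(C.L v) → v • a = a → x ∈ C.Ea v a →
      C.qn v a ≤ C.qn (v * x) a := by
    intro v x hv hp ha hx
    obtain ⟨hv', -, -, -⟩ := hv.mul_Ea C hf hp ha hx
    obtain ⟨S, hS, -, hcen⟩ := hv.exists_reg_central C hp ha hx
    obtain ⟨b, hb, hvb⟩ := hv'.exists_other C a
    rw [← hv.card_reg C ha hS]
    refine Nat.card_le_card_of_injective
      (fun s : S => (⟨(s : G) • b, ?_, ?_⟩ : {c : C.Pt // (v * x) • c = c ∧ c ≠ a})) fun s t h => ?_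
    · rw [smul_smul, ← ((C.commute_of_mem_L (hS.le s.2)).mul_right (hcen s s.2)).eq, mul_smul, hvb]
    · exact fun h => hb (smul_left_cancel (s : G) (h.trans (hS.fix _ s.2).symm))
    · have h1 : (s : G) • b = (t : G) • b := congrArg Subtype.val h
      exact Subtype.ext (inv_mul_eq_one.1 (hv.reg_free C hS (mul_mem (inv_mem t.2) s.2) hb
        (by rw [mul_smul, h1, inv_smul_smul]))).symm
  obtain ⟨hv', ha', hx', hp'⟩ := hv.mul_Ea C hf hp ha hx
  refine le_antisymm ?_ (key hv hp ha hx)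
  have := key hv' hp' ha' hx'
  rwa [C.mul_mul_Ea hx] at this

theorem IsE.card_eq {v : G} {a : C.Pt} {E E' : Subgroup G} (hE : C.IsE v a E) (hE' : C.IsE v a E')
    (hv : C.Bad v) (hp : PairRank ↥(C.L v)) (ha : v • a = a) : Nat.card E = Nat.card E' :=
  le_antisymm (hE.card_le C hE' hv hp ha hE.mem) (hE'.card_le C hE hv hp ha hE'.mem)

/-- The product with a member at a fixed point has as many classes. -/
theorem Bad.card_E_mul {v : G} (hv : C.Bad v) (hf : ∀ v : G, orderOf v = 2 → ∃ c : C.Pt, v • c ≠ c)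
    (hp : PairRank ↥(C.L v)) {a : C.Pt} (ha : v • a = a) {x : G} (hx : x ∈ C.Ea v a)
    {E E' : Subgroup G} (hE : C.IsE v a E) (hE' : C.IsE (v * x) a E') : Nat.card E' = Nat.card E := by
  have key : ∀ {v x : G} {E E' : Subgroup G}, C.Bad v → PairRank ↥(C.L v) → v • a = a → x ∈ C.Ea v a →
      C.IsE v a E → C.IsE (v * x) a E' → Nat.card E ≤ Nat.card E' := by
    intro v x E E' hv hp ha hx hE hE'
    obtain ⟨hv', ha', hx', hp'⟩ := hv.mul_Ea C hf hp ha hx
    obtain ⟨E₀, hE₀, hxE⟩ := hv.exists_E C hp ha hx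
    rw [hE.card_eq C hE₀ hv hp ha]
    exact hE₀.card_le C hE' hv' hp' ha' fun e he hne =>
      ⟨(hE₀.mem e he hne).1, (hE₀.mem e he hne).2.mul_right (hE₀.commute C he hxE)⟩
  obtain ⟨hv', ha', hx', hp'⟩ := hv.mul_Ea C hf hp ha hx
  refine le_antisymm ?_ (key hv hp ha hx hE hE')
  refine key hv' hp' ha' hx' hE' ?_
  rwa [C.mul_mul_Ea hx]

/-- An element fixing the fixed points of `v` and centralising the member `x` fixes those of `v x`. -/
theorem Bad.fix_of_central {v : G} (hv : C.Bad v) (hf : ∀ v : G, orderOf v = 2 → ∃ c : C.Pt, v • c ≠ c)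
    (hp : PairRank ↥(C.L v)) {a : C.Pt} (ha : v • a = a) {x : G} (hx : x ∈ C.Ea v a) {o : G}
    (ho : o ∈ C.Om v) (hox : Commute o x) {c : C.Pt} (hc : (v * x) • c = c) : o • c = c := by
  haveI : Fact (Nat.Prime 2) := ⟨Nat.prime_two⟩
  by_cases hca : c = a
  · rw [hca]; exact (C.mem_Om.1 ho).2 a ha
  obtain ⟨hv', ha', -, -⟩ := hv.mul_Ea C hf hp ha hx
  obtain ⟨S, hS, -, hcen⟩ := hv.exists_reg_central C hp ha hx
  set D := C.Om v ⊓ centralizer {x}
  have hDv : ∀ d ∈ D, Commute d (v * x) := fun d hd =>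
    (C.commute_of_mem_L (C.mem_Om.1 hd.1).1).mul_right (mem_centralizer_singleton_iff.1 hd.2)
  have hSv : ∀ s ∈ S, Commute s (v * x) := fun s hs =>
    (C.commute_of_mem_L (hS.le hs)).mul_right (hcen s hs)
  have hnor : ∀ s ∈ S, ∀ d ∈ D, s * d * s⁻¹ ∈ D := fun s hs d hd =>
    ⟨C.conj_mem_Om (C.commute_of_mem_L (hS.le hs)) hd.1 (hS.le hs), mem_centralizer_singleton_iff.2
      (((hcen s hs).mul_left (mem_centralizer_singleton_iff.1 hd.2 : Commute d x)).mul_left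
        (hcen s hs).inv_left).eq⟩
  -- `S` is transitive on the other fixed points of `v x`
  have hsurj : Function.Surjective (fun s : S => (⟨(s : G) • c, by
      rw [smul_smul, ← (hSv s s.2).eq, mul_smul, hc],
      fun h => hca (smul_left_cancel (s : G) (h.trans (hS.fix _ s.2).symm))⟩ :
        {p : C.Pt // (v * x) • p = p ∧ p ≠ a})) := by
    refine (Function.Injective.bijective_of_nat_card_le (fun s t h => ?_) ?_).2
    · have h1 : (s : G) • c = (t : G) • c := congrArg Subtype.val h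
      exact Subtype.ext (inv_mul_eq_one.1 (hv.reg_free C hS (mul_mem (inv_mem t.2) s.2) hca
        (by rw [mul_smul, h1, inv_smul_smul]))).symm
    · rw [hv.card_reg C ha hS]
      exact (hv.qn_mul C hf hp ha hx).le
  have horb : ∀ d ∈ D, (v * x) • (d • c) = d • c ∧ d • c ≠ a := fun d hd =>
    ⟨by rw [smul_smul, ← (hDv d hd).eq, mul_smul, hc],
      fun h => hca (smul_left_cancel d (h.trans ((C.mem_Om.1 hd.1).2 a ha).symm))⟩
  let T : Subgroup G :=
    { carrier := {s | s ∈ S ∧ ∃ d ∈ D, d • c = s • c}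
      one_mem' := ⟨one_mem _, 1, one_mem _, rfl⟩
      mul_mem' := by
        rintro s t ⟨hs, d, hd, hdc⟩ ⟨ht, e, he, hec⟩
        refine ⟨mul_mem hs ht, s * e * s⁻¹ * d, mul_mem (hnor s hs e he) hd, ?_⟩
        rw [mul_smul, hdc, mul_smul s t, ← hec, mul_smul, mul_smul, inv_smul_smul]
      inv_mem' := by
        rintro s ⟨hs, d, hd, hdc⟩
        refine ⟨inv_mem hs, s⁻¹ * d⁻¹ * s, ?_, ?_⟩
        · simpa using hnor s⁻¹ (inv_mem hs) d⁻¹ (inv_mem hd)
        · rw [mul_smul, mul_smul, ← hdc, inv_smul_smul] }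
  have hT : Nat.card T = Nat.card {p : C.Pt // ∃ d ∈ D, d • c = p} := by
    refine Nat.card_congr (Equiv.ofBijective (fun s : T =>
      (⟨(s : G) • c, s.2.2⟩ : {p : C.Pt // ∃ d ∈ D, d • c = p})) ⟨fun s t h => ?_, ?_⟩)
    · have h1 : (s : G) • c = (t : G) • c := congrArg Subtype.val h
      exact Subtype.ext (inv_mul_eq_one.1 (hv.reg_free C hS (mul_mem (inv_mem t.2.1) s.2.1) hca
        (by rw [mul_smul, h1, inv_smul_smul]))).symm
    · rintro ⟨p, d, hd, rfl⟩
      obtain ⟨⟨s, hs⟩, e⟩ := hsurj ⟨d • c, horb d hd⟩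
      have e' : s • c = d • c := congrArg Subtype.val e
      exact ⟨⟨s, hs, d, hd, e'.symm⟩, Subtype.ext e'⟩
  have h1 : Nat.card {p : C.Pt // ∃ d ∈ D, d • c = p} ∣ Nat.card D :=
    ⟨_, (card_orbit_sub D c).symm⟩
  have hodd : Odd (Nat.card D) := (hv.odd_Om C).of_dvd_nat (card_dvd_of_le inf_le_left)
  have hone : Nat.card T = 1 := by
    obtain ⟨l, hl⟩ := IsPGroup.iff_card.1 (hS.two.to_le (show T ≤ S from fun s hs => hs.1))
    refine Nat.eq_one_of_dvd_coprimes (((Nat.coprime_two_left.2 hodd).pow_left l)) ?_ (hT ▸ h1)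
    rw [hl]
  rw [hT] at hone
  haveI := (Nat.card_eq_one_iff_unique.1 hone).1
  exact congrArg Subtype.val (Subsingleton.elim
    (⟨o • c, o, ⟨ho, mem_centralizer_singleton_iff.2 hox.eq⟩, rfl⟩ : {p : C.Pt // ∃ d ∈ D, d • c = p})
    ⟨c, 1, one_mem _, one_smul _ c⟩)

/-! ### The members at a fixed point -/

/-- The members at `a` outside `Cross` are split by their middle members. -/
theorem Bad.card_Za_eq {v : G} (hv : C.Bad v) (hf : ∀ v : G, orderOf v = 2 → ∃ c : C.Pt, v • c ≠ c)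
    {a : C.Pt} (ha : v • a = a) :
    Nat.card (C.Za a) =
      Nat.card (Σ e : C.Ea v a, C.cls (v * e.1) a e.1) + Nat.card (C.Cross v a) := by
  classical
  have key : ∀ {e s : G}, e ∈ C.Ea v a → s ∈ C.cls (v * e) a e →
      (s * v) ^ (orderOf (s * v) / 2) = v * e := by
    intro e s he hs
    obtain ⟨⟨hsZ, hsve⟩, hodd⟩ := hs
    have hve : v * e * (v * e) = 1 := by
      rw [he.2.mul_mul_mul_comm, mul_self_eq_one hv.1, C.mul_self_Z he.1.1, one_mul]
    have hb := hv.mul_bad C (hf v hv.1) ⟨he.1.1, he.2⟩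
    have e1 : s * v = s * e * (v * e) := by
      rw [show s * e * (v * e) = s * (e * v) * e by group, he.2.eq, mul_assoc, mul_assoc v e e,
        C.mul_self_Z he.1.1, mul_one]
    have hcm : Commute (s * e) (v * e) := hsve.mul_left (he.2.mul_right (Commute.refl e))
    have hse : Odd (orderOf (s * e)) := by
      rwa [← mul_inv_rev_invol (C.orderOf_Z he.1.1) (C.orderOf_Z hsZ.1), orderOf_inv]
    have hord : orderOf (s * v) = orderOf (s * e) * 2 := by
      rw [e1, hcm.orderOf_mul_eq_mul_orderOf_of_coprime (by rw [hb.1]; exact Nat.coprime_two_right.2 hse),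
        hb.1]
    rw [hord, Nat.mul_div_cancel _ two_pos, e1, hcm.mul_pow, pow_orderOf_eq_one, one_mul]
    obtain ⟨l, hl⟩ := hse
    rw [hl, pow_succ, pow_mul, sq, hve, one_pow, one_mul]
  have hcomp : ∀ (e : C.Ea v a) (s : C.cls (v * e.1) a e.1),
      (⟨s.1, s.2.1.1⟩ : C.Za a).1 ∉ C.Cross v a := by
    intro e s h
    have h2 := h.2
    rw [key e.2 s.2] at h2
    exact (hv.mul_bad C (hf v hv.1) ⟨e.2.1.1, e.2.2⟩).not_mem_Z C h2
  let F : (Σ e : C.Ea v a, C.cls (v * e.1) a e.1) ⊕ C.Cross v a → C.Za a :=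
    Sum.elim (fun p => ⟨p.2.1, p.2.2.1.1⟩) fun s => ⟨s.1, s.2.1⟩
  rw [← Nat.card_sum, Nat.card_congr (Equiv.ofBijective F ⟨?_, ?_⟩)]
  · rintro (⟨e, s⟩ | s) (⟨e', s'⟩ | s') h
    · obtain ⟨e, he⟩ := e
      obtain ⟨e', he'⟩ := e'
      obtain ⟨s, hs⟩ := s
      obtain ⟨s', hs'⟩ := s'
      obtain rfl : s = s' := congrArg Subtype.val h
      obtain rfl : e = e' := mul_left_cancel ((key he hs).symm.trans (key he' hs'))
      rfl
    · have h1 : s.1 = s'.1 := congrArg Subtype.val h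
      exact absurd (h1 ▸ s'.2) (hcomp e s)
    · have h1 : s.1 = s'.1 := congrArg Subtype.val h
      exact absurd (h1 ▸ s.2) (hcomp e' s')
    · exact congrArg Sum.inr (Subtype.ext (congrArg (fun t : C.Za a => t.1) h))
  · rintro ⟨s, hs⟩
    by_cases hsC : s ∈ C.Cross v a
    · exact ⟨Sum.inr ⟨s, hsC⟩, rfl⟩
    have hs2 := C.orderOf_Z hs.1
    have hev : Even (orderOf (s * v)) := even_orderOf_mul_of_not_isConj hs2 hv.1
      fun h => hv.not_mem_Z C (IsConj.trans hs.1 h)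
    obtain ⟨hi, his, hiv⟩ := half_props hs2 hv.1 hev
    obtain ⟨l, hl⟩ := hev
    have hl' : orderOf (s * v) / 2 = l := by omega
    have hiZ : (s * v) ^ l ∉ C.Z := fun h => hsC ⟨hs, by rwa [hl']⟩
    rw [hl'] at hi his hiv
    set i := (s * v) ^ l with hidef
    have hia : i • a = a := C.smul_eq_of_commute_Z hs.1 his.symm hs.2
    have hib : C.Bad i := (C.mem_Z_or_bad hf hi).resolve_left hiZ
    rcases Nat.even_or_odd l with ⟨k, hk⟩ | ⟨k, hk⟩
    · refine absurd (hib.mem_Z_of_mem_L C ?_ hi) (hib.not_mem_Z C)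
      have hi2 : i = (s * (v * s * v⁻¹)) ^ k := by
        rw [hidef, hk, ← two_mul, pow_mul, sq, inv_eq_self hv.1]
        simp only [mul_assoc]
      have hmem : s * (v * s * v⁻¹) ∈ C.L i := by
        refine mul_mem (C.mem_L hs.1 his.symm) (C.mem_L (C.conj_mem_Z hs.1 v) ?_)
        have := (Commute.conj_iff v).2 his.symm
        rwa [show v * i * v⁻¹ = i from mul_inv_eq_iff_eq_mul.2 hiv.eq.symm] at this
      nth_rw 2 [hi2]
      exact pow_mem hmem k
    · have heZ : v * i ∈ C.Z := by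
        have hli : (v * s) ^ l = i := by
          rw [← mul_inv_rev_invol hs2 hv.1, inv_pow, ← hidef, inv_eq_self hi]
        rw [← hli, hk, ← zpow_natCast, show ((2 * k + 1 : ℕ) : ℤ) = 2 * (k : ℤ) + 1 by push_cast; ring,
          mul_zpow_odd hv.1 hs2]
        exact C.conj_mem_Z hs.1 _
      have hvi : v * (v * i) = i := by rw [← mul_assoc, mul_self_eq_one hv.1, one_mul]
      refine ⟨Sum.inl ⟨⟨v * i, ⟨heZ, by rw [mul_smul, hia, ha]⟩, (Commute.refl v).mul_left hiv⟩,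
        ⟨s, ⟨hs, ?_⟩, ?_⟩⟩, rfl⟩
      · show Commute s (v * (v * i))
        rw [hvi]
        exact his.symm
      · have hse : (s * (v * i)) ^ l = 1 := by
          rw [← mul_assoc, hidef, ← pow_succ', ← pow_mul]
          refine orderOf_dvd_iff_pow_eq_one.1 ⟨k + 1, ?_⟩
          rw [hl, hk]; ring
        show Odd (orderOf (v * i * s))
        rw [← mul_inv_rev_invol hs2 (C.orderOf_Z heZ), orderOf_inv]
        exact (show Odd l from ⟨k, hk⟩).of_dvd_nat (orderOf_dvd_of_pow_eq_one hse)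

/-! ### The count -/

/-- The swappers of `c` and `v c` centralising `v`. -/
def CX (v : G) (c : C.Pt) : Set G := {w | w ∈ C.X c (v • c) ∧ Commute w v}

/-- The members at `a` in terms of a moved point of `v`: each centralising swapper gives as many as
the product of `v` with a member at `a` has. -/
theorem Bad.card_Za_eq_mul {v : G} (hv : C.Bad v) {a : C.Pt} {x : G} (hx : x ∈ C.Ea v a) {c : C.Pt}
    (hc : v • c ≠ c) (hf : ∀ v : G, orderOf v = 2 → ∃ c : C.Pt, v • c ≠ c) :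
    Nat.card (C.Za a) = Nat.card (C.CX v c) * Nat.card (C.Ea (v * x) a) := by
  classical
  haveI := Fintype.ofFinite {w : C.X c (v • c) // Commute w.1 v}
  rw [C.card_Za a, ← C.card_Za c, C.card_Za_eq_sum hv hc, Nat.card_sigma,
    Finset.sum_congr rfl (fun w _ => (?_ : _ = Nat.card (C.Ea (v * x) a))), Finset.sum_const,
    Finset.card_univ, smul_eq_mul, ← Nat.card_eq_fintype_card]
  · congr 1
    exact Nat.card_congr
      { toFun := fun w => ⟨w.1.1, w.1.2, w.2⟩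
        invFun := fun w => ⟨⟨w.1, w.2.1⟩, w.2.2⟩
        left_inv := fun _ => rfl
        right_inv := fun _ => rfl }
  · obtain ⟨p, hp⟩ := C.exists_fix w.1.2.1
    obtain ⟨g, -, hga, -, hgvw⟩ := hv.exists_carry C ⟨w.1.2.1, w.2⟩ hp hx
    have hvp : v • p = p := C.smul_eq_of_commute_Z w.1.2.1 w.2 hp
    have hvwc : (v * w.1.1) • c = c := by
      rw [mul_smul, w.1.2.2, smul_smul, mul_self_eq_one hv.1, one_smul]
    have e1 : Nat.card {y : C.Za c // Commute y.1 (v * w.1.1)} = Nat.card (C.Ea (v * w.1.1) c) :=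
      Nat.card_congr
        { toFun := fun y => ⟨y.1.1, y.1.2, y.2⟩
          invFun := fun y => ⟨⟨y.1, y.2.1⟩, y.2.2⟩
          left_inv := fun _ => rfl
          right_inv := fun _ => rfl }
    rw [e1, ← hgvw, ← hga, C.card_Ea_conj]
    exact (hv.mul_bad C (hf v hv.1) ⟨w.1.2.1, w.2⟩).card_Ea_eq C
      (by rw [mul_smul, hp, hvp]) hvwc

/-- Incidences of the centralising swappers with the moved points. -/
theorem Bad.sum_CX {v : G} (hv : C.Bad v) (hf : ∀ v : G, orderOf v = 2 → ∃ c : C.Pt, v • c ≠ c)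
    (hp : PairRank ↥(C.L v)) {a : C.Pt} (ha : v • a = a) {x : G} (hx : x ∈ C.Ea v a) :
    Nat.card (Σ c : {c : C.Pt // v • c ≠ c}, C.CX v c.1) =
      C.fn v * Nat.card (C.Ea v a) * C.qn v a := by
  classical
  have hZC : Nat.card (C.ZC v) = C.fn v * Nat.card (C.Ea v a) := by
    haveI := Fintype.ofFinite {p : C.Pt // v • p = p}
    have e : (Σ p : {p : C.Pt // v • p = p}, C.Ea v p.1) ≃ C.ZC v :=
      Equiv.ofBijective (fun t => ⟨t.2.1, t.2.2.1.1, t.2.2.2⟩) ⟨by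
        rintro ⟨⟨p, hp⟩, y, hy⟩ ⟨⟨p', hp'⟩, y', hy'⟩ h
        obtain rfl : y = y' := congrArg Subtype.val h
        obtain rfl := C.fix_unique hy.1.1 hy.1.2 hy'.1.2
        rfl, fun y => by
        obtain ⟨p, hp⟩ := C.exists_fix y.2.1
        exact ⟨⟨⟨p, C.smul_eq_of_commute_Z y.2.1 y.2.2 hp⟩, y.1, ⟨y.2.1, hp⟩, y.2.2⟩, rfl⟩⟩
    rw [← Nat.card_congr e, Nat.card_sigma,
      Finset.sum_congr rfl (fun p _ => hv.card_Ea_eq C ha p.2), Finset.sum_const, Finset.card_univ,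
      smul_eq_mul, fn, ← Nat.card_eq_fintype_card]
  haveI := Fintype.ofFinite (C.ZC v)
  have e : (Σ c : {c : C.Pt // v • c ≠ c}, C.CX v c.1) ≃
      (Σ w : C.ZC v, {c : C.Pt // v • c ≠ c ∧ w.1 • c = v • c}) :=
    { toFun := fun t => ⟨⟨t.2.1, t.2.2.1.1, t.2.2.2⟩, t.1.1, t.1.2, t.2.2.1.2⟩
      invFun := fun t => ⟨⟨t.2.1, t.2.2.1⟩, t.1.1, ⟨t.1.2.1, t.2.2.2⟩, t.1.2.2⟩
      left_inv := fun _ => rfl
      right_inv := fun _ => rfl }
  rw [Nat.card_congr e, Nat.card_sigma,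
    Finset.sum_congr rfl (fun w _ => (?_ : _ = C.qn v a)), Finset.sum_const, Finset.card_univ,
    smul_eq_mul, ← Nat.card_eq_fintype_card, hZC]
  obtain ⟨w, hwZ, hwv⟩ := w
  obtain ⟨p, hwp⟩ := C.exists_fix hwZ
  have hvp : v • p = p := C.smul_eq_of_commute_Z hwZ hwv hwp
  obtain ⟨g, -, hga, -, hgvw⟩ := hv.exists_carry C ⟨hwZ, hwv⟩ hwp hx
  rw [← hv.qn_mul C hf hp ha hx, ← hgvw, ← hga, C.qn_conj]
  refine Nat.card_congr (Equiv.subtypeEquivRight fun c => ⟨fun ⟨h1, h2⟩ =>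
    ⟨?_, fun h => h1 (h ▸ hvp)⟩, fun ⟨h1, h2⟩ => ?_⟩)
  · show (v * w) • c = c
    rw [mul_smul, h2, smul_smul, mul_self_eq_one hv.1, one_smul]
  · rw [mul_smul] at h1
    have h3 : w • c = v • c := by
      calc w • c = v • v • w • c := by rw [smul_smul v v, mul_self_eq_one hv.1, one_smul]
        _ = v • c := by rw [h1]
    exact ⟨fun h => h2 (C.fix_unique hwZ (h3.trans h) hwp), h3⟩

/-- The count at a bad involution. -/
theorem Bad.count {v : G} (hv : C.Bad v) (hf : ∀ v : G, orderOf v = 2 → ∃ c : C.Pt, v • c ≠ c)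
    (hp : PairRank ↥(C.L v)) {a : C.Pt} (ha : v • a = a) {x : G} (hx : x ∈ C.Ea v a)
    {E : Subgroup G} (hE : C.IsE v a E) {c : C.Pt} (hc : v • c ≠ c) :
    (Nat.card C.Pt - C.fn v) * Nat.card (C.CX v c) =
        C.fn v * ((Nat.card E - 1) * Nat.card (C.cls v a x)) * C.qn v a ∧
      Nat.card (C.CX v c) * ((Nat.card E - 1) * Nat.card (C.cls (v * x) a x)) =
        (Nat.card E - 1) * Nat.card (C.cls v a x) * Nat.card (C.cls (v * x) a x) +
          Nat.card (C.Cross v a) := by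
  classical
  obtain ⟨hv', ha', hx', hp'⟩ := hv.mul_Ea C hf hp ha hx
  obtain ⟨E', hE', -⟩ := hv'.exists_E C hp' ha' hx'
  have hk := hv.card_Ea C hp ha hx hE
  have hk' : Nat.card (C.Ea (v * x) a) = (Nat.card E - 1) * Nat.card (C.cls (v * x) a x) := by
    rw [hv'.card_Ea C hp' ha' hx' hE', hv.card_E_mul C hf hp ha hx hE hE']
  have hm := hv.card_Za_eq_mul C hx hc hf
  constructor
  · haveI := Fintype.ofFinite {c : C.Pt // v • c ≠ c}
    have hr : ∀ d : {d : C.Pt // v • d ≠ d}, Nat.card (C.CX v d.1) = Nat.card (C.CX v c) := fun d => by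
      have h := (hv.card_Za_eq_mul C hx d.2 hf).symm.trans hm
      refine Nat.eq_of_mul_eq_mul_right ?_ h
      haveI : Nonempty (C.Ea (v * x) a) := ⟨⟨x, hx'⟩⟩
      exact Nat.card_pos
    have h1 := hv.sum_CX C hf hp ha hx
    rw [Nat.card_sigma, Finset.sum_congr rfl (fun d _ => hr d), Finset.sum_const, Finset.card_univ,
      smul_eq_mul, ← Nat.card_eq_fintype_card, hk] at h1
    rw [← h1]
    congr 1
    haveI := Fintype.ofFinite C.Pt
    rw [fn, Nat.card_eq_fintype_card, Nat.card_eq_fintype_card, Nat.card_eq_fintype_card,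
      Fintype.card_subtype_compl]
  · rw [← hk', ← hm, hv.card_Za_eq C hf ha]
    congr 1
    haveI := Fintype.ofFinite (C.Ea v a)
    rw [Nat.card_sigma, Finset.sum_congr rfl (fun e _ =>
      (?_ : _ = Nat.card (C.cls (v * x) a x))), Finset.sum_const, Finset.card_univ, smul_eq_mul,
      ← Nat.card_eq_fintype_card, hk]
    obtain ⟨g, hg, hga, hge, hgve⟩ := hv.exists_carry C ⟨e.2.1.1, e.2.2⟩ e.2.1.2 hx
    calc Nat.card (C.cls (v * e.1) a e.1)
        = Nat.card (C.cls (g * (v * e.1) * g⁻¹) (g • a) (g * e.1 * g⁻¹)) := (C.card_cls_conj g _ a _).symm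
      _ = Nat.card (C.cls (v * x) a x) := by rw [hgve, hga, hge]

theorem Bad.card_cls_pos {v : G} {a : C.Pt} {x : G} (hx : x ∈ C.Ea v a) :
    0 < Nat.card (C.cls v a x) := by
  haveI : Nonempty (C.cls v a x) := ⟨⟨x, hx, by rw [C.mul_self_Z hx.1.1, orderOf_one]; exact odd_one⟩⟩
  exact Nat.card_pos

theorem Bad.one_lt_E {v : G} {a : C.Pt} {x : G} (hx : x ∈ C.Ea v a) {E : Subgroup G}
    (hE : C.IsE v a E) : 1 < Nat.card E := by
  obtain ⟨e, he, hne, -⟩ := hE.cover x hx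
  exact Finite.one_lt_card_iff_nontrivial.2 ⟨⟨⟨e, he⟩, 1, fun h => hne (congrArg Subtype.val h)⟩⟩

/-- Without crossing members all is determined. -/
theorem Bad.count_of_cross_empty {v : G} (hv : C.Bad v) (hf : ∀ v : G, orderOf v = 2 → ∃ c : C.Pt, v • c ≠ c)
    (hp : PairRank ↥(C.L v)) {a : C.Pt} (ha : v • a = a) {x : G} (hx : x ∈ C.Ea v a)
    {E : Subgroup G} (hE : C.IsE v a E) (h0 : C.Cross v a = ∅) :
    Nat.card C.Pt = C.qn v a + 1 + (C.qn v a + 1) * (Nat.card E - 1) * C.qn v a := by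
  obtain ⟨c, hc⟩ := hf v hv.1
  obtain ⟨h1, h2⟩ := hv.count C hf hp ha hx hE hc
  have hj := Bad.card_cls_pos C hx
  have hj' := Bad.card_cls_pos C (hv.mul_Ea C hf hp ha hx).2.2.1
  have hq := Bad.one_lt_E C hx hE
  have h3 : Nat.card (C.Cross v a) = 0 := by rw [h0]; exact Nat.card_of_isEmpty
  rw [h3, add_zero, mul_comm (Nat.card E - 1) (Nat.card (C.cls v a x)), mul_assoc,
    Nat.mul_right_cancel_iff (Nat.mul_pos (by omega) hj')] at h2
  rw [h2, show C.fn v * ((Nat.card E - 1) * Nat.card (C.cls v a x)) * C.qn v a =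
      C.fn v * (Nat.card E - 1) * C.qn v a * Nat.card (C.cls v a x) by ring,
    Nat.mul_right_cancel_iff hj, C.fn_eq ha] at h1
  have h4 : C.qn v a + 1 ≤ Nat.card C.Pt := C.fn_eq ha ▸ Finite.card_subtype_le _
  omega

/-- The orbit lengths at a moved point `c`, for a centralising swapper `w` of `c` and `v c` fixing `p`:
`r i = j d`, where `d` is the orbit length of `p` under the stabiliser of `c` in the local group and
`i` that of `c` under the elements fixing all fixed points. -/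
theorem Bad.orbit_data_at {v : G} (hv : C.Bad v) (hf : ∀ v : G, orderOf v = 2 → ∃ c : C.Pt, v • c ≠ c)
    (hp : PairRank ↥(C.L v)) {a : C.Pt} {x : G} (hx : x ∈ C.Ea v a) {c : C.Pt}
    (hc : v • c ≠ c) {w : G} (hwX : w ∈ C.CX v c) {p : C.Pt} (hp' : w • p = p) :
    ∃ i : ℕ, 0 < i ∧
      Nat.card {q : C.Pt // ∃ y ∈ C.L v ⊓ MulAction.stabilizer G c, y • p = q} ≤ C.fn v ∧
      Nat.card (C.CX v c) * i = Nat.card (C.cls v a x) *
        Nat.card {q : C.Pt // ∃ y ∈ C.L v ⊓ MulAction.stabilizer G c, y • p = q} ∧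
      (i = 1 → ∀ o ∈ C.Om v, o • c = c) := by
  have hvv := mul_self_eq_one hv.1
  obtain ⟨hw, hwv⟩ := hwX
  have hvp : v • p = p := C.smul_eq_of_commute_Z hw.1 hwv hp'
  have hwE : w ∈ C.Ea v p := ⟨⟨hw.1, hp'⟩, hwv⟩
  set Y := C.L v ⊓ MulAction.stabilizer G c with hY
  set U := Y ⊓ MulAction.stabilizer G p with hU
  set B := C.Om v ⊓ MulAction.stabilizer G c with hB
  set A := Y ⊓ centralizer {w} with hA
  set CO := C.Om v ⊓ centralizer {w} with hCO
  have hCOc : ∀ o ∈ CO, o • c = c := fun o ho => hv.fix_of_central C hf hp hvp hwE ho.1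
    (mem_centralizer_singleton_iff.1 ho.2) (by rw [mul_smul, hw.2, smul_smul, hvv, one_smul])
  have hYc : ∀ y ∈ Y, y • c = c ∧ y • (v • c) = v • c := fun y hy =>
    ⟨hy.2, by rw [smul_smul, (C.commute_of_mem_L hy.1).eq, mul_smul, hy.2]⟩
  have hwL : w ∈ C.L v := C.mem_L hw.1 hwv
  have hconjY : ∀ w' ∈ C.CX v c, ∃ y ∈ Y, y * w * y⁻¹ = w' ∧ y ∈ Subgroup.zpowers (w * w') := by
    rintro w' ⟨hw', hwv'⟩
    obtain ⟨l, hl⟩ := C.odd_mul_swap (Ne.symm hc) hw hw'
    have hxx := C.mul_self_Z hw.1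
    have hcc := conj_mul_inv (C.orderOf_Z hw.1) (C.orderOf_Z hw'.1)
    have hmY : w * w' ∈ Y := ⟨mul_mem hwL (C.mem_L hw'.1 hwv'), by
      show (w * w') • c = c
      rw [mul_smul, hw'.2, (C.X_symm hw).2]⟩
    refine ⟨(w * w') ^ ((l : ℕ) : ℤ), zpow_mem hmY _, ?_, ⟨_, rfl⟩⟩
    rw [zpow_conj_invol hxx hcc]
    calc w * (w * w') ^ (-(2 * (l : ℤ))) = w * (w * w') ^ (1 : ℤ) := by
            congr 1
            rw [zpow_eq_zpow_iff_modEq, hl, Int.modEq_iff_dvd]
            exact ⟨1, by push_cast; ring⟩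
        _ = w' := by rw [zpow_one, ← mul_assoc, hxx, one_mul]
  have hmemCX : ∀ y ∈ Y, y * w * y⁻¹ ∈ C.CX v c := fun y hy => by
    refine ⟨?_, ((C.commute_of_mem_L hy.1).mul_left hwv).mul_left (C.commute_of_mem_L hy.1).inv_left⟩
    have := C.conj_mem_X (g := y) hw
    rwa [(hYc y hy).1, (hYc y hy).2] at this
  have hr : Nat.card (C.CX v c) * Nat.card A = Nat.card Y := by
    rw [← card_conj_sub Y w]
    congr 1
    exact Nat.card_congr (Equiv.subtypeEquivRight fun w' =>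
      ⟨fun h => let ⟨y, hy, e, _⟩ := hconjY w' h; ⟨y, hy, e⟩, fun ⟨y, hy, e⟩ => e ▸ hmemCX y hy⟩)
  have hUA : U ⊓ centralizer {w} = A := by
    refine le_antisymm (fun y hy => ⟨hy.1.1, hy.2⟩) fun y hy => ⟨⟨hy.1, ?_⟩, hy.2⟩
    show y • p = p
    exact C.smul_eq_of_commute_Z hw.1 (mem_centralizer_singleton_iff.1 hy.2).symm hp'
  have hBU : B ≤ U := fun o ho =>
    ⟨⟨(C.mem_Om.1 ho.1).1, ho.2⟩, (C.mem_Om.1 ho.1).2 p hvp⟩
  have hBC : B ⊓ centralizer {w} = CO :=
    le_antisymm (fun o ho => ⟨ho.1.1, ho.2⟩) fun o ho => ⟨⟨ho.1, hCOc o ho⟩, ho.2⟩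
  have hclass : Nat.card {w' : G // ∃ u ∈ U, u * w * u⁻¹ = w'} =
      Nat.card {w' : G // ∃ o ∈ B, o * w * o⁻¹ = w'} := by
    refine Nat.card_congr (Equiv.subtypeEquivRight fun w' => ⟨?_, fun ⟨o, ho, e⟩ => ⟨o, hBU ho, e⟩⟩)
    rintro ⟨u, hu, rfl⟩
    have hCX := hmemCX u hu.1
    have hE' : u * w * u⁻¹ ∈ C.Ea v p := by
      have := C.conj_mem_Ea_L hu.1.1 hwE
      rwa [show u • p = p from hu.2] at this
    have hodd := C.odd_mul_swap (Ne.symm hc) hw hCX.1
    have hm : w * (u * w * u⁻¹) ∈ B := ⟨(hv.odd_iff C hp hvp hwE hE').1 hodd, by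
      show (w * (u * w * u⁻¹)) • c = c
      rw [mul_smul, hCX.1.2, (C.X_symm hw).2]⟩
    obtain ⟨y, -, hy, hyz⟩ := hconjY _ hCX
    exact ⟨y, zpowers_le.2 hm hyz, hy⟩
  have h1 := card_conj_sub U w
  have h2 := card_conj_sub B w
  rw [hclass, hUA] at h1
  rw [hBC] at h2
  have h3 := card_orbit_sub Y p
  have h4 := card_orbit_sub (C.Om v) c
  have h5 : Nat.card (C.cls v a x) * Nat.card CO = Nat.card (C.Om v) := by
    obtain ⟨g, hg, hga, hge, -⟩ := hv.exists_carry C ⟨hw.1, hwv⟩ hp' hx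
    have h := C.card_cls_conj g v p w
    rw [C.L_conj_eq hg, hga, hge] at h
    rw [h, ← card_conj_sub (C.Om v) w, hv.cls_eq C hp hvp hwE]
    rfl
  set r := Nat.card (C.CX v c)
  set cB := Nat.card {w' : G // ∃ o ∈ B, o * w * o⁻¹ = w'}
  set d := Nat.card {q : C.Pt // ∃ y ∈ Y, y • p = q}
  set i := Nat.card {q : C.Pt // ∃ o ∈ C.Om v, o • c = q}
  refine ⟨i, ?_, ?_, ?_, fun hi o ho => ?_⟩
  · haveI : Nonempty {q : C.Pt // ∃ o ∈ C.Om v, o • c = q} := ⟨⟨c, 1, one_mem _, one_smul _ c⟩⟩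
    exact Nat.card_pos
  · refine Nat.card_le_card_of_injective (fun q => (⟨q.1, ?_⟩ : {q : C.Pt // v • q = q})) fun q q' h =>
      Subtype.ext (congrArg (fun t : {q : C.Pt // v • q = q} => t.1) h)
    obtain ⟨y, hy, e⟩ := q.2
    rw [← e, smul_smul, ← (C.commute_of_mem_L hy.1).eq, mul_smul, hvp]
  · have hrd : r = d * cB := Nat.eq_of_mul_eq_mul_right (Nat.card_pos (α := A)) (by
      rw [hr, ← h3, mul_assoc, h1])
    refine Nat.eq_of_mul_eq_mul_right (Nat.card_pos (α := CO)) ?_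
    rw [hrd, show d * cB * i * Nat.card CO = d * (i * (cB * Nat.card CO)) by ring, h2, h4, ← h5]
    ring
  · haveI := (Nat.card_eq_one_iff_unique.1 hi).1
    exact congrArg Subtype.val (Subsingleton.elim
      (⟨o • c, o, ho, rfl⟩ : {q : C.Pt // ∃ o ∈ C.Om v, o • c = q}) ⟨c, 1, one_mem _, one_smul _ c⟩)

/-- The orbit lengths at a moved point: `r i = j d` with `d` at most the number of fixed points and
`i` the length of the orbit of the elements fixing all fixed points. -/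
theorem Bad.orbit_data {v : G} (hv : C.Bad v) (hf : ∀ v : G, orderOf v = 2 → ∃ c : C.Pt, v • c ≠ c)
    (hp : PairRank ↥(C.L v)) {a : C.Pt} (_ha : v • a = a) {x : G} (hx : x ∈ C.Ea v a) {c : C.Pt}
    (hc : v • c ≠ c) :
    ∃ d i : ℕ, 0 < i ∧ d ≤ C.fn v ∧ Nat.card (C.CX v c) * i = Nat.card (C.cls v a x) * d ∧
      (i = 1 → ∀ o ∈ C.Om v, o • c = c) := by
  have hvv := mul_self_eq_one hv.1
  obtain ⟨w, hw, hwv⟩ := C.exists_swap_commute hvv (Ne.symm hc)
    (Or.inr ⟨rfl, by rw [smul_smul, hvv, one_smul]⟩)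
  obtain ⟨p, hp'⟩ := C.exists_fix hw.1
  obtain ⟨i, h⟩ := hv.orbit_data_at C hf hp hx hc ⟨hw, hwv⟩ hp'
  exact ⟨_, i, h⟩

end Ctx

end CfsgLib.Criterion
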