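import Cfsg.Agent.Criterion.Orbit
import Cfsg.Agent.Criterion.Abelian

/-!
# The strong embedding criterion: the family of a crossed bad involution

The conjugates of a crossed bad involution at a largest two-point stabiliser with `Q = q` form a
family in the sense of `Ctx.Fam`, and the members at a point are `q ^ 2 - 1` in number.
-/

set_option autoImplicit false
set_option linter.style.haveILetI false
set_option linter.unusedSectionVars false

namespace CfsgLib.Criterion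

open Subgroup CfsgLib.Invol CfsgLib.Bender

universe u

variable {G : Type u} [Group G] [Finite G]

namespace Ctx

variable (C : Ctx G)

/-- The data of the case with a crossing member. -/
theorem Bad.case_one {v : G} (hv : C.Bad v) (hf : ∀ v : G, orderOf v = 2 → ∃ c : C.Pt, v • c ≠ c)
    (hfaith : ∀ g : G, (∀ c : C.Pt, g • c = c) → g = 1) (hp : PairRank ↥(C.L v)) {a b : C.Pt}
    {D : Subgroup G} (hM : C.MaxPair v a b D) {E : Subgroup G} (hE : C.IsE v a E)
    (hne : (C.Cross v a).Nonempty) (hQ : C.qn v a = Nat.card E) :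
    Nat.card C.Pt = Nat.card E ^ 2 + 1 ∧ Nat.card (C.Za a) = Nat.card E ^ 2 - 1 ∧
      Nat.card (C.EZ v a) = Nat.card E - 1 ∧ C.fixKer v = ⊥ ∧
        C.Fam {u | ∃ g : G, g * v * g⁻¹ = u} := by
  have ha := (hM.fix v hM.mem).1
  obtain ⟨x, hx, hxv⟩ := C.exists_commute_at (mul_self_eq_one hv.1) ha
  have hxE : x ∈ C.Ea v a := ⟨hx, hxv⟩
  obtain ⟨c, hc⟩ := hf v hv.1
  obtain ⟨hn, hO⟩ := hv.regular_of_cross C hf hp hM hE hne hQ
  have hq := Bad.one_lt_E C hxE hE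
  have hsingle : ∀ {w : G}, C.Bad w → PairRank ↥(C.L w) → w • a = a →
      (∀ o ∈ C.Om w, ∀ d : C.Pt, o • d = d) → ∀ {y : G}, y ∈ C.Ea w a → Nat.card (C.cls w a y) = 1 := by
    intro w hw hpw haw hOw y hy
    refine Nat.card_eq_one_iff_unique.2 ⟨⟨fun s t => Subtype.ext ?_⟩,
      ⟨⟨y, hy, by rw [C.mul_self_Z hy.1.1, orderOf_one]; exact odd_one⟩⟩⟩
    have key : ∀ s : C.cls w a y, y = s.1 := fun s => by
      have h := hfaith _ (hOw _ ((hw.odd_iff C hpw haw hy s.2.1).1 s.2.2))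
      exact (eq_inv_of_mul_eq_one_left h).trans (C.inv_Z s.2.1.1.1)
    exact (key s).symm.trans (key t)
  have hj := hsingle hv hp ha hO hxE
  have hk : Nat.card (C.EZ v a) = Nat.card E - 1 := by
    rw [show C.EZ v a = C.Ea v a from rfl, hv.card_Ea C hp ha hxE hE, hj, mul_one]
  obtain ⟨s, hs⟩ := hne
  obtain ⟨h, hha, hhv⟩ := hv.exists_conj_mul C hf ha hs hxE
  have hk' : Nat.card (C.Ea (v * x) a) = Nat.card E - 1 := by
    rw [← hhv]
    conv_lhs => rw [← hha, C.card_Ea_conj]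
    exact hk
  have hm := hv.card_Za_eq_mul C hxE hc hf
  obtain ⟨h1, -⟩ := hv.count C hf hp ha hxE hE hc
  rw [C.fn_eq ha, hQ, hn, hj, mul_one] at h1
  have hr : Nat.card (C.CX v c) = Nat.card E + 1 := by
    generalize Nat.card E = q at *
    generalize Nat.card (C.CX v c) = r at *
    have h2 : q ^ 2 + 1 - (q + 1) = q * (q - 1) := by
      rw [Nat.mul_sub_one, sq]; omega
    rw [h2] at h1
    refine Nat.eq_of_mul_eq_mul_left (Nat.mul_pos (by omega) (by omega) : 0 < q * (q - 1)) ?_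
    rw [h1]; ring
  have hZa : Nat.card (C.Za a) = (Nat.card E + 1) * (Nat.card E - 1) := by rw [hm, hr, hk']
  have hconjEZ : ∀ (g : G) (p : C.Pt), v • p = p →
      Nat.card (C.EZ (g * v * g⁻¹) (g • p)) = Nat.card E - 1 := fun g p hp' => by
    rw [show C.EZ (g * v * g⁻¹) (g • p) = C.Ea (g * v * g⁻¹) (g • p) from rfl, C.card_Ea_conj,
      hv.card_Ea_eq C ha hp']
    exact hk
  have hfix : ∀ (g : G) (p : C.Pt), (g * v * g⁻¹) • p = p → v • (g⁻¹ • p) = g⁻¹ • p := fun g p hp' => by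
    calc v • g⁻¹ • p = g⁻¹ • ((g * v * g⁻¹) • p) := by rw [mul_smul, mul_smul, inv_smul_smul]
      _ = g⁻¹ • p := by rw [hp']
  have hker : C.fixKer v = ⊥ := (eq_bot_iff_forall _).2 fun o ho =>
    Subtype.ext (hfaith _ (hO _ ⟨o, ho, rfl⟩))
  refine ⟨hn, by rw [hZa, ← Nat.sq_sub_sq, one_pow], hk, hker, ⟨hf, ?_, ?_, ?_, ?_, ?_⟩⟩
  · rintro _ ⟨g, rfl⟩
    obtain ⟨h2, a', b', hne', h1', h2'⟩ := hv
    refine ⟨by rw [orderOf_conj_eq, h2], g • a', g • b', fun e => hne' (smul_left_cancel g e), ?_, ?_⟩ <;>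
      simp [mul_smul, h1', h2']
  · rintro _ ⟨g, rfl⟩ k
    exact ⟨k * g, by group⟩
  · rintro _ ⟨g, rfl⟩ y hy
    have hy' : g⁻¹ * y * g ∈ C.ZC v := by
      refine ⟨?_, ?_⟩
      · have := C.conj_mem_Z hy.1 g⁻¹
        rwa [inv_inv] at this
      · have := (Commute.conj_iff g⁻¹).2 hy.2
        simpa [mul_assoc] using this
    obtain ⟨p, hp'⟩ := C.exists_fix hy'.1
    obtain ⟨k, -, -, -, hk2⟩ := hv.exists_carry C hy' hp' hxE
    refine ⟨g * k⁻¹ * h, ?_⟩
    rw [show g * k⁻¹ * h * v * (g * k⁻¹ * h)⁻¹ = g * k⁻¹ * (h * v * h⁻¹) * k * g⁻¹ by group, hhv, ← hk2]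
    group
  · rintro _ ⟨g, rfl⟩ p hp' y hy z hz
    obtain ⟨k, hk1, hkp⟩ := C.exists_mem_L_move hv (hfix g p hp') ha
    have hmv : ∀ {t : G}, t ∈ C.EZ (g * v * g⁻¹) p → k * (g⁻¹ * t * g) * k⁻¹ ∈ C.Ea v a := by
      intro t ht
      have h1 := C.conj_mem_Ea (g := g⁻¹) (show t ∈ C.Ea (g * v * g⁻¹) p from ht)
      rw [inv_inv, show g⁻¹ * (g * v * g⁻¹) * g = v by group] at h1
      have h2 := C.conj_mem_Ea_L hk1 h1
      rwa [hkp] at h2
    have h3 := hv.commute_of_Om_trivial C hp ha hfaith hO (hmv hy) (hmv hz)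
    rw [Commute.conj_iff, show g⁻¹ * y * g = g⁻¹ * y * g⁻¹⁻¹ by rw [inv_inv],
      show g⁻¹ * z * g = g⁻¹ * z * g⁻¹⁻¹ by rw [inv_inv], Commute.conj_iff] at h3
    exact h3
  · rintro _ ⟨g, rfl⟩ p hp'
    have h4 := hconjEZ g (g⁻¹ • p) (hfix g p hp')
    rw [smul_inv_smul] at h4
    rw [h4, C.card_Za p, ← C.card_Za a, hZa]
    generalize Nat.card E = q at *
    exact Nat.mul_lt_mul_of_pos_right (by omega) (by omega)

end Ctx

end CfsgLib.Criterion
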