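import Cfsg.Agent.Criterion.Basic

/-!
# The strong embedding criterion: bad involutions

The facts F3, F4 and the two decompositions G1, G2 of `notes/criterion_helper1.md`; none of them
uses that the members of the class centralising a bad involution commute at a point.
-/

set_option autoImplicit false
set_option linter.style.haveILetI false
set_option linter.unusedSectionVars false

namespace CfsgLib.Criterion

open Subgroup CfsgLib.Invol

universe u

variable {G : Type u} [Group G]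

namespace Ctx

variable [Finite G] (C : Ctx G)

theorem Bad.not_mem_Z {v : G} (hv : C.Bad v) : v ∉ C.Z := fun h => by
  obtain ⟨-, a, b, hab, ha, hb⟩ := hv
  exact hab (C.fix_unique h ha hb)

theorem Bad.exists_other {v : G} (hv : C.Bad v) (p : C.Pt) : ∃ q : C.Pt, q ≠ p ∧ v • q = q := by
  obtain ⟨-, a, b, hab, ha, hb⟩ := hv
  by_cases h : a = p
  · exact ⟨b, fun e => hab (h.trans e.symm), hb⟩
  · exact ⟨a, h, ha⟩

/-- An involution commuting with a member of the class fixes its point. -/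
theorem smul_eq_of_commute_Z {u x : G} (hx : x ∈ C.Z) (h : Commute x u) {a : C.Pt} (ha : x • a = a) :
    u • a = a :=
  C.fix_unique hx (by rw [smul_smul, h.eq, mul_smul, ha]) ha

/-- The local group of a bad involution moves its fixed points to one another by swappers. -/
theorem exists_swap_L {v : G} (hv : v * v = 1) {a b : C.Pt} (hab : a ≠ b) (ha : v • a = a)
    (hb : v • b = b) : ∃ w ∈ C.X a b, Commute w v ∧ w ∈ C.L v := by
  obtain ⟨w, hw, hwv⟩ := C.exists_swap_commute hv hab (Or.inl ⟨ha, hb⟩)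
  exact ⟨w, hw, hwv, C.mem_L hw.1 hwv⟩

theorem Bad.exists_move {v : G} (hv : C.Bad v) {a : C.Pt} (ha : v • a = a) :
    ∃ c : G, Commute c v ∧ c • a ≠ a := by
  obtain ⟨b, hb, hvb⟩ := hv.exists_other C a
  obtain ⟨w, hw, hwv, -⟩ := C.exists_swap_L (mul_self_eq_one hv.1) hb.symm ha hvb
  exact ⟨w, hwv, hw.2.symm ▸ hb⟩

/-- In the local group of a bad involution a member at `a` and an involution fixing `a` have the
centralisers of the latter inside the stabiliser. -/
theorem Bad.smul_eq_of_commute {v : G} (hv : C.Bad v) {a : C.Pt} (ha : v • a = a) {s g : G}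
    (hs : s ∈ C.L v) (hso : orderOf s = 2) (hsa : s • a = a) (hg : g ∈ C.L v) (hgs : Commute g s) :
    g • a = a := by
  obtain ⟨x, hx, hxv⟩ := C.exists_commute_at (mul_self_eq_one hv.1) ha
  exact Ctx.smul_eq_of_commute C hv.1 hx.1 hxv hx.2 (hv.exists_move C ha) hs hso hsa hg hgs

/-- All members of the class centralising a bad involution are conjugate in its local group. -/
theorem Bad.exists_conj_L {v : G} (hv : C.Bad v) {x y : G} (hx : x ∈ C.ZC v) (hy : y ∈ C.ZC v) :
    ∃ g ∈ C.L v, g * x * g⁻¹ = y := by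
  have key : ∀ {x y : G}, x ∈ C.ZC v → y ∈ C.ZC v → ∀ {a b : C.Pt}, x • a = a → y • b = b → a ≠ b →
      ∃ g ∈ C.L v, g * x * g⁻¹ = y := by
    intro x y hx hy a b ha hb hab
    obtain ⟨g, hg, e⟩ := exists_conj_of_odd (C.orderOf_Z hx.1) (C.orderOf_Z hy.1)
      (C.odd_mul hx.1 hy.1 ha hb hab)
    refine ⟨g, (closure_le _).2 ?_ hg, e⟩
    rintro w (rfl | rfl)
    exacts [C.mem_L hx.1 hx.2, C.mem_L hy.1 hy.2]
  obtain ⟨a, ha⟩ := C.exists_fix hx.1
  obtain ⟨b, hb⟩ := C.exists_fix hy.1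
  by_cases hab : a = b
  · subst hab
    obtain ⟨c, hc, hvc⟩ := hv.exists_other C a
    obtain ⟨e, he, hev⟩ := C.exists_commute_at (mul_self_eq_one hv.1) hvc
    obtain ⟨g, hg, h1⟩ := key hx ⟨he.1, hev⟩ ha he.2 hc.symm
    obtain ⟨g', hg', h2⟩ := key ⟨he.1, hev⟩ hy he.2 hb hc
    exact ⟨g' * g, mul_mem hg' hg, by rw [← h2, ← h1]; group⟩
  · exact key hx hy ha hb hab

/-- The involutions of the local group of a bad involution lie in the class. -/
theorem Bad.mem_Z_of_mem_L {v : G} (hv : C.Bad v) {s : G} (hs : s ∈ C.L v) (hso : orderOf s = 2) :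
    s ∈ C.Z := by
  have hvv := mul_self_eq_one hv.1
  by_contra hsZ
  have key : ∀ p : C.Pt, v • p = p → s • p = p := by
    intro p hp
    obtain ⟨x, hx, hxv⟩ := C.exists_commute_at hvv hp
    have hxL := C.mem_L hx.1 hxv
    rcases Nat.even_or_odd (orderOf (x * s)) with hev | hodd
    · obtain ⟨hj, hjx, hjs⟩ := half_props (C.orderOf_Z hx.1) hso hev
      exact hv.smul_eq_of_commute C hp (pow_mem (mul_mem hxL hs) _) hj
        (C.smul_eq_of_commute_Z hx.1 hjx.symm hx.2) hs hjs.symm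
    · obtain ⟨g, -, hg⟩ := exists_conj_of_odd (C.orderOf_Z hx.1) hso hodd
      exact absurd (hg ▸ C.conj_mem_Z hx.1 g) hsZ
  obtain ⟨hv2, a, b, hab, ha, hb⟩ := id hv
  have hsv : Commute s v := C.commute_of_mem_L hs
  have hss := mul_self_eq_one hso
  -- a swapper of `a`, `b` centralising both `v` and `s`
  set S := {w : C.X a b // Commute w.1 v}
  have hsi : s⁻¹ = s := inv_eq_self hso
  have hvi : v⁻¹ = v := inv_eq_self hv2
  have hoddX : Odd (Nat.card (C.X a b)) := by rw [C.card_X hab]; exact C.odd_Za _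
  have hstab : ∀ g : G, g • a = a → g • b = b → ∀ w ∈ C.X a b, g * w * g⁻¹ ∈ C.X a b := by
    intro g h1 h2 w hw
    have := C.conj_mem_X (g := g) hw
    rwa [h1, h2] at this
  have hinv : ∀ {g : G}, g * g = 1 → g⁻¹ = g → ∀ (h1 : g • a = a) (h2 : g • b = b),
      Function.Involutive (fun w : C.X a b => (⟨g * w.1 * g⁻¹, hstab g h1 h2 _ w.2⟩ : C.X a b)) :=
    fun {g} hg hgi h1 h2 w => Subtype.ext (show g * (g * w.1 * g⁻¹) * g⁻¹ = w.1 by
      rw [hgi, show g * (g * w.1 * g) * g = g * g * w.1 * (g * g) by group, hg, one_mul, mul_one])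
  have hcm : ∀ {g : G} {w : G}, g * w * g⁻¹ = w ↔ Commute w g := fun {g w} =>
    ⟨fun h => (mul_inv_eq_iff_eq_mul.1 h).symm, fun h => mul_inv_eq_iff_eq_mul.2 h.eq.symm⟩
  have hoddS : Odd (Nat.card S) := by
    have h := odd_card_fixed hoddX (hinv hvv hvi ha hb)
    rwa [Nat.card_congr (Equiv.subtypeEquivRight (fun w : C.X a b =>
      (⟨fun h => hcm.1 (congrArg Subtype.val h), fun h => Subtype.ext (hcm.2 h)⟩ :
        (⟨v * w.1 * v⁻¹, hstab v ha hb _ w.2⟩ : C.X a b) = w ↔ Commute w.1 v)))] at h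
  obtain ⟨⟨⟨w, hw⟩, hwv⟩, hfix⟩ := exists_fixed_of_involutive hoddS
    (f := fun w => (⟨⟨s * w.1.1 * s⁻¹, hstab s (key a ha) (key b hb) _ w.1.2⟩, by
      have := (Commute.conj_iff s).2 w.2
      rwa [show s * v * s⁻¹ = v from mul_inv_eq_iff_eq_mul.2 hsv.eq] at this⟩ : S))
    (fun w => Subtype.ext (hinv hss hsi (key a ha) (key b hb) w.1))
  refine hab (Eq.trans ?_ hw.2)
  exact (hv.smul_eq_of_commute C ha hs hso (key a ha) (C.mem_L hw.1 hwv)
    (hcm.1 (congrArg Subtype.val (congrArg Subtype.val hfix)))).symm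

/-- **F3**: a bad involution moving a point times a member centralising it is bad. -/
theorem Bad.mul_bad {v : G} (hv : C.Bad v) (hmove : ∃ c : C.Pt, v • c ≠ c) {e : G}
    (he : e ∈ C.ZC v) : C.Bad (v * e) := by
  have hvv := mul_self_eq_one hv.1
  obtain ⟨c, hc⟩ := hmove
  obtain ⟨w, hw, hwv⟩ := C.exists_swap_commute hvv (Ne.symm hc)
    (Or.inr ⟨rfl, by rw [smul_smul, hvv, one_smul]⟩)
  obtain ⟨p, hp⟩ := C.exists_fix hw.1
  have hvp : v • p = p := C.smul_eq_of_commute_Z hw.1 hwv hp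
  obtain ⟨g, hg, hge⟩ := hv.exists_conj_L C ⟨hw.1, hwv⟩ he
  have hgv : g * v * g⁻¹ = v := mul_inv_eq_iff_eq_mul.2 (C.commute_of_mem_L hg).eq
  have hvw : (v * w) • c = c := by rw [mul_smul, hw.2, smul_smul, hvv, one_smul]
  have hne : v * w ≠ 1 := fun h => hv.not_mem_Z C (by
    rw [eq_inv_of_mul_eq_one_left h, C.inv_Z hw.1]
    exact hw.1)
  rw [show v * e = g * (v * w) * g⁻¹ by
    rw [show g * (v * w) * g⁻¹ = g * v * g⁻¹ * (g * w * g⁻¹) by group, hgv, hge]]
  refine ⟨?_, g • c, g • p, ?_, ?_, ?_⟩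
  · rw [orderOf_conj_eq]
    exact orderOf_eq_two (by rw [hwv.mul_mul_mul_comm, hvv, C.mul_self_Z hw.1, one_mul]) hne
  · exact fun h => hc (by rw [smul_left_cancel g h, hvp])
  · rw [mul_smul, inv_smul_smul, mul_smul g, hvw]
  · rw [mul_smul, inv_smul_smul, mul_smul g, mul_smul v, hp, hvp]

/-- Every involution moving points is in the class or bad, provided bad involutions move points. -/
theorem mem_Z_or_bad (hfaith : ∀ v : G, orderOf v = 2 → ∃ c : C.Pt, v • c ≠ c) {u : G}
    (hu : orderOf u = 2) : u ∈ C.Z ∨ C.Bad u := by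
  by_contra hcon
  obtain ⟨huZ, huB⟩ := not_or.1 hcon
  have huu := mul_self_eq_one hu
  obtain ⟨b, hb⟩ := hfaith u hu
  obtain ⟨w, hw, hwu⟩ := C.exists_swap_commute huu (Ne.symm hb)
    (Or.inr ⟨rfl, by rw [smul_smul, huu, one_smul]⟩)
  obtain ⟨a, ha⟩ := C.exists_fix hw.1
  have hua : u • a = a := C.smul_eq_of_commute_Z hw.1 hwu ha
  have hab : a ≠ b := fun h => hb (h ▸ hua)
  have hvb : (u * w) • b = b := by rw [mul_smul, hw.2, smul_smul, huu, one_smul]
  have hva : (u * w) • a = a := by rw [mul_smul, ha, hua]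
  have hv : C.Bad (u * w) := ⟨orderOf_eq_two
    (by rw [hwu.mul_mul_mul_comm, huu, C.mul_self_Z hw.1, one_mul])
    (fun h => huZ (by rw [eq_inv_of_mul_eq_one_left h, C.inv_Z hw.1]; exact hw.1)),
    a, b, hab, hva, hvb⟩
  have := hv.mul_bad C (hfaith _ hv.1) (e := w) ⟨hw.1, hwu.mul_right (Commute.refl w)⟩
  rw [mul_assoc, C.mul_self_Z hw.1, mul_one] at this
  exact huB this

/-- The product of two commuting members of the class is in the class. -/
theorem mul_mem_Z (hfaith : ∀ v : G, orderOf v = 2 → ∃ c : C.Pt, v • c ≠ c) {x y : G} (hx : x ∈ C.Z)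
    (hy : y ∈ C.Z) (h : Commute x y) (hne : x ≠ y) : x * y ∈ C.Z := by
  have ho : orderOf (x * y) = 2 := orderOf_eq_two
    (by rw [h.symm.mul_mul_mul_comm, C.mul_self_Z hx, C.mul_self_Z hy, one_mul])
    (fun e => hne (by rw [eq_inv_of_mul_eq_one_left e, C.inv_Z hy]))
  rcases C.mem_Z_or_bad hfaith ho with h1 | h1
  · exact h1
  · exact h1.mem_Z_of_mem_L C (mul_mem (C.mem_L hx ((Commute.refl x).mul_right h))
      (C.mem_L hy (h.symm.mul_right (Commute.refl y)))) ho

/-- **G1**: a member at a fixed point of a bad involution centralises a member there centralising the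
bad involution, or centralises its product with such a member. -/
theorem exists_mid (hfaith : ∀ v : G, orderOf v = 2 → ∃ c : C.Pt, v • c ≠ c) {v : G} (hv : C.Bad v)
    {a : C.Pt} (ha : v • a = a) {s : G} (hs : s ∈ C.Za a) :
    ∃ e ∈ C.Za a, Commute e v ∧ (Commute s e ∨ Commute s (v * e)) := by
  have hs2 := C.orderOf_Z hs.1
  have hev : Even (orderOf (s * v)) := even_orderOf_mul_of_not_isConj hs2 hv.1
    fun h => hv.not_mem_Z C (IsConj.trans hs.1 h)
  obtain ⟨hi, his, hiv⟩ := half_props hs2 hv.1 hev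
  obtain ⟨l, hl⟩ := hev
  have hl' : orderOf (s * v) / 2 = l := by omega
  rw [hl'] at hi his hiv
  set i := (s * v) ^ l with hidef
  have hia : i • a = a := C.smul_eq_of_commute_Z hs.1 his.symm hs.2
  rcases C.mem_Z_or_bad hfaith hi with hiZ | hib
  · exact ⟨i, ⟨hiZ, hia⟩, hiv, Or.inl his.symm⟩
  rcases Nat.even_or_odd l with ⟨j, hj⟩ | ⟨j, hj⟩
  · refine absurd (hib.mem_Z_of_mem_L C ?_ hi) (hib.not_mem_Z C)
    have hi2 : i = (s * (v * s * v⁻¹)) ^ j := by
      rw [hidef, hj, ← two_mul, pow_mul, sq, inv_eq_self hv.1]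
      simp only [mul_assoc]
    have hmem : s * (v * s * v⁻¹) ∈ C.L i := by
      refine mul_mem (C.mem_L hs.1 his.symm) (C.mem_L (C.conj_mem_Z hs.1 v) ?_)
      have := (Commute.conj_iff v).2 his.symm
      rwa [show v * i * v⁻¹ = i from mul_inv_eq_iff_eq_mul.2 hiv.eq.symm] at this
    nth_rw 2 [hi2]
    exact pow_mem hmem j
  · refine ⟨v * i, ⟨?_, by rw [mul_smul, hia, ha]⟩, (Commute.refl v).mul_left hiv, Or.inr ?_⟩
    · have hli : (v * s) ^ l = i := by
        rw [← mul_inv_rev_invol hs2 hv.1, inv_pow, ← hidef, inv_eq_self hi]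
      rw [← hli, hj, ← zpow_natCast, show ((2 * j + 1 : ℕ) : ℤ) = 2 * (j : ℤ) + 1 by push_cast; ring,
        mul_zpow_odd hv.1 hs2]
      exact C.conj_mem_Z hs.1 _
    · rw [← mul_assoc, mul_self_eq_one hv.1, one_mul]
      exact his.symm

/-- **G2**: at a point moved by a bad involution the members of the class are distributed among the
swappers centralising it. -/
theorem card_Za_eq_sum {v : G} (hv : C.Bad v) {c : C.Pt} (hc : v • c ≠ c) :
    Nat.card (C.Za c) =
      Nat.card (Σ w : {w : C.X c (v • c) // Commute w.1 v}, {x : C.Za c // Commute x.1 (v * w.1.1)}) := by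
  have hvv := mul_self_eq_one hv.1
  have hvi : v⁻¹ = v := inv_eq_self hv.1
  refine (Nat.card_congr (Equiv.ofBijective (fun p => p.2.1) ⟨?_, fun x => ?_⟩)).symm
  · rintro ⟨⟨⟨w, hw⟩, hwv⟩, ⟨x, hx⟩, hxw⟩ ⟨⟨⟨w', hw'⟩, hwv'⟩, ⟨y, hy⟩, hyw⟩ h
    obtain rfl : x = y := congrArg Subtype.val h
    have key : ∀ {w : G}, w ∈ C.X c (v • c) → Commute x (v * w) → w * x * w⁻¹ = v * x * v⁻¹ := by
      intro w hw hxw
      calc w * x * w⁻¹ = v⁻¹ * ((v * w) * x * (v * w)⁻¹) * v := by group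
        _ = v * x * v⁻¹ := by rw [← hxw.eq, mul_inv_cancel_right, hvi]
    obtain rfl : w = w' := C.link_inj hx (Ne.symm hc) hw hw' ((key hw hxw).trans (key hw' hyw).symm)
    rfl
  · obtain ⟨x, hx⟩ := x
    obtain ⟨w, hw, hwx⟩ := C.exists_link hx (C.conj_mem_Za (g := v) hx) (Ne.symm hc)
    have hwv : v * w * v⁻¹ = w := by
      have hmem : v * w * v⁻¹ ∈ C.X c (v • c) := by
        refine C.X_symm ?_
        have := C.conj_mem_X (g := v) hw
        rwa [smul_smul v v, hvv, one_smul] at this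
      refine C.link_inj hx (Ne.symm hc) hmem hw ?_
      have hwi := C.inv_Z hw.1
      rw [hwi] at hwx
      rw [hwi, hvi]
      rw [show (v * w * v)⁻¹ = v⁻¹ * w⁻¹ * v⁻¹ by group, hwi, hvi]
      calc v * w * v * x * (v * w * v) = v * w * (v * x * v) * w * v := by group
        _ = v * w * (w * x * w) * w * v := by rw [hwx, hvi]
        _ = v * (w * w) * x * (w * w) * v := by group
        _ = w * x * w := by rw [C.mul_self_Z hw.1, mul_one, mul_one, hwx, hvi]
    have hcm : Commute w v := (mul_inv_eq_iff_eq_mul.1 hwv).symm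
    refine ⟨⟨⟨⟨w, hw⟩, hcm⟩, ⟨⟨x, hx⟩, (mul_inv_eq_iff_eq_mul.1 ?_).symm⟩⟩, rfl⟩
    show v * w * x * (v * w)⁻¹ = x
    rw [show v * w * x * (v * w)⁻¹ = v * (w * x * w⁻¹) * v⁻¹ by group, hwx, hvi,
      show v * (v * x * v) * v = v * v * x * (v * v) by group, hvv, one_mul, mul_one]

end Ctx

end CfsgLib.Criterion
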