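import Cfsg.Agent.Criterion.ClosedCtx

/-!
# The strong embedding criterion: the kernel on the fixed points

`v` is bad at `a` without crossing members, and every bad involution at `a` centralising `E` has
`|E|` further fixed points.  A 2-group fixing a second fixed point of `v` and centralising `E` and
`v` is then semiregular off `Fix v`, elementary and of order at most `|E|`; if it is larger than
`⟨v⟩`, no odd core of the local groups of `v` and of `v x` acts.
-/

set_option autoImplicit false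
set_option linter.style.haveILetI false
set_option linter.unusedSectionVars false

namespace CfsgLib.Criterion

open Subgroup CfsgLib.Invol CfsgLib.Bender
open CfsgLib.DGroup (coreIn coreIn_le odd_coreIn normalizer_coreIn le_coreIn)

universe u

variable {G : Type u} [Group G] [Finite G]

namespace Ctx

variable (C : Ctx G)

theorem IsE.commute_v {v : G} {a : C.Pt} {E : Subgroup G} (hE : C.IsE v a E) {e : G} (he : e ∈ E) :
    Commute e v := by
  by_cases h : e = 1
  · rw [h]; exact Commute.one_left v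
  · exact (hE.mem e he h).2

/-- The elementary group is semiregular away from its point. -/
theorem IsE.free {v : G} {a : C.Pt} {E : Subgroup G} (hE : C.IsE v a E) {e : G} (he : e ∈ E)
    {c : C.Pt} (hca : c ≠ a) (hc : e • c = c) : e = 1 := by
  by_contra h
  exact hca (C.fix_unique (hE.mem e he h).1.1 hc (hE.mem e he h).1.2)

/-- `u` is bad at `a`, centralises `E` and has as many further fixed points as `E` has elements. -/
structure Full (u : G) (a : C.Pt) (E : Subgroup G) : Prop where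
  bad : C.Bad u
  fix : u • a = a
  comm : ∀ e ∈ E, Commute e u
  size : C.qn u a = Nat.card E

/-- `E` is transitive on the other fixed points of such an involution. -/
theorem Full.exists_translate {v : G} {a : C.Pt} {E : Subgroup G} (hE : C.IsE v a E) {u : G}
    (hu : C.Full u a E) {c d : C.Pt} (hc : u • c = c) (hca : c ≠ a) (hd : u • d = d) (hda : d ≠ a) :
    ∃ e ∈ E, e • c = d := by
  have key : Function.Surjective (fun e : E => (⟨(e : G) • c, by
      rw [smul_smul, ← (hu.comm e e.2).eq, mul_smul, hc],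
      fun h => hca (smul_left_cancel (e : G) (h.trans (hE.le_stab C e.2).symm))⟩ :
        {p : C.Pt // u • p = p ∧ p ≠ a})) := by
    refine (Function.Injective.bijective_of_nat_card_le (fun s t h => ?_) (le_of_eq hu.size)).2
    have h1 : (s : G) • c = (t : G) • c := congrArg Subtype.val h
    exact Subtype.ext (inv_mul_eq_one.1 (hE.free C (mul_mem (inv_mem t.2) s.2) hca
      (by rw [mul_smul, h1, inv_smul_smul]))).symm
  obtain ⟨e, he⟩ := key ⟨d, hd, hda⟩
  exact ⟨e, e.2, congrArg Subtype.val he⟩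

/-- An element fixing `a` and a further fixed point and centralising `E` fixes them all. -/
theorem Full.fix_of_commute {v : G} {a : C.Pt} {E : Subgroup G} (hE : C.IsE v a E) {u : G}
    (hu : C.Full u a E) {g : G} (hga : g • a = a) (hgE : ∀ e ∈ E, Commute e g) {c d : C.Pt}
    (hc : u • c = c) (hca : c ≠ a) (hgc : g • c = c) (hd : u • d = d) : g • d = d := by
  by_cases hda : d = a
  · rw [hda, hga]
  obtain ⟨e, he, rfl⟩ := hu.exists_translate C hE hc hca hd hda
  rw [smul_smul, ← (hgE e he).eq, mul_smul, hgc]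

/-- The odd core of the stabiliser meets the centraliser of such an involution in elements fixing
all its fixed points. -/
theorem Full.core_fix {v : G} {a : C.Pt} {E : Subgroup G} (hE : C.IsE v a E) {u : G}
    (hu : C.Full u a E) {g : G} (hg : g ∈ coreIn (MulAction.stabilizer G a)) (hgu : Commute g u)
    {c : C.Pt} (hc : u • c = c) : g • c = c := by
  by_cases hca : c = a
  · rw [hca]; exact MulAction.mem_stabilizer_iff.1 (coreIn_le _ hg)
  set W := coreIn (MulAction.stabilizer G a) ⊓ centralizer ({u} : Set G) with hW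
  have hWn : ∀ e ∈ E, ∀ w ∈ W, e * w * e⁻¹ ∈ W := fun e he w hw => mem_inf.2
    ⟨(mem_normalizer_iff.1 (normalizer_coreIn _ (hE.le_stab C he)) w).1 (mem_inf.1 hw).1,
      mem_centralizer_singleton_iff.2 (((hu.comm e he).mul_left
        (mem_centralizer_singleton_iff.1 (mem_inf.1 hw).2 : Commute w u)).mul_left
          (hu.comm e he).inv_left).eq⟩
  have hWu : ∀ w ∈ W, Commute w u := fun w hw => mem_centralizer_singleton_iff.1 (mem_inf.1 hw).2
  have hWa : ∀ w ∈ W, w • a = a := fun w hw =>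
    MulAction.mem_stabilizer_iff.1 (coreIn_le _ (mem_inf.1 hw).1)
  -- the translations realised inside `W`
  let T : Subgroup G :=
    { carrier := {e | e ∈ E ∧ ∃ w ∈ W, w • c = e • c}
      one_mem' := ⟨one_mem _, 1, one_mem _, rfl⟩
      mul_mem' := by
        rintro s t ⟨hs, d, hd, hdc⟩ ⟨ht, e, he, hec⟩
        refine ⟨mul_mem hs ht, s * e * s⁻¹ * d, mul_mem (hWn s hs e he) hd, ?_⟩
        rw [mul_smul, hdc, mul_smul s t, ← hec, mul_smul, mul_smul, inv_smul_smul]
      inv_mem' := by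
        rintro s ⟨hs, d, hd, hdc⟩
        refine ⟨inv_mem hs, s⁻¹ * d⁻¹ * s, ?_, ?_⟩
        · simpa using hWn s⁻¹ (inv_mem hs) d⁻¹ (inv_mem hd)
        · rw [mul_smul, mul_smul, ← hdc, inv_smul_smul] }
  have hT : Nat.card T = Nat.card {p : C.Pt // ∃ w ∈ W, w • c = p} := by
    refine Nat.card_congr (Equiv.ofBijective (fun s : T =>
      (⟨(s : G) • c, s.2.2⟩ : {p : C.Pt // ∃ w ∈ W, w • c = p})) ⟨fun s t h => ?_, ?_⟩)
    · have h1 : (s : G) • c = (t : G) • c := congrArg Subtype.val h
      exact Subtype.ext (inv_mul_eq_one.1 (hE.free C (mul_mem (inv_mem t.2.1) s.2.1) hca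
        (by rw [mul_smul, h1, inv_smul_smul]))).symm
    · rintro ⟨p, w, hw, rfl⟩
      obtain ⟨e, he, hec⟩ := hu.exists_translate C hE hc hca (d := w • c)
        (by rw [smul_smul, ← (hWu w hw).eq, mul_smul, hc])
        (fun h => hca (smul_left_cancel w (h.trans (hWa w hw).symm)))
      exact ⟨⟨e, he, w, hw, hec.symm⟩, Subtype.ext hec⟩
  have h1 : Nat.card {p : C.Pt // ∃ w ∈ W, w • c = p} ∣ Nat.card W := ⟨_, (card_orbit_sub W c).symm⟩
  have hodd : Odd (Nat.card W) := (odd_coreIn _).of_dvd_nat (card_dvd_of_le inf_le_left)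
  have hone : Nat.card T = 1 := by
    haveI : Fact (Nat.Prime 2) := ⟨Nat.prime_two⟩
    obtain ⟨l, hl⟩ := IsPGroup.iff_card.1 ((hE.isPGroup C).to_le (show T ≤ E from fun s hs => hs.1))
    refine Nat.eq_one_of_dvd_coprimes (((Nat.coprime_two_left.2 hodd).pow_left l)) ?_ (hT ▸ h1)
    rw [hl]
  rw [hT] at hone
  haveI := (Nat.card_eq_one_iff_unique.1 hone).1
  exact congrArg Subtype.val (Subsingleton.elim
    (⟨g • c, g, mem_inf.2 ⟨hg, mem_centralizer_singleton_iff.2 hgu.eq⟩, rfl⟩ :
      {p : C.Pt // ∃ w ∈ W, w • c = p}) ⟨c, 1, one_mem _, one_smul _ c⟩)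

/-- Over a four group of involutions at a common fixed point the odd core of the stabiliser fixes
that point. -/
theorem Full.core_fix_four {v : G} {a : C.Pt} {E : Subgroup G} (hE : C.IsE v a E) {f₁ f₂ : G}
    (h₁ : C.Full f₁ a E) (h₂ : C.Full f₂ a E) (h₃ : C.Full (f₁ * f₂) a E) (hc : Commute f₁ f₂)
    (hne : f₁ ≠ f₂) {c : C.Pt} (hf₁ : f₁ • c = c) (hf₂ : f₂ • c = c) {g : G}
    (hg : g ∈ coreIn (MulAction.stabilizer G a)) : g • c = c := by
  classical
  haveI : Fact (Nat.Prime 2) := ⟨Nat.prime_two⟩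
  have h11 := mul_self_eq_one h₁.bad.1
  have h22 := mul_self_eq_one h₂.bad.1
  set F := closure ({f₁, f₂} : Set G) with hF
  have hmem : ∀ f ∈ F, f = 1 ∨ f = f₁ ∨ f = f₂ ∨ f = f₁ * f₂ := by
    intro f hf
    have h12 : f₁ * (f₁ * f₂) = f₂ := by rw [← mul_assoc, h11, one_mul]
    have h21 : f₂ * (f₁ * f₂) = f₁ := by rw [← mul_assoc, ← hc.eq, mul_assoc, h22, mul_one]
    induction hf using closure_induction with
    | mem b hb =>
      rcases hb with rfl | rfl
      exacts [Or.inr (Or.inl rfl), Or.inr (Or.inr (Or.inl rfl))]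
    | one => exact Or.inl rfl
    | mul b d _ _ hb hd =>
      rcases hb with rfl | rfl | rfl | rfl <;> rcases hd with rfl | rfl | rfl | rfl <;>
        simp [h11, h22, h12, h21, hc.eq.symm, mul_assoc]
    | inv b _ hb =>
      rcases hb with rfl | rfl | rfl | rfl <;>
        simp [inv_eq_self h₁.bad.1, inv_eq_self h₂.bad.1, hc.eq.symm]
  have hfull : ∀ f ∈ F, f ≠ 1 → C.Full f a E ∧ f • c = c := by
    intro f hf hf1
    rcases hmem f hf with rfl | rfl | rfl | rfl
    exacts [absurd rfl hf1, ⟨h₁, hf₁⟩, ⟨h₂, hf₂⟩, ⟨h₃, by rw [mul_smul, hf₂, hf₁]⟩]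
  have hFH : F ≤ MulAction.stabilizer G a :=
    (closure_le _).2 (by rintro _ (rfl | rfl); exacts [h₁.fix, h₂.fix])
  have hsq : ∀ f ∈ F, f ^ 2 = 1 := fun f hf => by
    by_cases h : f = 1
    · rw [h, one_pow]
    · rw [pow_two, mul_self_eq_one (hfull f hf h).1.bad.1]
  have hF4 : 2 ^ 2 ≤ Nat.card F := by
    by_contra h
    have h3 : Nat.card F ≤ 3 := by omega
    have hmem' : ∀ f ∈ ({1, f₁, f₂, f₁ * f₂} : Finset G), f ∈ F := by
      intro f hf
      simp only [Finset.mem_insert, Finset.mem_singleton] at hf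
      rcases hf with rfl | rfl | rfl | rfl
      exacts [one_mem F, subset_closure (by simp), subset_closure (by simp),
        mul_mem (subset_closure (by simp)) (subset_closure (by simp))]
    have hcard : ({1, f₁, f₂, f₁ * f₂} : Finset G).card = 4 := by
      rw [Finset.card_insert_of_notMem, Finset.card_insert_of_notMem,
        Finset.card_insert_of_notMem, Finset.card_singleton]
      · simp only [Finset.mem_singleton]
        exact fun e => ne_one h₁.bad.1 (mul_eq_right.1 e.symm)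
      · simp only [Finset.mem_insert, Finset.mem_singleton, not_or]
        exact ⟨hne, fun e => ne_one h₂.bad.1 (mul_eq_left.1 e.symm)⟩
      · simp only [Finset.mem_insert, Finset.mem_singleton, not_or]
        exact ⟨(ne_one h₁.bad.1).symm, (ne_one h₂.bad.1).symm, (ne_one h₃.bad.1).symm⟩
    have hle : ({1, f₁, f₂, f₁ * f₂} : Finset G).card ≤ Nat.card F := by
      rw [← Nat.card_eq_finsetCard]
      exact Nat.card_le_card_of_injective (fun z => (⟨z.1, hmem' z.1 z.2⟩ : F))
        fun p q e => Subtype.ext (congrArg (fun z : F => (z : G)) e)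
    omega
  have hFc : IsMulCommutative F := ⟨⟨fun x y => Subtype.ext (by
    have hxy := hsq _ (mul_mem x.2 y.2)
    have hx := hsq _ x.2
    have hy := hsq _ y.2
    rw [pow_two] at hxy hx hy
    show (x : G) * y = y * x
    calc (x : G) * y = ((x : G) * y)⁻¹ := (inv_eq_of_mul_eq_one_right hxy).symm
      _ = (y : G) * x := by
          rw [mul_inv_rev, inv_eq_of_mul_eq_one_right hx, inv_eq_of_mul_eq_one_right hy])⟩⟩
  have hle : coreIn (MulAction.stabilizer G a) ≤ MulAction.stabilizer G c :=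
    Signalizer.le_of_forall_centralizer (p := 2) (A := F) ⟨hFc, hsq⟩ le_rfl hF4
      (hFH.trans (normalizer_coreIn _)) (odd_coreIn _).not_two_dvd_nat fun f hf hf1 w hw => by
        obtain ⟨hwO, hwf⟩ := mem_inf.1 hw
        exact MulAction.mem_stabilizer_iff.2 ((hfull f hf hf1).1.core_fix C hE hwO
          (mem_centralizer_singleton_iff.1 hwf) (hfull f hf hf1).2)
  exact MulAction.mem_stabilizer_iff.1 (hle hg)

/-- If the elements fixing all fixed points of `u` fix those of `u x` they fix all points. -/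
theorem Bad.Om_fix_all {u : G} (hu : C.Bad u) {a : C.Pt} {x : G} (hx : x ∈ C.Ea u a)
    (h : ∀ o ∈ C.Om u, ∀ c : C.Pt, (u * x) • c = c → o • c = c) :
    ∀ o ∈ C.Om u, ∀ c : C.Pt, o • c = c := by
  intro o ho c
  by_cases hc : u • c = c
  · exact (C.mem_Om.1 ho).2 c hc
  have huu := mul_self_eq_one hu.1
  obtain ⟨w, hw, hwu⟩ := C.exists_swap_commute huu (Ne.symm hc)
    (Or.inr ⟨rfl, by rw [smul_smul, huu, one_smul]⟩)
  obtain ⟨p, hp⟩ := C.exists_fix hw.1
  obtain ⟨g, hg, -, -, hgw⟩ := hu.exists_carry C ⟨hw.1, hwu⟩ hp hx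
  have hcw : (u * w) • c = c := by rw [mul_smul, hw.2, smul_smul, huu, one_smul]
  have hgc : (u * x) • g • c = g • c := by
    rw [← hgw, mul_smul, mul_smul, inv_smul_smul, hcw]
  have h1 := h _ (C.conj_mem_Om (C.commute_of_mem_L hg) ho hg) _ hgc
  rwa [mul_smul, mul_smul, inv_smul_smul, smul_left_cancel_iff] at h1

/-! ### The kernel -/

/-- The data: no crossing member at `v`, the type hypothesis, and a 2-group fixing `a`, `b` and
centralising `v` and `E`. -/
structure Ker (v : G) (a b : C.Pt) (E R : Subgroup G) : Prop where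
  bad : C.Bad v
  faith : ∀ v : G, orderOf v = 2 → ∃ c : C.Pt, v • c ≠ c
  pair : PairRank ↥(C.L v)
  fix_a : v • a = a
  ne : b ≠ a
  fix_b : v • b = b
  isE : C.IsE v a E
  cross : C.Cross v a = ∅
  size : ∀ u : G, C.Bad u → u • a = a → (∀ e ∈ E, Commute e u) → C.qn u a = Nat.card E
  two : IsPGroup 2 R
  fix : ∀ r ∈ R, r • a = a ∧ r • b = b
  comm : ∀ r ∈ R, Commute r v ∧ ∀ e ∈ E, Commute e r

namespace Ker

variable {v : G} {a b : C.Pt} {E R : Subgroup G} (K : C.Ker v a b E R)
include K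

theorem full_v : C.Full v a E :=
  ⟨K.bad, K.fix_a, fun _ he => K.isE.commute_v C he,
    K.size v K.bad K.fix_a fun _ he => K.isE.commute_v C he⟩

theorem fix_fixed {r : G} (hr : r ∈ R) {c : C.Pt} (hc : v • c = c) : r • c = c :=
  (K.full_v C).fix_of_commute C K.isE (K.fix r hr).1 (K.comm r hr).2 K.fix_b K.ne (K.fix r hr).2 hc

/-- An involution of the kernel has the fixed points of `v`. -/
theorem fix_iff {r : G} (hr : r ∈ R) (h2 : orderOf r = 2) (c : C.Pt) : r • c = c ↔ v • c = c := by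
  haveI := Fintype.ofFinite C.Pt
  classical
  refine ⟨fun h => ?_, K.fix_fixed C hr⟩
  by_contra hvc
  have hbad : C.Bad r := ⟨h2, a, b, K.ne.symm, (K.fix r hr).1, (K.fix r hr).2⟩
  have hsize := K.size r hbad (K.fix r hr).1 (K.comm r hr).2
  have hv := (K.full_v C).size
  have hlt : C.qn v a < C.qn r a := by
    rw [Ctx.qn, Ctx.qn, Nat.card_eq_fintype_card, Nat.card_eq_fintype_card, Fintype.card_subtype,
      Fintype.card_subtype]
    refine Finset.card_lt_card ?_
    rw [Finset.ssubset_iff_of_subset (fun d hd => ?_)]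
    · refine ⟨c, Finset.mem_filter.2 ⟨Finset.mem_univ _, h, fun e => hvc (e ▸ K.fix_a)⟩, fun hc => ?_⟩
      exact hvc (Finset.mem_filter.1 hc).2.1
    · obtain ⟨-, hd1, hd2⟩ := Finset.mem_filter.1 hd
      exact Finset.mem_filter.2 ⟨Finset.mem_univ _, K.fix_fixed C hr hd1, hd2⟩
  omega

/-- **The kernel is semiregular off the fixed points of `v`.** -/
theorem free {r : G} (hr : r ∈ R) {c : C.Pt} (hc : v • c ≠ c) (hrc : r • c = c) : r = 1 := by
  by_contra h1
  obtain ⟨k, hk⟩ := IsPGroup.iff_orderOf.1 K.two ⟨r, hr⟩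
  rw [← Subgroup.orderOf_coe] at hk
  rcases k with _ | k
  · exact h1 (orderOf_eq_one_iff.1 (by simpa using hk))
  have h2 : orderOf (r ^ 2 ^ k) = 2 := by
    rw [orderOf_pow' r (pow_ne_zero _ two_ne_zero), hk, Nat.gcd_eq_right (pow_dvd_pow 2 k.le_succ),
      pow_succ, Nat.mul_div_cancel_left _ (pow_pos two_pos _)]
  exact hc ((K.fix_iff C (pow_mem hr _) h2 c).1
    (MulAction.mem_stabilizer_iff.1 (pow_mem (MulAction.mem_stabilizer_iff.2 hrc) _)))

/-- An element of the kernel is a translation on the further fixed points of `v x`. -/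
theorem exists_trans {x : G} (hx : x ∈ C.Ea v a) (hxE : x ∈ E) {c : C.Pt} (hc : (v * x) • c = c)
    (hca : c ≠ a) {r : G} (hr : r ∈ R) : ∃ e ∈ E, (r * e) • c = c := by
  obtain ⟨hb, hxa, -, -⟩ := K.bad.mul_Ea C K.faith K.pair K.fix_a hx
  have hcomm : ∀ e ∈ E, Commute e (v * x) := fun e he =>
    (K.isE.commute_v C he).mul_right (K.isE.commute C he hxE)
  have hfull : C.Full (v * x) a E := ⟨hb, hxa, hcomm, K.size _ hb hxa hcomm⟩
  have hrv : Commute r (v * x) := (K.comm r hr).1.mul_right ((K.comm r hr).2 x hxE).symm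
  obtain ⟨e, he, hec⟩ := hfull.exists_translate C K.isE hc hca (d := r⁻¹ • c)
    (by rw [smul_smul, ← hrv.inv_left.eq, mul_smul, hc])
    (fun h => hca (by rw [← smul_inv_smul r c, h, (K.fix r hr).1]))
  exact ⟨e, he, by rw [mul_smul, hec, smul_inv_smul]⟩

theorem exists_point : ∃ x ∈ C.Ea v a, x ∈ E ∧ ∃ c : C.Pt, (v * x) • c = c ∧ c ≠ a ∧ v • c ≠ c := by
  obtain ⟨x₀, hx₀, -⟩ := K.bad.exists_pair C K.pair K.fix_a
  obtain ⟨e, he, hne, -⟩ := K.isE.cover x₀ hx₀
  have hx := K.isE.mem e he hne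
  obtain ⟨c, hca, hc⟩ := (K.bad.mul_Ea C K.faith K.pair K.fix_a hx).1.exists_other C a
  refine ⟨e, hx, he, c, hc, hca, fun hvc => hca (C.fix_unique hx.1.1 ?_ hx.1.2)⟩
  have h1 := congrArg (v • ·) hc
  simp only [smul_smul, ← mul_assoc, mul_self_eq_one K.bad.1, one_mul, hvc] at h1
  exact h1

/-- **The kernel is elementary.** -/
theorem mul_self {r : G} (hr : r ∈ R) : r * r = 1 := by
  obtain ⟨x, hx, hxE, c, hc, hca, hvc⟩ := K.exists_point C
  obtain ⟨e, he, hec⟩ := K.exists_trans C hx hxE hc hca hr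
  refine K.free C (mul_mem hr hr) hvc ?_
  have h2 : (r * e) * (r * e) = r * r := by
    rw [((K.comm r hr).2 e he).mul_mul_mul_comm, K.isE.mul_self C he, mul_one]
  rw [← h2, mul_smul, hec, hec]

/-- **The kernel is no larger than `E`.** -/
theorem card_le : Nat.card R ≤ Nat.card E := by
  obtain ⟨x, hx, hxE, c, hc, hca, hvc⟩ := K.exists_point C
  choose f hfE hfc using fun r : R => K.exists_trans C hx hxE hc hca r.2
  refine Nat.card_le_card_of_injective (fun r => (⟨f r, hfE r⟩ : E)) fun r s h => ?_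
  have h1 : f r = f s := congrArg Subtype.val h
  have h2 := (hfc r).trans (hfc s).symm
  rw [h1, mul_smul, mul_smul] at h2
  have h3 := K.free C (mul_mem (inv_mem s.2) r.2) (c := f s • c) (fun h4 => hvc ?_)
    (by rw [mul_smul, h2, inv_smul_smul])
  · exact Subtype.ext (inv_mul_eq_one.1 h3).symm
  · rw [smul_smul, ← (K.isE.commute_v C (hfE s)).eq, mul_smul] at h4
    exact smul_left_cancel _ h4

/-- The odd core of the stabiliser fixes the fixed points of `v x` once the kernel is more than `⟨v⟩`. -/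
theorem core_fix_mul {r : G} (hr : r ∈ R) (hr1 : r ≠ 1) (hrv : r ≠ v) {x : G} (hx : x ∈ E) {g : G}
    (hg : g ∈ coreIn (MulAction.stabilizer G a)) {c : C.Pt} (hc : (v * x) • c = c) : g • c = c := by
  by_cases hca : c = a
  · rw [hca]; exact MulAction.mem_stabilizer_iff.1 (coreIn_le _ hg)
  have hr2 := K.mul_self C hr
  have hrnv : r * v ≠ 1 := fun h => hrv (by
    rw [eq_inv_of_mul_eq_one_left h, inv_eq_self K.bad.1])
  have hrE : ∀ {e : G}, e ∈ E → r ≠ e := fun {e} he h => hr1 (by
    rw [h]; exact K.isE.free C he K.ne (h ▸ (K.fix r hr).2))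
  have hrvE : ∀ {e : G}, e ∈ E → r * v ≠ e := fun {e} he h => hrnv (by
    rw [h]; exact K.isE.free C he K.ne (by rw [← h, mul_smul, K.fix_b, (K.fix r hr).2]))
  obtain ⟨hvx, hvxa⟩ : C.Bad (v * x) ∧ (v * x) • a = a := by
    by_cases h : x = 1
    · subst h; rw [mul_one]; exact ⟨K.bad, K.fix_a⟩
    · obtain ⟨h1, h2, -, -⟩ := K.bad.mul_Ea C K.faith K.pair K.fix_a (K.isE.mem x hx h)
      exact ⟨h1, h2⟩
  have hcv : ∀ e ∈ E, Commute e (v * x) := fun e he =>
    (K.isE.commute_v C he).mul_right (K.isE.commute C he hx)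
  obtain ⟨e, he, hec⟩ : ∃ e ∈ E, (r * e) • c = c := by
    by_cases h : x = 1
    · subst h
      rw [mul_one] at hc
      exact ⟨1, one_mem _, by rw [mul_one]; exact K.fix_fixed C hr hc⟩
    · exact K.exists_trans C (K.isE.mem x hx h) hx hc hca hr
  have hcr : ∀ e' ∈ E, Commute e' (r * e) := fun e' he' =>
    ((K.comm r hr).2 e' he').mul_right (K.isE.commute C he' he)
  have hre2 : (r * e) * (r * e) = 1 := by
    rw [((K.comm r hr).2 e he).mul_mul_mul_comm, hr2, K.isE.mul_self C he, one_mul]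
  have hre1 : r * e ≠ 1 := fun h => hrE (inv_mem he) (eq_inv_of_mul_eq_one_left h)
  have hne : v * x ≠ r * e := by
    intro h
    refine hrvE (mul_mem hx he) ?_
    calc r * v = v * r := (K.comm r hr).1.eq
      _ = v * (r * e * e) := by rw [mul_assoc r e e, K.isE.mul_self C he, mul_one]
      _ = v * (v * x * e) := by rw [h]
      _ = x * e := by rw [← mul_assoc, ← mul_assoc, mul_self_eq_one K.bad.1, one_mul]
  have hcm : Commute (v * x) (r * e) :=
    (((K.comm r hr).1.symm.mul_left ((K.comm r hr).2 x hx)).mul_right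
      (((K.isE.commute_v C he).symm).mul_left (K.isE.commute C hx he)))
  have hra : (r * e) • a = a := by rw [mul_smul, K.isE.le_stab C he, (K.fix r hr).1]
  have hfix3 : (v * x * (r * e)) • c = c := by rw [mul_smul, hec, hc]
  have hb2 : C.Bad (r * e) := ⟨orderOf_eq_two hre2 hre1, a, c, Ne.symm hca, hra, hec⟩
  have hb3 : C.Bad (v * x * (r * e)) := by
    refine ⟨orderOf_eq_two ?_ ?_, a, c, Ne.symm hca, by rw [mul_smul, hra, hvxa], hfix3⟩
    · rw [hcm.symm.mul_mul_mul_comm, mul_self_eq_one hvx.1, hre2, one_mul]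
    · intro h
      exact hne (by rw [eq_inv_of_mul_eq_one_left h, inv_eq_of_mul_eq_one_right hre2])
  have hc3 : ∀ e' ∈ E, Commute e' (v * x * (r * e)) := fun e' he' =>
    (hcv e' he').mul_right (hcr e' he')
  exact Full.core_fix_four C K.isE ⟨hvx, hvxa, hcv, K.size _ hvx hvxa hcv⟩
    ⟨hb2, hra, hcr, K.size _ hb2 hra hcr⟩
    ⟨hb3, hb3.2.elim fun _ _ => by rw [mul_smul, hra, hvxa], hc3,
      K.size _ hb3 (by rw [mul_smul, hra, hvxa]) hc3⟩ hcm hne hc hec hg

/-- The elements fixing all fixed points of `u = v` or `v x` fix those of `u x`. -/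
theorem Om_fix_mul {r : G} (hr : r ∈ R) (hr1 : r ≠ 1) (hrv : r ≠ v) {u x y : G} (hxE : x ∈ E)
    (hyE : y ∈ E) (hu : C.Bad u) (hua : u • a = a) (hpu : PairRank ↥(C.L u)) (hux : x ∈ C.Ea u a)
    (huy : u * x = v * y) {o : G} (ho : o ∈ C.Om u) {c : C.Pt} (hc : (u * x) • c = c) :
    o • c = c := by
  haveI : Fact (Nat.Prime 2) := ⟨Nat.prime_two⟩
  set O := coreIn (MulAction.stabilizer G a) with hO
  have hxx := C.mul_self_Z hux.1.1
  have hxi := C.inv_Z hux.1.1
  have hxL := C.mem_L_of_Ea hux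
  set A := zpowers x
  have hA : A ≤ normalizer (C.Om u : Set G) := zpowers_le.2
    (Closed.mem_normalizer_of_conj fun k hk => C.conj_mem_Om hux.2 hk hxL)
  have hxH : x ∈ MulAction.stabilizer G a := MulAction.mem_stabilizer_iff.2 hux.1.2
  have hA2 : IsPGroup 2 A := IsPGroup.of_card (n := 1) (by
    rw [Nat.card_zpowers, C.orderOf_Z hux.1.1, pow_one])
  have hcop : (Nat.card A).Coprime (Nat.card (C.Om u)) := by
    rw [Nat.card_zpowers, C.orderOf_Z hux.1.1]
    exact Nat.coprime_two_left.2 (hu.odd_Om C)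
  haveI := hA2.isNilpotent
  obtain ⟨d, hd, hod⟩ := CfsgLib.CoprimeAct.exists_centralizing_mem_coset hA hcop
    (N := C.Om u ⊓ O) inf_le_left
    ((le_inf hA (zpowers_le.2 (normalizer_coreIn _ hxH))).trans inf_normalizer_le_normalizer_inf)
    (Or.inl inferInstance) ho (fun t ht => by
      obtain ⟨i, rfl⟩ := mem_zpowers_iff.1 ht
      rcases Int.even_or_odd i with ⟨j, rfl⟩ | ⟨j, rfl⟩
      · rw [← two_mul, zpow_mul, zpow_two, hxx, one_zpow]
        simp
      · rw [zpow_add, zpow_mul, zpow_two, hxx, one_zpow, one_mul, zpow_one]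
        -- `o⁻¹ x o` is a member at `a` with odd product with `x`
        have hoL := (C.mem_Om.1 (inv_mem ho)).1
        have hs : o⁻¹ * x * o ∈ C.Ea u a := by
          have := C.conj_mem_Ea_L (g := o⁻¹) hoL hux
          rwa [inv_inv, (C.mem_Om.1 (inv_mem ho)).2 a hua] at this
        have hmem : x * (o⁻¹ * x * o) ∈ C.Om u := by
          have h1 := C.conj_mem_Om hux.2 (inv_mem ho) hxL
          rw [show x * (o⁻¹ * x * o) = x * o⁻¹ * x⁻¹ * o by rw [hxi]; group]
          exact mul_mem h1 ho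
        have h1 := K.bad.mul_mem_core C K.faith K.pair K.fix_a K.isE K.cross hxE hs.1
          ((hu.odd_Om C).of_dvd_nat (orderOf_dvd_natCard _ hmem))
        have h2 : o⁻¹ * (x * o * x⁻¹) ∈ O := by
          have h3 := (mem_normalizer_iff.1 (normalizer_coreIn _ hxH) _).1 h1
          rwa [show x * (x * (o⁻¹ * x * o)) * x⁻¹ = o⁻¹ * (x * o * x⁻¹) by
            rw [hxi, ← mul_assoc x x, hxx, one_mul]; group] at h3
        exact mem_inf.2 ⟨mul_mem (inv_mem ho) (C.conj_mem_Om hux.2 ho hxL), h2⟩)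
  obtain ⟨hdO, hdc⟩ := mem_inf.1 hd
  have h1 : d • c = c := hu.fix_of_central C K.faith hpu hua hux hdO
    ((mem_centralizer_iff.1 hdc x (mem_zpowers x)).symm) hc
  have h2 : (d⁻¹ * o) ∈ O := by
    have := inv_mem (mem_inf.1 hod).2
    rwa [mul_inv_rev, inv_inv] at this
  have h3 := K.core_fix_mul C hr hr1 hrv hyE h2 (huy ▸ hc)
  calc o • c = d • (d⁻¹ * o) • c := by rw [mul_smul, smul_inv_smul]
    _ = c := by rw [h3, h1]

/-- **A kernel larger than `⟨v⟩` leaves no odd core acting.** -/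
theorem Om_trivial {r : G} (hr : r ∈ R) (hr1 : r ≠ 1) (hrv : r ≠ v) {o : G} (ho : o ∈ C.Om v)
    (c : C.Pt) : o • c = c := by
  obtain ⟨x, hx, hxE, -⟩ := K.exists_point C
  exact K.bad.Om_fix_all C hx (fun o ho c hc =>
    K.Om_fix_mul C hr hr1 hrv hxE hxE K.bad K.fix_a K.pair hx rfl ho hc) o ho c

/-- The same for the products with the members of `E`. -/
theorem Om_mul_trivial {r : G} (hr : r ∈ R) (hr1 : r ≠ 1) (hrv : r ≠ v) {x : G} (hxE : x ∈ E)
    (hx1 : x ≠ 1) {o : G} (ho : o ∈ C.Om (v * x)) (c : C.Pt) : o • c = c := by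
  have hx := K.isE.mem x hxE hx1
  obtain ⟨hb, ha, hx', hp⟩ := K.bad.mul_Ea C K.faith K.pair K.fix_a hx
  exact hb.Om_fix_all C hx' (fun o ho c hc =>
    K.Om_fix_mul C hr hr1 hrv hxE (one_mem E) hb ha hp hx'
      (by rw [C.mul_mul_Ea hx, mul_one]) ho hc) o ho c

end Ker

end Ctx

end CfsgLib.Criterion
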