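import Cfsg.Agent.Invol.BaerSuzuki
import Cfsg.Agent.Solvable.Basics
import Mathlib.LinearAlgebra.Determinant
import Mathlib.LinearAlgebra.FreeModule.StrongRankCondition
import Mathlib.LinearAlgebra.FreeModule.Finite.Basic
import Mathlib.Algebra.Module.ZMod
import Mathlib.FieldTheory.Finiteness

/-!
# Two facts for the exceptional second layer

The sign of the automorphisms of a free `ZMod 4` module, and the impossibility of a crossed
homomorphism onto an elementary abelian group of square order with an involution free of fixed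
points in the affine action and a transitive element normalised by the stabiliser of the origin.
-/

set_option autoImplicit false
set_option linter.style.haveILetI false
set_option linter.unusedSectionVars false

namespace CfsgLib.Criterion.Layers

/-- A multiplicative sign of the endomorphisms of a group `(Z/4)^n`, equal to `(-1)^n` at `-1`. -/
theorem exists_sign {A : Type*} [AddCommGroup A] [Finite A] {n : ℕ} (h4 : ∀ x : A, 4 • x = 0)
    (hcard : Nat.card A = 4 ^ n) (hhalf : ∀ x : A, 2 • x = 0 → ∃ y, 2 • y = x) :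
    ∃ χ : AddMonoid.End A →* ZMod 4, χ (-1) = (-1) ^ n := by
  classical
  haveI : Fact (Nat.Prime 2) := ⟨Nat.prime_two⟩
  haveI : Fact (1 < 4) := ⟨by norm_num⟩
  letI : Module (ZMod 4) A := AddCommGroup.zmodModule h4
  set dbl : A →+ A := nsmulAddMonoidHom 2 with hdbl
  set K : AddSubgroup A := dbl.range with hK
  have hker : dbl.ker = K := by
    refine le_antisymm (fun x hx => ?_) ?_
    · obtain ⟨y, hy⟩ := hhalf x hx
      exact ⟨y, hy⟩
    · rintro _ ⟨y, rfl⟩
      show 2 • (2 • y) = 0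
      rw [← mul_nsmul]
      exact h4 y
  have hKcard : Nat.card K = 2 ^ n := by
    have h := dbl.ker.card_mul_index
    rw [AddSubgroup.index_ker, hker, ← hK, hcard, show (4 : ℕ) ^ n = (2 ^ n) ^ 2 by
      rw [← pow_mul, mul_comm, pow_mul]; norm_num, ← sq] at h
    exact Nat.pow_left_injective (by norm_num) h
  have hK2 : ∀ x : K, 2 • x = 0 := fun x => by
    obtain ⟨y, hy⟩ := x.2
    refine Subtype.ext ?_
    show 2 • (x : A) = 0
    rw [← hy]
    show 2 • (2 • y) = 0
    rw [← mul_nsmul]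
    exact h4 y
  letI : Module (ZMod 2) K := AddCommGroup.zmodModule hK2
  have hfin : Module.finrank (ZMod 2) K = n := by
    have h := Module.natCard_eq_pow_finrank (K := ZMod 2) (V := K)
    rw [hKcard, Nat.card_zmod] at h
    exact (Nat.pow_right_injective le_rfl h).symm
  set bK := Module.finBasisOfFinrankEq (ZMod 2) K hfin with hbK
  choose y hy using fun i => (bK i).2
  set R : Submodule (ZMod 4) A := Submodule.span (ZMod 4) (Set.range y) with hR
  have hKR : ∀ x : K, ∃ r ∈ R, 2 • r = (x : A) := by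
    let J : AddSubgroup K :=
      { carrier := {x | ∃ r ∈ R, 2 • r = (x : A)}
        zero_mem' := ⟨0, zero_mem R, smul_zero 2⟩
        add_mem' := fun {p q} ⟨r, hr, e⟩ ⟨r', hr', e'⟩ =>
          ⟨r + r', add_mem hr hr', by rw [smul_add, e, e']; rfl⟩
        neg_mem' := fun {p} ⟨r, hr, e⟩ => ⟨-r, neg_mem hr, by rw [smul_neg, e]; rfl⟩ }
    have htop : (⊤ : Submodule (ZMod 2) K) ≤ AddSubgroup.toZModSubmodule 2 J := by
      rw [← bK.span_eq, Submodule.span_le]
      rintro _ ⟨i, rfl⟩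
      exact ⟨y i, Submodule.subset_span ⟨i, rfl⟩, hy i⟩
    exact fun x => htop (Submodule.mem_top : x ∈ (⊤ : Submodule (ZMod 2) K))
  have hK_R : ∀ x : A, x ∈ K → x ∈ R := fun x hx => by
    obtain ⟨r, hr, e⟩ := hKR ⟨x, hx⟩
    rw [show x = 2 • r from e.symm]
    exact nsmul_mem hr 2
  have hsurj : Function.Surjective (Fintype.linearCombination (ZMod 4) y) := by
    refine LinearMap.range_eq_top.1 ?_
    rw [Fintype.range_linearCombination, ← hR, eq_top_iff]
    intro x _
    obtain ⟨r, hr, e⟩ := hKR ⟨2 • x, x, rfl⟩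
    have h1 : x - r ∈ dbl.ker := by
      show 2 • (x - r) = 0
      rw [smul_sub, sub_eq_zero]
      exact e.symm
    rw [hker] at h1
    simpa using add_mem (hK_R _ h1) hr
  have hbij : Function.Bijective (Fintype.linearCombination (ZMod 4) y) :=
    hsurj.bijective_of_nat_card_le (by rw [hcard, Nat.card_fun, Nat.card_zmod, Nat.card_fin])
  set e := LinearEquiv.ofBijective _ hbij with he
  haveI : Module.Free (ZMod 4) A := Module.Free.of_equiv e
  have hrank : Module.finrank (ZMod 4) A = n := by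
    rw [← e.finrank_eq, Module.finrank_fin_fun]
  refine ⟨{ toFun := fun f => LinearMap.det (AddMonoidHom.toZModLinearMap 4 f)
            map_one' := ?_
            map_mul' := fun f g => ?_ }, ?_⟩
  · rw [show AddMonoidHom.toZModLinearMap 4 (1 : AddMonoid.End A) = LinearMap.id from
      LinearMap.ext fun _ => rfl, LinearMap.det_id]
  · rw [← LinearMap.det_comp]
    exact congrArg _ (LinearMap.ext fun _ => rfl)
  · show LinearMap.det (AddMonoidHom.toZModLinearMap 4 (-1 : AddMonoid.End A)) = _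
    rw [show AddMonoidHom.toZModLinearMap 4 (-1 : AddMonoid.End A) = (-1 : ZMod 4) • LinearMap.id from
      LinearMap.ext fun x => (neg_one_smul (ZMod 4) x).symm, LinearMap.det_smul, LinearMap.det_id,
      mul_one, hrank]

variable {N : Type*} [Group N] [Finite N] {E : Type*} [CommGroup E] [Finite E]

/-- **The affine action**: no crossed homomorphism as above exists. -/
theorem false_of_affine (hE : ∀ x : E, x * x = 1) {m : ℕ} (hm : 1 ≤ m) (hcard : Nat.card E = 4 ^ m)
    (ρ : N →* MulAut E) (c : N → E) (hc : ∀ g h, c (g * h) = c g * ρ g (c h))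
    (hker : ∀ g, ρ g = 1 → c g = 1) (hsurj : ∀ e, ∃ g, c g = e)
    {a : N} (ha : c a = 1) (htrans : ∀ e e' : E, e ≠ 1 → e' ≠ 1 → ∃ k : ℕ, (ρ a ^ k) e = e')
    (hnorm : ∀ g, c g = 1 → ∃ k : ℕ, ρ g * ρ a * (ρ g)⁻¹ = ρ a ^ k)
    {t : N} (htt : ρ t * ρ t = 1) (hfpf : ∀ x, c t * ρ t x ≠ x) : False := by
  classical
  haveI : Fact (Nat.Prime 2) := ⟨Nat.prime_two⟩
  have h1 : c 1 = 1 := hker 1 (map_one ρ)
  have hcρ : ∀ {g h : N}, ρ g = ρ h → c g = c h := fun {g h} e => by
    rw [show h = g * (g⁻¹ * h) by group, hc, hker (g⁻¹ * h) (by rw [map_mul, map_inv, e, inv_mul_cancel]),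
      map_one, mul_one]
  have hapow : ∀ k : ℕ, c (a ^ k) = 1 := fun k => by
    induction k with
    | zero => rw [pow_zero, h1]
    | succ k ih => rw [pow_succ, hc, ih, ha, map_one, mul_one]
  -- the fixed points of `t`
  set τ := ρ t with hτ
  let f : E →* E :=
    { toFun := fun x => x * τ x
      map_one' := by simp
      map_mul' := fun x y => by rw [map_mul, mul_mul_mul_comm] }
  set W := f.ker with hW
  have hWmem : ∀ {x}, x ∈ W → τ x = x := fun {x} hx => by
    have h : x * τ x = 1 := hx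
    rw [← inv_eq_of_mul_eq_one_right h, inv_eq_of_mul_eq_one_right (hE x)]
  have hctW : c t ∈ W := by
    show c t * τ (c t) = 1
    rw [← hc, hker _ (by rw [map_mul, htt])]
  have hrW : f.range ≤ W := by
    rintro _ ⟨x, rfl⟩
    show x * τ x * τ (x * τ x) = 1
    have e : τ (τ x) = x := by rw [← MulAut.mul_apply, htt, MulAut.one_apply]
    rw [map_mul, e, mul_comm (τ x) x]
    exact hE _
  have hctI : c t ∉ f.range := by
    rintro ⟨x, hx⟩
    refine hfpf x ?_
    rw [← show x * τ x = c t from hx, mul_assoc, hE, mul_one]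
  have hWbig : 2 ^ (m + 1) ≤ Nat.card W := by
    have hp : IsPGroup 2 E := fun x => ⟨1, by rw [pow_one, sq, hE]⟩
    obtain ⟨w, hw⟩ := IsPGroup.iff_card.1 (hp.to_subgroup W)
    have h2 : 2 * Nat.card f.range ≤ Nat.card W := by
      obtain ⟨j, hj⟩ := Subgroup.card_dvd_of_le hrW
      have hpos : 0 < Nat.card W := Nat.card_pos
      rcases j with _ | _ | j
      · omega
      · exact absurd (Subgroup.eq_of_le_of_card_ge hrW (by rw [hj, zero_add, mul_one]) ▸ hctW) hctI
      · rw [hj, mul_comm 2]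
        exact Nat.mul_le_mul_left _ (by omega)
    have h3 := W.card_mul_index
    rw [hW, Subgroup.index_ker, ← hW, hcard] at h3
    rw [hw] at h2 h3 ⊢
    refine Nat.pow_le_pow_right two_pos ?_
    have h4 : 2 ^ (2 * m + 1) ≤ 2 ^ (w + w) := by
      rw [pow_succ, pow_mul, show (2 : ℕ) ^ 2 = 4 by norm_num, ← h3, pow_add, mul_assoc,
        mul_comm (Nat.card f.range)]
      exact Nat.mul_le_mul_left _ h2
    have := (Nat.pow_le_pow_iff_right (by norm_num : 1 < 2)).1 h4
    omega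
  -- an element of odd order inverted by `t`
  set X := ρ.range with hX
  have hτ1 : τ ≠ 1 := fun e => hfpf 1 (by rw [map_one, mul_one, hker t e])
  have hord : orderOf (⟨τ, t, rfl⟩ : X) = 2 :=
    orderOf_eq_prime (by rw [sq]; exact Subtype.ext htt) fun e => hτ1 (congrArg Subtype.val e)
  have hcore : (⟨τ, t, rfl⟩ : X) ∉ Cfsg.pCore 2 X := by
    intro hmem
    have hQ : IsPGroup 2 (Cfsg.pCore 2 X) := CfsgLib.Solvable.isPGroup_pCore 2
    have hdvd : 2 ∣ Nat.card E := by
      rw [hcard]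
      exact dvd_pow (by norm_num) (by omega)
    have hmod := hQ.card_modEq_card_fixedPoints E
    have hne : ∃ e ∈ MulAction.fixedPoints ↥(Cfsg.pCore 2 X) E, e ≠ (1 : E) := by
      by_contra! hall
      have heq : MulAction.fixedPoints ↥(Cfsg.pCore 2 X) E = {1} :=
        Set.eq_singleton_iff_unique_mem.2 ⟨fun q => map_one ((q : X) : MulAut E), hall⟩
      rw [heq, Nat.card_coe_set_eq, Set.ncard_singleton] at hmod
      have := hmod.symm.trans (Nat.modEq_zero_iff_dvd.2 hdvd)
      exact absurd this (by decide)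
    obtain ⟨e, he, he1⟩ := hne
    refine hτ1 (MulEquiv.ext fun x => ?_)
    rcases eq_or_ne x 1 with rfl | hx
    · exact map_one τ
    obtain ⟨k, rfl⟩ := htrans e x he1 hx
    set α : X := ⟨ρ a, a, rfl⟩
    have hn := (CfsgLib.Solvable.pCore_normal (G := X) 2).conj_mem _ hmem (α ^ k)⁻¹
    have h : ((α ^ k)⁻¹ * ⟨τ, t, rfl⟩ * (α ^ k)⁻¹⁻¹ : X).1 e = e := he ⟨_, hn⟩
    rw [inv_inv] at h
    have h' := congrArg (ρ a ^ k) h
    simpa [α] using h'
  obtain ⟨h, hne1, hodd, hinv⟩ :=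
    CfsgLib.Invol.exists_inverted_odd (⟨τ, t, rfl⟩ : X) hord hcore
  set σ : MulAut E := (h : MulAut E) with hσ
  have hτinv : τ * σ * τ⁻¹ = σ⁻¹ := congrArg Subtype.val hinv
  have hσodd : Odd (orderOf σ) := by rwa [hσ, Subgroup.orderOf_coe]
  have hσ1 : σ ≠ 1 := fun e => hne1 (Subtype.ext e)
  obtain ⟨j, hj⟩ := hodd
  set y : MulAut E := σ ^ (j + 1) with hy
  have hyy : y * y = σ := by
    rw [hy, ← pow_add, show j + 1 + (j + 1) = (2 * j + 1) + 1 by omega, pow_succ]
    rw [hσ, ← hj, ← Subgroup.orderOf_coe, pow_orderOf_eq_one, one_mul]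
  have hτy : τ * y * τ⁻¹ = y⁻¹ := by rw [hy, ← conj_pow, hτinv, inv_pow]
  have hfixσ : ∀ x : E, τ x = x → τ (y x) = y x → σ x = x := fun x hx hxy => by
    have e : σ = τ⁻¹ * (y⁻¹ * τ * y) := by
      rw [show y⁻¹ * τ = τ * y by rw [← hτy]; group, show τ⁻¹ * (τ * y * y) = y * y by group, hyy]
    have hi : ∀ z, τ z = z → τ⁻¹ z = z := fun z hz => by
      conv_lhs => rw [← hz]
      exact MulAut.inv_apply_self E τ z
    rw [e, MulAut.mul_apply, MulAut.mul_apply, MulAut.mul_apply, hxy, MulAut.inv_apply_self]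
    exact hi x hx
  -- so `σ` fixes at least four elements
  let F : Subgroup E :=
    { carrier := {x | σ x = x}
      one_mem' := map_one σ
      mul_mem' := fun {p q} hp hq => show σ (p * q) = p * q by
        rw [map_mul, show σ p = p from hp, show σ q = q from hq]
      inv_mem' := fun {p} hp => show σ p⁻¹ = p⁻¹ by rw [map_inv, show σ p = p from hp] }
  have hFcard : 4 ≤ Nat.card F := by
    set W' : Subgroup E := W.map (y⁻¹ : MulAut E).toMonoidHom
    have hle : W ⊓ W' ≤ F := by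
      rintro x ⟨hx, z, hz, e⟩
      refine hfixσ x (hWmem hx) ?_
      rw [← show (y⁻¹ : MulAut E) z = x from e, MulAut.apply_inv_self, hWmem hz]
    have hW' : Nat.card W' = Nat.card W := Subgroup.card_map_of_injective (y⁻¹ : MulAut E).injective
    have h := CfsgLib.Solvable.card_sup_mul_card_inf (K := W) (A := W')
      (fun x _ => Subgroup.mem_normalizer_iff.2 fun z => by rw [mul_comm x z, mul_inv_cancel_right])
    have h2 : Nat.card ↥(W' ⊔ W) ≤ 4 ^ m :=
      hcard ▸ Nat.card_le_card_of_injective _ Subtype.val_injective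
    have h3 : Nat.card ↥(W' ⊓ W) ≤ Nat.card F :=
      Subgroup.card_le_of_le (by rw [inf_comm]; exact hle)
    have h4 : 4 ^ m * 4 ≤ 4 ^ m * Nat.card F := by
      calc 4 ^ m * 4 = 2 ^ (m + 1) * 2 ^ (m + 1) := by
            rw [← pow_add, ← pow_succ, show (4 : ℕ) = 2 ^ 2 by norm_num, ← pow_mul]
            congr 1
            omega
        _ ≤ Nat.card W * Nat.card W := Nat.mul_le_mul hWbig hWbig
        _ = Nat.card ↥(W' ⊔ W) * Nat.card ↥(W' ⊓ W) := by rw [h, hW']
        _ ≤ 4 ^ m * Nat.card F := Nat.mul_le_mul h2 h3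
    exact Nat.le_of_mul_le_mul_left h4 (by positivity)
  -- translate a fixed point of a lift of `σ` to the origin
  obtain ⟨g, hg⟩ := h.2
  change ρ g = σ at hg
  set x := ∏ i ∈ Finset.range (orderOf σ), c (g ^ i) with hx
  have hgx : c g * ρ g x = x := by
    have hcgk : c g ^ orderOf σ = c g := by
      obtain ⟨i, hi⟩ := hσodd
      rw [hi, pow_succ, pow_mul, sq, hE, one_pow, one_mul]
    have hshift : ∏ i ∈ Finset.range (orderOf σ), c (g ^ (i + 1)) = x := by
      have e1 := Finset.prod_range_succ' (fun i => c (g ^ i)) (orderOf σ)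
      have e2 := Finset.prod_range_succ (fun i => c (g ^ i)) (orderOf σ)
      rw [e2, pow_zero, h1, mul_one, hker (g ^ orderOf σ) (by rw [map_pow, hg, pow_orderOf_eq_one]),
        mul_one, ← hx] at e1
      exact e1.symm
    have e : ∀ i : ℕ, ρ g (c (g ^ i)) = c g * c (g ^ (i + 1)) := fun i => by
      rw [pow_succ', hc, ← mul_assoc, hE, one_mul]
    rw [hx, map_prod, Finset.prod_congr rfl fun i _ => e i, Finset.prod_mul_distrib, Finset.prod_const,
      Finset.card_range, hcgk, hshift, ← mul_assoc, hE, one_mul, hx]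
  obtain ⟨d, hd⟩ := hsurj x
  have hfixd : ∀ u : N, c (d⁻¹ * u * d) = 1 ↔ c u * ρ u x = x := fun u => by
    have e : c u * ρ u x = x * ρ d (c (d⁻¹ * u * d)) := by
      rw [← hd, ← hc, ← hc, show d * (d⁻¹ * u * d) = u * d by group]
    rw [e, mul_eq_left]
    exact ⟨fun h => by rw [h, map_one], fun h => (ρ d).injective (by rw [h, map_one])⟩
  set t' := d⁻¹ * t * d with ht'
  set g' := d⁻¹ * g * d with hg'
  have hg'1 : c g' = 1 := (hfixd g).2 hgx
  have ht'1 : c t' ≠ 1 := fun h => hfpf x ((hfixd t).1 h)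
  set σ' := ρ g' with hσ'
  have hσ'eq : σ' = (ρ d)⁻¹ * σ * ρ d := by rw [hσ', hg', map_mul, map_mul, map_inv, hg]
  have hinv' : ρ t' * σ' * (ρ t')⁻¹ = σ'⁻¹ := by
    have h4 : ρ t' = (ρ d)⁻¹ * τ * ρ d := by rw [ht', map_mul, map_mul, map_inv]
    rw [h4, hσ'eq, show ((ρ d)⁻¹ * τ * ρ d) * ((ρ d)⁻¹ * σ * ρ d) * ((ρ d)⁻¹ * τ * ρ d)⁻¹ =
      (ρ d)⁻¹ * (τ * σ * τ⁻¹) * ρ d by group, hτinv]
    group
  have hσ'1 : σ' * σ' ≠ 1 := by
    intro h
    have e : σ * σ = 1 := by
      rw [hσ'eq] at h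
      rw [show σ * σ = ρ d * ((ρ d)⁻¹ * σ * ρ d * ((ρ d)⁻¹ * σ * ρ d)) * (ρ d)⁻¹ by group, h]
      group
    obtain ⟨i, hi⟩ := hσodd
    refine hσ1 ?_
    have := pow_orderOf_eq_one σ
    rwa [hi, pow_succ, pow_mul, sq, e, one_pow, one_mul] at this
  clear_value t' g'
  -- two fixed elements of `σ'`
  have hctF : σ' (c t') = c t' := by
    have e : c (t' * g') = c (g'⁻¹ * t') := hcρ (by
      rw [map_mul ρ t' g', map_mul ρ g'⁻¹ t', map_inv ρ g', ← hσ', ← hinv', inv_mul_cancel_right])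
    rw [hc, hg'1, map_one, mul_one] at e
    have hgi : c g'⁻¹ = 1 := by
      have := hc g'⁻¹ g'
      rwa [inv_mul_cancel, h1, hg'1, map_one, mul_one, eq_comm] at this
    rw [hc, hgi, one_mul, map_inv, ← hσ'] at e
    conv_lhs => rw [e]
    exact MulAut.apply_inv_self E σ' _
  obtain ⟨e₀, he₀, he₀1, he₀t⟩ : ∃ e₀, σ' e₀ = e₀ ∧ e₀ ≠ 1 ∧ e₀ ≠ c t' := by
    by_contra! hall
    have hsub : (F : Set E) ⊆ {1, ρ d (c t')} := fun z hz => by
      by_cases h : (ρ d)⁻¹ z = 1
      · left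
        rw [← MulAut.apply_inv_self E (ρ d) z, h, map_one]
      · right
        have h2 := hall ((ρ d)⁻¹ z) (by
          rw [hσ'eq, MulAut.mul_apply, MulAut.mul_apply, MulAut.apply_inv_self, show σ z = z from hz]) h
        rw [Set.mem_singleton_iff, ← h2, MulAut.apply_inv_self]
    have h2 := Nat.card_mono (Set.toFinite _) hsub
    have h3 : Nat.card ({1, ρ d (c t')} : Set E) ≤ 2 := by
      rw [Nat.card_coe_set_eq]; exact (Set.ncard_insert_le _ _).trans (by simp)
    exact absurd (hFcard.trans (h2.trans h3)) (by omega)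
  -- powers of `ρ a` determined by one value
  set α := ρ a with hα
  have hall : ∀ {u w : MulAut E}, Commute u α → Commute w α → ∀ {e : E}, e ≠ 1 → u e = w e → u = w := by
    intro u w hu hw e he huw
    refine MulEquiv.ext fun z => ?_
    rcases eq_or_ne z 1 with rfl | hz
    · rw [map_one, map_one]
    obtain ⟨k, rfl⟩ := htrans e z he hz
    rw [← MulAut.mul_apply, ← MulAut.mul_apply, (hu.pow_right k).eq, (hw.pow_right k).eq, MulAut.mul_apply,
      MulAut.mul_apply, huw]
  obtain ⟨l, hl⟩ := hnorm g' hg'1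
  rw [← hσ'] at hl
  have hcomm : ∀ {e : E}, σ' e = e → e ≠ 1 → ∀ k : ℕ, σ' ((α ^ k) e) = (α ^ k) e → Commute (α ^ k) σ' := by
    intro e he he1 k hk
    have e1 : σ' * α ^ k * σ'⁻¹ = (α ^ l) ^ k := by rw [← conj_pow, hl]
    have e2 : σ' * α ^ k * σ'⁻¹ = α ^ k := by
      rw [e1, ← pow_mul]
      refine hall (Commute.pow_self α _) (Commute.pow_self α _) he1 ?_
      have e3 : (σ'⁻¹ : MulAut E) e = e := by
        conv_lhs => rw [← he]
        exact MulAut.inv_apply_self E σ' e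
      rw [pow_mul, ← e1, MulAut.mul_apply, MulAut.mul_apply, e3, hk]
    exact (mul_inv_eq_iff_eq_mul.1 e2).symm
  by_cases hC : ∃ u, Commute (ρ u) σ' ∧ c u ≠ 1
  · obtain ⟨u, hu, hu1⟩ := hC
    have huF : σ' (c u) = c u := by
      have e : c (g' * u) = c (u * g') := hcρ (by rw [map_mul, map_mul, ← hσ', hu.eq])
      rwa [hc, hc, hg'1, map_one, one_mul, mul_one, ← hσ'] at e
    obtain ⟨k, hk⟩ := htrans (c u) (c t') hu1 ht'1
    have hu2 : Commute (ρ (a ^ k * u)) σ' := by
      rw [map_mul, map_pow]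
      exact (hcomm huF hu1 k (by rw [hk, hctF])).mul_left hu
    have hcu : c (a ^ k * u) = c t' := by rw [hc, hapow, one_mul, map_pow, hk]
    set s := (a ^ k * u)⁻¹ * t' with hs
    have hs1 : c s = 1 := by
      have e := hc (a ^ k * u) s
      rw [show a ^ k * u * s = t' by rw [hs]; group, hcu, left_eq_mul] at e
      exact (ρ (a ^ k * u)).injective (e.trans (map_one _).symm)
    have hsinv : ρ s * σ' * (ρ s)⁻¹ = σ'⁻¹ := by
      rw [hs, map_mul, map_inv, show (ρ (a ^ k * u))⁻¹ * ρ t' * σ' * ((ρ (a ^ k * u))⁻¹ * ρ t')⁻¹ =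
        (ρ (a ^ k * u))⁻¹ * (ρ t' * σ' * (ρ t')⁻¹) * ρ (a ^ k * u) by group, hinv',
        mul_assoc, hu2.inv_right.symm.eq, inv_mul_cancel_left]
    have hsi : c s⁻¹ = 1 := by
      have := hc s⁻¹ s
      rwa [inv_mul_cancel, h1, hs1, map_one, mul_one, eq_comm] at this
    obtain ⟨i, hi⟩ := hnorm s⁻¹ hsi
    rw [map_inv, inv_inv] at hi
    have hflip : σ'⁻¹ * α * σ' = σ' * α * σ'⁻¹ := by
      calc σ'⁻¹ * α * σ' = ρ s * σ' * (ρ s)⁻¹ * α * (ρ s * σ' * (ρ s)⁻¹)⁻¹ := by rw [hsinv, inv_inv]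
        _ = ρ s * (σ' * ((ρ s)⁻¹ * α * ρ s) * σ'⁻¹) * (ρ s)⁻¹ := by group
        _ = ρ s * ((α ^ i) ^ l) * (ρ s)⁻¹ := by rw [hi, ← conj_pow, hl, ← pow_mul, ← pow_mul, mul_comm]
        _ = (ρ s * (α ^ i) * (ρ s)⁻¹) ^ l := (conj_pow ..).symm
        _ = α ^ l := by
            rw [← hi]
            congr 1
            group
        _ = _ := hl.symm
    have h2 : Commute (σ' * σ') α := mul_inv_eq_iff_eq_mul.1 (by
      rw [show σ' * σ' * α * (σ' * σ')⁻¹ = σ' * (σ' * α * σ'⁻¹) * σ'⁻¹ by group, ← hflip]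
      group)
    exact hσ'1 (hall h2 (Commute.one_left α) he₀1 (by rw [MulAut.mul_apply, he₀, he₀, MulAut.one_apply]))
  · push Not at hC
    obtain ⟨k, hk⟩ := htrans (c t') e₀ ht'1 he₀1
    have hcom : Commute (α ^ k) σ' := hcomm hctF ht'1 k (by rw [hk, he₀])
    have hu : Commute (ρ (t'⁻¹ * a ^ k * t')) σ' := by
      have h3 : (ρ t')⁻¹ * σ' * ρ t' = σ'⁻¹ := by
        calc (ρ t')⁻¹ * σ' * ρ t' = (ρ t')⁻¹ * (σ'⁻¹)⁻¹ * ρ t' := by rw [inv_inv]
          _ = (ρ t')⁻¹ * (ρ t' * σ' * (ρ t')⁻¹)⁻¹ * ρ t' := by rw [hinv']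
          _ = σ'⁻¹ := by group
      have h4 := (Commute.conj_iff (ρ t')⁻¹).2 hcom.inv_right
      rw [inv_inv] at h4
      rw [show (ρ t')⁻¹ * σ'⁻¹ * ρ t' = σ' by
        rw [show (ρ t')⁻¹ * σ'⁻¹ * ρ t' = ((ρ t')⁻¹ * σ' * ρ t')⁻¹ by group, h3, inv_inv]] at h4
      rw [map_mul, map_mul, map_inv, map_pow]
      exact h4
    have e : c (t' * (t'⁻¹ * a ^ k * t')) = c t' := by
      rw [hc t', hC _ hu, map_one, mul_one]
    rw [show t' * (t'⁻¹ * a ^ k * t') = a ^ k * t' by group, hc, hapow, one_mul, map_pow, hk] at e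
    exact he₀t e

end CfsgLib.Criterion.Layers
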