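import Cfsg.Agent.Criterion.LayerTwo
import Cfsg.Agent.Criterion.LayerAffine

/-!
# The strong embedding criterion: the end of the layers

When nothing centralising `E` moves `v` beyond the translation layer `S`, the second invariant is a
crossed homomorphism of `N(E) ∩ N(S)` into `E` for its action on `E`.  If it is trivial transfer
applies directly; otherwise the conjugates of `v` in a Sylow subgroup fill `v U`, and either the sign
on `U` is a transfer end (`q` no square) or the affine action is impossible (`q` a square).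
-/

set_option autoImplicit false
set_option linter.style.haveILetI false
set_option linter.unusedSectionVars false

namespace CfsgLib.Criterion

open Subgroup CfsgLib.Invol Layers

universe u

variable {G : Type u} [Group G] [Finite G]

/-- A 2-group with a proper normal subgroup has an involution central in the quotient. -/
theorem exists_central_mod {T S : Subgroup G} (hT : IsPGroup 2 T) (hST : S ≤ T)
    (hTS : T ≤ normalizer (S : Set G)) (hne : S ≠ T) :
    ∃ t ∈ T, t ∉ S ∧ t * t ∈ S ∧ ∀ s ∈ T, s * t * s⁻¹ * t⁻¹ ∈ S := by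
  haveI : Fact (Nat.Prime 2) := ⟨Nat.prime_two⟩
  haveI hn : (S.subgroupOf T).Normal := (normal_subgroupOf_iff_le_normalizer hST).2 hTS
  set π := QuotientGroup.mk' (S.subgroupOf T) with hπ
  have hπ1 : ∀ {x : ↥T}, π x = 1 ↔ (x : G) ∈ S := fun {x} => by
    rw [← MonoidHom.mem_ker, hπ, QuotientGroup.ker_mk', mem_subgroupOf]
  obtain ⟨t₀, ht₀, ht₀S⟩ := SetLike.not_le_iff_exists.1 (fun h : T ≤ S => hne (le_antisymm hST h))
  haveI : Nontrivial (↥T ⧸ S.subgroupOf T) :=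
    ⟨⟨π ⟨t₀, ht₀⟩, 1, fun h => ht₀S (hπ1.1 h)⟩⟩
  have hQ : IsPGroup 2 (↥T ⧸ S.subgroupOf T) := hT.to_quotient _
  haveI := hQ.center_nontrivial
  obtain ⟨k, hk, hk'⟩ := (hQ.to_subgroup _).nontrivial_iff_card.1
    (inferInstance : Nontrivial ↥(center (↥T ⧸ S.subgroupOf T)))
  obtain ⟨z, hz⟩ := exists_prime_orderOf_dvd_card' (G := ↥(center (↥T ⧸ S.subgroupOf T))) 2
    (hk' ▸ dvd_pow_self 2 hk.ne')
  obtain ⟨t, ht⟩ := QuotientGroup.mk'_surjective _ (z : ↥T ⧸ S.subgroupOf T)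
  refine ⟨t, t.2, fun h => ?_, hπ1.1 (?_ : π (t * t) = 1), fun s hs =>
    (hπ1 (x := ⟨s, hs⟩ * t * ⟨s, hs⟩⁻¹ * t⁻¹)).1 ?_⟩
  · have h1 : (z : ↥T ⧸ S.subgroupOf T) = 1 := ht ▸ hπ1.2 h
    rw [OneMemClass.coe_eq_one.1 h1, orderOf_one] at hz
    omega
  · rw [map_mul, show π t = z from ht, ← coe_mul, ← sq, ← hz, pow_orderOf_eq_one, coe_one]
  · rw [map_mul, map_mul, map_mul, map_inv, map_inv, show π t = z from ht,
      mem_center_iff.1 z.2 (π ⟨s, hs⟩), mul_inv_cancel_right]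
    exact mul_inv_cancel _

namespace Ctx

namespace Lay

variable {C : Ctx G} {v a : G} {b : C.Pt} {E D S U : Subgroup G} (Y : C.Lay v a b E D)
  (F : C.L1 v E S U)
include Y F

/-- The second invariant of an element normalising the layer lies in `U`. -/
theorem kap_mem_U' {g : G} (hg : g ∈ normalizer (S : Set G)) : kap v g ∈ U := by
  have hu : g * v * g⁻¹ ∈ S := (mem_normalizer_iff.1 hg v).1 F.v_mem
  have h := Y.conj_mem_vU F hu (isConj_iff.2 ⟨g, rfl⟩)
  rwa [inv_eq_of_mul_eq_one_right Y.v_sq, show v * (g * v * g⁻¹) = kap v g by rw [kap]; group] at h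

/-- Elements normalising the layer act on `U / E` as on `E`. -/
theorem kap_conj' {g w : G} (hg : g ∈ normalizer (S : Set G)) (hw : w ∈ U) :
    kap v (g * w * g⁻¹) = g * kap v w * g⁻¹ := by
  have hw' : g * w * g⁻¹ ∈ U := (mem_normalizer_iff.1 (Y.mem_normalizer_U F hg) w).1 hw
  set u := g * v * g⁻¹ with hu
  have hu2 : u⁻¹ = u := inv_eq_of_mul_eq_one_right (by
    rw [hu, show g * v * g⁻¹ * (g * v * g⁻¹) = g * (v * v) * g⁻¹ by group, Y.v_sq, mul_one, mul_inv_cancel])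
  have e1 : g * kap v w * g⁻¹ = u * (g * w * g⁻¹) * u⁻¹ * (g * w * g⁻¹)⁻¹ := by
    rw [hu2, hu, kap]
    group
  rw [e1, hu, conj_eq_mul_kap Y.v_sq]
  calc kap v (g * w * g⁻¹) = v * (g * w * g⁻¹) * v⁻¹ * (g * w * g⁻¹)⁻¹ := by
        rw [kap, inv_eq_of_mul_eq_one_right Y.v_sq]
    _ = v * (kap v g * (g * w * g⁻¹) * (kap v g)⁻¹) * v⁻¹ * (g * w * g⁻¹)⁻¹ := by
        rw [(F.U_comm _ (Y.kap_mem_U' F hg) _ hw').eq, mul_inv_cancel_right]
    _ = _ := by group

/-- The cocycle identity of the second invariant. -/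
theorem xi_cocycle {g h : G} (hg : g ∈ normalizer (S : Set G)) (hh : h ∈ normalizer (S : Set G)) :
    kap v (kap v (g * h)) = kap v (kap v g) * (g * kap v (kap v h) * g⁻¹) := by
  have hm : g * kap v h * g⁻¹ ∈ U :=
    (mem_normalizer_iff.1 (Y.mem_normalizer_U F hg) _).1 (Y.kap_mem_U' F hh)
  rw [kap_mul Y.v_sq, F.kap_hom Y.v_sq (F.U_le (Y.kap_mem_U' F hg)) (F.U_le hm),
    Y.kap_conj' F hg (Y.kap_mem_U' F hh)]

/-- An element normalising the layer with trivial second invariant is `U` times one centralising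
`v`. -/
theorem exists_comm_v {g : G} (hg : g ∈ normalizer (S : Set G)) (h : kap v (kap v g) = 1) :
    ∃ w ∈ U, Commute (w⁻¹ * g) v := by
  have hE : kap v g ∈ E := Y.mem_E_of_kap F (Y.kap_mem_U' F hg) ((kap_eq_one Y.v_sq).1 h)
  obtain ⟨w, hw, hwe⟩ := F.surj _ hE
  refine ⟨w, hw, (kap_eq_one Y.v_sq).1 ?_⟩
  rw [kap_mul_of_commute Y.v_sq
    (mem_centralizer_iff.1 (F.S_cent (inv_mem (F.U_le hw))) _ hE : Commute (kap v g) w⁻¹).symm, ← hwe,
    ← F.kap_hom Y.v_sq (F.U_le (inv_mem hw)) (F.U_le hw), inv_mul_cancel, kap_one v Y.v_sq]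

/-- **The exceptional second layer gives a contradiction.** -/
theorem false_of_end (hgen : closure C.Z = ⊤)
    (hno2 : ∀ x ∈ centralizer (E : Set G) ⊓ normalizer (S : Set G), kap v (kap v x) = 1) : False := by
  classical
  haveI : Fact (Nat.Prime 2) := ⟨Nat.prime_two⟩
  obtain ⟨n, hn2, hq⟩ := Y.exists_q
  set N0 := normalizer (E : Set G) ⊓ normalizer (S : Set G) with hN0
  have hSN0 : S ≤ N0 := le_inf (fun x hx => centralizer_le_normalizer _ (F.S_cent hx)) le_normalizer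
  set B := centralizer ({v} : Set G) ⊓ N0 with hB
  have hVB : zpowers v ⊔ E ≤ B := fun x hx =>
    ⟨mem_centralizer_singleton_iff.2 (Y.VE_commute hx).eq, hSN0 (F.VE_le hx)⟩
  obtain ⟨P, hPB, hP2, -, hPk⟩ := exists_two_max B
  obtain ⟨i, hi⟩ := IsPGroup.iff_card.1 Y.D_two
  have hPbig : 2 ^ (n + i) ≤ Nat.card P :=
    hPk _ (Y.two_part_le (B := B) (fun x hx => hx.2.1) hVB (fun d hd => by
      obtain ⟨g', h1, h2, h3, h4⟩ := F.lift d (Y.D_fix d hd).2.2 (Y.D_E hd)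
      exact ⟨g', ⟨mem_centralizer_singleton_iff.2 h1.eq, h2, h3⟩, h4⟩)
      (le_of_eq (by rw [pow_add, hq, hi])))
  obtain ⟨T0, hT0N, hT02, hT0c, hT0k⟩ := exists_two_max N0
  obtain ⟨m, hm, hmP⟩ := hT0c (S ⊔ P) (IsPGroup.to_sup_of_normal_left' F.S_two hP2
    fun x hx => (hPB hx).2.2) (sup_le hSN0 fun x hx => (hPB hx).2)
  obtain ⟨T, hT⟩ := (hT02.map (MulAut.conj m⁻¹).toMonoidHom).exists_le_sylow
  have hSPT : S ⊔ P ≤ (T : Subgroup G) := fun x hx => hT ⟨m * x * m⁻¹, hmP x hx, by simp [mul_assoc]⟩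
  have hST : S ≤ (T : Subgroup G) := le_sup_left.trans hSPT
  have hvT : v ∈ (T : Subgroup G) := hST F.v_mem
  have hET : E ≤ (T : Subgroup G) := F.E_le.trans hST
  have hTE : (T : Subgroup G) ≤ normalizer (E : Set G) := Y.le_normalizer_of_two T.2 hvT hET
  have hTC : (T : Subgroup G) ⊓ centralizer (E : Set G) ≤ S := by
    by_contra hne
    obtain ⟨Z, hZ, hZT, hZn⟩ := CfsgLib.Bender.GSide.exists_between
      (lt_of_le_not_ge (le_inf hST F.S_cent) hne) (T.2.to_le inf_le_left)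
    have hZN : Z ≤ centralizer (E : Set G) ⊓ normalizer (S : Set G) := le_inf (hZT.trans inf_le_right) hZn
    exact hZ.not_ge fun x hx =>
      Y.mem_S_of_xi F (T.2.to_le (hZT.trans inf_le_left)) hZ.le hZN hx (hno2 x (hZN hx))
  have hTS : (T : Subgroup G) ≤ normalizer (S : Set G) := fun t ht => by
    refine mem_normalizer_iff_map_conj_eq.2
      (eq_of_le_of_card_ge ?_ (card_map_of_injective (MulAut.conj t).injective).ge)
    rintro _ ⟨x, hx, rfl⟩
    exact hTC ⟨(T : Subgroup G).mul_mem ((T : Subgroup G).mul_mem ht (hST hx))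
      ((T : Subgroup G).inv_mem ht),
      (mem_normalizer_iff.1 (Y.norm_cent_E (hTE ht)) x).1 (F.S_cent hx)⟩
  have hTN0 : (T : Subgroup G) ≤ N0 := le_inf hTE hTS
  have hTU : (T : Subgroup G) ≤ normalizer (U : Set G) := fun t ht => Y.mem_normalizer_U F (hTS ht)
  have hUT : U ≤ (T : Subgroup G) := F.U_le.trans hST
  have hconjU : ∀ u ∈ (T : Subgroup G), IsConj v u → v⁻¹ * u ∈ U := fun u hu huv =>
    Y.conj_mem_vU F (hTC ⟨hu, Y.bad_cent _ T.2 hvT hET u hu (Y.conj_bad huv)⟩) huv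
  have hZU : ∀ x ∈ (T : Subgroup G), x ∈ C.Z → x ∈ E := fun x hx hxZ =>
    Y.Z_two _ T.2 hvT hET x hx hxZ
  set Q := (T : Subgroup G) ⊓ centralizer ({v} : Set G) with hQ
  obtain ⟨-, hQle, hQcomm⟩ := Y.cent_v_decomp (P := Q) (T.2.to_le inf_le_left) inf_le_right
    (inf_le_left.trans hTE) (le_inf hET fun e he => mem_centralizer_singleton_iff.2 (Y.E_v e he).eq)
  by_cases h00 : ∀ g ∈ N0, kap v (kap v g) = 1
  · refine false_of_quot hgen T (M := U) (P := Q) hUT inf_le_left hTU (fun t ht => ?_)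
      (fun x hx y hy => F.E_le_U (hQcomm x hx y hy)) Y.v_sq hvT F.v_not_U
      (fun x hx hxZ => F.E_le_U (hZU x hx hxZ)) (fun u hu huv => Or.inl (hconjU u hu huv))
    obtain ⟨w, hw, hwv⟩ := Y.exists_comm_v F (hTS ht) (h00 t (hTN0 ht))
    refine ⟨w⁻¹ * t,
      ⟨(T : Subgroup G).mul_mem ((T : Subgroup G).inv_mem (hUT hw)) ht, mem_centralizer_singleton_iff.2 hwv.eq⟩, ?_⟩
    have := (mem_normalizer_iff.1 (hTU (inv_mem ht)) w).1 hw
    rwa [mul_inv_rev, inv_inv, show t⁻¹ * w * t = t⁻¹ * w * t⁻¹⁻¹ by rw [inv_inv]]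
  push Not at h00
  obtain ⟨g₀, hg₀, hg₀1⟩ := h00
  obtain ⟨a₁, ha₁v, ha₁E, ha₁S, ha₁a⟩ := F.lift a Y.a_v Y.a_E
  have ha₁1 : kap v (kap v a₁) = 1 := by rw [(kap_eq_one Y.v_sq).2 ha₁v, kap_one v Y.v_sq]
  have hcE : ∀ {g : G}, g ∈ normalizer (S : Set G) → kap v (kap v g) ∈ E := fun {g} hg =>
    F.S_kap _ (F.U_le (Y.kap_mem_U' F hg))
  have hallE : ∀ e ∈ E, ∃ g ∈ N0, kap v (kap v g) = e := fun e he =>
    Y.all_of_closed (p := fun e => e ∈ E ∧ ∃ g ∈ N0, kap v (kap v g) = e)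
      ⟨one_mem E, 1, one_mem _, by rw [kap_one v Y.v_sq, kap_one v Y.v_sq]⟩ (hcE hg₀.2) hg₀1
      ⟨hcE hg₀.2, g₀, hg₀, rfl⟩
      (fun e ⟨he, g, hg, h⟩ => ⟨conj_E Y.a_E he, a₁ * g, mul_mem ⟨ha₁E, ha₁S⟩ hg, by
        rw [Y.xi_cocycle F ha₁S hg.2, ha₁1, one_mul, h]
        simpa using Y.act_eq ha₁a 1 he⟩) he |>.2
  have hallU : ∀ y ∈ U, ∃ g ∈ N0, kap v g = y := fun y hy => by
    obtain ⟨g, hg, hge⟩ := hallE _ (F.S_kap y (F.U_le hy))
    have hy' := Y.kap_mem_U' F hg.2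
    have hE' : y * (kap v g)⁻¹ ∈ E := by
      refine Y.mem_E_of_kap F (mul_mem hy (inv_mem hy')) ((kap_eq_one Y.v_sq).1 ?_)
      have hk : kap v (kap v g)⁻¹ * kap v (kap v g) = 1 := by
        rw [← F.kap_hom Y.v_sq (F.U_le (inv_mem hy')) (F.U_le hy'), inv_mul_cancel, kap_one v Y.v_sq]
      rw [F.kap_hom Y.v_sq (F.U_le hy) (F.U_le (inv_mem hy')), ← hge, eq_inv_of_mul_eq_one_left hk,
        mul_inv_cancel]
    obtain ⟨w, hw, hwe⟩ := F.surj _ hE'
    refine ⟨w * g, mul_mem (hSN0 (F.U_le hw)) hg, ?_⟩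
    rw [kap_mul Y.v_sq, hwe, (F.U_comm w hw _ hy').eq, mul_inv_cancel_right, inv_mul_cancel_right]
  -- the Sylow subgroup is large, so its conjugates of `v` fill `v U`
  let inU : {y : G // ∃ d ∈ (T : Subgroup G), d * v * d⁻¹ = y} → ↥U := fun y => ⟨v⁻¹ * y.1, by
    obtain ⟨d, hd, e⟩ := y.2
    rw [← e]
    exact hconjU _ ((T : Subgroup G).mul_mem ((T : Subgroup G).mul_mem hd hvT)
      ((T : Subgroup G).inv_mem hd)) (isConj_iff.2 ⟨d, rfl⟩)⟩
  have hinU : Function.Injective inU := fun y y' h =>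
    Subtype.ext (mul_left_cancel (congrArg Subtype.val h :))
  have hTbig : 2 ^ (n + n + (n + i)) ≤ Nat.card (T : Subgroup G) := by
    have h1 := card_conj_sub N0 v
    have e : {y : G // ∃ d ∈ N0, d * v * d⁻¹ = y} ≃ ↥U :=
      { toFun := fun y => ⟨v * y.1, by
          obtain ⟨d, hd, hy⟩ := y.2
          have := Y.kap_mem_U' F hd.2
          rwa [← hy, conj_eq_mul_kap Y.v_sq, ← mul_assoc, Y.v_sq, one_mul]⟩
        invFun := fun y => ⟨v * y, by
          obtain ⟨g, hg, hgy⟩ := hallU y y.2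
          exact ⟨g, hg, by rw [conj_eq_mul_kap Y.v_sq, hgy]⟩⟩
        left_inv := fun y => Subtype.ext (show v * (v * y.1) = y.1 by rw [← mul_assoc, Y.v_sq, one_mul])
        right_inv := fun y => Subtype.ext (show v * (v * y.1) = y.1 by rw [← mul_assoc, Y.v_sq, one_mul]) }
    rw [Nat.card_congr e, Y.card_U F, hq, ← pow_add] at h1
    obtain ⟨k, hk⟩ := IsPGroup.iff_card.1 hP2
    have hd : 2 ^ k ∣ Nat.card ↥(N0 ⊓ centralizer ({v} : Set G)) :=
      hk ▸ card_dvd_of_le (hPB.trans (le_of_eq (inf_comm ..)))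
    have h2 := hT0k (n + n + k) (by rw [pow_add, ← h1]; exact mul_dvd_mul_left _ hd)
    calc 2 ^ (n + n + (n + i)) ≤ 2 ^ (n + n + k) := by
          rw [pow_add _ (n + n), pow_add _ (n + n) k, ← hk]; exact Nat.mul_le_mul_left _ hPbig
      _ ≤ Nat.card T0 := h2
      _ = Nat.card ↥(T0.map (MulAut.conj m⁻¹).toMonoidHom) :=
          (card_map_of_injective (MulAut.conj m⁻¹).injective).symm
      _ ≤ _ := card_le_of_le hT
  have hfill : Function.Surjective inU := by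
    refine (hinU.bijective_of_nat_card_le ?_).2
    have h1 := card_conj_sub (T : Subgroup G) v
    rw [Y.card_U F, hq, ← pow_add]
    refine Nat.le_of_mul_le_mul_right ?_ (show 0 < 2 ^ (n + i) by positivity)
    calc 2 ^ (n + n) * 2 ^ (n + i) ≤ Nat.card (T : Subgroup G) := by rw [← pow_add]; exact hTbig
      _ ≤ _ := by
        rw [← h1]
        exact Nat.mul_le_mul_left _ (hQle.trans (le_of_eq (by rw [pow_add, hq, hi])))
  have hvU : ∀ y ∈ U, ∃ t ∈ (T : Subgroup G), t * v * t⁻¹ = v * y := fun y hy => by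
    obtain ⟨⟨z, t, ht, e⟩, hz⟩ := hfill ⟨y, hy⟩
    have hz' : v⁻¹ * z = y := congrArg Subtype.val hz
    exact ⟨t, ht, by rw [e, ← hz', inv_eq_of_mul_eq_one_right Y.v_sq, ← mul_assoc, Y.v_sq, one_mul]⟩
  have hflip : ∀ y ∈ U, v * y * v = y⁻¹ := fun y hy => by
    obtain ⟨t, -, e⟩ := hvU y hy
    refine eq_inv_of_mul_eq_one_left ?_
    rw [show v * y * v * y = (v * y) * (v * y) by group, ← e,
      show t * v * t⁻¹ * (t * v * t⁻¹) = t * (v * v) * t⁻¹ by group, Y.v_sq, mul_one, mul_inv_cancel]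
  have hkapU : ∀ y ∈ U, kap v y = y⁻¹ * y⁻¹ := fun y hy => by rw [kap, hflip y hy]
  rcases Nat.even_or_odd n with ⟨l, hl⟩ | hodd
  · -- `q` is a square
    letI : CommGroup ↥E :=
      { (inferInstance : Group ↥E) with mul_comm := fun x y => Subtype.ext (Y.E_comm x.2 y.2) }
    let ρ : ↥N0 →* MulAut ↥E := E.normalizerMonoidHom.comp (Subgroup.inclusion inf_le_left)
    have hρ : ∀ (g : ↥N0) (e : ↥E), ((ρ g) e : G) = (g : G) * e * (g : G)⁻¹ := fun _ _ => rfl
    have hρ1 : ∀ g : ↥N0, ρ g = 1 ↔ (g : G) ∈ centralizer (E : Set G) := fun g => by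
      rw [show ρ g = E.normalizerMonoidHom (Subgroup.inclusion inf_le_left g) from rfl,
        ← MonoidHom.mem_ker, normalizerMonoidHom_ker]
      exact Iff.rfl
    let c : ↥N0 → ↥E := fun g => ⟨kap v (kap v g), hcE g.2.2⟩
    obtain ⟨t, ht, htS, ht2, htc⟩ := exists_central_mod T.2 hST hTS fun h => by
      obtain ⟨y₀, hy₀, hy₀e⟩ := F.surj _ (hcE hg₀.2)
      obtain ⟨s, hs, hse⟩ := hvU y₀ hy₀
      refine hg₀1 ?_
      rw [conj_eq_mul_kap Y.v_sq, mul_right_inj] at hse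
      rw [← hy₀e, ← hse]
      exact Y.xi_of_S F (h ▸ hs)
    have hne : ∀ u : ↥(T : Subgroup G), ρ ⟨u, hTN0 u.2⟩ = 1 → (u : G) ∈ S := fun u hu =>
      hTC ⟨u.2, (hρ1 _).1 hu⟩
    have hρS : ∀ u : ↥N0, (u : G) ∈ S → ρ u = 1 := fun u hu => (hρ1 u).2 (F.S_cent hu)
    set t' : ↥N0 := ⟨t, hTN0 ht⟩ with ht'
    have hc : ∀ g h, c (g * h) = c g * ρ g (c h) := fun g h => Subtype.ext (Y.xi_cocycle F g.2.2 h.2.2)
    have hker : ∀ g, ρ g = 1 → c g = 1 := fun g hg => Subtype.ext (hno2 g ⟨(hρ1 g).1 hg, g.2.2⟩)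
    have hcρ : ∀ {g h : ↥N0}, ρ g = ρ h → c g = c h := fun {g h} e => by
      rw [show h = g * (g⁻¹ * h) by group, hc, hker (g⁻¹ * h) (by rw [map_mul, map_inv, e, inv_mul_cancel]),
        map_one, mul_one]
    refine false_of_affine (fun x => Subtype.ext (Y.E_sq x x.2)) (m := l) (by omega)
      (by rw [hq, hl, ← two_mul, pow_mul]; rfl) ρ c hc hker
      (fun e => by
        obtain ⟨g, hg, h⟩ := hallE e e.2
        exact ⟨⟨g, hg⟩, Subtype.ext h⟩)
      (a := ⟨a₁, ha₁E, ha₁S⟩) (Subtype.ext ha₁1) (fun e e' he he' => ?_) (fun g hg => ?_)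
      (t := t') ?_ ?_
    · obtain ⟨k, hk⟩ := Y.a_trans e e.2 e' e'.2 (fun h => he (Subtype.ext h)) fun h => he' (Subtype.ext h)
      refine ⟨k, Subtype.ext ?_⟩
      rw [← map_pow, hρ]
      exact (Y.act_eq ha₁a k e.2).trans hk
    · obtain ⟨w, hw, hwv⟩ := Y.exists_comm_v F g.2.2 (congrArg Subtype.val hg)
      set g₁ := w⁻¹ * (g : G) with hg₁
      have hg₁N : g₁ ∈ N0 := mul_mem (inv_mem (hSN0 (F.U_le hw))) g.2
      obtain ⟨k, hk⟩ := Y.a_norm g₁ hwv hg₁N.1
      refine ⟨k, ?_⟩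
      have e1 : ρ ⟨g₁, hg₁N⟩ = ρ g := by
        have h1 : ρ ⟨w⁻¹, inv_mem (hSN0 (F.U_le hw))⟩ = 1 := hρS _ (inv_mem (F.U_le hw))
        rw [show (⟨g₁, hg₁N⟩ : ↥N0) = ⟨w⁻¹, inv_mem (hSN0 (F.U_le hw))⟩ * g from rfl, map_mul, h1, one_mul]
      rw [← e1, ← map_inv, ← map_mul, ← map_mul, ← map_pow]
      refine MulEquiv.ext fun e => Subtype.ext ?_
      rw [hρ, hρ]
      have h1 : g₁⁻¹ * e * g₁ ∈ E := by
        have := conj_E (inv_mem hg₁N.1) e.2
        rwa [inv_inv] at this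
      show g₁ * a₁ * g₁⁻¹ * e * (g₁ * a₁ * g₁⁻¹)⁻¹ = a₁ ^ k * e * (a₁ ^ k)⁻¹
      rw [Y.act_eq ha₁a k e.2, ← hk e e.2,
        show g₁ * a₁ * g₁⁻¹ * e * (g₁ * a₁ * g₁⁻¹)⁻¹ = g₁ * (a₁ ^ 1 * (g₁⁻¹ * e * g₁) * (a₁ ^ 1)⁻¹) * g₁⁻¹ by
          group, Y.act_eq ha₁a 1 h1]
      group
    · rw [← map_mul]
      exact hρS _ ht2
    · intro x hx
      have hsx : ∀ z : ↥E, ∃ s : ↥N0, (s : G) ∈ (T : Subgroup G) ∧ c s = z := fun z => by
        obtain ⟨y, hy, hye⟩ := F.surj z z.2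
        obtain ⟨s, hs, hse⟩ := hvU y hy
        rw [conj_eq_mul_kap Y.v_sq, mul_right_inj] at hse
        exact ⟨⟨s, hTN0 hs⟩, hs, Subtype.ext (show kap v (kap v s) = _ by rw [hse, hye])⟩
      have hswap : ∀ s : ↥N0, (s : G) ∈ (T : Subgroup G) → c t' * ρ t' (c s) = c s * ρ s (c t') :=
        fun s hs => by
          have h1 : ρ (s * t' * s⁻¹ * t'⁻¹) = 1 := hρS _ (htc s hs)
          rw [map_mul, map_inv, mul_inv_eq_one, map_mul, map_inv, mul_inv_eq_iff_eq_mul, ← map_mul] at h1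
          rw [← hc, ← hc, hcρ h1]
      obtain ⟨s, hs, hsx'⟩ := hsx x
      have hct : c t' = 1 := by
        have h1 := hswap s hs
        rw [hsx', hx, left_eq_mul] at h1
        exact (ρ s).injective (h1.trans (map_one _).symm)
      have hall : ρ t' = 1 := MulEquiv.ext fun z => by
        obtain ⟨s', hs', hsz⟩ := hsx z
        have h1 := hswap s' hs'
        rwa [hct, one_mul, map_one, mul_one, hsz] at h1
      exact htS (hne ⟨t, ht⟩ hall)
  · -- `q` is no square: the sign on `U`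
    letI : CommGroup ↥U :=
      { (inferInstance : Group ↥U) with mul_comm := fun x y => Subtype.ext (F.U_comm x x.2 y y.2) }
    have hsq4 : ∀ y ∈ U, y * y * (y * y) = 1 := fun y hy => Y.E_sq _ (F.sq_mem y (F.U_le hy))
    obtain ⟨χ, hχ⟩ := exists_sign (A := Additive ↥U) (n := n)
      (fun x => by
        refine Additive.toMul.injective (Subtype.ext ?_)
        show ((Additive.toMul x : ↥U) : G) ^ 4 = 1
        rw [show (4 : ℕ) = 2 * 2 from rfl, pow_mul, sq, sq]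
        exact hsq4 _ (Additive.toMul x).2)
      (by rw [Nat.card_congr Additive.toMul, Y.card_U F, hq, ← pow_add, ← two_mul, pow_mul]; rfl)
      (fun x hx => by
        set y : ↥U := Additive.toMul x
        have hy : (y : G) * y = 1 := by
          have h : y ^ 2 = 1 := congrArg Additive.toMul hx
          rw [sq] at h
          exact congrArg Subtype.val h
        have hyE : (y : G) ∈ E := Y.mem_E_of_kap F y.2 ((kap_eq_one Y.v_sq).1 (by
          rw [hkapU y y.2, ← mul_inv_rev, hy, inv_one]))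
        obtain ⟨w, hw, hwe⟩ := F.surj _ hyE
        refine ⟨Additive.ofMul (⟨w⁻¹, inv_mem hw⟩ : ↥U), Additive.toMul.injective (Subtype.ext ?_)⟩
        show (w⁻¹) ^ 2 = (y : G)
        rw [sq, ← hkapU w hw, hwe])
    let r : ↥(T : Subgroup G) →* MulAut ↥U := U.normalizerMonoidHom.comp (Subgroup.inclusion hTU)
    let ι : MulAut ↥U →* AddMonoid.End (Additive ↥U) :=
      { toFun := fun f => MonoidHom.toAdditive f.toMonoidHom
        map_one' := rfl
        map_mul' := fun _ _ => rfl }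
    let φ : ↥(T : Subgroup G) →* (ZMod 4)ˣ := ((χ.comp ι).comp r).toHomUnits
    have hone := C.eq_one_of_transfer hgen T φ (fun x hx => ?_) (v := ⟨v, hvT⟩) (Subtype.ext Y.v_sq)
      fun x hx => ?_
    · have h1 : χ (ι (r ⟨v, hvT⟩)) = 1 := congrArg Units.val hone
      have e : ι (r ⟨v, hvT⟩) = -1 := DFunLike.ext _ _ fun x => by
        refine Additive.toMul.injective (Subtype.ext ?_)
        show v * ((Additive.toMul x : ↥U) : G) * v⁻¹ = ((Additive.toMul x : ↥U) : G)⁻¹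
        rw [inv_eq_of_mul_eq_one_right Y.v_sq]
        exact hflip _ (Additive.toMul x).2
      rw [e, hχ, hodd.neg_one_pow] at h1
      exact absurd h1 (by decide)
    · have hx' : (x : G) ∈ E := hZU x x.2 hx
      have hr : r x = 1 := MulEquiv.ext fun y => Subtype.ext (by
        show (x : G) * y * (x : G)⁻¹ = y
        rw [mem_centralizer_iff.1 (F.S_cent (F.U_le y.2)) x hx', mul_inv_cancel_right])
      refine Units.ext ?_
      show χ (ι (r x)) = 1
      rw [hr, map_one, map_one]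
    · obtain ⟨t, ht, e⟩ := hvU _ (hconjU x x.2 hx)
      rw [← mul_assoc, mul_inv_cancel, one_mul] at e
      rw [show x = ⟨t, ht⟩ * ⟨v, hvT⟩ * ⟨t, ht⟩⁻¹ from Subtype.ext e.symm, map_mul, map_mul, map_inv,
        mul_comm (φ ⟨t, ht⟩), mul_inv_cancel_right]

omit F

/-- **The layers give a contradiction.** -/
theorem false_of_lay (hgen : closure C.Z = ⊤) : False := by
  by_cases htr : ∃ x ∈ centralizer (E : Set G), kap v x ∈ E ∧ kap v x ≠ 1
  · obtain ⟨S, U, F⟩ := Y.exists_L1 htr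
    by_cases htwo : ∃ x ∈ centralizer (E : Set G) ⊓ normalizer (S : Set G), kap v (kap v x) ≠ 1
    · exact Y.false_of_two F hgen htwo
    · push Not at htwo
      exact Y.false_of_end F hgen htwo
  · push Not at htr
    exact Y.false_of_no_translation hgen htr

end Lay

end Ctx

end CfsgLib.Criterion
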