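import Cfsg.Agent.Criterion.LayerSetting
import Cfsg.Agent.Bender.GSide

/-!
# The strong embedding criterion: the first layer

Either some element centralising `E` translates `v` in `v E`, or transfer gives a contradiction: the
points on no `Fix (v e)` would fall into orbits divisible by `2 q ^ 2` while numbering `q ^ 3 - q ^ 2`.
-/

set_option autoImplicit false
set_option linter.style.haveILetI false
set_option linter.unusedSectionVars false

namespace CfsgLib.Criterion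

open Subgroup CfsgLib.Invol Layers

universe u

variable {G : Type u} [Group G] [Finite G]

namespace Ctx

/-- The transfer end for a normal subgroup of a Sylow subgroup with abelian quotient. -/
theorem false_of_quot {C : Ctx G} (hgen : closure C.Z = ⊤) (T : Sylow 2 G) {M P : Subgroup G}
    (hMT : M ≤ (T : Subgroup G)) (hPT : P ≤ (T : Subgroup G))
    (hTM : (T : Subgroup G) ≤ normalizer (M : Set G))
    (hgenT : ∀ t ∈ (T : Subgroup G), ∃ p ∈ P, p⁻¹ * t ∈ M)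
    (hPP : ∀ x ∈ P, ∀ y ∈ P, x * y * x⁻¹ * y⁻¹ ∈ M) {v : G} (hv : v * v = 1)
    (hvT : v ∈ (T : Subgroup G)) (hvM : v ∉ M) (hZ : ∀ x ∈ (T : Subgroup G), x ∈ C.Z → x ∈ M)
    (hconj : ∀ u ∈ (T : Subgroup G), IsConj v u →
      v⁻¹ * u ∈ M ∨ ∃ t ∈ (T : Subgroup G), t * v * t⁻¹ = u) : False := by
  haveI hn : (M.subgroupOf (T : Subgroup G)).Normal := (normal_subgroupOf_iff_le_normalizer hMT).2 hTM
  set q := QuotientGroup.mk' (M.subgroupOf (T : Subgroup G)) with hq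
  have hq1 : ∀ {x : ↥(T : Subgroup G)}, q x = 1 ↔ (x : G) ∈ M := fun {x} => by
    rw [← MonoidHom.mem_ker, hq, QuotientGroup.ker_mk', mem_subgroupOf]
  have hrep : ∀ x : ↥(T : Subgroup G), ∃ p, ∃ hp : p ∈ P, q x = q ⟨p, hPT hp⟩ := fun x => by
    obtain ⟨p, hp, h⟩ := hgenT x x.2
    refine ⟨p, hp, (inv_mul_eq_one.1 (show (q ⟨p, hPT hp⟩)⁻¹ * q x = 1 from ?_)).symm⟩
    rw [← map_inv, ← map_mul, hq1]
    exact h
  have hcomm : ∀ c d : ↥(T : Subgroup G) ⧸ M.subgroupOf (T : Subgroup G), c * d = d * c := fun c d => by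
    obtain ⟨c, rfl⟩ := QuotientGroup.mk'_surjective _ c
    obtain ⟨d, rfl⟩ := QuotientGroup.mk'_surjective _ d
    obtain ⟨p, hp, e⟩ := hrep c
    obtain ⟨p', hp', e'⟩ := hrep d
    rw [e, e']
    refine mul_inv_eq_one.1 ?_
    rw [← map_mul, ← map_mul, ← map_inv, ← map_mul, hq1]
    simpa [mul_assoc] using hPP p hp p' hp'
  letI : CommGroup (↥(T : Subgroup G) ⧸ M.subgroupOf (T : Subgroup G)) :=
    { (inferInstance : Group (↥(T : Subgroup G) ⧸ M.subgroupOf (T : Subgroup G))) with mul_comm := hcomm }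
  refine hvM (hq1.1 (C.eq_one_of_transfer hgen T q (fun x hx => hq1.2 (hZ x x.2 hx))
    (v := ⟨v, hvT⟩) (Subtype.ext hv) fun x hx => ?_))
  rcases hconj x x.2 hx with h | ⟨t, ht, e⟩
  · have h1 : q (⟨v, hvT⟩⁻¹ * x) = 1 := hq1.2 h
    rw [map_mul, map_inv] at h1
    exact (inv_mul_eq_one.1 h1).symm
  · rw [show x = ⟨t, ht⟩ * ⟨v, hvT⟩ * ⟨t, ht⟩⁻¹ from Subtype.ext e.symm, map_mul, map_mul, map_inv,
      hcomm (q ⟨t, ht⟩), mul_inv_cancel_right]

namespace Lay

variable {C : Ctx G} {v a : G} {b : C.Pt} {E D : Subgroup G} (Y : C.Lay v a b E D)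
include Y

/-- The elements centralising `E` and normalising `⟨v⟩ E`. -/
theorem mem_N1 {x : G} :
    x ∈ centralizer (E : Set G) ⊓ normalizer ((zpowers v ⊔ E : Subgroup G) : Set G) ↔
      x ∈ centralizer (E : Set G) ∧ kap v x ∈ E := by
  rw [mem_inf]
  refine ⟨fun ⟨h1, h2⟩ => ⟨h1, Y.kap_mem ((mem_normalizer_iff.1 h2 v).1 (mem_sup_left (mem_zpowers v)))⟩,
    fun ⟨h1, h2⟩ => ⟨h1, mem_normalizer_iff_map_conj_eq.2
      (eq_of_le_of_card_ge ?_ (card_map_of_injective (MulAut.conj x).injective).ge)⟩⟩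
  rw [Subgroup.map_sup, MonoidHom.map_zpowers]
  refine sup_le (zpowers_le.2 ?_) ?_
  · show x * v * x⁻¹ ∈ zpowers v ⊔ E
    rw [conj_eq_mul_kap Y.v_sq]
    exact mul_mem (mem_sup_left (mem_zpowers v)) (mem_sup_right h2)
  · rintro _ ⟨e, he, rfl⟩
    show x * e * x⁻¹ ∈ zpowers v ⊔ E
    rw [← mem_centralizer_iff.1 h1 e he, mul_inv_cancel_right]
    exact mem_sup_right he

/-- A 2-group containing `⟨v⟩ E` and centralising `E` is `⟨v⟩ E` unless something translates `v`. -/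
theorem eq_VE_of_no_translation
    (hno : ∀ x ∈ centralizer (E : Set G), kap v x ∈ E → kap v x = 1) {S : Subgroup G}
    (hS : IsPGroup 2 S) (hSc : S ≤ centralizer (E : Set G)) (hVS : zpowers v ⊔ E ≤ S) :
    S = zpowers v ⊔ E := by
  haveI : Fact (Nat.Prime 2) := ⟨Nat.prime_two⟩
  by_contra hne
  obtain ⟨Z, hZ, hZS, hZn⟩ := CfsgLib.Bender.GSide.exists_between (lt_of_le_of_ne hVS (Ne.symm hne)) hS
  refine hZ.not_ge (Y.two_le_VE (hS.to_le hZS) fun x hx => ⟨hSc (hZS hx), ?_⟩)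
  have h := Y.mem_N1.1 (mem_inf.2 ⟨hSc (hZS hx), hZn hx⟩)
  exact mem_centralizer_singleton_iff.2 ((kap_eq_one Y.v_sq).1 (hno x h.1 h.2)).eq

/-- A 2-group centralising `v` and containing `E` is `E` times its stabiliser of `b`. -/
theorem cent_v_decomp {P : Subgroup G} (hP : IsPGroup 2 P) (hPv : P ≤ centralizer ({v} : Set G))
    (hPE : P ≤ normalizer (E : Set G)) (hEP : E ≤ P) :
    (∀ p ∈ P, ∃ e ∈ E, (e⁻¹ * p) • b = b) ∧ Nat.card P ≤ Nat.card E * Nat.card D ∧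
      ∀ x ∈ P, ∀ y ∈ P, x * y * x⁻¹ * y⁻¹ ∈ E := by
  have hbase : ∀ p ∈ P, p • C.base = C.base := fun p hp => Y.base_of_normalizer (hPE hp)
  let Q : Type u := {c : C.Pt // (v * 1) • c = c ∧ c ≠ C.base}
  have hQ : Nat.card Q = Nat.card E := Y.fix_card 1 (one_mem E)
  let f : ↥E → Q := fun e => ⟨(e : G) • b, by
    rw [mul_one, smul_smul, ← (Y.E_v e e.2).eq, mul_smul, Y.v_b],
    fun h => Y.b_ne (by rw [← inv_smul_smul (e : G) b, h, Y.E_base (inv_mem e.2)])⟩
  have hf : Function.Injective f := by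
    intro e e' h
    have h1 : ((e' : G)⁻¹ * e) • b = b := by
      rw [mul_smul, show (e : G) • b = (e' : G) • b from congrArg Subtype.val h, inv_smul_smul]
    exact Subtype.ext (inv_mul_eq_one.1
      (by_contra fun h2 => Y.b_ne (Y.E_fix (mul_mem (inv_mem e'.2) e.2) h2 h1))).symm
  have hsurj : Function.Surjective f := (hf.bijective_of_nat_card_le hQ.le).2
  have hdec : ∀ p ∈ P, ∃ e ∈ E, (e⁻¹ * p) • b = b := by
    intro p hp
    have hpv : Commute p v := mem_centralizer_singleton_iff.1 (hPv hp)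
    obtain ⟨e, he⟩ := hsurj ⟨p • b, by rw [mul_one, smul_smul, ← hpv.eq, mul_smul, Y.v_b],
      fun h => Y.b_ne (by rw [← inv_smul_smul p b, h, hbase p⁻¹ (inv_mem hp)])⟩
    refine ⟨e, e.2, ?_⟩
    rw [mul_smul, ← show (e : G) • b = p • b from congrArg Subtype.val he, inv_smul_smul]
  set S := P ⊓ MulAction.stabilizer G b with hS
  have hSfix : ∀ g ∈ S, g • C.base = C.base ∧ g • b = b ∧ Commute g v := fun g hg =>
    ⟨hbase g hg.1, hg.2, mem_centralizer_singleton_iff.1 (hPv hg.1)⟩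
  have hS2 : IsPGroup 2 S := hP.to_le inf_le_left
  have hcS : ∀ x ∈ S, ∀ y ∈ S, Commute x y := Y.stab_comm S hS2 hSfix
  have hsplit : ∀ p ∈ P, ∃ e ∈ E, ∃ s ∈ S, p = e * s := fun p hp => by
    obtain ⟨e, he, h⟩ := hdec p hp
    exact ⟨e, he, e⁻¹ * p, ⟨P.mul_mem (P.inv_mem (hEP he)) hp, h⟩, by group⟩
  refine ⟨hdec, ?_, fun x hx y hy => ?_⟩
  · have hle : Nat.card P ≤ Nat.card (↥E × ↥S) := Nat.card_le_card_of_surjective
      (fun w => (⟨(w.1 : G) * w.2, mul_mem (hEP w.1.2) w.2.2.1⟩ : ↥P)) fun p => by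
        obtain ⟨e, he, s, hs, h⟩ := hsplit p p.2
        exact ⟨(⟨e, he⟩, ⟨s, hs⟩), Subtype.ext h.symm⟩
    rw [Nat.card_prod] at hle
    exact hle.trans (Nat.mul_le_mul_left _
      (Y.stab_le b Y.b_ne S hS2 fun g hg => ⟨(hSfix g hg).1, (hSfix g hg).2.1⟩))
  · obtain ⟨e, he, s, hs, rfl⟩ := hsplit x hx
    obtain ⟨e', he', s', hs', rfl⟩ := hsplit y hy
    have hc : ∀ {s e : G}, s ∈ S → e ∈ E → s * e * s⁻¹ ∈ E := fun {s e} hs he =>
      (mem_normalizer_iff.1 (hPE hs.1) e).1 he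
    have e1 : e * s * (e' * s') * (e * s)⁻¹ * (e' * s')⁻¹ =
        e * (s * e' * s⁻¹) * ((s * s' * s⁻¹ * s'⁻¹) * (s' * e⁻¹ * s'⁻¹)) * e'⁻¹ := by group
    rw [e1, show s * s' * s⁻¹ * s'⁻¹ = 1 by rw [(hcS s hs s' hs').eq]; group, one_mul]
    exact mul_mem (mul_mem (mul_mem he (hc hs he')) (hc hs' (inv_mem he))) (inv_mem he')

/-- `E D` is a 2-group centralising `v`. -/
theorem ED_spec : IsPGroup 2 ↥(E ⊔ D) ∧ E ⊔ D ≤ centralizer ({v} : Set G) ∧
    E ⊔ D ≤ normalizer (E : Set G) ∧ Nat.card ↥(E ⊔ D) = Nat.card E * Nat.card D := by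
  refine ⟨IsPGroup.to_sup_of_normal_left' Y.E_two Y.D_two Y.D_E, sup_le ?_ ?_,
    sup_le le_normalizer Y.D_E, ?_⟩
  · exact fun e he => mem_centralizer_singleton_iff.2 (Y.E_v e he).eq
  · exact fun d hd => mem_centralizer_singleton_iff.2 (Y.D_fix d hd).2.2.eq
  · have h := CfsgLib.Solvable.card_sup_mul_card_inf Y.D_E
    rw [show D ⊓ E = ⊥ from ?_, card_bot, mul_one, sup_comm] at h
    · rw [h, mul_comm]
    · exact (eq_bot_iff_forall _).2 fun x hx =>
        by_contra fun h1 => Y.b_ne (Y.E_fix hx.2 h1 (Y.D_fix x hx.1).2.1)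

/-- **Without a translation there is a contradiction.** -/
theorem false_of_no_translation (hgen : closure C.Z = ⊤)
    (hno : ∀ x ∈ centralizer (E : Set G), kap v x ∈ E → kap v x = 1) : False := by
  classical
  haveI : Fact (Nat.Prime 2) := ⟨Nat.prime_two⟩
  obtain ⟨hED2, hEDv, hEDE, hEDc⟩ := Y.ED_spec
  set V := zpowers v ⊔ E with hV
  set N0 := normalizer (E : Set G) ⊓ normalizer (V : Set G) with hN0
  have hVE : E ⊔ D ≤ N0 := le_inf hEDE fun x hx => by
    refine mem_normalizer_iff_map_conj_eq.2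
      (eq_of_le_of_card_ge ?_ (card_map_of_injective (MulAut.conj x).injective).ge)
    rw [hV, Subgroup.map_sup, MonoidHom.map_zpowers]
    refine sup_le (zpowers_le.2 ?_) ?_
    · show x * v * x⁻¹ ∈ zpowers v ⊔ E
      rw [mul_inv_eq_iff_eq_mul.2 (mem_centralizer_singleton_iff.1 (hEDv hx))]
      exact mem_sup_left (mem_zpowers v)
    · rintro _ ⟨e, he, rfl⟩
      exact mem_sup_right ((mem_normalizer_iff.1 (hEDE hx) e).1 he)
  obtain ⟨S, hSN, hS2, hSc, hSk⟩ := exists_two_max N0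
  obtain ⟨n, hn, hnED⟩ := hSc (E ⊔ D) hED2 hVE
  obtain ⟨T, hT⟩ := (hS2.map (MulAut.conj n⁻¹).toMonoidHom).exists_le_sylow
  have hEDT : E ⊔ D ≤ (T : Subgroup G) := fun x hx => hT ⟨n * x * n⁻¹, hnED x hx, by simp [mul_assoc]⟩
  have hvT : v ∈ (T : Subgroup G) := hEDT (mem_sup_right Y.v_mem_D)
  have hET : E ≤ (T : Subgroup G) := le_sup_left.trans hEDT
  have hTE : (T : Subgroup G) ≤ normalizer (E : Set G) := Y.le_normalizer_of_two T.2 hvT hET
  have hTC : (T : Subgroup G) ⊓ centralizer (E : Set G) = V :=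
    Y.eq_VE_of_no_translation hno (T.2.to_le inf_le_left) inf_le_right
      (le_inf (sup_le (zpowers_le.2 hvT) hET) Y.VE_le_cent)
  have hTV : (T : Subgroup G) ≤ normalizer (V : Set G) := fun t ht => by
    refine mem_normalizer_iff_map_conj_eq.2
      (eq_of_le_of_card_ge ?_ (card_map_of_injective (MulAut.conj t).injective).ge)
    rintro _ ⟨x, hx, rfl⟩
    rw [← hTC] at hx ⊢
    refine ⟨(T : Subgroup G).mul_mem ((T : Subgroup G).mul_mem ht hx.1) ((T : Subgroup G).inv_mem ht), mem_centralizer_iff.2 fun e he => ?_⟩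
    have h1 : t⁻¹ * e * t ∈ E := by
      have := (mem_normalizer_iff.1 (hTE (inv_mem ht)) e).1 he
      rwa [inv_inv] at this
    have h2 := (Commute.conj_iff t).2 (mem_centralizer_iff.1 hx.2 _ h1 : Commute _ x)
    rw [show t * (t⁻¹ * e * t) * t⁻¹ = e by group] at h2
    exact h2.eq
  have hconjV : ∀ u ∈ (T : Subgroup G), IsConj v u → v⁻¹ * u ∈ E := by
    intro u hu huv
    have h1 : u ∈ V :=
      hTC ▸ mem_inf.2 ⟨hu, Y.bad_cent _ T.2 hvT hET u hu (Y.conj_bad huv)⟩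
    rcases Y.mem_VE.1 h1 with h | h
    · exact absurd h (Y.not_E_of_conj huv)
    · rwa [inv_eq_of_mul_eq_one_right Y.v_sq, ← (Y.VE_commute h1).eq]
  by_cases hmove : ∀ g ∈ N0, Commute g v
  · have hTv : (T : Subgroup G) ≤ centralizer ({v} : Set G) := fun t ht =>
      mem_centralizer_singleton_iff.2 (hmove t ⟨hTE ht, hTV ht⟩).eq
    obtain ⟨-, -, hcomm⟩ := Y.cent_v_decomp T.2 hTv hTE hET
    exact false_of_quot hgen T (M := E) (P := (T : Subgroup G)) hET le_rfl hTE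
      (fun t ht => ⟨t, ht, by rw [inv_mul_cancel]; exact one_mem E⟩) hcomm Y.v_sq hvT Y.v_not_E
      (fun x hx hxZ => Y.Z_two _ T.2 hvT hET x hx hxZ) fun u hu huv => Or.inl (hconjV u hu huv)
  push Not at hmove
  obtain ⟨g₀, hg₀, hg₀v⟩ := hmove
  -- the orbit of `v` is `v E`
  have haV : a ∈ normalizer (V : Set G) := by
    refine mem_normalizer_iff_map_conj_eq.2
      (eq_of_le_of_card_ge ?_ (card_map_of_injective (MulAut.conj a).injective).ge)
    rw [hV, Subgroup.map_sup, MonoidHom.map_zpowers]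
    refine sup_le (zpowers_le.2 ?_) ?_
    · show a * v * a⁻¹ ∈ zpowers v ⊔ E
      rw [mul_inv_eq_iff_eq_mul.2 Y.a_v.eq]
      exact mem_sup_left (mem_zpowers v)
    · rintro _ ⟨e, he, rfl⟩
      exact mem_sup_right ((mem_normalizer_iff.1 Y.a_E e).1 he)
  have hkap0 : kap v g₀ ∈ E :=
    Y.kap_mem ((mem_normalizer_iff.1 hg₀.2 v).1 (mem_sup_left (mem_zpowers v)))
  have horb : ∀ e ∈ E, ∃ g ∈ N0, g * v * g⁻¹ = v * e := fun e he =>
    Y.all_of_closed (p := fun e => ∃ g ∈ N0, g * v * g⁻¹ = v * e)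
      ⟨1, one_mem _, by simp⟩ hkap0 (fun h => hg₀v ((kap_eq_one Y.v_sq).1 h))
      ⟨g₀, hg₀, conj_eq_mul_kap Y.v_sq g₀⟩
      (fun x ⟨g, hg, e⟩ => ⟨a * g, mul_mem ⟨Y.a_E, haV⟩ hg, by
        rw [show a * g * v * (a * g)⁻¹ = a * (g * v * g⁻¹) * a⁻¹ by group, e]
        calc a * (v * x) * a⁻¹ = a * v * a⁻¹ * (a * x * a⁻¹) := by group
          _ = v * (a * x * a⁻¹) := by rw [mul_inv_eq_iff_eq_mul.2 Y.a_v.eq]⟩) he
  -- so the Sylow subgroup is large
  have hbig : Nat.card E * (Nat.card E * Nat.card D) ≤ Nat.card (T : Subgroup G) := by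
    have h1 := card_conj_sub N0 v
    have e : {y : G // ∃ d ∈ N0, d * v * d⁻¹ = y} ≃ ↥E :=
      { toFun := fun y => ⟨v * y.1, by
          obtain ⟨d, hd, hy⟩ := y.2
          have := Y.kap_mem ((mem_normalizer_iff.1 hd.2 v).1 (mem_sup_left (mem_zpowers v)))
          rwa [← hy, conj_eq_mul_kap Y.v_sq, ← mul_assoc, Y.v_sq, one_mul]⟩
        invFun := fun e => ⟨v * e, horb e e.2⟩
        left_inv := fun y => Subtype.ext (show v * (v * y.1) = y.1 by rw [← mul_assoc, Y.v_sq, one_mul])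
        right_inv := fun e => Subtype.ext (show v * (v * e.1) = e.1 by rw [← mul_assoc, Y.v_sq, one_mul]) }
    rw [Nat.card_congr e] at h1
    obtain ⟨k, hk⟩ := IsPGroup.iff_card.1 hED2
    obtain ⟨n', -, hq⟩ := Y.exists_q
    have h2 : Nat.card ↥(E ⊔ D) ∣ Nat.card ↥(N0 ⊓ centralizer ({v} : Set G)) :=
      card_dvd_of_le (le_inf hVE hEDv)
    have h3 := hSk (n' + k) (by rw [pow_add, ← hq, ← hk, ← h1]; exact mul_dvd_mul_left _ h2)
    rw [pow_add, ← hq, ← hk, hEDc] at h3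
    exact h3.trans ((card_map_of_injective (MulAut.conj n⁻¹).injective).symm.le.trans (card_le_of_le hT))
  -- count the points
  haveI := Fintype.ofFinite C.Pt
  haveI := Fintype.ofFinite ↥E
  let Pb : Type u := {c : C.Pt // c ≠ C.base ∧ ∃ e ∈ E, (v * e) • c = c}
  let Off : Type u := {c : C.Pt // c ≠ C.base ∧ ¬ ∃ e ∈ E, (v * e) • c = c}
  have hPb : Nat.card Pb = Nat.card E * Nat.card E := by
    have e1 : (Σ e : ↥E, {c : C.Pt // (v * e) • c = c ∧ c ≠ C.base}) ≃ Pb :=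
      Equiv.ofBijective (fun x => ⟨x.2.1, x.2.2.2, x.1, x.1.2, x.2.2.1⟩) ⟨by
        rintro ⟨e, c, hc, hcb⟩ ⟨e', c', hc', hcb'⟩ h
        obtain rfl : c = c' := congrArg Subtype.val h
        obtain rfl : e = e' := by
          refine Subtype.ext (inv_mul_eq_one.1 (by_contra fun hne =>
            hcb (Y.E_fix (mul_mem (inv_mem e.2) e'.2) hne ?_)))
          rw [show (e : G)⁻¹ * e' = (v * e)⁻¹ * (v * e') by group, mul_smul, hc', inv_smul_eq_iff, hc]
        rfl, fun ⟨c, hcb, e, he, hc⟩ => ⟨⟨⟨e, he⟩, c, hc, hcb⟩, rfl⟩⟩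
    rw [← Nat.card_congr e1, Nat.card_sigma, Finset.sum_congr rfl fun (e : ↥E) _ => Y.fix_card e e.2,
      Finset.sum_const, Finset.card_univ, smul_eq_mul, ← Nat.card_eq_fintype_card]
  have htot : Nat.card Pb + Nat.card Off = Nat.card E ^ 3 := by
    have e2 := Equiv.sumCompl (fun c : {c : C.Pt // c ≠ C.base} => ∃ e ∈ E, (v * e) • c.1 = c.1)
    have h1 := Nat.card_congr e2
    rw [Nat.card_sum, Nat.card_congr (Equiv.subtypeSubtypeEquivSubtypeInter _
      (fun c : C.Pt => ∃ e ∈ E, (v * e) • c = c)), Nat.card_congr (Equiv.subtypeSubtypeEquivSubtypeInter _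
      (fun c : C.Pt => ¬ ∃ e ∈ E, (v * e) • c = c))] at h1
    have h3 : Nat.card {c : C.Pt // c ≠ C.base} = Nat.card C.Pt - 1 := by
      rw [Nat.card_eq_fintype_card, Nat.card_eq_fintype_card, Fintype.card_subtype_compl,
        Fintype.card_subtype_eq]
    rw [h3, Y.n_eq, Nat.add_sub_cancel] at h1
    exact h1
  -- the other points fall into large orbits
  have hTb : ∀ t ∈ (T : Subgroup G), t • C.base = C.base := fun t ht => Y.base_of_normalizer (hTE ht)
  have hTV' : ∀ t ∈ (T : Subgroup G), ∀ c : C.Pt, (c ≠ C.base ∧ ¬ ∃ e ∈ E, (v * e) • c = c) →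
      t • c ≠ C.base ∧ ¬ ∃ e ∈ E, (v * e) • (t • c) = t • c := by
    rintro t ht c ⟨hcb, hcn⟩
    refine ⟨fun h => hcb (by rw [← inv_smul_smul t c, h, hTb _ (inv_mem ht)]), fun ⟨e, he, h⟩ => ?_⟩
    have h1 : t⁻¹ * (v * e) * t ∈ V := by
      have := (mem_normalizer_iff.1 (hTV (inv_mem ht)) (v * e)).1
        (mul_mem (mem_sup_left (mem_zpowers v)) (mem_sup_right he))
      rwa [inv_inv] at this
    have hfix : (t⁻¹ * (v * e) * t) • c = c := by rw [mul_smul, mul_smul, h, inv_smul_smul]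
    rcases Y.mem_VE.1 h1 with h2 | h2
    · refine hcb (Y.E_fix h2 (fun h3 => Y.v_not_E ?_) hfix)
      have h4 : v * e = 1 := by
        rw [show v * e = t * (t⁻¹ * (v * e) * t) * t⁻¹ by group, h3]; group
      rw [eq_inv_of_mul_eq_one_left h4]
      exact inv_mem he
    · refine hcn ⟨_, h2, ?_⟩
      rwa [← mul_assoc, (Y.VE_commute h1).symm.eq, mul_assoc, Y.v_sq, mul_one]
  letI act : MulAction ↥(T : Subgroup G) Off :=
    { smul := fun t c => ⟨(t : G) • c.1, hTV' t t.2 c.1 c.2⟩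
      one_smul := fun c => Subtype.ext (one_smul G c.1)
      mul_smul := fun t t' c => Subtype.ext (mul_smul (t : G) (t' : G) c.1) }
  have hoff : 2 * (Nat.card E * Nat.card E) ∣ Nat.card Off := by
    refine dvd_card_of_orbits (K := ↥(T : Subgroup G)) fun c => ?_
    have hstab : MulAction.stabilizer ↥(T : Subgroup G) c = ⊥ := by
      rw [eq_bot_iff]
      intro t ht
      by_contra ht1
      have ht' : (t : G) • c.1 = c.1 := congrArg Subtype.val (MulAction.mem_stabilizer_iff.1 ht)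
      obtain ⟨k, hk⟩ := IsPGroup.iff_orderOf.1 T.2 t
      rcases k with _ | k
      · exact ht1 (mem_bot.2 (orderOf_eq_one_iff.1 (by simpa using hk)))
      have hu : orderOf ((t : G) ^ 2 ^ k) = 2 := by
        rw [orderOf_pow' _ (by positivity : (2 : ℕ) ^ k ≠ 0), Subgroup.orderOf_coe, hk, pow_succ,
          Nat.gcd_mul_right_left, Nat.mul_div_cancel_left _ (by positivity)]
      have hfix : ∀ p : C.Pt, (t : G) • p = p → ((t : G) ^ 2 ^ k) • p = p := fun p hp =>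
        MulAction.mem_stabilizer_iff.1 (pow_mem (MulAction.mem_stabilizer_iff.2 hp) _)
      have hbad : C.Bad ((t : G) ^ 2 ^ k) :=
        ⟨hu, c.1, C.base, c.2.1, hfix _ ht', hfix _ (hTb t t.2)⟩
      have huV : (t : G) ^ 2 ^ k ∈ V := hTC ▸ mem_inf.2 ⟨pow_mem t.2 _,
        Y.bad_cent _ T.2 hvT hET _ (pow_mem t.2 _) hbad⟩
      rcases Y.mem_VE.1 huV with h | h
      · exact c.2.1 (Y.E_fix h (ne_one hu) (hfix _ ht'))
      · refine c.2.2 ⟨_, h, ?_⟩
        rw [← mul_assoc, (Y.VE_commute huV).symm.eq, mul_assoc, Y.v_sq, mul_one]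
        exact hfix _ ht'
    have h1 : Nat.card (MulAction.orbit ↥(T : Subgroup G) c) = Nat.card ↥(T : Subgroup G) := by
      rw [Nat.card_congr (MulAction.orbitEquivQuotientStabilizer _ c), hstab, ← index, index_bot]
    rw [h1]
    obtain ⟨i, hi⟩ := IsPGroup.iff_card.1 T.2
    obtain ⟨n', -, hq⟩ := Y.exists_q
    have hD2 : 2 ≤ Nat.card D :=
      Y.hv.1 ▸ Nat.le_of_dvd Nat.card_pos (Subgroup.orderOf_dvd_natCard _ Y.v_mem_D)
    have hle : 2 ^ (n' + n' + 1) ≤ 2 ^ i := by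
      rw [← hi, pow_succ, pow_add, ← hq]
      calc Nat.card E * Nat.card E * 2 ≤ Nat.card E * Nat.card E * Nat.card D := Nat.mul_le_mul_left _ hD2
        _ ≤ _ := by rw [mul_assoc]; exact hbig
    rw [hi, hq, ← pow_add, ← pow_succ']
    exact pow_dvd_pow 2 ((Nat.pow_le_pow_iff_right (by norm_num)).1 hle)
  obtain ⟨c, hc⟩ := hoff
  rw [hPb, hc] at htot
  obtain ⟨n', hn', hq⟩ := Y.exists_q
  have hEpos : 0 < Nat.card E := Nat.card_pos
  have h2 : Nat.card E = 1 + 2 * c := by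
    refine Nat.eq_of_mul_eq_mul_left (Nat.mul_pos hEpos hEpos) ?_
    linarith [htot, pow_succ (Nat.card E) 2, sq (Nat.card E)]
  rw [hq] at h2
  have h4 : 2 ∣ 2 ^ n' := dvd_pow_self 2 (by omega)
  omega

end Lay

end Ctx

end CfsgLib.Criterion
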