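import Cfsg.Agent.Criterion.LayerOne
import Cfsg.Agent.DGroup.Member

/-!
# The strong embedding criterion: the translation layer

When some element centralising `E` translates `v` in `v E`, the largest 2-group `S` of these elements
has order `2 q ^ 2` and an abelian subgroup `U` of index two not containing a conjugate of `v`, the
only abelian one of that index.
-/

set_option autoImplicit false
set_option linter.style.haveILetI false
set_option linter.unusedSectionVars false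

namespace CfsgLib.Criterion

open Subgroup CfsgLib.Invol Layers

universe u

variable {G : Type u} [Group G] [Finite G]

namespace Ctx

/-- The first layer: `S` and its abelian part `U`. -/
structure L1 (C : Ctx G) (v : G) (E S U : Subgroup G) : Prop where
  S_two : IsPGroup 2 S
  S_cent : S ≤ centralizer (E : Set G)
  S_kap : ∀ x ∈ S, kap v x ∈ E
  VE_le : zpowers v ⊔ E ≤ S
  surj : ∀ e ∈ E, ∃ x ∈ U, kap v x = e
  max : ∀ P : Subgroup G, IsPGroup 2 P → (∀ x ∈ P, x ∈ centralizer (E : Set G) ∧ kap v x ∈ E) →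
    S ≤ P → P = S
  card_S : Nat.card S = 2 * (Nat.card E * Nat.card E)
  lift : ∀ g : G, Commute g v → g ∈ normalizer (E : Set G) →
    ∃ g', Commute g' v ∧ g' ∈ normalizer (E : Set G) ∧ g' ∈ normalizer (S : Set G) ∧
      g' * g⁻¹ ∈ centralizer (E : Set G)
  U_le : U ≤ S
  E_le_U : E ≤ U
  v_not_U : v ∉ U
  S_eq : ∀ x ∈ S, x ∈ U ∨ x * v ∈ U
  U_comm : ∀ x ∈ U, ∀ y ∈ U, Commute x y
  sq_mem : ∀ x ∈ S, x * x ∈ E

theorem conj_E {a e : G} {E : Subgroup G} (ha : a ∈ normalizer (E : Set G)) (he : e ∈ E) :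
    a * e * a⁻¹ ∈ E := (mem_normalizer_iff.1 ha e).1 he

namespace Lay

variable {C : Ctx G} {v a : G} {b : C.Pt} {E D : Subgroup G} (Y : C.Lay v a b E D)
include Y

/-- An element acting on `E` as `a` fixes no element but the identity. -/
theorem fix_of_act {a' : G} (h : a' * a⁻¹ ∈ centralizer (E : Set G)) {e : G} (he : e ∈ E)
    (hfix : a' * e * a'⁻¹ = e) : e = 1 := by
  refine Y.a_fix he ?_
  have h1 := conj_E Y.a_E he
  have h2 : a' * a⁻¹ * (a * e * a⁻¹) * (a' * a⁻¹)⁻¹ = a * e * a⁻¹ := by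
    rw [← mem_centralizer_iff.1 h _ h1, mul_inv_cancel_right]
  rw [show a' * a⁻¹ * (a * e * a⁻¹) * (a' * a⁻¹)⁻¹ = a' * e * a'⁻¹ by group, hfix] at h2
  exact h2.symm

/-- An element acting on `E` as `a` acts on it as `a` does. -/
theorem act_eq {a' : G} (h : a' * a⁻¹ ∈ centralizer (E : Set G)) (k : ℕ) {e : G} (he : e ∈ E) :
    a' ^ k * e * (a' ^ k)⁻¹ = a ^ k * e * (a ^ k)⁻¹ := by
  induction k with
  | zero => simp
  | succ k ih =>
    have h1 : a ^ k * e * (a ^ k)⁻¹ ∈ E := conj_E (pow_mem Y.a_E k) he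
    have h2 : a * (a ^ k * e * (a ^ k)⁻¹) * a⁻¹ ∈ E := conj_E Y.a_E h1
    calc a' ^ (k + 1) * e * (a' ^ (k + 1))⁻¹ = a' * (a' ^ k * e * (a' ^ k)⁻¹) * a'⁻¹ := by
          rw [pow_succ']; group
      _ = a' * a⁻¹ * (a * (a ^ k * e * (a ^ k)⁻¹) * a⁻¹) * (a' * a⁻¹)⁻¹ := by rw [ih]; group
      _ = a * (a ^ k * e * (a ^ k)⁻¹) * a⁻¹ := by
          rw [← mem_centralizer_iff.1 h _ h2, mul_inv_cancel_right]
      _ = a ^ (k + 1) * e * (a ^ (k + 1))⁻¹ := by rw [pow_succ']; group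

/-- Normalising `E` from a map of `E`. -/
theorem norm_cent_E {g : G} (hg : g ∈ normalizer (E : Set G)) :
    g ∈ normalizer (centralizer (E : Set G) : Set G) :=
  CfsgLib.DGroup.mem_normalizer_centralizer hg

/-- **The translation layer.** -/
theorem exists_L1 (htr : ∃ x ∈ centralizer (E : Set G), kap v x ∈ E ∧ kap v x ≠ 1) :
    ∃ (S U : Subgroup G), C.L1 v E S U := by
  haveI : Fact (Nat.Prime 2) := ⟨Nat.prime_two⟩
  set N1 := centralizer (E : Set G) ⊓ normalizer ((zpowers v ⊔ E : Subgroup G) : Set G) with hN1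
  have hN : ∀ {x : G}, x ∈ N1 ↔ x ∈ centralizer (E : Set G) ∧ kap v x ∈ E := fun {x} => Y.mem_N1
  have hmul : ∀ {x y : G}, x ∈ N1 → y ∈ N1 → kap v (x * y) = kap v x * kap v y := fun {x y} hx hy =>
    kap_mul_of_commute Y.v_sq (mem_centralizer_iff.1 (hN.1 hx).1 _ (hN.1 hy).2 : Commute (kap v y) x).symm
  have hstar : ∀ {g : G}, Commute g v → g ∈ normalizer (E : Set G) → g ∈ normalizer (N1 : Set G) := by
    intro g hgv hgE
    refine mem_normalizer_iff_map_conj_eq.2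
      (eq_of_le_of_card_ge ?_ (card_map_of_injective (MulAut.conj g).injective).ge)
    rintro _ ⟨x, hx, rfl⟩
    refine hN.2 ⟨(mem_normalizer_iff.1 (Y.norm_cent_E hgE) x).1 (hN.1 hx).1, ?_⟩
    show kap v (g * x * g⁻¹) ∈ E
    rw [kap_conj hgv]
    exact conj_E hgE (hN.1 hx).2
  -- every element of `E` is a translation
  obtain ⟨x₀, hx₀c, hx₀E, hx₀⟩ := htr
  have hall : ∀ e ∈ E, ∃ x ∈ N1, kap v x = e := fun e he =>
    Y.all_of_closed (p := fun e => ∃ x ∈ N1, kap v x = e) ⟨1, one_mem _, kap_one v Y.v_sq⟩ hx₀E hx₀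
      ⟨x₀, hN.2 ⟨hx₀c, hx₀E⟩, rfl⟩
      (fun e ⟨x, hx, h⟩ => ⟨a * x * a⁻¹, (mem_normalizer_iff.1 (hstar Y.a_v Y.a_E) x).1 hx,
        by rw [kap_conj Y.a_v, h]⟩) he
  obtain ⟨S, hSN, hS2, hSc, -⟩ := exists_two_max N1
  have hVS : zpowers v ⊔ E ≤ S := le_two_max hSc Y.VE_two (fun x hx => hN.2 ⟨Y.VE_le_cent hx, by
    rw [(kap_eq_one Y.v_sq).2 (Y.VE_commute hx)]; exact one_mem E⟩) inf_le_right
  have hinv : ∀ {x : G}, x ∈ N1 → kap v x⁻¹ = (kap v x)⁻¹ := fun {x} hx => by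
    have h := hmul (inv_mem hx) hx
    rw [inv_mul_cancel, kap_one v Y.v_sq] at h
    exact eq_inv_of_mul_eq_one_left h.symm
  have hpow : ∀ {x : G}, x ∈ N1 → ∀ k : ℕ, kap v (x ^ k) = kap v x ^ k := fun {x} hx k => by
    induction k with
    | zero => simpa using kap_one v Y.v_sq
    | succ k ih => rw [pow_succ, hmul (pow_mem hx k) hx, ih, pow_succ]
  have hsurjS : ∀ e ∈ E, ∃ x ∈ S, kap v x = e := by
    intro e he
    obtain ⟨x, hx, hxe⟩ := hall e he
    obtain ⟨j, m, hm, hjm⟩ := Nat.exists_eq_two_pow_mul_odd (orderOf_pos x).ne'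
    have h2 : IsPGroup 2 (zpowers (x ^ m)) := by
      obtain ⟨i, -, hi⟩ := (Nat.dvd_prime_pow Nat.prime_two).1
        (orderOf_dvd_of_pow_eq_one (show (x ^ m) ^ 2 ^ j = 1 by
          rw [← pow_mul, mul_comm, ← hjm, pow_orderOf_eq_one]))
      exact IsPGroup.of_card (n := i) (by rw [Nat.card_zpowers, hi])
    obtain ⟨n, hn, h⟩ := hSc _ h2 (zpowers_le.2 (pow_mem hx m))
    refine ⟨_, h _ (mem_zpowers _), ?_⟩
    rw [hmul (mul_mem hn (pow_mem hx m)) (inv_mem hn), hmul hn (pow_mem hx m), hinv hn,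
      (Y.E_comm (hN.1 hn).2 (hN.1 (pow_mem hx m)).2).eq, mul_inv_cancel_right, hpow hx, hxe]
    obtain ⟨i, rfl⟩ := hm
    rw [pow_succ, pow_mul, sq, Y.E_sq e he, one_pow, one_mul]
  have hker : ∀ x ∈ S, kap v x = 1 → x ∈ zpowers v ⊔ E := fun x hx h =>
    Y.two_le_VE (S := zpowers x ⊔ (zpowers v ⊔ E)) (hS2.to_le (sup_le (zpowers_le.2 hx) hVS))
      (sup_le (zpowers_le.2 ⟨(hN.1 (hSN hx)).1, mem_centralizer_singleton_iff.2 ((kap_eq_one Y.v_sq).1 h).eq⟩)
        fun y hy => ⟨Y.VE_le_cent hy, mem_centralizer_singleton_iff.2 (Y.VE_commute hy).eq⟩)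
      (mem_sup_left (mem_zpowers x))
  have hcard : Nat.card S = 2 * (Nat.card E * Nat.card E) := by
    let f : ↥S →* ↥E :=
      { toFun := fun x => ⟨kap v x, (hN.1 (hSN x.2)).2⟩
        map_one' := Subtype.ext (kap_one v Y.v_sq)
        map_mul' := fun x y => Subtype.ext (hmul (hSN x.2) (hSN y.2)) }
    have hf : Function.Surjective f := fun e => by
      obtain ⟨x, hx, h⟩ := hsurjS e e.2
      exact ⟨⟨x, hx⟩, Subtype.ext h⟩
    have e1 : f.ker ≃ ↥(zpowers v ⊔ E) :=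
      { toFun := fun x => ⟨x.1.1, hker _ x.1.2 (congrArg Subtype.val (MonoidHom.mem_ker.1 x.2))⟩
        invFun := fun x => ⟨⟨x.1, hVS x.2⟩,
          MonoidHom.mem_ker.2 (Subtype.ext ((kap_eq_one Y.v_sq).2 (Y.VE_commute x.2)))⟩
        left_inv := fun _ => rfl
        right_inv := fun _ => rfl }
    rw [← f.ker.card_mul_index, index_ker, f.range_eq_top_of_surjective hf, Subgroup.card_top,
      Nat.card_congr e1, Y.card_VE, mul_assoc]
  have hlift : ∀ g : G, Commute g v → g ∈ normalizer (E : Set G) →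
      ∃ g', Commute g' v ∧ g' ∈ normalizer (E : Set G) ∧ g' ∈ normalizer (S : Set G) ∧
        g' * g⁻¹ ∈ centralizer (E : Set G) := by
    intro g hgv hgE
    obtain ⟨n, hn, hng⟩ := exists_frattini hSN hS2 hSc (hstar hgv hgE)
    obtain ⟨s, hs, hse⟩ := hsurjS _ (hN.1 hn).2
    have hmem : s⁻¹ * n ∈ N1 := mul_mem (inv_mem (hSN hs)) hn
    have h1 : Commute (s⁻¹ * n) v := (kap_eq_one Y.v_sq).1 (by
      rw [hmul (inv_mem (hSN hs)) hn, hinv (hSN hs), hse, inv_mul_cancel])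
    refine ⟨s⁻¹ * n * g, h1.mul_left hgv, mul_mem (centralizer_le_normalizer _ (hN.1 hmem).1) hgE, ?_, ?_⟩
    · rw [mul_assoc]
      exact mul_mem (le_normalizer (inv_mem hs)) hng
    · rw [mul_inv_cancel_right]
      exact (hN.1 hmem).1
  obtain ⟨a', ha'v, ha'E, ha'S, ha'a⟩ := hlift a Y.a_v Y.a_E
  have hES : E ≤ S := le_sup_right.trans hVS
  have hsq : ∀ x ∈ S, x * x ∈ E := by
    intro x hx
    have h1 : kap v (x * x) = 1 := by rw [hmul (hSN hx) (hSN hx), Y.E_sq _ (hN.1 (hSN hx)).2]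
    rcases Y.mem_VE.1 (hker _ (mul_mem hx hx) h1) with h | h
    · exact h
    · have hxe : Commute x (x * x * v) := (mem_centralizer_iff.1 (hN.1 (hSN hx)).1 _ h : Commute _ x).symm
      have hxv : Commute x v := by
        have h2 := (((Commute.refl x).mul_right (Commute.refl x)).inv_right).mul_right hxe
        rwa [inv_mul_cancel_left] at h2
      rw [Y.VE_sq (hker x hx ((kap_eq_one Y.v_sq).2 hxv))]
      exact one_mem E
  have hSnE : S ≤ normalizer (E : Set G) := fun x hx => centralizer_le_normalizer _ (hN.1 (hSN hx)).1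
  have hfix : ∀ x ∈ S, a' * x * a'⁻¹ * x⁻¹ ∈ zpowers v ⊔ E → x ∈ zpowers v ⊔ E := by
    intro x hx h
    refine hker x hx (Y.fix_of_act ha'a (hN.1 (hSN hx)).2 ?_)
    have hy : a' * x * a'⁻¹ ∈ S := (mem_normalizer_iff.1 ha'S x).1 hx
    have h1 := (kap_eq_one Y.v_sq).2 (Y.VE_commute h)
    rw [hmul (hSN hy) (inv_mem (hSN hx)), hinv (hSN hx), kap_conj ha'v] at h1
    exact mul_inv_eq_one.1 h1
  set U := shiftSub a' S E with hU
  obtain ⟨hvU, hSU⟩ := shiftSub_spec hES hSnE hsq ha'S ha'E Y.v_sq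
    (hVS (mem_sup_left (mem_zpowers v))) ha'v Y.v_not_E hfix
  have hUS : U ≤ S := shiftSub_le hES ha'S
  have ha'U : a' ∈ normalizer (U : Set G) := mem_normalizer_shiftSub_self ha'S ha'E
  have hsurjU : ∀ e ∈ E, ∃ x ∈ U, kap v x = e := fun e he => by
    obtain ⟨x, hx, h⟩ := hsurjS e he
    rcases hSU x hx with h1 | h1
    · exact ⟨x, h1, h⟩
    · refine ⟨x * v, h1, ?_⟩
      rw [hmul (hSN hx) (hSN (hVS (mem_sup_left (mem_zpowers v)))),
        (kap_eq_one Y.v_sq).2 (Commute.refl v), mul_one, h]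
  -- squaring is a homomorphism on `U`
  obtain ⟨e₀, he₀, he₀1⟩ := Y.exists_ne_one
  obtain ⟨y₀, hy₀, hy₀e⟩ := hsurjU e₀ he₀
  have hinU : ∀ x ∈ U, kap v x = 1 → x ∈ E := fun x hx h => by
    rcases Y.mem_VE.1 (hker x (hUS hx) h) with h1 | h1
    · exact h1
    · exact absurd (by simpa using mul_mem (inv_mem hx) (le_shiftSub a' S E h1)) hvU
  have hcongr : ∀ x ∈ U, ∀ y ∈ U, kap v x = kap v y → x * x = y * y := fun x hx y hy h => by
    have h1 : y⁻¹ * x ∈ E := hinU _ (mul_mem (inv_mem hy) hx) (by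
      rw [hmul (inv_mem (hSN (hUS hy))) (hSN (hUS hx)), hinv (hSN (hUS hy)), h, inv_mul_cancel])
    have hc : Commute (y⁻¹ * x) y := mem_centralizer_iff.1 (hN.1 (hSN (hUS hy))).1 _ h1
    calc x * x = y * (y⁻¹ * x) * (y * (y⁻¹ * x)) := by group
      _ = y * y * (y⁻¹ * x * (y⁻¹ * x)) := hc.mul_mul_mul_comm y (y⁻¹ * x)
      _ = y * y := by rw [Y.E_sq _ h1, mul_one]
  have hUk : ∀ k : ℕ, a' ^ k * y₀ * (a' ^ k)⁻¹ ∈ U ∧
      kap v (a' ^ k * y₀ * (a' ^ k)⁻¹) = a ^ k * e₀ * (a ^ k)⁻¹ := fun k =>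
    ⟨(mem_normalizer_iff.1 (pow_mem ha'U k) y₀).1 hy₀, by
      rw [kap_conj (ha'v.pow_left k), hy₀e, Y.act_eq ha'a k he₀]⟩
  have hsq1 : ∀ {x : G}, x ∈ U → kap v x = 1 → x * x = 1 := fun {x} hx h => Y.E_sq x (hinU x hx h)
  have hrep : ∀ x ∈ U, kap v x ≠ 1 → ∃ k : ℕ, kap v x = a ^ k * e₀ * (a ^ k)⁻¹ ∧
      x * x = a ^ k * (y₀ * y₀) * (a ^ k)⁻¹ := fun x hx h => by
    obtain ⟨k, hk⟩ := Y.a_trans e₀ he₀ _ (hN.1 (hSN (hUS hx))).2 he₀1 h
    refine ⟨k, hk.symm, ?_⟩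
    rw [hcongr x hx _ (hUk k).1 (hk.symm.trans (hUk k).2.symm),
      show a' ^ k * y₀ * (a' ^ k)⁻¹ * (a' ^ k * y₀ * (a' ^ k)⁻¹) = a' ^ k * (y₀ * y₀) * (a' ^ k)⁻¹ by group,
      Y.act_eq ha'a k (hsq y₀ (hUS hy₀))]
  have hhom : ∃ γ : G → G, (∀ x ∈ U, x * x = γ (kap v x)) ∧ ∀ x ∈ E, ∀ y ∈ E, γ (x * y) = γ x * γ y := by
    by_cases h0 : y₀ * y₀ = 1
    · refine ⟨fun _ => 1, fun x hx => ?_, fun _ _ _ _ => (mul_one 1).symm⟩
      by_cases h : kap v x = 1
      · exact hsq1 hx h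
      · obtain ⟨k, -, h1⟩ := hrep x hx h
        rw [h1, h0]
        group
    · obtain ⟨j, hj⟩ := Y.a_trans e₀ he₀ _ (hsq y₀ (hUS hy₀)) he₀1 h0
      refine ⟨fun e => a ^ j * e * (a ^ j)⁻¹, fun x hx => ?_, fun x _ y _ => by group⟩
      by_cases h : kap v x = 1
      · rw [hsq1 hx h]
        simp [h]
      · obtain ⟨k, h2, h1⟩ := hrep x hx h
        rw [h1, h2, ← hj]
        show a ^ k * (a ^ j * e₀ * (a ^ j)⁻¹) * (a ^ k)⁻¹ = a ^ j * (a ^ k * e₀ * (a ^ k)⁻¹) * (a ^ j)⁻¹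
        rw [show a ^ k * (a ^ j * e₀ * (a ^ j)⁻¹) * (a ^ k)⁻¹ =
          (a ^ k * a ^ j) * e₀ * (a ^ k * a ^ j)⁻¹ by group, ← pow_add, add_comm, pow_add]
        group
  obtain ⟨γ, hγ, hγmul⟩ := hhom
  have hcomm : ∀ x ∈ U, ∀ y ∈ U, Commute x y := fun x hx y hy => by
    have h : x * y * (x * y) = x * x * (y * y) := by
      rw [hγ _ (mul_mem hx hy), hmul (hSN (hUS hx)) (hSN (hUS hy)),
        hγmul _ (hN.1 (hSN (hUS hx))).2 _ (hN.1 (hSN (hUS hy))).2, ← hγ x hx, ← hγ y hy]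
    simp only [mul_assoc, mul_right_inj] at h
    rw [← mul_assoc, ← mul_assoc, mul_left_inj] at h
    exact h.symm
  exact ⟨S, U, hS2, fun x hx => (hN.1 (hSN hx)).1, fun x hx => (hN.1 (hSN hx)).2, hVS, hsurjU,
    fun P hP hPN hSP => eq_two_max hSc hP (fun x hx => hN.2 (hPN x hx)) hSP, hcard, hlift, hUS,
    le_shiftSub a' S E, hvU, hSU, hcomm, hsq⟩

end Lay

namespace L1

variable {C : Ctx G} {v : G} {E S U : Subgroup G} (F : C.L1 v E S U)
include F

theorem v_mem : v ∈ S := F.VE_le (mem_sup_left (mem_zpowers v))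

theorem E_le : E ≤ S := le_sup_right.trans F.VE_le

theorem kap_hom {x y : G} (hv : v * v = 1) (hx : x ∈ S) (hy : y ∈ S) :
    kap v (x * y) = kap v x * kap v y :=
  kap_mul_of_commute hv (mem_centralizer_iff.1 (F.S_cent hx) _ (F.S_kap y hy) : Commute (kap v y) x).symm

theorem S_norm_U : S ≤ normalizer (U : Set G) := by
  intro g hg
  refine mem_normalizer_iff_map_conj_eq.2
    (eq_of_le_of_card_ge ?_ (card_map_of_injective (MulAut.conj g).injective).ge)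
  rintro _ ⟨x, hx, rfl⟩
  show g * x * g⁻¹ ∈ U
  have hxx : g⁻¹ * g⁻¹ ∈ U := F.E_le_U (F.sq_mem _ (inv_mem hg))
  have hgx : g * x * (g * x) ∈ U := F.E_le_U (F.sq_mem _ (mul_mem hg (F.U_le hx)))
  rw [show g * x * g⁻¹ = g * x * (g * x) * x⁻¹ * (g⁻¹ * g⁻¹) by group]
  exact mul_mem (mul_mem hgx (inv_mem hx)) hxx

end L1

namespace Lay

variable {C : Ctx G} {v a : G} {b : C.Pt} {E D S U : Subgroup G} (Y : C.Lay v a b E D)
  (F : C.L1 v E S U)
include Y F

theorem mem_E_of_kap {x : G} (hx : x ∈ U) (h : Commute x v) : x ∈ E := by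
  have hVc : zpowers x ⊔ (zpowers v ⊔ E) ≤ S := sup_le (zpowers_le.2 (F.U_le hx)) F.VE_le
  have h1 := Y.two_le_VE (F.S_two.to_le hVc)
    (sup_le (zpowers_le.2 ⟨F.S_cent (F.U_le hx), mem_centralizer_singleton_iff.2 h.eq⟩)
      fun y hy => ⟨Y.VE_le_cent hy, mem_centralizer_singleton_iff.2 (Y.VE_commute hy).eq⟩)
    (mem_sup_left (mem_zpowers x))
  rcases Y.mem_VE.1 h1 with h2 | h2
  · exact h2
  · exact absurd (by simpa using mul_mem (inv_mem hx) (F.E_le_U h2)) F.v_not_U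

theorem card_U : Nat.card U = Nat.card E * Nat.card E := by
  have h : Nat.card S = 2 * Nat.card U := by
    have hix : (U.subgroupOf S).index = 2 := by
      refine index_eq_two_iff.2 ⟨⟨v, F.v_mem⟩, fun x => ?_⟩
      rcases F.S_eq x x.2 with h | h
      · refine Or.inr ⟨h, fun hc => F.v_not_U ?_⟩
        have h1 := mul_mem (inv_mem h) (show (x : G) * v ∈ U from hc)
        rwa [inv_mul_cancel_left] at h1
      · refine Or.inl ⟨h, fun hc => F.v_not_U ?_⟩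
        have h1 := mul_mem (inv_mem (show (x : G) ∈ U from hc)) h
        rwa [inv_mul_cancel_left] at h1
    rw [← card_mul_index (U.subgroupOf S), hix, Nat.card_congr (subgroupOfEquivOfLe F.U_le).toEquiv,
      mul_comm]
  have := F.card_S
  omega

/-- Whatever normalises `S` normalises `U`. -/
theorem mem_normalizer_U {g : G} (hg : g ∈ normalizer (S : Set G)) : g ∈ normalizer (U : Set G) := by
  refine mem_normalizer_iff_map_conj_eq.2 (eq_of_commutative F.U_le ?_ F.S_norm_U F.U_comm ?_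
    (card_map_of_injective (MulAut.conj g).injective) F.S_eq (E := E)
    (fun x hx h => Y.mem_E_of_kap F hx h) ?_)
  · rintro _ ⟨x, hx, rfl⟩
    exact (mem_normalizer_iff.1 hg x).1 (F.U_le hx)
  · rintro _ ⟨x, hx, rfl⟩ _ ⟨y, hy, rfl⟩
    exact (F.U_comm x hx y hy).map (MulAut.conj g).toMonoidHom
  · rw [Y.card_U F, F.card_S]
    have h4 := Y.q_ge
    have h2 : 0 < Nat.card E * Nat.card E * Nat.card E := by positivity
    nlinarith

/-- No conjugate of `v` lies in `U`. -/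
theorem not_conj_U {u : G} (hu : u ∈ U) : ¬ IsConj v u := by
  intro h
  have hle := Y.ker u (F.S_cent (F.U_le hu)) h U (F.S_two.to_le F.U_le) fun x hx =>
    ⟨F.S_cent (F.U_le hx), mem_centralizer_singleton_iff.2 (F.U_comm x hx u hu).eq⟩
  have hb := Y.conj_bad h
  have h1 := card_le_of_le hle
  have h2 := CfsgLib.Solvable.card_sup_mul_card_inf
    (zpowers_le.2 (centralizer_le_normalizer (E : Set G) (F.S_cent (F.U_le hu))))
  have h3 : Nat.card ↥(zpowers u ⊔ E) ≤ 2 * Nat.card E := by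
    rw [Nat.card_zpowers u, hb.1] at h2
    rw [← h2]
    exact Nat.le_mul_of_pos_right _ Nat.card_pos
  rw [Y.card_U F] at h1
  have := Y.q_ge
  nlinarith

theorem conj_mem_vU {u : G} (hu : u ∈ S) (h : IsConj v u) : v⁻¹ * u ∈ U := by
  rcases F.S_eq u hu with h1 | h1
  · exact absurd h (Y.not_conj_U F h1)
  · have h2 := (mem_normalizer_iff.1 (F.S_norm_U F.v_mem) _).1 h1
    rwa [show v * (u * v) * v⁻¹ = v * u by group, ← inv_eq_of_mul_eq_one_right Y.v_sq] at h2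

end Lay

end Ctx

end CfsgLib.Criterion
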