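import Cfsg.Agent.Criterion.LayerTrans
import Mathlib.GroupTheory.Subgroup.Centralizer

/-!
# The strong embedding criterion: the second layer

If an element of `C(E)` normalising the translation layer `S` moves `v` outside `v E`, the largest
2-group of such elements gives a Sylow subgroup transitive on the points off the base, in which `v`
is outside a normal subgroup with abelian quotient: transfer gives a contradiction.
-/

set_option autoImplicit false
set_option linter.style.haveILetI false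
set_option linter.unusedSectionVars false

namespace CfsgLib.Criterion

open Subgroup CfsgLib.Invol Layers

universe u

variable {G : Type u} [Group G] [Finite G]

/-- A map on `K` multiplicative into an abelian group of exponent two takes all values on a largest
2-subgroup. -/
theorem exists_value_two_max {K S : Subgroup G}
    (hS : ∀ P : Subgroup G, IsPGroup 2 P → P ≤ K → ∃ n ∈ K, ∀ x ∈ P, n * x * n⁻¹ ∈ S)
    {φ : G → G} (hmul : ∀ x ∈ K, ∀ y ∈ K, φ (x * y) = φ x * φ y)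
    (hcomm : ∀ x ∈ K, ∀ y ∈ K, Commute (φ x) (φ y)) (hsq : ∀ x ∈ K, φ x * φ x = 1)
    {x : G} (hx : x ∈ K) : ∃ y ∈ S, φ y = φ x := by
  haveI : Fact (Nat.Prime 2) := ⟨Nat.prime_two⟩
  have h1 : φ 1 = 1 := by
    have h := hmul 1 (one_mem K) 1 (one_mem K)
    rw [mul_one] at h
    exact mul_eq_left.1 h.symm
  have hinv : ∀ {y : G}, y ∈ K → φ y⁻¹ = (φ y)⁻¹ := fun {y} hy => by
    have h := hmul _ (inv_mem hy) _ hy
    rw [inv_mul_cancel, h1] at h
    exact eq_inv_of_mul_eq_one_left h.symm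
  have hpow : ∀ k : ℕ, φ (x ^ k) = φ x ^ k := fun k => by
    induction k with
    | zero => simpa using h1
    | succ k ih => rw [pow_succ, hmul _ (pow_mem hx k) _ hx, ih, pow_succ]
  obtain ⟨j, m, hm, hjm⟩ := Nat.exists_eq_two_pow_mul_odd (orderOf_pos x).ne'
  have h2 : IsPGroup 2 (zpowers (x ^ m)) := by
    obtain ⟨i, -, hi⟩ := (Nat.dvd_prime_pow Nat.prime_two).1
      (orderOf_dvd_of_pow_eq_one (show (x ^ m) ^ 2 ^ j = 1 by
        rw [← pow_mul, mul_comm, ← hjm, pow_orderOf_eq_one]))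
    exact IsPGroup.of_card (n := i) (by rw [Nat.card_zpowers, hi])
  obtain ⟨n, hn, h⟩ := hS _ h2 (zpowers_le.2 (pow_mem hx m))
  refine ⟨_, h _ (mem_zpowers _), ?_⟩
  rw [hmul _ (mul_mem hn (pow_mem hx m)) _ (inv_mem hn), hmul _ hn _ (pow_mem hx m), hinv hn,
    (hcomm n hn _ (pow_mem hx m)).eq, mul_inv_cancel_right, hpow]
  obtain ⟨i, rfl⟩ := hm
  rw [pow_succ, pow_mul, sq, hsq x hx, one_pow, one_mul]

namespace Ctx

namespace Lay

variable {C : Ctx G} {v a : G} {b : C.Pt} {E D S U : Subgroup G} (Y : C.Lay v a b E D)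
  (F : C.L1 v E S U)
include Y

/-- The 2-group `D` meets `C(E)` in `⟨v⟩`. -/
theorem card_D_inf : Nat.card ↥(D ⊓ centralizer (E : Set G)) ≤ 2 := by
  have h : D ⊓ centralizer (E : Set G) ≤ zpowers v := fun x hx => by
    have h1 : x ∈ zpowers v ⊔ E := Y.two_le_VE (Y.D_two.to_le inf_le_left)
      (fun y hy => ⟨hy.2, mem_centralizer_singleton_iff.2 (Y.D_fix y hy.1).2.2.eq⟩) hx
    rcases Y.mem_of_fix_b h1 (Y.D_fix x hx.1).2.1 with e | e <;> rw [e]
    exacts [one_mem _, mem_zpowers v]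
  exact (card_le_of_le h).trans (by rw [Nat.card_zpowers, Y.hv.1])

/-- A subgroup of `C(v) ∩ N(E)` over `⟨v⟩ E` with the full action on `E` has a 2-part of at least
`q |D|`. -/
theorem two_part_le {B : Subgroup G} (hBE : B ≤ normalizer (E : Set G)) (hVB : zpowers v ⊔ E ≤ B)
    (hlift : ∀ d ∈ D, ∃ g ∈ B, g * d⁻¹ ∈ centralizer (E : Set G)) {k : ℕ}
    (hk : 2 ^ k ≤ Nat.card E * Nat.card D) : 2 ^ k ∣ Nat.card B := by
  haveI : Fact (Nat.Prime 2) := ⟨Nat.prime_two⟩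
  let r : ↥B →* MulAut E := E.normalizerMonoidHom.comp (Subgroup.inclusion hBE)
  let rD : ↥D →* MulAut E := E.normalizerMonoidHom.comp (Subgroup.inclusion Y.D_E)
  have hr : rD.range ≤ r.range := by
    rintro _ ⟨d, rfl⟩
    obtain ⟨g, hg, hgd⟩ := hlift d d.2
    have hn : g * (d : G)⁻¹ ∈ normalizer (E : Set G) := centralizer_le_normalizer _ hgd
    have h1 : E.normalizerMonoidHom ⟨g * (d : G)⁻¹, hn⟩ = 1 := by
      rw [← MonoidHom.mem_ker, normalizerMonoidHom_ker]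
      exact hgd
    refine ⟨⟨g, hg⟩, ?_⟩
    show E.normalizerMonoidHom ⟨g, hBE hg⟩ = E.normalizerMonoidHom ⟨d, Y.D_E d.2⟩
    rw [show (⟨g, hBE hg⟩ : ↥(normalizer (E : Set G))) = ⟨g * (d : G)⁻¹, hn⟩ * ⟨d, Y.D_E d.2⟩ from
      Subtype.ext (inv_mul_cancel_right g (d : G)).symm, map_mul, h1, one_mul]
  have hB : Nat.card r.ker * Nat.card r.range = Nat.card B := by
    rw [← r.ker.card_mul_index, index_ker]
  have hV : 2 * Nat.card E ∣ Nat.card r.ker := by
    rw [← Y.card_VE, ← show Nat.card (r.ker.map B.subtype) = Nat.card r.ker from card_map_of_injective B.subtype_injective]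
    refine card_dvd_of_le fun x hx => ⟨⟨x, hVB hx⟩, ?_, rfl⟩
    show E.normalizerMonoidHom ⟨x, hBE (hVB hx)⟩ = 1
    rw [← MonoidHom.mem_ker, normalizerMonoidHom_ker]
    exact Y.VE_le_cent hx
  have hD : Nat.card D ≤ 2 * Nat.card rD.range := by
    rw [← rD.ker.card_mul_index, index_ker]
    refine Nat.mul_le_mul_right _ (le_trans ?_ Y.card_D_inf)
    rw [← show Nat.card (rD.ker.map D.subtype) = Nat.card rD.ker from card_map_of_injective D.subtype_injective]
    refine card_le_of_le ?_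
    rintro _ ⟨x, hx, rfl⟩
    refine ⟨x.2, ?_⟩
    have h1 : E.normalizerMonoidHom ⟨x, Y.D_E x.2⟩ = 1 := hx
    rwa [← MonoidHom.mem_ker, normalizerMonoidHom_ker] at h1
  obtain ⟨i, hi⟩ := IsPGroup.iff_card.1 (Y.D_two.of_surjective rD.rangeRestrict rD.rangeRestrict_surjective)
  obtain ⟨n, -, hq⟩ := Y.exists_q
  have hdvd : 2 ^ (n + i + 1) ∣ Nat.card B := by
    rw [← hB, pow_succ, pow_add, ← hq, ← hi, show Nat.card E * Nat.card rD.range * 2 =
      2 * Nat.card E * Nat.card rD.range by ring]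
    exact mul_dvd_mul hV (card_dvd_of_le hr)
  refine dvd_trans (pow_dvd_pow 2 ?_) hdvd
  refine (Nat.pow_le_pow_iff_right (by norm_num : 1 < 2)).1 (hk.trans ?_)
  rw [pow_succ, pow_add, ← hq, ← hi, mul_assoc, mul_comm (Nat.card rD.range) 2]
  exact Nat.mul_le_mul_left _ hD

include F

/-- The second invariant of an element normalising the layer. -/
theorem kap_mem_U {x : G} (hx : x ∈ centralizer (E : Set G) ⊓ normalizer (S : Set G)) : kap v x ∈ U := by
  have hu : x * v * x⁻¹ ∈ S := (mem_normalizer_iff.1 hx.2 v).1 F.v_mem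
  have h := Y.conj_mem_vU F hu (isConj_iff.2 ⟨x, rfl⟩)
  rwa [inv_eq_of_mul_eq_one_right Y.v_sq, show v * (x * v * x⁻¹) = kap v x by rw [kap]; group] at h

/-- Elements normalising the layer act trivially on `U / E`. -/
theorem kap_conj_U {x w : G} (hx : x ∈ centralizer (E : Set G) ⊓ normalizer (S : Set G)) (hw : w ∈ U) :
    kap v (x * w * x⁻¹) = kap v w := by
  have hw' : x * w * x⁻¹ ∈ U := (mem_normalizer_iff.1 (Y.mem_normalizer_U F hx.2) w).1 hw
  set u := x * v * x⁻¹ with hu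
  have hu2 : u⁻¹ = u := inv_eq_of_mul_eq_one_right (by
    rw [hu, show x * v * x⁻¹ * (x * v * x⁻¹) = x * (v * v) * x⁻¹ by group, Y.v_sq, mul_one, mul_inv_cancel])
  have hy : kap v x ∈ U := Y.kap_mem_U F hx
  have e1 : x * kap v w * x⁻¹ = u * (x * w * x⁻¹) * u⁻¹ * (x * w * x⁻¹)⁻¹ := by
    rw [hu2, hu, kap]
    group
  have e2 : x * kap v w * x⁻¹ = kap v w := by
    rw [← mem_centralizer_iff.1 hx.1 _ (F.S_kap w (F.U_le hw)), mul_inv_cancel_right]
  rw [e2] at e1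
  rw [e1, hu, conj_eq_mul_kap Y.v_sq]
  calc kap v (x * w * x⁻¹) = v * (x * w * x⁻¹) * v⁻¹ * (x * w * x⁻¹)⁻¹ := by
        rw [kap, inv_eq_of_mul_eq_one_right Y.v_sq]
    _ = v * (kap v x * (x * w * x⁻¹) * (kap v x)⁻¹) * v⁻¹ * (x * w * x⁻¹)⁻¹ := by
        rw [(F.U_comm _ hy _ hw').eq, mul_inv_cancel_right]
    _ = _ := by group

/-- The second invariant is multiplicative. -/
theorem xi_mul {x y : G} (hx : x ∈ centralizer (E : Set G) ⊓ normalizer (S : Set G))
    (hy : y ∈ centralizer (E : Set G) ⊓ normalizer (S : Set G)) :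
    kap v (kap v (x * y)) = kap v (kap v x) * kap v (kap v y) := by
  have hxy : x * kap v y * x⁻¹ ∈ U :=
    (mem_normalizer_iff.1 (Y.mem_normalizer_U F hx.2) _).1 (Y.kap_mem_U F hy)
  rw [kap_mul Y.v_sq, F.kap_hom Y.v_sq (F.U_le (Y.kap_mem_U F hx)) (F.U_le hxy),
    Y.kap_conj_U F hx (Y.kap_mem_U F hy)]

theorem xi_mem {x : G} (hx : x ∈ centralizer (E : Set G) ⊓ normalizer (S : Set G)) :
    kap v (kap v x) ∈ E := F.S_kap _ (F.U_le (Y.kap_mem_U F hx))

theorem xi_eq_one {x : G} (hx : x ∈ centralizer (E : Set G) ⊓ normalizer (S : Set G))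
    (h : kap v (kap v x) = 1) : kap v x ∈ E :=
  Y.mem_E_of_kap F (Y.kap_mem_U F hx) ((kap_eq_one Y.v_sq).1 h)

theorem xi_of_S {x : G} (hx : x ∈ S) : kap v (kap v x) = 1 :=
  (kap_eq_one Y.v_sq).2 (Y.E_v _ (F.S_kap x hx))

theorem S_le_N2 : S ≤ centralizer (E : Set G) ⊓ normalizer (S : Set G) := le_inf F.S_cent le_normalizer

/-- The kernel of the second invariant in a 2-group over `S` is `S`. -/
theorem mem_S_of_xi {T : Subgroup G} (hT : IsPGroup 2 T) (hST : S ≤ T)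
    (hTN : T ≤ centralizer (E : Set G) ⊓ normalizer (S : Set G)) {x : G} (hx : x ∈ T)
    (h : kap v (kap v x) = 1) : x ∈ S := by
  have hN := F.max (zpowers x ⊔ S) (hT.to_le (sup_le (zpowers_le.2 hx) hST)) (fun y hy => ?_) le_sup_right
  · exact hN ▸ mem_sup_left (mem_zpowers x)
  have hsub : zpowers x ⊔ S ≤ centralizer (E : Set G) ⊓ normalizer ((zpowers v ⊔ E : Subgroup G) : Set G) :=
    sup_le (zpowers_le.2 (Y.mem_N1.2 ⟨(hTN hx).1, Y.xi_eq_one F (hTN hx) h⟩))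
      fun z hz => Y.mem_N1.2 ⟨F.S_cent hz, F.S_kap z hz⟩
  exact Y.mem_N1.1 (hsub hy)

/-- **A second layer gives a contradiction.** -/
theorem false_of_two (hgen : closure C.Z = ⊤)
    (htwo : ∃ x ∈ centralizer (E : Set G) ⊓ normalizer (S : Set G), kap v (kap v x) ≠ 1) : False := by
  classical
  haveI : Fact (Nat.Prime 2) := ⟨Nat.prime_two⟩
  set N2 := centralizer (E : Set G) ⊓ normalizer (S : Set G) with hN2
  have hstar : ∀ {g : G}, g ∈ normalizer (E : Set G) → g ∈ normalizer (S : Set G) →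
      g ∈ normalizer (N2 : Set G) := fun {g} hgE hgS => by
    refine mem_normalizer_iff_map_conj_eq.2
      (eq_of_le_of_card_ge ?_ (card_map_of_injective (MulAut.conj g).injective).ge)
    rintro _ ⟨x, hx, rfl⟩
    exact ⟨(mem_normalizer_iff.1 (Y.norm_cent_E hgE) x).1 hx.1,
      (normalizer (S : Set G)).mul_mem ((normalizer (S : Set G)).mul_mem hgS hx.2)
        ((normalizer (S : Set G)).inv_mem hgS)⟩
  obtain ⟨a₁, ha₁v, ha₁E, ha₁S, ha₁a⟩ := F.lift a Y.a_v Y.a_E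
  obtain ⟨x₀, hx₀, hx₀1⟩ := htwo
  have hxiC : ∀ g : G, Commute g v → ∀ x : G, kap v (kap v (g * x * g⁻¹)) = g * kap v (kap v x) * g⁻¹ :=
    fun g hg x => by rw [kap_conj hg, kap_conj hg]
  have hall : ∀ e ∈ E, ∃ x ∈ N2, kap v (kap v x) = e := fun e he =>
    Y.all_of_closed (p := fun e => e ∈ E ∧ ∃ x ∈ N2, kap v (kap v x) = e)
      ⟨one_mem E, 1, one_mem _, by rw [kap_one v Y.v_sq, kap_one v Y.v_sq]⟩ (Y.xi_mem F hx₀) hx₀1
      ⟨Y.xi_mem F hx₀, x₀, hx₀, rfl⟩
      (fun e ⟨he, x, hx, h⟩ => ⟨conj_E Y.a_E he, a₁ * x * a₁⁻¹,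
        (mem_normalizer_iff.1 (hstar ha₁E ha₁S) x).1 hx, by
          rw [hxiC a₁ ha₁v, h]
          simpa using Y.act_eq ha₁a 1 he⟩) he |>.2
  obtain ⟨T2, hT2N, hT2p, hT2c, -⟩ := exists_two_max N2
  have hST : S ≤ T2 := le_two_max hT2c F.S_two (Y.S_le_N2 F) inf_le_right
  have hsurj : ∀ e ∈ E, ∃ x ∈ T2, kap v (kap v x) = e := fun e he => by
    obtain ⟨x, hx, h⟩ := hall e he
    obtain ⟨y, hy, h'⟩ := exists_value_two_max hT2c (φ := fun x => kap v (kap v x))
      (fun x hx y hy => Y.xi_mul F hx hy) (fun x hx y hy => Y.E_comm (Y.xi_mem F hx) (Y.xi_mem F hy))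
      (fun x hx => Y.E_sq _ (Y.xi_mem F hx)) hx
    exact ⟨y, hy, h'.trans h⟩
  have hkerT : ∀ x ∈ T2, kap v (kap v x) = 1 → x ∈ S := fun x hx h =>
    Y.mem_S_of_xi F hT2p hST hT2N hx h
  have hcardT2 : Nat.card T2 = Nat.card S * Nat.card E := by
    let f : ↥T2 →* ↥E :=
      { toFun := fun x => ⟨kap v (kap v x), Y.xi_mem F (hT2N x.2)⟩
        map_one' := Subtype.ext (Y.xi_of_S F (one_mem S))
        map_mul' := fun x y => Subtype.ext (Y.xi_mul F (hT2N x.2) (hT2N y.2)) }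
    have hf : Function.Surjective f := fun e => by
      obtain ⟨x, hx, h⟩ := hsurj e e.2
      exact ⟨⟨x, hx⟩, Subtype.ext h⟩
    have e1 : f.ker ≃ ↥S :=
      { toFun := fun x => ⟨x.1.1, hkerT _ x.1.2 (congrArg Subtype.val (MonoidHom.mem_ker.1 x.2))⟩
        invFun := fun x => ⟨⟨x.1, hST x.2⟩, MonoidHom.mem_ker.2 (Subtype.ext (Y.xi_of_S F x.2))⟩
        left_inv := fun _ => rfl
        right_inv := fun _ => rfl }
    rw [← f.ker.card_mul_index, index_ker, f.range_eq_top_of_surjective hf, Subgroup.card_top,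
      Nat.card_congr e1]
  have hUT : U ≤ T2 := F.U_le.trans hST
  have hTU : T2 ≤ normalizer (U : Set G) := fun x hx => Y.mem_normalizer_U F (hT2N hx).2
  have hvU : ∀ x ∈ S, x ∉ U → x * v ∈ U := fun x hx h => (F.S_eq x hx).resolve_left h
  have hsqT : ∀ x ∈ T2, x * x ∈ U := by
    intro x hx
    have h1 : x * x ∈ S := hkerT _ (mul_mem hx hx) (by
      rw [Y.xi_mul F (hT2N hx) (hT2N hx), Y.E_sq _ (Y.xi_mem F (hT2N hx))])
    by_contra h2
    have hy : x * x * v ∈ U := hvU _ h1 h2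
    have hxw : Commute x (x * x) := (Commute.refl x).mul_right (Commute.refl x)
    have hvy : x * x * v * v = x * x := by rw [mul_assoc, Y.v_sq, mul_one]
    -- `x` fixes `(x x v) v`, so fixes the coset of `v`
    have h3 : x * (x * x * v) * x⁻¹ * (x * v * x⁻¹) = x * x * v * v := by
      calc x * (x * x * v) * x⁻¹ * (x * v * x⁻¹) = x * (x * x * v * v) * x⁻¹ := by group
        _ = x * x * v * v := by rw [hvy, hxw.eq, mul_inv_cancel_right]
    have hy' : x * (x * x * v) * x⁻¹ ∈ U := (mem_normalizer_iff.1 (hTU hx) _).1 hy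
    rw [conj_eq_mul_kap Y.v_sq] at h3
    have h4 : kap v x = v * (x * (x * x * v) * x⁻¹)⁻¹ * (x * x * v) * v := by
      calc kap v x = v * (x * (x * x * v) * x⁻¹)⁻¹ * (x * (x * x * v) * x⁻¹ * (v * kap v x)) := by
            rw [show v * (x * (x * x * v) * x⁻¹)⁻¹ * (x * (x * x * v) * x⁻¹ * (v * kap v x)) =
              v * v * kap v x by group, Y.v_sq, one_mul]
        _ = _ := by rw [h3]; group
    have hyy : (x * (x * x * v) * x⁻¹)⁻¹ * (x * x * v) ∈ E := by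
      refine Y.mem_E_of_kap F (mul_mem (inv_mem hy') hy) ((kap_eq_one Y.v_sq).1 ?_)
      have hinv : kap v (x * (x * x * v) * x⁻¹)⁻¹ * kap v (x * (x * x * v) * x⁻¹) = 1 := by
        rw [← F.kap_hom Y.v_sq (F.U_le (inv_mem hy')) (F.U_le hy'), inv_mul_cancel, kap_one v Y.v_sq]
      rw [F.kap_hom Y.v_sq (F.U_le (inv_mem hy')) (F.U_le hy), ← Y.kap_conj_U F (hT2N hx) hy]
      exact hinv
    have h5 : kap v x ∈ E := by
      rw [h4, mul_assoc v, ← (Y.E_v _ hyy).eq, mul_assoc, Y.v_sq, mul_one]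
      exact hyy
    exact h2 (F.E_le_U (F.sq_mem x (hkerT x hx ((kap_eq_one Y.v_sq).2 (Y.E_v _ h5)))))
  -- the lifts
  have hlift2 : ∀ g : G, Commute g v → g ∈ normalizer (E : Set G) →
      ∃ g', Commute g' v ∧ g' ∈ normalizer (E : Set G) ∧ g' ∈ normalizer (S : Set G) ∧
        g' ∈ normalizer (T2 : Set G) ∧ g' * g⁻¹ ∈ centralizer (E : Set G) := by
    intro g hgv hgE
    obtain ⟨g₁, hg₁v, hg₁E, hg₁S, hg₁g⟩ := F.lift g hgv hgE
    obtain ⟨n, hn, hng⟩ := exists_frattini hT2N hT2p hT2c (hstar hg₁E hg₁S)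
    obtain ⟨t, ht, hte⟩ := hsurj _ (Y.xi_mem F hn)
    have hm : t⁻¹ * n ∈ N2 := mul_mem (inv_mem (hT2N ht)) hn
    have hm1 : kap v (kap v (t⁻¹ * n)) = 1 := by
      rw [Y.xi_mul F (inv_mem (hT2N ht)) hn, ← hte, ← Y.xi_mul F (inv_mem (hT2N ht)) (hT2N ht),
        inv_mul_cancel, Y.xi_of_S F (one_mem S)]
    obtain ⟨w, hw, hwe⟩ := F.surj _ (Y.xi_eq_one F hm hm1)
    have hw' : w ∈ N2 := Y.S_le_N2 F (F.U_le hw)
    have hmem : w⁻¹ * (t⁻¹ * n) ∈ N2 := mul_mem (inv_mem hw') hm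
    have h1 : Commute (w⁻¹ * (t⁻¹ * n)) v := by
      have hk : kap v w⁻¹ * kap v w = 1 := by
        rw [← F.kap_hom Y.v_sq (F.U_le (inv_mem hw)) (F.U_le hw), inv_mul_cancel, kap_one v Y.v_sq]
      refine (kap_eq_one Y.v_sq).1 ?_
      rw [kap_mul_of_commute Y.v_sq
        (mem_centralizer_iff.1 (inv_mem hw').1 _ (Y.xi_eq_one F hm hm1) :
          Commute (kap v (t⁻¹ * n)) w⁻¹).symm, ← hwe]
      exact hk
    refine ⟨w⁻¹ * (t⁻¹ * n) * g₁, h1.mul_left hg₁v,
      mul_mem (centralizer_le_normalizer _ hmem.1) hg₁E, mul_mem hmem.2 hg₁S, ?_, ?_⟩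
    · rw [show w⁻¹ * (t⁻¹ * n) * g₁ = w⁻¹ * t⁻¹ * (n * g₁) by group]
      exact mul_mem (le_normalizer (mul_mem (inv_mem (hUT hw)) (inv_mem ht))) hng
    · rw [mul_assoc _ g₁]
      exact mul_mem hmem.1 hg₁g
  obtain ⟨a₂, ha₂v, ha₂E, ha₂S, ha₂T, ha₂a⟩ := hlift2 a Y.a_v Y.a_E
  have ha₂U := Y.mem_normalizer_U F ha₂S
  have hfix : ∀ x ∈ T2, a₂ * x * a₂⁻¹ * x⁻¹ ∈ zpowers v ⊔ U → x ∈ zpowers v ⊔ U := by
    intro x hx h
    have hy : a₂ * x * a₂⁻¹ ∈ T2 := (mem_normalizer_iff.1 ha₂T x).1 hx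
    have h' : a₂ * x * a₂⁻¹ * x⁻¹ ∈ S := sup_le (zpowers_le.2 F.v_mem) F.U_le h
    have h1 : kap v (kap v (a₂ * x * a₂⁻¹)) = kap v (kap v x) := by
      have h2 := Y.xi_mul F (Y.S_le_N2 F h') (hT2N hx)
      rw [inv_mul_cancel_right, Y.xi_of_S F h', one_mul] at h2
      exact h2
    rw [hxiC a₂ ha₂v] at h1
    have hxS := hkerT x hx (Y.fix_of_act ha₂a (Y.xi_mem F (hT2N hx)) h1)
    rcases F.S_eq x hxS with h3 | h3
    · exact mem_sup_right h3
    · exact (mem_zpowers_sup Y.v_sq (F.S_norm_U F.v_mem)).2 (Or.inr h3)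
  set M := shiftSub a₂ T2 U with hM
  obtain ⟨hvM, hTM⟩ := shiftSub_spec hUT hTU hsqT ha₂T ha₂U Y.v_sq (hST F.v_mem) ha₂v F.v_not_U hfix
  have hMT : M ≤ T2 := shiftSub_le hUT ha₂T
  -- the 2-part acting
  set B := centralizer ({v} : Set G) ⊓ normalizer (E : Set G) ⊓ normalizer (S : Set G) ⊓
    normalizer (T2 : Set G) with hB
  have hVB : zpowers v ⊔ E ≤ B := fun x hx =>
    ⟨⟨⟨mem_centralizer_singleton_iff.2 (Y.VE_commute hx).eq, centralizer_le_normalizer _ (Y.VE_le_cent hx)⟩,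
      le_normalizer (F.VE_le hx)⟩, le_normalizer (hST (F.VE_le hx))⟩
  obtain ⟨P, hPB, hP2, hPc, hPk⟩ := exists_two_max B
  have hVP : zpowers v ⊔ E ≤ P := le_two_max hPc Y.VE_two hVB fun x hx => by
    refine mem_normalizer_iff_map_conj_eq.2
      (eq_of_le_of_card_ge ?_ (card_map_of_injective (MulAut.conj x).injective).ge)
    rw [Subgroup.map_sup, MonoidHom.map_zpowers]
    refine sup_le (zpowers_le.2 ?_) ?_
    · show x * v * x⁻¹ ∈ zpowers v ⊔ E
      rw [mul_inv_eq_iff_eq_mul.2 (mem_centralizer_singleton_iff.1 hx.1.1.1)]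
      exact mem_sup_left (mem_zpowers v)
    · rintro _ ⟨e, he, rfl⟩
      exact mem_sup_right (conj_E hx.1.1.2 he)
  have hPv : P ≤ centralizer ({v} : Set G) := fun x hx => (hPB hx).1.1.1
  have hPE : P ≤ normalizer (E : Set G) := fun x hx => (hPB hx).1.1.2
  have hPT : P ≤ normalizer (T2 : Set G) := fun x hx => (hPB hx).2
  have hEP : E ≤ P := le_sup_right.trans hVP
  obtain ⟨-, hPle, hPcomm⟩ := Y.cent_v_decomp hP2 hPv hPE hEP
  have hPcard : Nat.card P = Nat.card E * Nat.card D := by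
    refine le_antisymm hPle ?_
    obtain ⟨i, hi⟩ := IsPGroup.iff_card.1 Y.D_two
    obtain ⟨n, -, hq⟩ := Y.exists_q
    have h := hPk (n + i) (Y.two_part_le (B := B) (fun x hx => hx.1.1.2) hVB (fun d hd => by
      obtain ⟨g', h1, h2, h3, h4, h5⟩ := hlift2 d (Y.D_fix d hd).2.2 (Y.D_E hd)
      exact ⟨g', ⟨⟨⟨mem_centralizer_singleton_iff.2 h1.eq, h2⟩, h3⟩, h4⟩, h5⟩)
      (le_of_eq (by rw [pow_add, hq, hi])))
    rwa [pow_add, ← hq, ← hi] at h
  -- `P` normalises `M`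
  have hPM : P ≤ normalizer (M : Set G) := by
    intro g hg
    have hgB := hPB hg
    obtain ⟨k, hk⟩ := Y.a_norm g (mem_centralizer_singleton_iff.1 hgB.1.1.1) hgB.1.1.2
    set c := (a₂ ^ k)⁻¹ * (g * a₂ * g⁻¹) with hc
    have ha₂B : a₂ ∈ B := ⟨⟨⟨mem_centralizer_singleton_iff.2 ha₂v.eq, ha₂E⟩, ha₂S⟩, ha₂T⟩
    have hcB : c ∈ B := mul_mem (inv_mem (pow_mem ha₂B k)) (mul_mem (mul_mem hgB ha₂B) (inv_mem hgB))
    have hcC : c ∈ centralizer (E : Set G) := by
      refine mem_centralizer_iff.2 fun e he => ?_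
      have h1 : g⁻¹ * e * g ∈ E := by
        have := conj_E (inv_mem hgB.1.1.2) he
        rwa [inv_inv] at this
      have h2 : g * a₂ * g⁻¹ * e * (g * a₂ * g⁻¹)⁻¹ = a₂ ^ k * e * (a₂ ^ k)⁻¹ := by
        rw [Y.act_eq ha₂a k he, ← hk e he,
          show g * a₂ * g⁻¹ * e * (g * a₂ * g⁻¹)⁻¹ = g * (a₂ ^ 1 * (g⁻¹ * e * g) * (a₂ ^ 1)⁻¹) * g⁻¹ by group,
          Y.act_eq ha₂a 1 h1]
        group
      refine (mul_inv_eq_iff_eq_mul.1 (?_ : c * e * c⁻¹ = e)).symm
      rw [hc, show (a₂ ^ k)⁻¹ * (g * a₂ * g⁻¹) * e * ((a₂ ^ k)⁻¹ * (g * a₂ * g⁻¹))⁻¹ =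
        (a₂ ^ k)⁻¹ * (g * a₂ * g⁻¹ * e * (g * a₂ * g⁻¹)⁻¹) * a₂ ^ k by group, h2]
      group
    -- the elements acting trivially on `T2 / U`
    let K0 : Subgroup G :=
      { carrier := {d | d ∈ B ∧ d ∈ centralizer (E : Set G) ∧ ∀ x ∈ T2, d * x * d⁻¹ * x⁻¹ ∈ U}
        one_mem' := ⟨one_mem B, one_mem _, fun x _ => by simp⟩
        mul_mem' := fun {d d'} hd hd' => ⟨mul_mem hd.1 hd'.1, mul_mem hd.2.1 hd'.2.1, fun x hx => by
          have := mul_mem (hd.2.2 _ ((mem_normalizer_iff.1 hd'.1.2 x).1 hx)) (hd'.2.2 x hx)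
          convert this using 1
          group⟩
        inv_mem' := fun {d} hd => ⟨inv_mem hd.1, inv_mem hd.2.1, fun x hx => by
          have := inv_mem (hd.2.2 _ ((mem_normalizer_iff.1 (inv_mem hd.1.2) x).1 hx))
          convert this using 1
          group⟩ }
    have hVK : ∀ w ∈ zpowers v ⊔ E, w ∈ K0 := fun w hw => by
      refine ⟨hVB hw, Y.VE_le_cent hw, fun x hx => ?_⟩
      rcases Y.mem_VE.1 hw with h | h
      · rw [mem_centralizer_iff.1 (hT2N hx).1 w h,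
          show x * w * w⁻¹ * x⁻¹ = 1 by group]
        exact one_mem U
      · have hwv : w = w * v * v := by rw [mul_assoc, Y.v_sq, mul_one]
        have h1 : kap v x ∈ U := Y.kap_mem_U F (hT2N hx)
        have h2 : w * v * kap v x * (w * v)⁻¹ ∈ U :=
          (mem_normalizer_iff.1 (F.S_norm_U (F.E_le h)) _).1 h1
        have e : w * x * w⁻¹ * x⁻¹ = w * v * kap v x * (w * v)⁻¹ *
            (w * v * x * (w * v)⁻¹ * x⁻¹) := by
          calc w * x * w⁻¹ * x⁻¹ = w * (v * v) * x * (v * v⁻¹ * w⁻¹) * x⁻¹ := by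
                rw [Y.v_sq, mul_one, mul_inv_cancel, one_mul]
            _ = _ := by rw [kap]; group
        rw [e, mem_centralizer_iff.1 (hT2N hx).1 _ h,
          show x * (w * v) * (w * v)⁻¹ * x⁻¹ = 1 by group, mul_one]
        exact h2
    have hsqK : c * c ∈ K0 := ⟨mul_mem hcB hcB, mul_mem hcC hcC, fun x hx => by
      have hy : c * x * c⁻¹ * x⁻¹ ∈ S := by
        refine hkerT _ (mul_mem ((mem_normalizer_iff.1 hcB.2 x).1 hx) (inv_mem hx)) ?_
        rw [Y.xi_mul F (hT2N ((mem_normalizer_iff.1 hcB.2 x).1 hx)) (inv_mem (hT2N hx)),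
          hxiC c (mem_centralizer_singleton_iff.1 hcB.1.1.1),
          ← mem_centralizer_iff.1 hcC _ (Y.xi_mem F (hT2N hx)), mul_inv_cancel_right,
          ← Y.xi_mul F (hT2N hx) (inv_mem (hT2N hx)), mul_inv_cancel, Y.xi_of_S F (one_mem S)]
      rw [show c * c * x * (c * c)⁻¹ * x⁻¹ =
        c * (c * x * c⁻¹ * x⁻¹) * c⁻¹ * (c * x * c⁻¹ * x⁻¹) by group]
      have hcv : Commute c v := mem_centralizer_singleton_iff.1 hcB.1.1.1
      have hcU := Y.mem_normalizer_U F hcB.1.2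
      rcases F.S_eq _ hy with h | h
      · exact mul_mem ((mem_normalizer_iff.1 hcU _).1 h) h
      · have h1 := (mem_normalizer_iff.1 hcU _).1 h
        have h2 := (mem_normalizer_iff.1 (F.S_norm_U F.v_mem) _).1 h
        generalize c * x * c⁻¹ * x⁻¹ = y at h h1 h2 ⊢
        have := mul_mem h1 h2
        rw [inv_eq_of_mul_eq_one_right Y.v_sq] at this
        convert this using 1
        calc c * y * c⁻¹ * y = c * y * c⁻¹ * (v * v) * y * (v * v) := by rw [Y.v_sq, mul_one, mul_one]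
          _ = c * y * (c⁻¹ * v) * v * y * (v * v) := by group
          _ = c * y * (v * c⁻¹) * v * y * (v * v) := by rw [hcv.inv_left.eq]
          _ = c * (y * v) * c⁻¹ * (v * (y * v) * v) := by group⟩
    have hcK : c ∈ K0 := by
      obtain ⟨j, m, hm, hjm⟩ := Nat.exists_eq_two_pow_mul_odd (orderOf_pos c).ne'
      have h2 : c ^ m ∈ zpowers v ⊔ E := by
        refine Y.two_le_VE (S := zpowers (c ^ m)) ?_ (zpowers_le.2
          ⟨pow_mem hcC m, pow_mem hcB.1.1.1 m⟩) (mem_zpowers _)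
        obtain ⟨i, -, hi⟩ := (Nat.dvd_prime_pow Nat.prime_two).1
          (orderOf_dvd_of_pow_eq_one (show (c ^ m) ^ 2 ^ j = 1 by
            rw [← pow_mul, mul_comm, ← hjm, pow_orderOf_eq_one]))
        exact IsPGroup.of_card (n := i) (by rw [Nat.card_zpowers, hi])
      obtain ⟨i, rfl⟩ := hm
      have := mul_mem (inv_mem (pow_mem hsqK i)) (hVK _ h2)
      rwa [pow_succ, pow_mul, ← sq, inv_mul_cancel_left] at this
    refine mem_normalizer_shiftSub ha₂T hgB.2 (Y.mem_normalizer_U F hgB.1.2) (k := k) fun x hx => ?_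
    have h := hcK.2.2 x hx
    have := (mem_normalizer_iff.1 (pow_mem ha₂U k) _).1 h
    convert this using 1
    rw [hc]
    group
  -- the Sylow subgroup
  obtain ⟨T, hT⟩ := (IsPGroup.to_sup_of_normal_left' hT2p hP2 hPT).exists_le_sylow
  have hvT : v ∈ (T : Subgroup G) := hT (mem_sup_left (hST F.v_mem))
  have hET : E ≤ (T : Subgroup G) := fun e he => hT (mem_sup_left (hST (F.E_le he)))
  have hTE : (T : Subgroup G) ≤ normalizer (E : Set G) := Y.le_normalizer_of_two T.2 hvT hET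
  have hTb : ∀ t ∈ (T : Subgroup G), t • C.base = C.base := fun t ht => Y.base_of_normalizer (hTE ht)
  have hinf : P ⊓ T2 ≤ zpowers v ⊔ E :=
    Y.two_le_VE (hP2.to_le inf_le_left) fun x hx => ⟨(hT2N hx.2).1, hPv hx.1⟩
  have hsup : Nat.card E * Nat.card E * Nat.card E * Nat.card D ≤ Nat.card ↥(T2 ⊔ P) := by
    have h := CfsgLib.Solvable.card_sup_mul_card_inf hPT
    rw [hcardT2, F.card_S, hPcard, sup_comm] at h
    have h1 := (card_le_of_le hinf).trans_eq Y.card_VE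
    have h2 := Nat.mul_le_mul_left (Nat.card ↥(T2 ⊔ P)) h1
    rw [h] at h2
    refine Nat.le_of_mul_le_mul_right ?_ (show 0 < 2 * Nat.card E by have := Y.q_ge; omega)
    linarith
  have horbit : ∀ c : C.Pt, c ≠ C.base →
      Nat.card ↥((T : Subgroup G) ⊓ MulAction.stabilizer G c) ≤ Nat.card D := fun c hc =>
    Y.stab_le c hc _ (T.2.to_le inf_le_left) fun g hg => ⟨hTb g hg.1, hg.2⟩
  haveI := Fintype.ofFinite C.Pt
  have hne : Nat.card {c : C.Pt // c ≠ C.base} = Nat.card E ^ 3 := by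
    rw [Nat.card_eq_fintype_card, Fintype.card_subtype_compl, Fintype.card_subtype_eq,
      ← Nat.card_eq_fintype_card, Y.n_eq, Nat.add_sub_cancel]
  let ι : {c : C.Pt // ∃ d ∈ (T : Subgroup G), d • b = c} → {c : C.Pt // c ≠ C.base} := fun c =>
    ⟨c.1, fun h => by
      obtain ⟨d, hd, e⟩ := c.2
      exact Y.b_ne (by rw [← inv_smul_smul d b, e, h, hTb _ (inv_mem hd)])⟩
  have hι : Function.Injective ι := fun c c' h => Subtype.ext (congrArg Subtype.val h :)
  have horb := card_orbit_sub (T : Subgroup G) b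
  have h2 : Nat.card {c : C.Pt // ∃ d ∈ (T : Subgroup G), d • b = c} ≤ Nat.card E ^ 3 :=
    hne ▸ Nat.card_le_card_of_injective ι hι
  have hTle : Nat.card ↥(T : Subgroup G) ≤ Nat.card E ^ 3 * Nat.card D := by
    rw [← horb]
    exact Nat.mul_le_mul h2 (horbit b Y.b_ne)
  have hTeq : T2 ⊔ P = (T : Subgroup G) := eq_of_le_of_card_ge hT (hTle.trans (le_trans (by
    rw [pow_succ, pow_two]) hsup))
  have htrans : Function.Surjective ι := by
    refine (hι.bijective_of_nat_card_le ?_).2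
    rw [hne]
    by_contra hlt
    have h1 : Nat.card ↥(T : Subgroup G) < Nat.card E ^ 3 * Nat.card D := by
      rw [← horb]
      exact lt_of_le_of_lt (Nat.mul_le_mul_left _ (horbit b Y.b_ne))
        (Nat.mul_lt_mul_of_pos_right (not_le.1 hlt) Nat.card_pos)
    rw [← hTeq, pow_succ, pow_two] at h1
    omega
  -- the quotient by `M`
  have hdecT : ∀ t ∈ (T : Subgroup G), ∃ p ∈ P, ∃ w ∈ T2, t = p * w := fun t ht => by
    rw [← hTeq, sup_comm, ← SetLike.mem_coe, coe_mul_of_left_le_normalizer_right _ _ hPT] at ht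
    obtain ⟨p, hp, w, hw, rfl⟩ := ht
    exact ⟨p, hp, w, hw, rfl⟩
  have hT2M : T2 ≤ normalizer (M : Set G) := fun w hw => by
    refine mem_normalizer_iff_map_conj_eq.2
      (eq_of_le_of_card_ge ?_ (card_map_of_injective (MulAut.conj w).injective).ge)
    rintro _ ⟨y, hy, rfl⟩
    have h1 : w * y * w⁻¹ * y⁻¹ ∈ U := comm_mem_of_sq hTU hsqT hw (hMT hy)
    have := mul_mem (le_shiftSub a₂ T2 U h1) hy
    show w * y * w⁻¹ ∈ M
    rwa [inv_mul_cancel_right] at this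
  have hPle' : P ≤ (T : Subgroup G) := hTeq ▸ le_sup_right
  refine false_of_quot hgen T (M := M) (P := P) (hMT.trans (hTeq ▸ le_sup_left)) hPle' ?_ ?_ ?_
    Y.v_sq hvT hvM (fun x hx hxZ => le_shiftSub a₂ T2 U (F.E_le_U (Y.Z_two _ T.2 hvT hET x hx hxZ))) ?_
  · rw [← hTeq]
    exact sup_le hT2M hPM
  · intro t ht
    obtain ⟨p, hp, w, hw, rfl⟩ := hdecT t ht
    rcases hTM w hw with h | h
    · exact ⟨p, hp, by rwa [inv_mul_cancel_left]⟩
    · refine ⟨p * v, mul_mem hp (hVP (mem_sup_left (mem_zpowers v))), ?_⟩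
      have := (mem_normalizer_iff.1 (hT2M (hST F.v_mem)) _).1 h
      rw [inv_eq_of_mul_eq_one_right Y.v_sq] at this
      rw [show (p * v)⁻¹ * (p * w) = v⁻¹ * w by group, inv_eq_of_mul_eq_one_right Y.v_sq]
      rwa [show v * (w * v) * v = v * w * (v * v) by group, Y.v_sq, mul_one] at this
  · exact fun x hx y hy => le_shiftSub a₂ T2 U (F.E_le_U (hPcomm x hx y hy))
  · intro u hu huv
    refine Or.inr ?_
    have hub := Y.conj_bad huv
    obtain ⟨c, hc, huc⟩ := hub.exists_other C C.base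
    obtain ⟨⟨c', t, ht, htc⟩, hc'⟩ := htrans ⟨c, hc⟩
    obtain rfl : c' = c := congrArg Subtype.val hc'
    have huC : u ∈ centralizer (E : Set G) := Y.bad_cent _ T.2 hvT hET u hu hub
    set w := t⁻¹ * u * t with hw
    have hwC : w ∈ centralizer (E : Set G) := by
      have := (mem_normalizer_iff.1 (Y.norm_cent_E (inv_mem (hTE ht))) u).1 huC
      rwa [inv_inv] at this
    have hwb : w • b = b := by rw [hw, mul_smul, mul_smul, htc, huc, ← htc, inv_smul_smul]
    obtain ⟨p, hp, y, hy, hpy⟩ :=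
      hdecT w ((T : Subgroup G).mul_mem ((T : Subgroup G).mul_mem ((T : Subgroup G).inv_mem ht) hu) ht)
    have hpV : p ∈ zpowers v ⊔ E := by
      refine Y.two_le_VE (hP2.to_le (inf_le_left : P ⊓ centralizer (E : Set G) ≤ P))
        (fun z hz => ⟨hz.2, hPv hz.1⟩) (mem_inf.2 ⟨hp, ?_⟩)
      have := mul_mem hwC (inv_mem (hT2N hy).1)
      rwa [hpy, mul_inv_cancel_right] at this
    have hwT2 : w ∈ T2 := hpy ▸ mul_mem (hST (F.VE_le hpV)) hy
    set P0 := T2 ⊓ MulAction.stabilizer G b with hP0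
    have hvP0 : zpowers v ≤ P0 := zpowers_le.2 ⟨hST F.v_mem, Y.v_b⟩
    have hP0eq : P0 = zpowers v := by
      by_contra hne'
      obtain ⟨Z, hZ, hZP, hZn⟩ := CfsgLib.Bender.GSide.exists_between (lt_of_le_of_ne hvP0 (Ne.symm hne'))
        (hT2p.to_le inf_le_left)
      refine hZ.not_ge fun x hx => ?_
      have hxv : Commute x v := by
        have h1 : x * v * x⁻¹ ∈ zpowers v := (mem_normalizer_iff.1 (hZn hx) v).1 (mem_zpowers v)
        have h1' : x * v * x⁻¹ ∈ zpowers v ⊔ E := mem_sup_left h1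
        rcases Y.mem_of_fix_b h1' (by
            rw [mul_smul, mul_smul, show x⁻¹ • b = b from inv_smul_eq_iff.2 (hZP hx).2.symm, Y.v_b]
            exact (hZP hx).2) with e | e
        · exact absurd (conj_eq_one_iff.1 e) (ne_one Y.hv.1)
        · exact mul_inv_eq_iff_eq_mul.1 e
      have hxV : x ∈ zpowers v ⊔ E := Y.two_le_VE (S := zpowers x) (hT2p.to_le (zpowers_le.2 (hZP hx).1))
        (zpowers_le.2 ⟨(hT2N (hZP hx).1).1, mem_centralizer_singleton_iff.2 hxv.eq⟩) (mem_zpowers x)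
      rcases Y.mem_of_fix_b hxV (hZP hx).2 with e | e <;> rw [e]
      exacts [one_mem _, mem_zpowers v]
    have hwv : w = v := by
      have h1 : w ∈ zpowers v := hP0eq ▸ (mem_inf.2 ⟨hwT2, hwb⟩ : w ∈ P0)
      rcases Y.mem_of_fix_b (mem_sup_left h1) hwb with e | e
      · refine absurd ?_ (ne_one hub.1)
        rw [show u = t * w * t⁻¹ by rw [hw]; group, e, mul_one, mul_inv_cancel]
      · exact e
    exact ⟨t, ht, by rw [← hwv, hw]; group⟩

end Lay

end Ctx

end CfsgLib.Criterion
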