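import Cfsg.Agent.Criterion.Facts
import Cfsg.Agent.Bender.StructureMain

/-!
# The strong embedding criterion: the local group of a bad involution

For `v` bad fixing `a` the stabiliser of `a` is strongly embedded in the local group `L v`.  When
`L v` has two commuting involutions its odd core fixes every fixed point of `v`, and members of the
class at one point commute modulo that core (Bender).
-/

set_option autoImplicit false
set_option linter.style.haveILetI false
set_option linter.unusedSectionVars false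

namespace CfsgLib.Criterion

open Subgroup CfsgLib.Invol CfsgLib.Bender

universe u

variable {G : Type u} [Group G]

namespace Ctx

variable [Finite G] (C : Ctx G)

/-- The stabiliser of a point inside the local group of `v`. -/
def LH (v : G) (a : C.Pt) : Subgroup ↥(C.L v) := (MulAction.stabilizer G a).subgroupOf (C.L v)

theorem mem_LH {v : G} {a : C.Pt} {x : ↥(C.L v)} : x ∈ C.LH v a ↔ (x : G) • a = a := by
  rw [LH, mem_subgroupOf, MulAction.mem_stabilizer_iff]

/-- The stabiliser of a fixed point of a bad involution is strongly embedded in its local group. -/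
theorem Bad.isStronglyEmbedded {v : G} (hv : C.Bad v) {a : C.Pt} (ha : v • a = a) :
    Cfsg.IsStronglyEmbedded (C.LH v a) := by
  haveI : Fact (Nat.Prime 2) := ⟨Nat.prime_two⟩
  have hvv := mul_self_eq_one hv.1
  obtain ⟨b, hb, hvb⟩ := hv.exists_other C a
  obtain ⟨w, hw, -, hwL⟩ := C.exists_swap_L hvv hb.symm ha hvb
  obtain ⟨x, hx, hxv⟩ := C.exists_commute_at hvv ha
  refine ⟨fun h => hb (hw.2.symm.trans (C.mem_LH.1 (h ▸ mem_top (⟨w, hwL⟩ : ↥(C.L v))))), ?_,
    fun g hg => ?_⟩
  · have h := Subgroup.orderOf_dvd_natCard (C.LH v a)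
      (C.mem_LH.2 hx.2 : (⟨x, C.mem_L hx.1 hxv⟩ : ↥(C.L v)) ∈ C.LH v a)
    rw [← Subgroup.orderOf_coe, C.orderOf_Z hx.1] at h
    exact even_iff_two_dvd.2 h
  · rw [← Nat.not_even_iff_odd]
    intro hev
    obtain ⟨s, hs⟩ := exists_prime_orderOf_dvd_card'
      (G := ↥(C.LH v a ⊓ (C.LH v a).map (MulAut.conj g).toMonoidHom)) 2 hev.two_dvd
    obtain ⟨hsH, t, ht, hts⟩ := mem_inf.1 s.2
    have hsG : orderOf ((s : ↥(C.L v)) : G) = 2 := by
      rw [Subgroup.orderOf_coe, Subgroup.orderOf_coe, hs]
    refine hg (C.mem_LH.2 (C.fix_unique (hv.mem_Z_of_mem_L C (s : ↥(C.L v)).2 hsG) ?_ (C.mem_LH.1 hsH)))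
    have e : (g : G) * (t : G) * (g : G)⁻¹ = ((s : ↥(C.L v)) : G) := congrArg Subtype.val hts
    rw [← e, mul_smul, mul_smul, inv_smul_smul, C.mem_LH.1 ht]

/-- The odd core of a local group with two commuting involutions fixes the fixed points. -/
theorem Bad.oddCore_le_LH {v : G} (hv : C.Bad v) (hp : PairRank ↥(C.L v)) {a : C.Pt}
    (ha : v • a = a) : Cfsg.oddCore ↥(C.L v) ≤ C.LH v a :=
  Core.normal_odd_le (hv.isStronglyEmbedded C ha) hp inferInstance IsoApps.odd_oddCore

/-- Commuting members at one point give two commuting involutions of the local group. -/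
theorem pairRank_L {v x y : G} (hx : x ∈ C.ZC v) (hy : y ∈ C.ZC v) (h : Commute x y) (hne : x ≠ y) :
    PairRank ↥(C.L v) :=
  ⟨⟨x, subset_closure hx⟩, ⟨y, subset_closure hy⟩, by rw [← Subgroup.orderOf_coe]; exact C.orderOf_Z hx.1,
    by rw [← Subgroup.orderOf_coe]; exact C.orderOf_Z hy.1, fun e => hne (congrArg Subtype.val e),
    Subtype.ext h.eq⟩

/-- Members at one point centralising a bad involution commute modulo the odd core of its local
group. -/
theorem Bad.commutator_mem_oddCore {v : G} (hv : C.Bad v) (hp : PairRank ↥(C.L v)) {a : C.Pt}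
    (ha : v • a = a) {x y : ↥(C.L v)} (hx : orderOf x = 2) (hy : orderOf y = 2) (hxa : (x : G) • a = a)
    (hya : (y : G) • a = a) : x * y * x⁻¹ * y⁻¹ ∈ Cfsg.oddCore ↥(C.L v) := by
  set π := QuotientGroup.mk' (Cfsg.oddCore ↥(C.L v))
  have hse := hv.isStronglyEmbedded C ha
  have hord : ∀ t : ↥(C.L v), orderOf t = 2 → orderOf (π t) = 2 := fun t ht => orderOf_eq_two
    (by rw [← map_mul, mul_self_eq_one ht, map_one]) fun h => by
      have h1 := IsoApps.odd_of_mem_oddCore ((QuotientGroup.eq_one_iff t).1 h)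
      rw [ht] at h1
      exact absurd h1 (by decide)
  have hc := NC.involComm_of_shape Commuting.shapeBelow_all (Consumers.quot_se hse hp)
    LocalB.oddCore_quotient (Consumers.quot_pairRank hp) (QuotientGroup.mk 1) (π x) (π y) (hord x hx)
    (hord y hy)
    (CfsgLib.StrongEmbed.smul_mk_one_iff.2 ⟨x, C.mem_LH.2 hxa, rfl⟩)
    (CfsgLib.StrongEmbed.smul_mk_one_iff.2 ⟨y, C.mem_LH.2 hya, rfl⟩)
  refine (QuotientGroup.eq_one_iff _).1 ?_
  show π (x * y * x⁻¹ * y⁻¹) = 1
  rw [map_mul, map_mul, map_mul, map_inv, map_inv, hc.eq]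
  group

end Ctx

end CfsgLib.Criterion
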