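import Cfsg.Agent.Criterion.Quot
import Cfsg.Agent.Criterion.Consumers
import Cfsg.Agent.Criterion.Action.Setting
import Cfsg.Agent.ZStar.Final

/-!
# The strong embedding criterion: reduction to generated faithful groups

In the normal closure `K` of `z` the elements fixing every point form a normal subgroup `N` of odd
order (an involution there would lie in its own local group), `K` has one class of conjugates of `z`
and `K ⧸ N` again satisfies the hypotheses, is generated by the class and acts faithfully.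
-/

set_option autoImplicit false
set_option linter.style.haveILetI false
set_option linter.unusedSectionVars false

namespace CfsgLib.Criterion

open Subgroup CfsgLib.Invol CfsgLib.Bender

universe u

/-- The criterion for groups generated by the class and faithful on the points. -/
def NoBad : Prop :=
  ∀ (Q : Type u) [Group Q] [Finite Q] (C : Ctx Q), closure C.Z = ⊤ →
    (∀ g : Q, (∀ c : C.Pt, g • c = c) → g = 1) → ∀ v : Q, ¬ C.Bad v

variable {G : Type u} [Group G] [Finite G]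

/-- A strongly embedded subgroup containing an odd kernel has a strongly embedded image. -/
theorem isStronglyEmbedded_map {Y : Type u} [Group Y] [Finite Y] {f : G →* Y}
    (hf : Function.Surjective f) {M : Subgroup G} (hM : Cfsg.IsStronglyEmbedded M) (hker : f.ker ≤ M)
    (hodd : Odd (Nat.card f.ker)) : Cfsg.IsStronglyEmbedded (M.map f) := by
  have hc : (M.map f).comap f = M := by rw [comap_map_eq, sup_eq_left.2 hker]
  have hmem : ∀ g : G, f g ∈ M.map f → g ∈ M := fun g hg => hc ▸ hg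
  refine ⟨fun h => hM.1 (by rw [← hc, h, comap_top]), ?_, fun x hx => ?_⟩
  · obtain ⟨t, htM, ht⟩ := StrongEmbed.exists_invol hM
    have h2 : orderOf (f t) = 2 := orderOf_eq_two (by rw [← map_mul, mul_self_eq_one ht, map_one])
      fun h => by
        have h1 : orderOf t ∣ Nat.card f.ker := orderOf_dvd_natCard _ h
        rw [ht] at h1
        exact hodd.not_two_dvd_nat h1
    exact even_iff_two_dvd.2 (h2 ▸ orderOf_dvd_natCard _ (mem_map_of_mem f htM))
  · obtain ⟨g, rfl⟩ := hf x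
    have hg : g ∉ M := fun h => hx ⟨g, h, rfl⟩
    refine (hM.2.2 g hg).of_dvd_nat (dvd_trans (card_dvd_of_le ?_) (card_map_dvd _ f))
    rintro _ ⟨⟨h, hh, rfl⟩, _, ⟨k, hk, rfl⟩, hk'⟩
    refine ⟨h, ⟨hh, g⁻¹ * h * g, hmem _ ⟨k, hk, ?_⟩, by simp [mul_assoc]⟩, rfl⟩
    have e : f g * f k * (f g)⁻¹ = f h := hk'
    rw [map_mul, map_mul, map_inv, ← e]; group

namespace Ctx

variable (C : Ctx G)

/-- The normal closure of `z`. -/
def Kz : Subgroup G := normalClosure ({C.z} : Set G)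

instance Kz_normal : C.Kz.Normal := normalClosure_normal

theorem Kz_eq : C.Kz = closure C.Z := by
  refine congrArg Subgroup.closure (Set.ext fun x => ?_)
  rw [Group.mem_conjugatesOfSet_iff]
  exact ⟨fun ⟨a, ha, h⟩ => by
    rw [Set.mem_singleton_iff.1 ha] at h
    exact h, fun h => ⟨C.z, rfl, h⟩⟩

theorem Z_le_Kz {x : G} (hx : x ∈ C.Z) : x ∈ C.Kz := C.Kz_eq ▸ subset_closure hx

/-- The elements of the normal closure fixing every point. -/
def Nz : Subgroup G := C.H.normalCore ⊓ C.Kz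

instance Nz_normal : C.Nz.Normal := Subgroup.normal_inf_normal _ _

theorem smul_of_Nz {n : G} (hn : n ∈ C.Nz) (p : C.Pt) : n • p = p := by
  obtain ⟨g, rfl⟩ := QuotientGroup.mk_surjective p
  rw [CfsgLib.StrongEmbed.smul_mk_iff]
  refine normalCore_le _ ?_
  have := (normalCore_normal C.H).conj_mem n hn.1 g⁻¹
  rwa [inv_inv] at this

theorem exists_point_ne : ∃ g : G, g • C.base ≠ C.base := by
  by_contra h
  push Not at h
  refine C.H_ne_top (eq_top_iff.2 fun g _ => ?_)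
  exact CfsgLib.StrongEmbed.smul_mk_one_iff.1 (h g)

/-- A bad involution does not lie in its local group. -/
theorem Bad.not_mem_L {v : G} (hv : C.Bad v) : v ∉ C.L v := fun h =>
  hv.not_mem_Z C (hv.mem_Z_of_mem_L C h hv.1)

/-- **The kernel has odd order.** -/
theorem odd_Nz : Odd (Nat.card C.Nz) := by
  haveI : Fact (Nat.Prime 2) := ⟨Nat.prime_two⟩
  rw [← Nat.not_even_iff_odd]
  intro hev
  obtain ⟨v, hv⟩ := exists_prime_orderOf_dvd_card' (G := ↥C.Nz) 2 hev.two_dvd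
  have hv2 : orderOf (v : G) = 2 := by rw [Subgroup.orderOf_coe, hv]
  obtain ⟨g₀, hg₀⟩ := C.exists_point_ne
  have hbad : ∀ {w : G}, w ∈ C.Nz → orderOf w = 2 → C.Bad w := fun hw ho =>
    ⟨ho, C.base, g₀ • C.base, hg₀.symm, C.smul_of_Nz hw _, C.smul_of_Nz hw _⟩
  -- `z` is isolated modulo the kernel
  set X : Subgroup G := (centralizer ({QuotientGroup.mk' C.Nz C.z} : Set (G ⧸ C.Nz))).comap
    (QuotientGroup.mk' C.Nz) with hX
  have hXmem : ∀ {g : G}, g ∈ X → C.z⁻¹ * (g * C.z * g⁻¹) ∈ C.Nz := by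
    intro g hg
    have h := mem_centralizer_singleton_iff.1 (mem_comap.1 hg)
    refine (QuotientGroup.eq_one_iff _).1 ?_
    show QuotientGroup.mk' C.Nz (C.z⁻¹ * (g * C.z * g⁻¹)) = 1
    rw [map_mul, map_mul, map_mul, map_inv, map_inv, h]; group
  have hzX : C.z ∈ X := mem_comap.2 (mem_centralizer_singleton_iff.2 rfl)
  have hNX : C.Nz ≤ X := fun n hn => mem_comap.2 (mem_centralizer_singleton_iff.2 (by
    rw [QuotientGroup.mk'_apply, QuotientGroup.mk'_apply, (QuotientGroup.eq_one_iff n).2 hn,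
      one_mul, mul_one]))
  have hiso : Cfsg.IsIsolatedInvolution (⟨C.z, hzX⟩ : ↥X) := by
    refine ⟨by rw [← Subgroup.orderOf_coe]; exact C.z_two, fun g hg => ?_⟩
    have hc : Commute C.z ((g : G) * C.z * (g : G)⁻¹) := hg.map X.subtype
    set y := (g : G) * C.z * (g : G)⁻¹ with hy
    have hyZ : y ∈ C.Z := C.conj_mem_Z C.z_mem_Z _
    refine Subtype.ext (show y = C.z from ?_)
    by_contra hne
    have hw := hXmem g.2
    rw [← hy, inv_eq_self C.z_two] at hw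
    have ho : orderOf (C.z * y) = 2 := orderOf_eq_two
      (by rw [hc.symm.mul_mul_mul_comm, mul_self_eq_one C.z_two, C.mul_self_Z hyZ, one_mul])
      fun h => hne ((eq_inv_of_mul_eq_one_right h).trans (inv_eq_self C.z_two))
    refine (hbad hw ho).not_mem_L C (mul_mem (C.mem_L C.z_mem_Z ?_) (C.mem_L hyZ ?_))
    · exact (Commute.refl _).mul_right hc
    · exact hc.symm.mul_right (Commute.refl _)
  obtain ⟨A, hA, hAodd, hAc⟩ := CfsgLib.ZStar.zstar hiso
  -- the odd core of the kernel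
  haveI : (Cfsg.oddCore ↥C.Nz).Characteristic := characteristic_iff_map_le.2 fun φ =>
    Core.le_oddCore ((inferInstance : (Cfsg.oddCore ↥C.Nz).Normal).map φ.toMonoidHom φ.surjective)
      (by rw [card_map_of_injective φ.injective]; exact IsoApps.odd_oddCore)
  set O := (Cfsg.oddCore ↥C.Nz).map C.Nz.subtype with hO
  haveI hOn : O.Normal := by
    rw [hO]
    exact ConjAct.normal_of_characteristic_of_normal
  have hOodd : Odd (Nat.card O) := by
    rw [hO, card_map_of_injective C.Nz.subtype_injective]; exact IsoApps.odd_oddCore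
  have hcore : ∀ m ∈ C.Nz, C.z * m * C.z⁻¹ * m⁻¹ ∈ O := by
    intro m hm
    have hn : ((A.map X.subtype).subgroupOf C.Nz).Normal := ⟨fun a ha k => by
      rw [mem_subgroupOf] at ha ⊢
      obtain ⟨a', ha', e⟩ := ha
      refine ⟨⟨k, hNX k.2⟩ * a' * ⟨k, hNX k.2⟩⁻¹, hA.conj_mem _ ha' _, ?_⟩
      show (k : G) * (a' : G) * (k : G)⁻¹ = _
      rw [show ((a' : ↥X) : G) = ((a : ↥C.Nz) : G) from e]
      rfl⟩
    have hodd : Odd (Nat.card ((A.map X.subtype).subgroupOf C.Nz)) := by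
      refine hAodd.of_dvd_nat ((card_comap_dvd_of_injective _ _ C.Nz.subtype_injective).trans ?_)
      rw [card_map_of_injective X.subtype_injective]
    have hmem : C.z * m * C.z⁻¹ * m⁻¹ ∈ C.Nz :=
      mul_mem (C.Nz_normal.conj_mem m hm C.z) (inv_mem hm)
    exact ⟨⟨_, hmem⟩, Core.le_oddCore hn hodd
      (mem_subgroupOf.2 ⟨_, hAc ⟨m, hNX hm⟩, rfl⟩), rfl⟩
  -- every member centralises the kernel modulo that core
  have hall : ∀ x ∈ C.Z, ∀ m ∈ C.Nz, x * m * x⁻¹ * m⁻¹ ∈ O := by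
    intro x hx m hm
    obtain ⟨g, rfl⟩ := C.exists_conj hx
    have h := hOn.conj_mem _ (hcore _ (C.Nz_normal.conj_mem m hm g⁻¹)) g
    rwa [show g * (C.z * (g⁻¹ * m * g⁻¹⁻¹) * C.z⁻¹ * (g⁻¹ * m * g⁻¹⁻¹)⁻¹) * g⁻¹ =
      g * C.z * g⁻¹ * m * (g * C.z * g⁻¹)⁻¹ * m⁻¹ by group] at h
  have hvv := mul_self_eq_one hv2
  have hle : C.Kz ≤ C.L (v : G) ⊔ O := by
    rw [C.Kz_eq, closure_le]
    intro x hx
    obtain ⟨g, rfl⟩ := C.exists_conj hx
    have hcen : ∃ S : Sylow 2 G, ∀ s ∈ S, s * (g * C.z * g⁻¹) = g * C.z * g⁻¹ * s := by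
      refine ⟨g • C.P, ?_⟩
      rintro _ ⟨s, hs, rfl⟩
      show g * s * g⁻¹ * (g * C.z * g⁻¹) = g * C.z * g⁻¹ * (g * s * g⁻¹)
      have := mem_centralizer_singleton_iff.1 (C.P_le_centralizer hs)
      calc g * s * g⁻¹ * (g * C.z * g⁻¹) = g * (s * C.z) * g⁻¹ := by group
        _ = g * (C.z * s) * g⁻¹ := by rw [this]
        _ = _ := by group
    have hcomm : QuotientGroup.mk' O (v : G) * QuotientGroup.mk' O (g * C.z * g⁻¹) =
        QuotientGroup.mk' O (g * C.z * g⁻¹) * QuotientGroup.mk' O (v : G) := by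
      rw [← map_mul, ← map_mul, eq_comm, QuotientGroup.mk'_apply, QuotientGroup.mk'_apply,
        ← div_eq_one, ← QuotientGroup.mk_div, QuotientGroup.eq_one_iff,
        show g * C.z * g⁻¹ * (v : G) / ((v : G) * (g * C.z * g⁻¹)) =
          g * C.z * g⁻¹ * (v : G) * (g * C.z * g⁻¹)⁻¹ * (v : G)⁻¹ by
            rw [div_eq_mul_inv]; group]
      exact hall _ hx _ v.2
    obtain ⟨x, hxc, hfx, hxv⟩ :=
      Act.exists_commuting_lift (QuotientGroup.mk' O) hcen (y := (v : G)) hvv hcomm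
    have hxZ : x ∈ C.Z := IsConj.trans hx hxc
    have ho : x⁻¹ * (g * C.z * g⁻¹) ∈ O := QuotientGroup.eq.1 hfx
    rw [show g * C.z * g⁻¹ = x * (x⁻¹ * (g * C.z * g⁻¹)) by group]
    exact mul_mem_sup (C.mem_L hxZ hxv) ho
  have hvK : (v : G) ∈ ((C.L (v : G) ⊔ O : Subgroup G) : Set G) := hle v.2.2
  rw [mul_normal] at hvK
  obtain ⟨l, hl, o, ho, hlo⟩ := hvK
  refine (hbad v.2 hv2).not_mem_L C ?_
  have hlv := C.commute_of_mem_L hl
  have hlo' : l * o = (v : G) := hlo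
  have hov : Commute o (v : G) := by
    rw [show o = l⁻¹ * (v : G) by rw [← hlo', inv_mul_cancel_left]]
    exact hlv.inv_left.mul_left (Commute.refl _)
  have hl2 : l = (v : G) * o⁻¹ := eq_mul_inv_of_mul_eq hlo'
  obtain ⟨j, hj⟩ := hOodd.of_dvd_nat (orderOf_dvd_natCard O ho)
  have h1 : l ^ orderOf o = (v : G) := by
    rw [hl2, hov.symm.inv_right.mul_pow, inv_pow, pow_orderOf_eq_one, inv_one, mul_one, hj,
      pow_succ, pow_mul, sq, hvv, one_pow, one_mul]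
  have h2 := pow_mem hl (orderOf o)
  rwa [h1] at h2

/-- The conjugates of `z` are conjugate in the normal closure. -/
theorem exists_conj_Kz {x : G} (hx : x ∈ C.Z) : ∃ k ∈ C.Kz, k * C.z * k⁻¹ = x := by
  obtain ⟨g₀, hg₀⟩ := C.exists_point_ne
  obtain ⟨p, hp⟩ := C.exists_fix hx
  have far : ∀ {y : G} {q : C.Pt}, y ∈ C.Za q → q ≠ C.base → ∃ k ∈ C.Kz, k * C.z * k⁻¹ = y := by
    intro y q hy hq
    obtain ⟨w, hw, e⟩ := C.exists_link ⟨C.z_mem_Z, C.z_smul_base⟩ hy hq.symm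
    exact ⟨w, C.Z_le_Kz hw.1, e⟩
  by_cases h : p = C.base
  · subst h
    have hy : g₀ * C.z * g₀⁻¹ ∈ C.Za (g₀ • C.base) := C.conj_mem_Za ⟨C.z_mem_Z, C.z_smul_base⟩
    obtain ⟨k, hk, hke⟩ := far hy hg₀
    obtain ⟨w, hw, hwe⟩ := C.exists_link hy ⟨hx, hp⟩ hg₀
    refine ⟨w * k, mul_mem (C.Z_le_Kz hw.1) hk, ?_⟩
    rw [← hwe, ← hke]; group
  · exact far ⟨hx, hp⟩ h

/-- A Sylow subgroup of the normal closure centralising `z`. -/
theorem exists_sylow_Kz : ∃ S : Sylow 2 ↥C.Kz, ∀ s ∈ S, (s : G) * C.z = C.z * (s : G) := by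
  haveI : Fact (Nat.Prime 2) := ⟨Nat.prime_two⟩
  obtain ⟨S, -⟩ := (IsPGroup.of_bot (p := 2) (G := ↥C.Kz)).exists_le_sylow
  obtain ⟨Q, hQ⟩ := (S.2.map C.Kz.subtype).exists_le_sylow
  obtain ⟨g, rfl⟩ := MulAction.exists_smul_eq G C.P Q
  obtain ⟨k, hk, hke⟩ := C.exists_conj_Kz (C.conj_mem_Z C.z_mem_Z g)
  refine ⟨(⟨k, hk⟩ : ↥C.Kz)⁻¹ • S, ?_⟩
  rintro _ ⟨s, hs, rfl⟩
  obtain ⟨p, hp, e⟩ := hQ (mem_map_of_mem _ hs)
  have e' : g * p * g⁻¹ = (s : G) := e
  have hc := mem_centralizer_singleton_iff.1 (C.P_le_centralizer hp)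
  have h1 : Commute (s : G) (k * C.z * k⁻¹) := by
    rw [hke, ← e']; exact (Commute.conj_iff g).2 hc
  have h2 := (Commute.conj_iff k⁻¹).2 h1
  rw [show k⁻¹ * (k * C.z * k⁻¹) * k⁻¹⁻¹ = C.z by group] at h2
  exact h2.eq

/-- The projection to the quotient by the kernel. -/
abbrev Qz : Type u := ↥C.Kz ⧸ C.Nz.subgroupOf C.Kz

/-- The quotient map. -/
abbrev qz : ↥C.Kz →* C.Qz := QuotientGroup.mk' _

theorem odd_ker_qz : Odd (Nat.card (C.Nz.subgroupOf C.Kz)) := by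
  have h : C.Nz ≤ C.Kz := inf_le_right
  rw [Nat.card_congr (subgroupOfEquivOfLe h).toEquiv]
  exact C.odd_Nz

theorem Nz_le_H : C.Nz ≤ C.H := fun _ hn => normalCore_le _ hn.1

theorem mem_map_qz {g : ↥C.Kz} : C.qz g ∈ (C.H.subgroupOf C.Kz).map C.qz ↔ (g : G) ∈ C.H := by
  refine ⟨?_, fun h => mem_map_of_mem _ h⟩
  rintro ⟨h, hh, e⟩
  have h1 : ((h⁻¹ * g : ↥C.Kz) : G) ∈ C.Nz := mem_subgroupOf.1 (QuotientGroup.eq.1 e)
  have h2 := mul_mem (mem_subgroupOf.1 hh) (C.Nz_le_H h1)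
  rwa [coe_mul, coe_inv, mul_inv_cancel_left] at h2

/-- The point stabiliser does not contain the normal closure. -/
theorem exists_not_mem_Kz : ∃ k : ↥C.Kz, (k : G) ∉ C.H := by
  obtain ⟨g₀, hg₀⟩ := C.exists_point_ne
  obtain ⟨k, hk, hke⟩ := C.exists_conj_Kz (C.conj_mem_Z C.z_mem_Z g₀)
  refine ⟨⟨k, hk⟩, fun hkH => hg₀ ?_⟩
  refine C.fix_unique (C.conj_mem_Z C.z_mem_Z g₀) ((C.conj_smul_iff g₀ _).2 rfl) ?_
  have hb : k • C.base = C.base := CfsgLib.StrongEmbed.smul_mk_one_iff.2 hkH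
  rw [← hke, mul_smul, mul_smul, inv_smul_eq_iff.2 hb.symm, C.z_smul_base, hb]

/-- The local data in the quotient. -/
theorem loc_qz (u' : C.Qz) (hu' : orderOf u' = 2) (hcz : u' * C.qz ⟨C.z, C.Z_le_Kz C.z_mem_Z⟩ =
      C.qz ⟨C.z, C.Z_le_Kz C.z_mem_Z⟩ * u')
    (hnle : ¬ centralizer ({u'} : Set C.Qz) ≤ (C.H.subgroupOf C.Kz).map C.qz) :
    Cfsg.IsStronglyEmbedded (((C.H.subgroupOf C.Kz).map C.qz).subgroupOf
      (closure {x : C.Qz | IsConj (C.qz ⟨C.z, C.Z_le_Kz C.z_mem_Z⟩) x ∧ x * u' = u' * x})) := by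
  haveI : Fact (Nat.Prime 2) := ⟨Nat.prime_two⟩
  -- a lift of `u'`
  obtain ⟨w, rfl⟩ := QuotientGroup.mk'_surjective _ u'
  obtain ⟨j, hj⟩ := C.odd_ker_qz
  set u := w ^ Nat.card (C.Nz.subgroupOf C.Kz) with hu
  have hqu : C.qz u = C.qz w := by
    rw [hu, map_pow, hj, pow_succ, pow_mul, sq, mul_self_eq_one hu', one_pow, one_mul]
  have hw2 : w * w ∈ C.Nz.subgroupOf C.Kz := (QuotientGroup.eq_one_iff _).1 (by
    show C.qz (w * w) = 1
    rw [map_mul, mul_self_eq_one hu'])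
  have huu : u * u = 1 := by
    rw [hu, ← (Commute.refl w).mul_pow]
    exact congrArg Subtype.val (pow_card_eq_one' (x := (⟨w * w, hw2⟩ : C.Nz.subgroupOf C.Kz)))
  have hu2 : orderOf (u : G) = 2 := orderOf_eq_two (congrArg Subtype.val huu) fun h => by
    rw [← hqu, show u = 1 from Subtype.ext h, map_one, orderOf_one] at hu'
    omega
  set π := QuotientGroup.mk' C.Nz with hπ
  have hq : ∀ {x y : ↥C.Kz}, C.qz x = C.qz y ↔ π (x : G) = π (y : G) := fun {x y} => by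
    rw [hπ, QuotientGroup.mk'_apply, QuotientGroup.mk'_apply, QuotientGroup.mk'_apply,
      QuotientGroup.mk'_apply, QuotientGroup.eq, QuotientGroup.eq, mem_subgroupOf]
    rfl
  -- members commuting with the image lift to members commuting with `u`
  have hlift : ∀ x : ↥C.Kz, (x : G) ∈ C.Z → C.qz x * C.qz w = C.qz w * C.qz x →
      ∃ y : G, y ∈ C.ZC (u : G) ∧ π y = π (x : G) := by
    intro x hx hc
    obtain ⟨g, hg⟩ := C.exists_conj hx
    have hcen : ∃ S : Sylow 2 G, ∀ s ∈ S, s * (x : G) = (x : G) * s := by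
      refine ⟨g • C.P, ?_⟩
      rintro _ ⟨s, hs, rfl⟩
      show g * s * g⁻¹ * (x : G) = (x : G) * (g * s * g⁻¹)
      have := mem_centralizer_singleton_iff.1 (C.P_le_centralizer hs)
      rw [← hg]
      calc g * s * g⁻¹ * (g * C.z * g⁻¹) = g * (s * C.z) * g⁻¹ := by group
        _ = g * (C.z * s) * g⁻¹ := by rw [this]
        _ = _ := by group
    have hc' : π (u : G) * π (x : G) = π (x : G) * π (u : G) := by
      rw [← map_mul, ← map_mul]
      refine (hq (x := u * x) (y := x * u)).1 ?_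
      rw [map_mul, map_mul, hqu, hc]
    obtain ⟨y, hy, hfy, hyu⟩ := Act.exists_commuting_lift π hcen (congrArg Subtype.val huu) hc'
    exact ⟨y, ⟨IsConj.trans hx hy, hyu⟩, hfy⟩
  obtain ⟨y₀, hy₀, hy₀z⟩ := hlift ⟨C.z, C.Z_le_Kz C.z_mem_Z⟩ C.z_mem_Z hcz.symm
  have hy₀b : y₀ • C.base = C.base := by
    have h1 : y₀⁻¹ * C.z ∈ C.Nz := QuotientGroup.eq.1 hy₀z
    have h2 := C.smul_of_Nz h1 C.base
    rwa [mul_smul, C.z_smul_base, inv_smul_eq_iff, eq_comm] at h2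
  have hub := C.smul_eq_of_commute_Z hy₀.1 hy₀.2 hy₀b
  -- `u` is bad
  have hbad : C.Bad (u : G) := by
    obtain ⟨g', hg', hgH⟩ := SetLike.not_le_iff_exists.1 hnle
    obtain ⟨g, rfl⟩ := QuotientGroup.mk'_surjective _ g'
    have hgH' : (g : G) ∉ C.H := fun h => hgH (mem_map_of_mem _ h)
    refine ⟨hu2, C.base, (g : G) • C.base,
      fun e => hgH' (CfsgLib.StrongEmbed.smul_mk_one_iff.1 e.symm), hub, ?_⟩
    have h1 : C.qz (u * g) = C.qz (g * u) := by
      rw [map_mul, map_mul, hqu, mem_centralizer_singleton_iff.1 hg']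
    have h2 : ((u : G) * (g : G))⁻¹ * ((g : G) * (u : G)) ∈ C.Nz := QuotientGroup.eq.1 (hq.1 h1)
    have h3 := congrArg (((u : G) * (g : G)) • ·) (C.smul_of_Nz h2 C.base)
    rw [smul_smul, mul_inv_cancel_left, mul_smul, hub, mul_smul] at h3
    exact h3.symm
  -- the local group maps onto the local group of the image
  have hLK : C.L (u : G) ≤ C.Kz := (closure_le _).2 fun x hx => C.Z_le_Kz hx.1
  set L' := closure {x : C.Qz | IsConj (C.qz ⟨C.z, C.Z_le_Kz C.z_mem_Z⟩) x ∧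
    x * C.qz w = C.qz w * x} with hL'
  have hmaps : ∀ l : ↥(C.L (u : G)), C.qz ⟨l, hLK l.2⟩ ∈ L' := by
    have h : C.L (u : G) ≤ (L'.comap C.qz).map C.Kz.subtype := by
      refine (closure_le _).2 fun x hx => ⟨⟨x, C.Z_le_Kz hx.1⟩, subset_closure ⟨?_, ?_⟩, rfl⟩
      · obtain ⟨k, hk, hke⟩ := C.exists_conj_Kz hx.1
        exact isConj_iff.2 ⟨C.qz ⟨k, hk⟩, by
          rw [← map_inv, ← map_mul, ← map_mul]; exact congrArg C.qz (Subtype.ext hke)⟩
      · rw [← hqu, ← map_mul, ← map_mul]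
        exact congrArg C.qz (Subtype.ext hx.2.eq)
    intro l
    obtain ⟨x, hx, e⟩ := h l.2
    rwa [show (⟨l, hLK l.2⟩ : ↥C.Kz) = x from Subtype.ext e.symm]
  let φ : ↥(C.L (u : G)) →* ↥L' := (C.qz.comp (inclusion hLK)).codRestrict L' hmaps
  have hsurj : Function.Surjective φ := by
    have h : L' ≤ (C.qz.comp (inclusion hLK)).range := by
      refine (closure_le _).2 fun x' ⟨hxc, hxu⟩ => ?_
      obtain ⟨k', hk'⟩ := isConj_iff.1 hxc
      obtain ⟨k, rfl⟩ := QuotientGroup.mk'_surjective _ k'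
      have hx : C.qz (k * ⟨C.z, C.Z_le_Kz C.z_mem_Z⟩ * k⁻¹) = x' := by
        rw [map_mul, map_mul, map_inv]; exact hk'
      subst hx
      obtain ⟨y, hy, hyπ⟩ := hlift _ (C.conj_mem_Z C.z_mem_Z k) hxu
      exact ⟨⟨y, subset_closure hy⟩, hq.2 hyπ⟩
    rintro ⟨x, hx⟩
    obtain ⟨l, hl⟩ := h hx
    exact ⟨l, Subtype.ext hl⟩
  have hker : ∀ l : ↥(C.L (u : G)), l ∈ φ.ker → (l : G) ∈ C.Nz := fun l hl =>
    mem_subgroupOf.1 ((QuotientGroup.eq_one_iff (inclusion hLK l)).1 (congrArg Subtype.val hl))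
  have hodd : Odd (Nat.card φ.ker) := C.odd_Nz.of_dvd_nat (by
    rw [← card_map_of_injective (C.L (u : G)).subtype_injective]
    exact card_dvd_of_le (by rintro _ ⟨l, hl, rfl⟩; exact hker l hl))
  have hse := isStronglyEmbedded_map hsurj (hbad.isStronglyEmbedded C hub)
    (fun l hl => C.mem_LH.2 (C.smul_of_Nz (hker l hl) _)) hodd
  have e : (C.LH (u : G) C.base).map φ = ((C.H.subgroupOf C.Kz).map C.qz).subgroupOf L' := by
    ext x
    obtain ⟨l, rfl⟩ := hsurj x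
    rw [mem_subgroupOf]
    show φ l ∈ _ ↔ C.qz (inclusion hLK l) ∈ _
    rw [C.mem_map_qz]
    refine ⟨?_, fun h => mem_map_of_mem _ (C.mem_LH.2 (CfsgLib.StrongEmbed.smul_mk_one_iff.2 h))⟩
    rintro ⟨m, hm, hme⟩
    have h1 : ((inclusion hLK m)⁻¹ * inclusion hLK l : ↥C.Kz) ∈ C.Nz.subgroupOf C.Kz :=
      QuotientGroup.eq.1 (congrArg Subtype.val hme)
    have h2 := mul_mem (CfsgLib.StrongEmbed.smul_mk_one_iff.1 (C.mem_LH.1 hm))
      (C.Nz_le_H (mem_subgroupOf.1 h1))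
    simpa using h2
  rw [← e]
  exact hse

/-- The setting in the quotient. -/
theorem exists_quot : ∃ C' : Ctx C.Qz, C'.z = C.qz ⟨C.z, C.Z_le_Kz C.z_mem_Z⟩ ∧
    C'.H = (C.H.subgroupOf C.Kz).map C.qz := by
  haveI : Fact (Nat.Prime 2) := ⟨Nat.prime_two⟩
  obtain ⟨S, hS⟩ := C.exists_sylow_Kz
  have hsurj : Function.Surjective C.qz := QuotientGroup.mk'_surjective _
  set z₁ : ↥C.Kz := ⟨C.z, C.Z_le_Kz C.z_mem_Z⟩ with hz₁
  have hzS : z₁ ∈ (S : Subgroup ↥C.Kz) := Act.mem_of_isPGroup_commute S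
    (Subtype.ext (mul_self_eq_one C.z_two)) fun s hs => Subtype.ext (hS s hs)
  refine ⟨⟨S.mapSurjective hsurj, C.qz z₁, (C.H.subgroupOf C.Kz).map C.qz, ?_, ?_, ?_, ?_,
    fun u hu hc hn => C.loc_qz u hu hc hn⟩, rfl, rfl⟩
  · refine orderOf_eq_two (by rw [← map_mul, show z₁ * z₁ = 1 from
      Subtype.ext (mul_self_eq_one C.z_two), map_one]) fun h => ?_
    have h1 : C.z ∈ C.Nz := mem_subgroupOf.1 ((QuotientGroup.eq_one_iff z₁).1 h)
    obtain ⟨g₀, hg₀⟩ := C.exists_point_ne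
    exact hg₀ ((C.z_smul_iff _).1 (C.smul_of_Nz h1 _))
  · refine ⟨⟨C.qz z₁, mem_map_of_mem _ hzS⟩, mem_center_iff.2 ?_, rfl⟩
    rintro ⟨_, s, hs, rfl⟩
    refine Subtype.ext (show C.qz s * C.qz z₁ = C.qz z₁ * C.qz s from ?_)
    rw [← map_mul, ← map_mul]
    exact congrArg C.qz (Subtype.ext (hS s hs))
  · intro h
    obtain ⟨k, hk⟩ := C.exists_not_mem_Kz
    exact hk (C.mem_map_qz.1 (h ▸ mem_top _))
  · intro g'
    obtain ⟨g, rfl⟩ := hsurj g'
    rw [C.mem_map_qz, ← C.fixed (g : G)]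
    constructor
    · rintro ⟨x', hx', e⟩
      have e' : C.qz g * x' * (C.qz g)⁻¹ = C.qz z₁ := e
      have h1 : C.qz (g⁻¹ * z₁ * g) ∈ (C.H.subgroupOf C.Kz).map C.qz := by
        rw [map_mul, map_mul, map_inv, ← e']
        rwa [show (C.qz g)⁻¹ * (C.qz g * x' * (C.qz g)⁻¹) * C.qz g = x' by group]
      exact ⟨_, C.mem_map_qz.1 h1, by simp [z₁, mul_assoc]⟩
    · rintro ⟨h, hh, e⟩
      have e' : (g : G) * h * (g : G)⁻¹ = C.z := e
      refine ⟨C.qz (g⁻¹ * z₁ * g), C.mem_map_qz.2 ?_, ?_⟩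
      · rwa [coe_mul, coe_mul, coe_inv, show (z₁ : G) = C.z from rfl, ← e', show (g : G)⁻¹ * ((g : G) * h * (g : G)⁻¹) * g = h by
          group]
      · show C.qz g * C.qz (g⁻¹ * z₁ * g) * (C.qz g)⁻¹ = _
        rw [map_mul, map_mul, map_inv]; group

/-- **The criterion from its generated faithful case.** -/
theorem stronglyEmbedded_Kz (hmain : NoBad.{u}) :
    Cfsg.IsStronglyEmbedded (C.H.subgroupOf C.Kz) := by
  haveI : Fact (Nat.Prime 2) := ⟨Nat.prime_two⟩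
  obtain ⟨C', hz', hH'⟩ := C.exists_quot
  have hzH : C.z ∈ C.H := CfsgLib.StrongEmbed.smul_mk_one_iff.1 C.z_smul_base
  set z₁ : ↥C.Kz := ⟨C.z, C.Z_le_Kz C.z_mem_Z⟩ with hz₁
  have hgen : closure C'.Z = ⊤ := by
    refine eq_top_iff.2 fun g' _ => ?_
    obtain ⟨g, rfl⟩ := QuotientGroup.mk'_surjective _ g'
    have h : C.Kz ≤ ((closure C'.Z).comap C.qz).map C.Kz.subtype := by
      refine (le_of_eq C.Kz_eq).trans ((closure_le _).2 ?_)
      intro x hx
      refine ⟨⟨x, C.Z_le_Kz hx⟩, subset_closure ?_, rfl⟩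
      obtain ⟨k, hk, hke⟩ := C.exists_conj_Kz hx
      show IsConj C'.z _
      rw [hz']
      exact isConj_iff.2 ⟨C.qz ⟨k, hk⟩, by
        rw [← map_inv, ← map_mul, ← map_mul]; exact congrArg C.qz (Subtype.ext hke)⟩
    obtain ⟨x, hx, e⟩ := h g.2
    rwa [show g = x from Subtype.ext e.symm]
  have hpt : ∀ g : ↥C.Kz, C.qz g • C'.base = C'.base ↔ (g : G) ∈ C.H := fun g => by
    rw [← C.mem_map_qz, ← hH']; exact CfsgLib.StrongEmbed.smul_mk_one_iff
  have hfaith : ∀ g : C.Qz, (∀ c : C'.Pt, g • c = c) → g = 1 := by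
    intro g' hfix
    obtain ⟨g, rfl⟩ := QuotientGroup.mk'_surjective _ g'
    refine (QuotientGroup.eq_one_iff g).2 (mem_subgroupOf.2 ⟨fun b => ?_, g.2⟩)
    obtain ⟨k, hk, hke⟩ := C.exists_conj_Kz (C.conj_mem_Z C.z_mem_Z b⁻¹)
    have h1 : C.qz ((⟨k, hk⟩ : ↥C.Kz)⁻¹ * g * ⟨k, hk⟩) • C'.base = C'.base := by
      rw [map_mul, map_mul, map_inv, mul_smul, mul_smul, hfix, inv_smul_smul]
    have h2 : k⁻¹ * (g : G) * k ∈ C.H := (hpt _).1 h1
    -- `b * k` fixes the base point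
    have h3 : b * k ∈ C.H := C.centralizer_z_le (mem_centralizer_singleton_iff.2 (by
      calc b * k * C.z = b * (k * C.z * k⁻¹) * k := by group
        _ = b * (b⁻¹ * C.z * b⁻¹⁻¹) * k := by rw [hke]
        _ = C.z * (b * k) := by group))
    have h4 := mul_mem (mul_mem h3 h2) (inv_mem h3)
    rwa [show b * k * (k⁻¹ * (g : G) * k) * (b * k)⁻¹ = b * (g : G) * b⁻¹ by group] at h4
  refine ⟨fun h => ?_, ?_, fun g hg => ?_⟩
  · obtain ⟨k, hk⟩ := C.exists_not_mem_Kz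
    exact hk (mem_subgroupOf.1 (h ▸ mem_top k))
  · have h := orderOf_dvd_natCard (C.H.subgroupOf C.Kz) (mem_subgroupOf.2 hzH : z₁ ∈ _)
    rw [← Subgroup.orderOf_coe, C.z_two] at h
    exact even_iff_two_dvd.2 h
  · rw [← Nat.not_even_iff_odd]
    intro hev
    obtain ⟨s, hs⟩ := exists_prime_orderOf_dvd_card' (G := ↥(C.H.subgroupOf C.Kz ⊓
      (C.H.subgroupOf C.Kz).map (MulAut.conj g).toMonoidHom)) 2 hev.two_dvd
    obtain ⟨hsH, t, ht, hts⟩ := mem_inf.1 s.2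
    have hs2 : orderOf (s : ↥C.Kz) = 2 := by rw [Subgroup.orderOf_coe, hs]
    refine hmain C.Qz C' hgen hfaith (C.qz (s : ↥C.Kz))
      ⟨orderOf_eq_two (by rw [← map_mul, mul_self_eq_one hs2, map_one]) fun h => ?_, C'.base,
        C.qz g • C'.base, fun e => hg (mem_subgroupOf.2 ((hpt g).1 e.symm)),
        (hpt _).2 (mem_subgroupOf.1 hsH), ?_⟩
    · have h1 := orderOf_dvd_natCard _ ((QuotientGroup.eq_one_iff (s : ↥C.Kz)).1 h)
      rw [hs2] at h1
      exact C.odd_ker_qz.not_two_dvd_nat h1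
    · have e : g * t * g⁻¹ = (s : ↥C.Kz) := hts
      rw [← e, map_mul, map_mul, map_inv, mul_smul, mul_smul, inv_smul_smul,
        (hpt t).2 (mem_subgroupOf.1 ht)]

end Ctx

/-- The statement S1913 from the generated faithful case. -/
theorem localData_of_noBad (hmain : NoBad.{u}) : Consumers.LocalData.{u} :=
  fun _ _ _ P z hz hzP H hH hi hii =>
    (⟨P, z, H, hz, hzP, hH, hi, hii⟩ : Ctx _).stronglyEmbedded_Kz hmain

end CfsgLib.Criterion
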