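import Cfsg.Agent.Recog.RankOneSuzuki.Main

/-!
# The strong embedding criterion: squares and commutators in a non-abelian kernel

In a split rank one set-up with non-abelian `Q` squares and commutators of `Q` lie in `Z`; for
`|Q| = q ^ 2` squaring gives a bijection of `Q / Z` with `Z`.
-/

set_option autoImplicit false
set_option linter.style.haveILetI false
set_option linter.unusedSectionVars false

namespace CfsgLib.Recog.RankOneSuzuki

open MulAction CfsgLib.Recog.RankOne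

variable {G Ω : Type*} [Group G] [MulAction G Ω] [Finite G] {a : Ω} {t : G} {Q : Subgroup G}

namespace Data

variable (S : Data a t Q)

/-- A square does not change under multiplication by `Z`. -/
theorem sq_mul_Z {x z : G} (hx : x ∈ Q) (hz : z ∈ S.Z) : x * z * (x * z) = x * x := by
  rw [mul_assoc, ← mul_assoc z, S.central z hz x hx, mul_assoc x z z, S.Z_sq hz, mul_one]

/-- Commutators of `Q` lie in `Z`. -/
theorem comm_mem_Z [FaithfulSMul G Ω] (hna : ∃ x ∈ Q, ∃ y ∈ Q, x * y ≠ y * x) {x y : G} (hx : x ∈ Q)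
    (hy : y ∈ Q) : x * y * x⁻¹ * y⁻¹ ∈ S.Z := by
  rw [show x * y * x⁻¹ * y⁻¹ = x * x * (x⁻¹ * y * (x⁻¹ * y)) * (y⁻¹ * y⁻¹) by group]
  exact mul_mem (mul_mem (S.sq_mem_Z hna x hx)
    (S.sq_mem_Z hna _ (mul_mem (inv_mem hx) hy))) (S.sq_mem_Z hna _ (inv_mem hy))

/-- For `|Q| = q ^ 2` the group `K` is transitive on the nontrivial cosets of `Z` in `Q`. -/
theorem exists_K_coset (hcard : Nat.card Q = Nat.card S.Z ^ 2) {x y : G} (hx : x ∈ Q) (hxZ : x ∉ S.Z)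
    (hy : y ∈ Q) (hyZ : y ∉ S.Z) : ∃ c ∈ S.K, (c * x * c⁻¹)⁻¹ * y ∈ S.Z := by
  classical
  set N := S.Z.subgroupOf Q
  let X := {o : ↥Q ⧸ N // o ≠ QuotientGroup.mk 1}
  have hne : ∀ {w : G} (hw : w ∈ Q), w ∉ S.Z →
      (QuotientGroup.mk ⟨w, hw⟩ : ↥Q ⧸ N) ≠ QuotientGroup.mk 1 := fun {w} hw hwZ h => hwZ (by
    have h1 := (Subgroup.mem_subgroupOf).1 (QuotientGroup.eq.1 h.symm)
    simpa using h1)
  have hcx : ∀ c ∈ S.K, c * x * c⁻¹ ∉ S.Z := fun c hc h => hxZ (by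
    have h1 := S.conj_Z' hc h
    rwa [show c⁻¹ * (c * x * c⁻¹) * c = x by group] at h1)
  let f : S.K → X := fun c => ⟨QuotientGroup.mk ⟨_, S.conj_Q c.2 hx⟩, hne _ (hcx c c.2)⟩
  have hf : Function.Injective f := by
    intro c d h
    have h1 : (c * x * (c : G)⁻¹)⁻¹ * (d * x * (d : G)⁻¹) ∈ S.Z :=
      (Subgroup.mem_subgroupOf).1 (QuotientGroup.eq.1 (congrArg Subtype.val h))
    by_contra hcd
    refine hxZ (S.mem_Z_of_comm (c := (c : G)⁻¹ * d) (mul_mem (inv_mem c.2) d.2)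
      (fun e => hcd (Subtype.ext (inv_mul_eq_one.1 e))) hx ?_)
    have h2 := S.conj_Z' c.2 h1
    rwa [show (c : G)⁻¹ * ((c * x * (c : G)⁻¹)⁻¹ * (d * x * (d : G)⁻¹)) * c =
      x⁻¹ * ((c : G)⁻¹ * d * x * ((c : G)⁻¹ * d)⁻¹) by group] at h2
  have hX : Nat.card X ≤ Nat.card S.K := by
    haveI := Fintype.ofFinite (↥Q ⧸ N)
    have h1 : Nat.card X = Nat.card (↥Q ⧸ N) - 1 := by
      rw [Nat.card_eq_fintype_card, Fintype.card_subtype_compl, Fintype.card_subtype_eq,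
        Nat.card_eq_fintype_card]
    have h2 : Nat.card N * N.index = Nat.card S.Z * Nat.card S.Z := by
      rw [N.card_mul_index, hcard, pow_two]
    rw [Nat.card_congr (Subgroup.subgroupOfEquivOfLe S.Z_le).toEquiv] at h2
    have h3 := S.card_K
    rw [← Subgroup.index_eq_card, Nat.eq_of_mul_eq_mul_left Nat.card_pos h2] at h1
    omega
  obtain ⟨c, hc⟩ := (hf.bijective_of_nat_card_le hX).2 ⟨_, hne hy hyZ⟩
  exact ⟨c, c.2, (Subgroup.mem_subgroupOf).1 (QuotientGroup.eq.1 (congrArg Subtype.val hc))⟩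

/-- For `|Q| = q ^ 2` the group `Q` is not abelian. -/
theorem not_comm_of_sq [FaithfulSMul G Ω] (hcard : Nat.card Q = Nat.card S.Z ^ 2) :
    ∃ x ∈ Q, ∃ y ∈ Q, x * y ≠ y * x := by
  by_contra h
  push Not at h
  have h1 : Nat.card Q ≤ Nat.card S.Z := Subgroup.card_le_of_le (S.le_Z_of_abelian h)
  rw [hcard, pow_two] at h1
  have := S.four_le
  nlinarith

/-- For `|Q| = q ^ 2` elements with the same square differ by `Z`. -/
theorem sq_inj [FaithfulSMul G Ω] (hcard : Nat.card Q = Nat.card S.Z ^ 2) {x y : G} (hx : x ∈ Q)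
    (hy : y ∈ Q) (h : x * x = y * y) : x⁻¹ * y ∈ S.Z := by
  have hz : ∀ {w : G}, w ∈ Q → w * w = 1 → w ∈ S.Z := fun hw e => (S.mem_Z _).2 ⟨hw, e⟩
  by_cases hxZ : x ∈ S.Z
  · exact mul_mem (inv_mem hxZ) (hz hy (h ▸ S.Z_sq hxZ))
  have hyZ : y ∉ S.Z := fun hyZ => hxZ (hz hx (h.trans (S.Z_sq hyZ)))
  obtain ⟨c, hc, hcy⟩ := S.exists_K_coset hcard hx hxZ hy hyZ
  suffices hc1 : c = 1 by simpa [hc1] using hcy
  by_contra hc1
  have hsq := S.sq_mul_Z (S.conj_Q hc hx) hcy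
  rw [mul_inv_cancel_left, show c * x * c⁻¹ * (c * x * c⁻¹) = c * (x * x) * c⁻¹ by group, ← h] at hsq
  exact hxZ (hz hx (S.fpf c hc hc1 _ (mul_mem hx hx) (mul_inv_eq_iff_eq_mul.1 hsq.symm)))

/-- For `|Q| = q ^ 2` every element of `Z` is a square in `Q`. -/
theorem exists_sqrt [FaithfulSMul G Ω] (hcard : Nat.card Q = Nat.card S.Z ^ 2) {w : G} (hw : w ∈ S.Z) :
    ∃ x ∈ Q, x * x = w := by
  by_cases hw1 : w = 1
  · exact ⟨1, one_mem _, by rw [one_mul, hw1]⟩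
  obtain ⟨x, hx, y, hy, hne⟩ := S.not_comm_of_sq hcard
  have hxZ : x ∉ S.Z := fun h => hne (S.central x h y hy)
  obtain ⟨k, hk, e⟩ := S.trans (x * x) (S.sq_mem_Z ⟨x, hx, y, hy, hne⟩ x hx)
    (fun e => hxZ ((S.mem_Z x).2 ⟨hx, e⟩)) w hw hw1
  exact ⟨k⁻¹ * x * k, S.conj_Q' hk hx, by rw [← e]; group⟩

end Data

end CfsgLib.Recog.RankOneSuzuki
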