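import Cfsg.Agent.Criterion.TypeUnitary
import Cfsg.Agent.Criterion.TypeModel

/-!
# The strong embedding criterion: automorphisms trivial on `Z` and on `Q / Z`

An automorphism of a rank one group with kernel `Q` of order `q ^ 2` or `q ^ 3` that keeps the two
points, centralises `Z` and is trivial on `Q / Z` centralises `Q`: it centralises the two-point
stabiliser, so its displacement on `Q` is equivariant.
-/

set_option autoImplicit false
set_option linter.style.haveILetI false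
set_option linter.unusedSectionVars false

namespace CfsgLib.Recog.RankOneSuzuki

open MulAction CfsgLib.Recog.RankOne

variable {G Ω : Type*} [Group G] [MulAction G Ω] [Finite G] {a : Ω} {t : G} {Q : Subgroup G}

namespace Data

variable (S : Data a t Q)

/-- For `|Q| = q ^ 2` an automorphism keeping `Q` and centralising `Z` is trivial on `Q / Z`. -/
theorem mod_Z_of_fix [FaithfulSMul G Ω] (hcard : Nat.card Q = Nat.card S.Z ^ 2) (f : MulAut G)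
    (hfQ : ∀ x ∈ Q, f x ∈ Q) (hfZ : ∀ z ∈ S.Z, f z = z) {x : G} (hx : x ∈ Q) :
    x⁻¹ * f x ∈ S.Z :=
  S.sq_inj hcard hx (hfQ x hx) (by
    rw [← map_mul, hfZ _ (S.sq_mem_Z (S.not_comm_of_sq hcard) x hx)])

/-- For `|Q| = q ^ 3` the kernel is not abelian. -/
theorem not_comm_of_cube [FaithfulSMul G Ω] (hcard : Nat.card Q = Nat.card S.Z ^ 3) :
    ∃ x ∈ Q, ∃ y ∈ Q, x * y ≠ y * x := by
  by_contra h
  push Not at h
  have h1 : Nat.card Q ≤ Nat.card S.Z := Subgroup.card_le_of_le (S.le_Z_of_abelian h)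
  rw [hcard, pow_succ, pow_two] at h1
  have h4 := S.four_le
  nlinarith [Nat.mul_le_mul_left (Nat.card S.Z) h4]

/-- An element of odd order of the two-point stabiliser of `a` and a further point, trivial on `Z` and
on `Q / Z`, is trivial. -/
theorem eq_one_of_trivial [FaithfulSMul G Ω] {w : G} {β : Ω} (hwa : w • a = a) (hwb : w • β = β)
    (hβ : β ≠ a) (hwodd : Odd (orderOf w)) (hwZ : ∀ z ∈ S.Z, w * z * w⁻¹ = z)
    (hwQ : ∀ x ∈ Q, x⁻¹ * (w * x * w⁻¹) ∈ S.Z) : w = 1 := by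
  have hcomm : ∀ x ∈ Q, w * x * w⁻¹ = x := by
    intro x hx
    set ζ := x⁻¹ * (w * x * w⁻¹) with hζ
    have hζZ := hwQ x hx
    have hpow : ∀ n : ℕ, w ^ n * x * (w ^ n)⁻¹ = x * ζ ^ n := by
      intro n
      induction n with
      | zero => simp
      | succ n ih =>
        calc w ^ (n + 1) * x * (w ^ (n + 1))⁻¹ = w * (w ^ n * x * (w ^ n)⁻¹) * w⁻¹ := by
              rw [pow_succ']; group
          _ = w * x * w⁻¹ * (w * ζ ^ n * w⁻¹) := by rw [ih]; group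
          _ = x * ζ * ζ ^ n := by rw [hwZ _ (pow_mem hζZ n), hζ, mul_inv_cancel_left]
          _ = x * ζ ^ (n + 1) := by rw [mul_assoc, ← pow_succ']
    have h1 := hpow (orderOf w)
    rw [pow_orderOf_eq_one, one_mul, inv_one, mul_one, left_eq_mul] at h1
    obtain ⟨m, hm⟩ := hwodd
    rw [hm, pow_succ, pow_mul, pow_two, S.Z_sq hζZ, one_pow, one_mul, hζ, inv_mul_eq_one] at h1
    exact h1.symm
  refine eq_of_smul_eq_smul fun ω : Ω => ?_
  rw [one_smul]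
  by_cases hω : ω = a
  · rw [hω, hwa]
  obtain ⟨⟨q, hq⟩, e, -⟩ := regular S.setup hβ hω
  change q • β = ω at e
  rw [← e, smul_smul, mul_inv_eq_iff_eq_mul.1 (hcomm q hq), mul_smul, hwb]

/-- **An automorphism trivial on `Z` and `Q / Z`** keeping two points centralises `Q`. -/
theorem fix_Q_of_trivial [FaithfulSMul G Ω]
    (hcard : Nat.card Q = Nat.card S.Z ^ 2 ∨ Nat.card Q = Nat.card S.Z ^ 3) (f : MulAut G) {β : Ω}
    (hβ : β ≠ a) (hfa : ∀ g : G, g • a = a → f g • a = a) (hfb : ∀ g : G, g • β = β → f g • β = β)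
    (hfQ : ∀ x ∈ Q, f x ∈ Q) (hfZ : ∀ z ∈ S.Z, f z = z)
    (hfmod : ∀ x ∈ Q, x⁻¹ * f x ∈ S.Z) {x : G} (hx : x ∈ Q) : f x = x := by
  classical
  obtain ⟨q, hq, hqb⟩ := exists_mem_smul S.setup hβ
  -- the conjugates of the two-point stabiliser
  have hqd : ∀ d ∈ stabilizer G a ⊓ stabilizer G (t • a),
      (q * d * q⁻¹) • a = a ∧ (q * d * q⁻¹) • β = β := fun d hd => by
    refine ⟨?_, ?_⟩
    · rw [mul_smul, mul_smul, inv_smul_eq_iff.2 (fix_a S.setup hq).symm,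
        mem_stabilizer_iff.1 (Subgroup.mem_inf.1 hd).1, fix_a S.setup hq]
    · rw [mul_smul, mul_smul, ← hqb, inv_smul_smul, mem_stabilizer_iff.1 (Subgroup.mem_inf.1 hd).2]
  have hqZ : ∀ z ∈ S.Z, q * z * q⁻¹ = z := fun z hz => by
    rw [← S.central z hz q hq, mul_inv_cancel_right]
  -- `f` fixes them
  have hfix : ∀ c : G, c • a = a → c • β = β → f c = c := by
    intro c hca hcb
    set w := c⁻¹ * f c with hw
    have hwa : w • a = a := by rw [mul_smul, hfa c hca, inv_smul_eq_iff, hca]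
    have hwb : w • β = β := by rw [mul_smul, hfb c hcb, inv_smul_eq_iff, hcb]
    have hwD : q⁻¹ * w * q ∈ stabilizer G a ⊓ stabilizer G (t • a) := by
      refine Subgroup.mem_inf.2 ⟨mem_stabilizer_iff.2 ?_, mem_stabilizer_iff.2 ?_⟩
      · rw [mul_smul, mul_smul, fix_a S.setup hq, hwa, inv_smul_eq_iff, fix_a S.setup hq]
      · rw [mul_smul, mul_smul, hqb, hwb, inv_smul_eq_iff, hqb]
    have hwodd : Odd (orderOf w) := by
      have h : orderOf (q⁻¹ * w * q) = orderOf w := by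
        rw [show q⁻¹ * w * q = MulAut.conj q⁻¹ w by simp, MulEquiv.orderOf_eq]
      exact h ▸ S.setup.odd_card.of_dvd_nat (Subgroup.orderOf_dvd_natCard _ hwD)
    have hcQ : ∀ y ∈ Q, c * y * c⁻¹ ∈ Q := fun y hy => S.setup.conj_mem c hca y hy
    have hcQ' : ∀ y ∈ Q, c⁻¹ * y * c ∈ Q := fun y hy => conj_mem' S.setup hca hy
    have hcZ : ∀ z ∈ S.Z, c⁻¹ * z * c ∈ S.Z := fun z hz =>
      (S.mem_Z _).2 ⟨hcQ' z (S.Z_le hz), by
        rw [show c⁻¹ * z * c * (c⁻¹ * z * c) = c⁻¹ * (z * z) * c by group, S.Z_sq hz]; group⟩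
    have hcZ' : ∀ z ∈ S.Z, c * z * c⁻¹ ∈ S.Z := fun z hz =>
      (S.mem_Z _).2 ⟨hcQ z (S.Z_le hz), by
        rw [show c * z * c⁻¹ * (c * z * c⁻¹) = c * (z * z) * c⁻¹ by group, S.Z_sq hz]; group⟩
    refine (inv_mul_eq_one.1 (S.eq_one_of_trivial hwa hwb hβ hwodd (fun z hz => ?_)
      fun y hy => ?_)).symm
    · have h1 : f (c * z * c⁻¹) = c * z * c⁻¹ := hfZ _ (hcZ' z hz)
      rw [map_mul, map_mul, map_inv, hfZ z hz] at h1
      calc w * z * w⁻¹ = c⁻¹ * (f c * z * (f c)⁻¹) * c := by rw [hw]; group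
        _ = z := by rw [h1]; group
    · -- `y = f u`
      obtain ⟨u, hu, rfl⟩ : ∃ u ∈ Q, f u = y := by
        have hbij := (show Function.Injective (fun u : Q => (⟨f u, hfQ u u.2⟩ : Q)) from
          fun u u' h => Subtype.ext (f.injective (congrArg Subtype.val h))).bijective_of_nat_card_le le_rfl
        obtain ⟨⟨u, hu⟩, e⟩ := hbij.2 ⟨y, hy⟩
        exact ⟨u, hu, congrArg Subtype.val e⟩
      have e : w * f u * w⁻¹ = c⁻¹ * f (c * u * c⁻¹) * c := by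
        rw [map_mul, map_mul, map_inv, hw]; group
      rw [e]
      have hv := hfmod _ (hcQ u hu)
      have e2 : (f u)⁻¹ * (c⁻¹ * f (c * u * c⁻¹) * c) =
          (u⁻¹ * f u)⁻¹ * (c⁻¹ * ((c * u * c⁻¹)⁻¹ * f (c * u * c⁻¹)) * c) := by group
      rw [e2]
      exact mul_mem (inv_mem (hfmod u hu)) (hcZ _ hv)
  -- the displacement
  let ζ : G → G := fun y => y⁻¹ * f y
  have hζmul : ∀ y ∈ Q, ∀ y' ∈ Q, ζ (y * y') = ζ y * ζ y' := by
    intro y hy y' hy'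
    have e : y⁻¹ * f y * y' = y' * (y⁻¹ * f y) := S.central _ (hfmod y hy) y' hy'
    show (y * y')⁻¹ * f (y * y') = y⁻¹ * f y * (y'⁻¹ * f y')
    rw [map_mul]
    calc (y * y')⁻¹ * (f y * f y') = y'⁻¹ * (y⁻¹ * f y * y') * (y'⁻¹ * f y') := by group
      _ = _ := by rw [e]; group
  have hζZ : ∀ z ∈ S.Z, ζ z = 1 := fun z hz => by
    show z⁻¹ * f z = 1
    rw [hfZ z hz, inv_mul_cancel]
  have hζconj : ∀ c : G, c • a = a → c • β = β → ∀ y ∈ Q, ζ (c * y * c⁻¹) = c * ζ y * c⁻¹ := by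
    intro c hca hcb y hy
    show (c * y * c⁻¹)⁻¹ * f (c * y * c⁻¹) = c * (y⁻¹ * f y) * c⁻¹
    rw [map_mul, map_mul, map_inv, hfix c hca hcb]; group
  have hζmod : ∀ y ∈ Q, ∀ y' ∈ Q, y⁻¹ * y' ∈ S.Z → ζ y' = ζ y := fun y hy y' hy' h => by
    have := hζmul y hy _ (S.Z_le h)
    rwa [mul_inv_cancel_left, hζZ _ h, mul_one] at this
  suffices hall : ∀ y ∈ Q, ζ y = 1 from (inv_mul_eq_one.1 (hall x hx)).symm
  rcases hcard with h2 | h3
  · -- `q ^ 2`: the displacement would make squaring additive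
    intro x₀ hx₀
    by_contra hne
    have hna := S.not_comm_of_sq h2
    have hx₀Z : x₀ ∉ S.Z := fun h => hne (hζZ _ h)
    have hsq₀ : x₀ * x₀ ≠ 1 := fun h => hx₀Z ((S.mem_Z _).2 ⟨hx₀, h⟩)
    obtain ⟨k₀, hk₀, hk₀e⟩ := S.trans _ (hfmod x₀ hx₀) hne _ (S.sq_mem_Z hna x₀ hx₀) hsq₀
    have key : ∀ y ∈ Q, y * y = k₀⁻¹ * ζ y * k₀ := by
      intro y hy
      by_cases hyZ : y ∈ S.Z
      · rw [hζZ y hyZ, S.Z_sq hyZ]; group
      obtain ⟨k, hk, hky⟩ := S.exists_K_coset h2 hx₀ hx₀Z hy hyZ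
      have hkx : k * x₀ * k⁻¹ ∈ Q := S.conj_Q hk hx₀
      have h1 : ζ y = ζ (k * x₀ * k⁻¹) := hζmod _ hkx y hy hky
      -- the conjugate `c` of `k` fixing `β`
      obtain ⟨hca, hcb⟩ := hqd k (S.K_le hk)
      have hmodq : ∀ v ∈ Q, ζ (q * v * q⁻¹) = ζ v := fun v hv => by
        refine hζmod v hv _ (mul_mem (mul_mem hq hv) (inv_mem hq)) ?_
        rw [show v⁻¹ * (q * v * q⁻¹) = v⁻¹ * q * v⁻¹⁻¹ * q⁻¹ by group]
        exact S.comm_mem_Z hna (inv_mem hv) hq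
      have hxq : q⁻¹ * x₀ * q ∈ Q := mul_mem (mul_mem (inv_mem hq) hx₀) hq
      have h2' : ζ (k * x₀ * k⁻¹) = k * ζ x₀ * k⁻¹ := by
        have e1 : ζ (k * (q⁻¹ * x₀ * q) * k⁻¹) = k * ζ x₀ * k⁻¹ := by
          rw [← hmodq _ (S.conj_Q hk hxq),
            show q * (k * (q⁻¹ * x₀ * q) * k⁻¹) * q⁻¹ = q * k * q⁻¹ * x₀ * (q * k * q⁻¹)⁻¹ by group,
            hζconj _ hca hcb x₀ hx₀,
            show q * k * q⁻¹ * ζ x₀ * (q * k * q⁻¹)⁻¹ = q * (k * (q⁻¹ * ζ x₀ * q) * k⁻¹) * q⁻¹ by group]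
          have hz : q⁻¹ * ζ x₀ * q = ζ x₀ := by
            rw [mul_assoc, S.central _ (hfmod x₀ hx₀) q hq, inv_mul_cancel_left]
          rw [hz, hqZ _ (S.conj_Z hk (hfmod x₀ hx₀))]
        refine (hζmod _ (S.conj_Q hk hxq) _ hkx ?_).trans e1
        rw [show (k * (q⁻¹ * x₀ * q) * k⁻¹)⁻¹ * (k * x₀ * k⁻¹) =
          k * (q⁻¹ * x₀⁻¹ * q⁻¹⁻¹ * x₀⁻¹⁻¹) * k⁻¹ by group]
        exact S.conj_Z hk (S.comm_mem_Z hna (inv_mem hq) (inv_mem hx₀))
      have h3' : y * y = k * (x₀ * x₀) * k⁻¹ := by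
        have := S.sq_mul_Z hkx hky
        rw [mul_inv_cancel_left] at this
        rw [this]; group
      rw [h3', h1, h2', ← hk₀e]
      have hc : k * k₀⁻¹ = k₀⁻¹ * k := S.K_comm hk (inv_mem hk₀)
      calc k * (k₀⁻¹ * ζ x₀ * k₀) * k⁻¹ = (k * k₀⁻¹) * ζ x₀ * (k * k₀⁻¹)⁻¹ := by group
        _ = (k₀⁻¹ * k) * ζ x₀ * (k₀⁻¹ * k)⁻¹ := by rw [hc]
        _ = _ := by group
    obtain ⟨y, hy, y', hy', hcm⟩ := hna
    refine hcm ?_
    have h := key _ (mul_mem hy hy')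
    rw [hζmul y hy y' hy', show k₀⁻¹ * (ζ y * ζ y') * k₀ = (k₀⁻¹ * ζ y * k₀) * (k₀⁻¹ * ζ y' * k₀) by group,
      ← key y hy, ← key y' hy'] at h
    have h' : y * (y' * y) * y' = y * (y * y') * y' := by simpa [mul_assoc] using h
    exact (mul_left_cancel (mul_right_cancel h')).symm
  · -- `q ^ 3`: an element centralising `Z` moves all cosets
    intro y hy
    have hna := S.not_comm_of_cube h3
    obtain ⟨c₀, hc₀, hc₀1, hc₀Z⟩ := S.exists_centralizes_Z h3 hna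
    obtain ⟨hca, hcb⟩ := hqd c₀ hc₀
    set c := q * c₀ * q⁻¹ with hc
    have hcQ : ∀ v ∈ Q, c * v * c⁻¹ ∈ Q := fun v hv => S.setup.conj_mem c hca v hv
    have hcZ : ∀ z ∈ S.Z, c * z * c⁻¹ = z := fun z hz => by
      have h1 : c₀ * z * c₀⁻¹ = z := by rw [hc₀Z z hz, mul_inv_cancel_right]
      calc c * z * c⁻¹ = q * (c₀ * (q⁻¹ * (q * z * q⁻¹) * q) * c₀⁻¹) * q⁻¹ := by
            rw [hqZ z hz, hc]; group
        _ = q * (c₀ * z * c₀⁻¹) * q⁻¹ := by group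
        _ = z := by rw [h1, hqZ z hz]
    have hfpf : ∀ v ∈ Q, v⁻¹ * (c * v * c⁻¹) ∈ S.Z → v ∈ S.Z := by
      intro v hv h
      set v' := q⁻¹ * v * q with hv'
      have hv'Q : v' ∈ Q := mul_mem (mul_mem (inv_mem hq) hv) hq
      have h1 : v' ∈ S.Z := by
        refine fpf_of_centralizes_Z S h3 hna hc₀ hc₀Z hc₀1 hv'Q ?_
        rw [show (c₀ * v' * c₀⁻¹)⁻¹ * v' = q⁻¹ * (v⁻¹ * (c * v * c⁻¹))⁻¹ * q by
          rw [hv', hc]; group, mul_assoc, S.central _ (inv_mem h) q hq, inv_mul_cancel_left]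
        exact inv_mem h
      have h2 := hqZ _ h1
      rw [hv', show q * (q⁻¹ * v * q) * q⁻¹ = v by group] at h2
      exact h2 ▸ h1
    set N := S.Z.subgroupOf Q with hN
    let F : ↥Q ⧸ N → ↥Q ⧸ N := fun o =>
      QuotientGroup.mk ⟨(o.out : G)⁻¹ * (c * o.out * c⁻¹), mul_mem (inv_mem o.out.2) (hcQ _ o.out.2)⟩
    have hF : Function.Injective F := by
      intro o o' h
      have h1 : ((o.out : G)⁻¹ * (c * o.out * c⁻¹))⁻¹ * ((o'.out : G)⁻¹ * (c * o'.out * c⁻¹)) ∈ S.Z :=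
        (Subgroup.mem_subgroupOf).1 (QuotientGroup.eq.1 h)
      rw [← o.out_eq', ← o'.out_eq', QuotientGroup.eq, Subgroup.mem_subgroupOf]
      refine hfpf _ (mul_mem (inv_mem o.out.2) o'.out.2) ?_
      set u := (o.out : G) with hu
      set u' := (o'.out : G) with hu'
      have hQu : u ∈ Q := o.out.2
      have hQu' : u' ∈ Q := o'.out.2
      show (u⁻¹ * u')⁻¹ * (c * (u⁻¹ * u') * c⁻¹) ∈ S.Z
      rw [show (u⁻¹ * u')⁻¹ * (c * (u⁻¹ * u') * c⁻¹) =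
        (u'⁻¹ * u * (c * u * c⁻¹)⁻¹ * u') * (u'⁻¹ * (c * u' * c⁻¹)) by group]
      set p := u⁻¹ * (c * u * c⁻¹) with hp
      set p' := u'⁻¹ * (c * u' * c⁻¹) with hp'
      have hpQ : p ∈ Q := mul_mem (inv_mem hQu) (hcQ u hQu)
      rw [show u'⁻¹ * u * (c * u * c⁻¹)⁻¹ * u' * p' =
        (u'⁻¹ * (u * p⁻¹ * u⁻¹ * p⁻¹⁻¹) * u') * (u'⁻¹ * p⁻¹ * u'⁻¹⁻¹ * p⁻¹⁻¹) * (p⁻¹ * p') by
          rw [hp]; group]
      refine mul_mem (mul_mem ?_ (S.comm_mem_Z hna (inv_mem hQu') (inv_mem hpQ))) h1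
      have := S.comm_mem_Z hna hQu (inv_mem hpQ)
      rwa [mul_assoc, S.central _ this u' hQu', inv_mul_cancel_left]
    obtain ⟨o, ho⟩ := hF.bijective_of_nat_card_le le_rfl |>.2 (QuotientGroup.mk ⟨y, hy⟩)
    have h1 : ((o.out : G)⁻¹ * (c * o.out * c⁻¹))⁻¹ * y ∈ S.Z :=
      (Subgroup.mem_subgroupOf).1 (QuotientGroup.eq.1 ho)
    have hu : (o.out : G) ∈ Q := o.out.2
    have hcu := hcQ _ hu
    rw [hζmod _ (mul_mem (inv_mem hu) hcu) y hy h1, hζmul _ (inv_mem hu) _ hcu,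
      hζconj c hca hcb _ hu, hcZ _ (hfmod _ hu)]
    rw [← hζmul _ (inv_mem hu) _ hu, inv_mul_cancel]
    exact hζZ 1 (one_mem _)

end Data

end CfsgLib.Recog.RankOneSuzuki
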