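import Cfsg.Agent.Criterion.TypeUnitary

/-!
# The strong embedding criterion: two-groups of automorphisms of a kernel of order `q ^ 3`

Modulo `Z` a two-group of automorphisms acts through a cyclic group of field automorphisms: it is
abelian with cyclic image, a non-trivial element fixes at most `q` cosets, an element centralising `Z`
has order at most two, and fewer than `q` maps are induced on `Z`.
-/

set_option autoImplicit false
set_option linter.style.haveILetI false
set_option linter.unusedSectionVars false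

namespace CfsgLib.Recog.RankOneSuzuki

open MulAction CfsgLib.Recog.RankOne CfsgLib.Unitary CfsgLib.AutPSU CfsgLib.Forms

/-- A field automorphism other than the identity fixes at most `√|K|` elements. -/
theorem card_fix_sq_le {K : Type*} [Field K] [Finite K] (σ : K ≃+* K) (hσ : σ ≠ 1) :
    Nat.card {x : K // σ x = x} ^ 2 ≤ Nat.card K := by
  obtain ⟨y, hy⟩ : ∃ y, σ y ≠ y := by
    by_contra h
    push Not at h
    exact hσ (RingEquiv.ext h)
  rw [pow_two, ← Nat.card_prod]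
  refine Nat.card_le_card_of_injective (fun p => p.1.1 + p.2.1 * y) fun p p' h => ?_
  have h' : p.1.1 + p.2.1 * y = p'.1.1 + p'.2.1 * y := h
  have h2 : p.2.1 = p'.2.1 := by
    by_contra hne
    have hy' : y = (p'.1.1 - p.1.1) / (p.2.1 - p'.2.1) := by
      rw [eq_div_iff (sub_ne_zero.2 hne)]; linear_combination h'
    refine hy ?_
    rw [hy', map_div₀, map_sub, map_sub, p.1.2, p'.1.2, p.2.2, p'.2.2]
  refine Prod.ext (Subtype.ext ?_) (Subtype.ext h2)
  rw [h2] at h'
  exact add_right_cancel h'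

variable {G Ω : Type*} [Group G] [MulAction G Ω] {a : Ω} {t : G} {Q : Subgroup G}

namespace UCoord

variable {S : Data a t Q} {K : Type} [Field K] (U : UCoord S K) [Finite K] [CharP K 2]

include U

theorem exists_pow_two : ∃ n, 1 ≤ n ∧ Nat.card S.Z = 2 ^ n := by
  haveI := Fintype.ofFinite K
  obtain ⟨k, -, hk⟩ := FiniteField.card K 2
  have h : Nat.card S.Z ∣ 2 ^ (k : ℕ) := by
    rw [← hk, ← Nat.card_eq_fintype_card, U.card, pow_two]
    exact dvd_mul_right _ _
  obtain ⟨n, -, hn⟩ := (Nat.dvd_prime_pow Nat.prime_two).1 h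
  refine ⟨n, ?_, hn⟩
  by_contra h0
  have := Finite.one_lt_card (α := K)
  rw [U.card, hn, show n = 0 by omega] at this
  simp at this

/-- **A two-group of automorphisms modulo `Z`** acts by a homomorphism to the field automorphisms, which
determines it modulo `Z`. -/
theorem exists_aut_hom {W : Type*} [Group W] (hW : IsPGroup 2 W) (al : W → MulAut ↥Q)
    (hal : ∀ g h x, (((al (g * h) x)⁻¹ * al g (al h x) : ↥Q) : G) ∈ S.Z) :
    ∃ (c : W → K) (σ : W →* RingAut K), (∀ g, c g ≠ 0) ∧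
      (∀ g (x : ↥Q), U.w (al g x) = c g * σ g (U.w x)) ∧
      (∀ g (x : ↥Q), (x : G) ∈ S.Z → U.z (al g x) = c g ^ (Nat.card S.Z + 1) * σ g (U.z x)) ∧
      (∀ g h, c (g * h) = c g * σ g (c h)) ∧ ∀ g h, σ g = σ h → c g = c h := by
  choose c σ hw hz using fun g => U.exists_semilinear (al g).toMonoidHom (al g).injective
  have hw' : ∀ g (x : ↥Q), U.w (al g x) = c g * σ g (U.w x) := hw
  have hcomp : ∀ g h (e : K), (c (g * h) : K) * σ (g * h) e = c g * σ g (c h) * σ g (σ h e) := by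
    intro g h e
    obtain ⟨y, hy, rfl⟩ := U.w_surj e
    rw [← hw' (g * h) ⟨y, hy⟩, (U.w_eq (al _ _).2 (al _ _).2).2 (hal g h ⟨y, hy⟩), hw', hw', map_mul,
      mul_assoc]
  have hc : ∀ g h, (c (g * h) : K) = c g * σ g (c h) := fun g h => by simpa using hcomp g h 1
  have hσmul : ∀ g h, σ (g * h) = σ g * σ h := fun g h => RingEquiv.ext fun e => by
    have := hcomp g h e
    rw [← hc] at this
    exact mul_left_cancel₀ (c (g * h)).ne_zero this
  let σh : W →* RingAut K := MonoidHom.mk' (fun g => σ g) hσmul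
  have hc1 : (c 1 : K) = 1 := by
    have h1 := hc 1 1
    have h0 : σ 1 = 1 := map_one σh
    rw [mul_one, h0] at h1
    exact ((mul_eq_left₀ (c 1).ne_zero).1 h1.symm)
  have hker : ∀ g, σ g = 1 → (c g : K) = 1 := by
    intro g hg
    have hpow : ∀ k : ℕ, (c (g ^ k) : K) = (c g : K) ^ k := by
      intro k
      induction k with
      | zero => rw [pow_zero, pow_zero, hc1]
      | succ k ih => rw [pow_succ', hc, hg, pow_succ']; exact congrArg _ ih
    obtain ⟨k, hk⟩ := hW g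
    have h2 : (c g : K) ^ 2 ^ k = 1 := by rw [← hpow, hk, hc1]
    haveI : ExpChar K 2 := ExpChar.prime Nat.prime_two
    exact iterateFrobenius_inj K 2 k (by rw [iterateFrobenius_def, iterateFrobenius_def, h2, one_pow])
  refine ⟨fun g => c g, σh, fun g => (c g).ne_zero, hw', hz, hc, fun g h hgh => ?_⟩
  have h1 : σh (g⁻¹ * h) = 1 := by rw [map_mul, map_inv, hgh, inv_mul_cancel]
  have h2 := hc g (g⁻¹ * h)
  rw [mul_inv_cancel_left, hker _ h1, map_one, mul_one] at h2
  exact h2.symm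

end UCoord

namespace Data

variable (S : Data a t Q) [Finite G] [FaithfulSMul G Ω]

/-- (i) Modulo `Z` a two-group of automorphisms is abelian. -/
theorem aut_two_comm (hQ : Nat.card Q = Nat.card S.Z ^ 3) (hna : ∃ x ∈ Q, ∃ y ∈ Q, x * y ≠ y * x)
    {W : Type*} [Group W] (hW : IsPGroup 2 W) (al : W → MulAut ↥Q)
    (hal : ∀ g h x, (((al (g * h) x)⁻¹ * al g (al h x) : ↥Q) : G) ∈ S.Z) (g h : W) (x : ↥Q) :
    (((al g (al h x))⁻¹ * al h (al g x) : ↥Q) : G) ∈ S.Z := by
  obtain ⟨K, _, _, _, ⟨U⟩⟩ := S.exists_ucoord hQ hna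
  obtain ⟨c, σ, -, hw, -, hc, hinj⟩ := U.exists_aut_hom hW al hal
  haveI := Fintype.ofFinite K
  obtain ⟨n, hn, hq⟩ := U.exists_pow_two
  have hcomm : σ (g * h) = σ (h * g) := by
    rw [map_mul, map_mul]
    exact Recog.RankOneSuzuki.ringAut_comm _ _
  refine (U.w_eq (al g (al h x)).2 (al h (al g x)).2).1 ?_
  rw [hw, hw, hw, hw, map_mul, map_mul, ← mul_assoc, ← hc, ← mul_assoc, ← hc, hinj _ _ hcomm]
  congr 1
  exact DFunLike.congr_fun ((map_mul σ g h).symm.trans (hcomm.trans (map_mul σ h g))) _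

/-- (ii) Modulo `Z` a two-group of automorphisms is cyclic. -/
theorem aut_two_cyclic (hQ : Nat.card Q = Nat.card S.Z ^ 3) (hna : ∃ x ∈ Q, ∃ y ∈ Q, x * y ≠ y * x)
    {W : Type*} [Group W] (hW : IsPGroup 2 W) (al : W → MulAut ↥Q)
    (hal : ∀ g h x, (((al (g * h) x)⁻¹ * al g (al h x) : ↥Q) : G) ∈ S.Z) :
    ∃ g₀ : W, ∀ g, ∃ k : ℕ, ∀ x, (((al g x)⁻¹ * al (g₀ ^ k) x : ↥Q) : G) ∈ S.Z := by
  obtain ⟨K, _, _, _, ⟨U⟩⟩ := S.exists_ucoord hQ hna
  obtain ⟨c, σ, -, hw, -, -, hinj⟩ := U.exists_aut_hom hW al hal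
  obtain ⟨n, hn, hq⟩ := U.exists_pow_two
  obtain ⟨φ, hφ, -⟩ := CfsgLib.AutPOm.exists_frob (F := K) (p := 2) (f := 2 * n) (by omega)
    (by rw [U.card, hq, ← pow_mul, mul_comm])
  haveI := Fintype.ofFinite K
  letI : Algebra (ZMod 2) K := ZMod.algebra K 2
  haveI : IsCyclic (RingAut K) := by
    haveI : Finite (RingAut K) := Finite.of_injective _ (DFunLike.coe_injective (F := RingAut K))
    refine isCyclic_of_orderOf_eq_card φ ?_
    rw [hφ, Recog.FieldSpan.card_aut]
    refine Nat.pow_right_injective le_rfl ?_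
    show 2 ^ (2 * n) = 2 ^ Module.finrank (ZMod 2) K
    have h1 := Module.natCard_eq_pow_finrank (K := ZMod 2) (V := K)
    rw [U.card, hq, ← pow_mul, Nat.card_zmod, mul_comm] at h1
    exact h1
  obtain ⟨⟨s, hs⟩, hgen⟩ := IsCyclic.exists_generator (α := σ.range)
  obtain ⟨g₀, rfl⟩ := hs
  refine ⟨g₀, fun g => ?_⟩
  haveI : Finite σ.range := Finite.of_injective _ (fun x y h => Subtype.ext (DFunLike.coe_injective h) :
    Function.Injective fun x : σ.range => ((x : RingAut K) : K → K))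
  obtain ⟨k, hk⟩ := (isOfFinOrder_of_finite _).mem_powers_iff_mem_zpowers.2 (hgen ⟨σ g, g, rfl⟩)
  have hk' : σ (g₀ ^ k) = σ g := by
    rw [map_pow]; exact congrArg Subtype.val hk
  exact ⟨k, fun x => (U.w_eq (al _ _).2 (al _ _).2).1 (by rw [hw, hw, hk', hinj _ _ hk'])⟩

/-- (iii) A non-trivial automorphism fixes at most `q` cosets. -/
theorem aut_two_card_fixed (hQ : Nat.card Q = Nat.card S.Z ^ 3)
    (hna : ∃ x ∈ Q, ∃ y ∈ Q, x * y ≠ y * x)
    {W : Type*} [Group W] (hW : IsPGroup 2 W) (al : W → MulAut ↥Q)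
    (hal : ∀ g h x, (((al (g * h) x)⁻¹ * al g (al h x) : ↥Q) : G) ∈ S.Z) {g : W}
    (hg : ∃ x, (((al g x)⁻¹ * x : ↥Q) : G) ∉ S.Z) :
    Nat.card {x : ↥Q // (((al g x)⁻¹ * x : ↥Q) : G) ∈ S.Z} ≤ Nat.card S.Z ^ 2 := by
  classical
  obtain ⟨K, _, _, _, ⟨U⟩⟩ := S.exists_ucoord hQ hna
  obtain ⟨c, σ, hc0, hw, -, hc, hinj⟩ := U.exists_aut_hom hW al hal
  have hσ : σ g ≠ 1 := by
    intro h
    obtain ⟨x, hx⟩ := hg
    refine hx ((U.w_eq (al g x).2 x.2).1 ?_)
    have h1 : σ 1 = σ g := by rw [h, map_one]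
    have h2 := hinj _ _ h1
    have hone : c 1 = 1 := by
      have := hc 1 1
      rw [mul_one, map_one, RingAut.one_apply] at this
      exact (mul_eq_left₀ (hc0 1)).1 this.symm
    rw [hw, ← h2, hone, h, one_mul, RingAut.one_apply]
  -- the fixed vectors
  have hfix : Nat.card {e : K // c g * σ g e = e} ≤ Nat.card S.Z := by
    by_cases hne : ∃ e : K, e ≠ 0 ∧ c g * σ g e = e
    · obtain ⟨e₀, he0, he⟩ := hne
      have h1 : Nat.card {e : K // c g * σ g e = e} ≤ Nat.card {x : K // σ g x = x} := by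
        refine Nat.card_le_card_of_injective (fun e => ⟨e.1 / e₀, ?_⟩) fun e e' h => Subtype.ext
          ((div_left_inj' he0).1 (congrArg Subtype.val h))
        have hs : σ g e₀ = e₀ / c g := by rw [eq_div_iff (hc0 g), mul_comm, he]
        have hs' : σ g e.1 = e.1 / c g := by rw [eq_div_iff (hc0 g), mul_comm, e.2]
        rw [map_div₀, hs, hs', div_div_div_cancel_right₀ (hc0 g)]
      have h2 := card_fix_sq_le (σ g) hσ
      rw [U.card] at h2
      exact h1.trans ((Nat.pow_le_pow_iff_left two_ne_zero).1 h2)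
    · push Not at hne
      haveI : Subsingleton {e : K // c g * σ g e = e} := ⟨fun e e' => Subtype.ext (by
        rw [by_contra fun h => hne e.1 h e.2, by_contra fun h => hne e'.1 h e'.2])⟩
      exact (Finite.card_le_one_iff_subsingleton.2 inferInstance).trans Nat.card_pos
  choose s hs using U.w_surj
  refine le_trans (Nat.card_le_card_of_injective
    (β := {e : K // c g * σ g e = e} × S.Z)
    (fun x => (⟨U.w x.1, by rw [← hw]; exact (U.w_eq (al g x.1).2 x.1.2).2 x.2⟩,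
      ⟨(s (U.w x.1))⁻¹ * x.1, (U.w_eq (hs _).1 x.1.2).1 (hs _).2⟩)) fun x y h => ?_) ?_
  · obtain ⟨h1, h2⟩ := Prod.mk.injEq .. ▸ h
    have h1' : U.w x.1 = U.w y.1 := congrArg Subtype.val h1
    have h2' : (s (U.w x.1))⁻¹ * (x.1 : G) = (s (U.w y.1))⁻¹ * y.1 := congrArg Subtype.val h2
    rw [h1'] at h2'
    exact Subtype.ext (Subtype.ext (mul_left_cancel h2'))
  · rw [Nat.card_prod, pow_two]
    exact Nat.mul_le_mul_right _ hfix

/-- (iv) An element centralising `Z` acts modulo `Z` with order at most two. -/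
theorem aut_two_sq (hQ : Nat.card Q = Nat.card S.Z ^ 3) (hna : ∃ x ∈ Q, ∃ y ∈ Q, x * y ≠ y * x)
    {W : Type*} [Group W] (hW : IsPGroup 2 W) (al : W → MulAut ↥Q)
    (hal : ∀ g h x, (((al (g * h) x)⁻¹ * al g (al h x) : ↥Q) : G) ∈ S.Z) {g : W}
    (hg : ∀ x : ↥Q, (x : G) ∈ S.Z → al g x = x) (x : ↥Q) :
    (((al (g * g) x)⁻¹ * x : ↥Q) : G) ∈ S.Z := by
  obtain ⟨K, _, _, _, ⟨U⟩⟩ := S.exists_ucoord hQ hna
  obtain ⟨c, σ, hc0, hw, hz, hc, hinj⟩ := U.exists_aut_hom hW al hal
  have hfixz : ∀ e, e ^ Nat.card S.Z = e → c g ^ (Nat.card S.Z + 1) * σ g e = e := fun e he => by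
    obtain ⟨y, hy, rfl⟩ := U.z_surj e he
    have := hz g ⟨y, S.Z_le hy⟩ hy
    rw [hg ⟨y, S.Z_le hy⟩ hy] at this
    exact this.symm
  have hN := hfixz 1 (one_pow _)
  rw [map_one, mul_one] at hN
  have hσfix : ∀ e, e ^ Nat.card S.Z = e → σ g e = e := fun e he => by
    have := hfixz e he; rwa [hN, one_mul] at this
  have hσ2 : σ (g * g) = σ 1 := by
    rw [map_mul, map_one]
    refine RingEquiv.ext fun e => ?_
    show σ g (σ g e) = e
    rcases eq_or_eq_frob_of_fix U.card (σ g) hσfix e with h | h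
    · rw [h, h]
    rcases eq_or_eq_frob_of_fix U.card (σ g) hσfix (σ g e) with h' | h'
    · rw [h']; exact (σ g).injective h'
    · rw [h', h, pow_q_q U.card]
  refine (U.w_eq (al _ _).2 x.2).1 ?_
  rw [hw, hinj _ _ hσ2, hσ2]
  have hone : c 1 = 1 := by
    have := hc 1 1
    rw [mul_one, map_one, RingAut.one_apply] at this
    exact (mul_eq_left₀ (hc0 1)).1 this.symm
  rw [hone, one_mul, map_one, RingAut.one_apply]

/-- (v) Fewer than `q` maps are induced on `Z`. -/
theorem aut_two_card_range (hQ : Nat.card Q = Nat.card S.Z ^ 3)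
    (hna : ∃ x ∈ Q, ∃ y ∈ Q, x * y ≠ y * x)
    {W : Type*} [Group W] (hW : IsPGroup 2 W) (al : W → MulAut ↥Q)
    (hal : ∀ g h x, (((al (g * h) x)⁻¹ * al g (al h x) : ↥Q) : G) ∈ S.Z) :
    Nat.card (Set.range fun g => fun z : S.Z => ((al g ⟨z, S.Z_le z.2⟩ : ↥Q) : G)) <
      Nat.card S.Z := by
  classical
  obtain ⟨K, _, _, _, ⟨U⟩⟩ := S.exists_ucoord hQ hna
  obtain ⟨c, σ, hc0, hw, hz, hc, hinj⟩ := U.exists_aut_hom hW al hal
  obtain ⟨n, hn, hq⟩ := U.exists_pow_two
  obtain ⟨φ, hφ, hφp⟩ := CfsgLib.AutPOm.exists_frob (F := K) (p := 2) (f := 2 * n) (by omega)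
    (by rw [U.card, hq, ← pow_mul, mul_comm])
  haveI := Fintype.ofFinite K
  letI : Algebra (ZMod 2) K := ZMod.algebra K 2
  haveI : Finite (RingAut K) := Finite.of_injective _ (DFunLike.coe_injective (F := RingAut K))
  have hpow : ∀ τ : RingAut K, ∃ r : Fin n, ∀ e, e ^ Nat.card S.Z = e → τ e = (φ ^ (r : ℕ)) e := by
    intro τ
    have hgen : ∀ x : RingAut K, x ∈ Subgroup.zpowers φ := by
      have htop : Subgroup.zpowers φ = ⊤ := Subgroup.eq_top_of_card_eq _ (by
        rw [Nat.card_zpowers, hφ, Recog.FieldSpan.card_aut]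
        refine Nat.pow_right_injective le_rfl ?_
        show 2 ^ (2 * n) = 2 ^ Module.finrank (ZMod 2) K
        have h1 := Module.natCard_eq_pow_finrank (K := ZMod 2) (V := K)
        rw [U.card, hq, ← pow_mul, Nat.card_zmod, mul_comm] at h1
        exact h1)
      intro x; rw [htop]; exact Subgroup.mem_top x
    obtain ⟨k, rfl⟩ := (isOfFinOrder_of_finite φ).mem_powers_iff_mem_zpowers.2 (hgen τ)
    refine ⟨⟨k % n, Nat.mod_lt _ hn⟩, fun e he => ?_⟩
    have hj : ∀ j : ℕ, (φ ^ (n * j)) e = e := by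
      intro j
      induction j with
      | zero => simp
      | succ j ih =>
        rw [Nat.mul_succ, pow_add]
        show (φ ^ (n * j)) ((φ ^ n) e) = e
        rw [hφp n e, ← hq, he, ih]
    show (φ ^ k) e = _
    conv_lhs => rw [← Nat.mod_add_div k n, pow_add]
    show (φ ^ (k % n)) ((φ ^ (n * (k / n))) e) = _
    rw [hj]
  choose r hr using hpow
  refine lt_of_le_of_lt (b := n) ?_ (hq ▸ Nat.lt_two_pow_self)
  rw [← Nat.card_fin n]
  refine Nat.card_le_card_of_injective (fun f => r (σ f.2.choose)) fun f f' h => Subtype.ext ?_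
  rw [← f.2.choose_spec, ← f'.2.choose_spec]
  set g := f.2.choose
  set g' := f'.2.choose
  have hfix : ∀ e, e ^ Nat.card S.Z = e → σ g e = σ g' e := fun e he => by
    rw [hr (σ g) e he, hr (σ g') e he, show r (σ g) = r (σ g') from h]
  set u := g⁻¹ * g'
  have hu : g' = g * u := (mul_inv_cancel_left g g').symm
  have hufix : ∀ e, e ^ Nat.card S.Z = e → σ u e = e := fun e he => by
    refine (σ g).injective ?_
    rw [← RingAut.mul_apply, ← map_mul, ← hu, hfix e he]
  have hσ2 : σ (u * u) = σ 1 := by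
    rw [map_mul, map_one]
    refine RingEquiv.ext fun e => ?_
    show σ u (σ u e) = e
    rcases eq_or_eq_frob_of_fix U.card (σ u) hufix e with h | h
    · rw [h, h]
    rcases eq_or_eq_frob_of_fix U.card (σ u) hufix (σ u e) with h' | h'
    · rw [h']; exact (σ u).injective h'
    · rw [h', h, pow_q_q U.card]
  have hN : c u ^ (Nat.card S.Z + 1) = 1 := by
    have hone : c 1 = 1 := by
      have := hc 1 1
      rw [mul_one, map_one, RingAut.one_apply] at this
      exact (mul_eq_left₀ (hc0 1)).1 this.symm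
    have h1 := hc u u
    rw [hinj _ _ hσ2, hone] at h1
    rcases eq_or_eq_frob_of_fix U.card (σ u) hufix (c u) with h | h
    · rw [h] at h1
      have : c u = 1 := by
        have h2 : (c u + 1) * (c u + 1) = 0 := by
          linear_combination (c u + 1) * CharTwo.two_eq_zero (R := K) - h1
        exact CharTwo.add_eq_zero.1 (mul_self_eq_zero.1 h2)
      rw [this, one_pow]
    · rw [h] at h1
      rw [pow_succ']
      exact h1.symm
  funext z
  refine U.z_inj ((S.mem_Z _).2 ⟨(al g _).2, ?_⟩) ((S.mem_Z _).2 ⟨(al g' _).2, ?_⟩) ?_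
  · rw [← Subgroup.coe_mul, ← map_mul, show (⟨(z : G), S.Z_le z.2⟩ * ⟨(z : G), S.Z_le z.2⟩ : ↥Q) = 1
      from Subtype.ext (S.Z_sq z.2), map_one, Subgroup.coe_one]
  · rw [← Subgroup.coe_mul, ← map_mul, show (⟨(z : G), S.Z_le z.2⟩ * ⟨(z : G), S.Z_le z.2⟩ : ↥Q) = 1
      from Subtype.ext (S.Z_sq z.2), map_one, Subgroup.coe_one]
  rw [hz g _ z.2, hz g' _ z.2, hfix _ (U.z_fix _ z.2)]
  congr 1
  rw [hu, hc, mul_pow, ← map_pow, hN, map_one, mul_one]

end Data

end CfsgLib.Recog.RankOneSuzuki
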