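import Cfsg.Agent.Criterion.TypeReduce
import Cfsg.Agent.Criterion.TypeTrivialAut
import Cfsg.Agent.Criterion.TypeUnitaryAut

/-!
# The strong embedding criterion: elementary groups of the kernel's size meet the kernel

An elementary group of order at least four in the pair group centralising `E` induces on the rank one
quotient automorphisms trivial on `Z`; their action modulo `Z` is trivial for the Suzuki and cyclic
for the unitary type, so one of its involutions is trivial on `Q`, hence on all fixed points of `v`.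
-/

set_option autoImplicit false
set_option linter.style.haveILetI false
set_option linter.unusedSectionVars false

namespace CfsgLib.Criterion

open Subgroup CfsgLib.Invol CfsgLib.Bender CfsgLib.Recog

universe u

variable {G : Type u} [Group G] [Finite G]

namespace Ctx

variable (C : Ctx G)

/-- An element centralising `v` acts on its local group. -/
def conjL {v : G} (d : G) (hd : Commute d v) : MulAut ↥(C.L v) where
  toFun y := ⟨d * y * d⁻¹, C.conj_mem_L_of_commute hd y.2⟩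
  invFun y := ⟨d⁻¹ * y * d, by simpa using C.conj_mem_L_of_commute hd.inv_left y.2⟩
  left_inv y := Subtype.ext (show d⁻¹ * (d * (y : G) * d⁻¹) * d = y by group)
  right_inv y := Subtype.ext (show d * (d⁻¹ * (y : G) * d) * d⁻¹ = y by group)
  map_mul' x y := Subtype.ext
    (show d * ((x : G) * y) * d⁻¹ = d * (x : G) * d⁻¹ * (d * y * d⁻¹) by group)

namespace Kern

variable {C} {v : G} {a b : C.Pt} {D E R : Subgroup G} (K : C.Kern v a b D E R)
include K

set_option maxHeartbeats 1000000 in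
/-- **An elementary group of the size of the kernel meets it.** -/
theorem meet (htype : C.qn v a = Nat.card E ^ 2 ∨ C.qn v a = Nat.card E ^ 3) (A : Subgroup G)
    (hAD : A ≤ D) (hcard : Nat.card A = Nat.card R)
    (hA : ∀ x ∈ A, x * x = 1 ∧ ∀ e ∈ E, Commute x e) : ∃ x ∈ A, x ∈ R ∧ x ≠ 1 := by
  classical
  haveI : Fact (Nat.Prime 2) := ⟨Nat.prime_two⟩
  obtain ⟨Kst, hfa, T, w, S, hT, hZ, hK⟩ := K.bad.exists_setup C K.hp K.va K.isE
  haveI := hfa
  set π := QuotientGroup.mk' (Cfsg.oddCore ↥(C.L v)) with hπ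
  have hO' : Cfsg.oddCore ↥(C.L v) ≤ C.LH v a := K.bad.oddCore_le_LH C K.hp K.va
  have hKiff : ∀ y : ↥(C.L v), π y ∈ Kst ↔ (y : G) • a = a := fun y => by
    rw [hK, ← mem_comap, comap_map_eq_self (by rw [hπ, QuotientGroup.ker_mk']; exact hO'), C.mem_LH]
  have hinj : Function.Injective π := (injective_iff_map_eq_one π).2 fun y hy => by
    have h1 := (QuotientGroup.eq_one_iff _).1 hy
    rw [K.bad.oddCore_eq_fixKer C K.hp] at h1
    exact Subtype.ext (K.Om_one ⟨y, h1, rfl⟩)
  let e : ↥(C.L v) ≃* ↥(C.L v) ⧸ Cfsg.oddCore ↥(C.L v) :=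
    MulEquiv.ofBijective π ⟨hinj, QuotientGroup.mk'_surjective _⟩
  have heπ : ∀ y, e y = π y := fun _ => rfl
  have hes : ∀ g, π (e.symm g) = g := fun g => e.apply_symm_apply g
  let ι : (↥(C.L v) ⧸ Cfsg.oddCore ↥(C.L v)) ⧸ Kst :=
    ((1 : ↥(C.L v) ⧸ Cfsg.oddCore ↥(C.L v)) : (↥(C.L v) ⧸ Cfsg.oddCore ↥(C.L v)) ⧸ Kst)
  have hιiff : ∀ g, g • ι = ι ↔ ((e.symm g : ↥(C.L v)) : G) • a = a := fun g => by
    rw [← hKiff, hes]
    exact StrongEmbed.smul_mk_one_iff
  obtain ⟨l, hl, hlb⟩ := C.exists_mem_L_move K.bad K.va K.vb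
  set l' : ↥(C.L v) := ⟨l, hl⟩ with hl'
  set β := π l' • ι with hβ
  have hβne : β ≠ ι := fun h => by
    have h1 := (hιiff _).1 h
    rw [← heπ, e.symm_apply_apply] at h1
    exact K.ne (h1.symm.trans hlb)
  have hβiff : ∀ g, g • β = β ↔ ((e.symm g : ↥(C.L v)) : G) • b = b := fun g => by
    have h1 : g • β = β ↔ (π (l'⁻¹ * e.symm g * l')) • ι = ι := by
      rw [map_mul, map_mul, map_inv, hes, mul_smul, mul_smul, inv_smul_eq_iff]
    rw [h1, hιiff, ← heπ, e.symm_apply_apply]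
    show (l⁻¹ * ((e.symm g : ↥(C.L v)) : G) * l) • a = a ↔ _
    rw [mul_smul, mul_smul, hlb, inv_smul_eq_iff, hlb]
  -- 2-elements at `a` lie in `T`
  have hmemT : ∀ (y : ↥(C.L v)) (i : ℕ), (y : G) • a = a → y ^ 2 ^ i = 1 → π y ∈ T := by
    intro y i hya hy
    obtain ⟨q, hq, d, hd, e'⟩ := Recog.RankOne.exists_mul S.setup
      (StrongEmbed.smul_mk_one_iff.2 ((hKiff y).2 hya))
    obtain ⟨q', hq', e''⟩ := exists_mul_pow (T := T) (S.setup.conj_mem d hd.1) hq (2 ^ i)
    rw [← e', ← map_pow, hy, map_one] at e''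
    have h1 : d ^ 2 ^ i = 1 := by
      refine Recog.RankOne.eq_one_of_mem_D S.setup ?_ (pow_mem hd.2 _)
      rw [eq_inv_of_mul_eq_one_right e''.symm]
      exact inv_mem hq'
    rw [e', show d = 1 from Consumers.eq_one_of_two_of_odd
      (S.setup.odd_card.of_dvd_nat (Subgroup.orderOf_dvd_natCard _ hd)) h1, mul_one]
    exact hq
  obtain ⟨SR, hSR⟩ := K.bad.exists_reg C K.hp K.va
  have hT2 : IsPGroup 2 T := by
    obtain ⟨s, hs⟩ := IsPGroup.iff_card.1 hSR.two
    exact IsPGroup.of_card (n := s) (by rw [hT, ← K.bad.card_reg C K.va hSR, hs])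
  have hTfix : ∀ g ∈ T, ((e.symm g : ↥(C.L v)) : G) • a = a := fun g hg =>
    (hιiff g).1 (MulAction.mem_stabilizer_iff.1 (S.setup.le hg))
  -- the automorphism of an element of `A`
  have hdv : ∀ d : A, Commute (d : G) v := fun d => (K.maxPair.fix _ (hAD d.2)).2.2
  have hda : ∀ d : A, (d : G) • a = a := fun d => (K.maxPair.fix _ (hAD d.2)).1
  have hdb : ∀ d : A, (d : G) • b = b := fun d => (K.maxPair.fix _ (hAD d.2)).2.1
  let F : A → MulAut (↥(C.L v) ⧸ Cfsg.oddCore ↥(C.L v)) := fun d =>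
    (e.symm.trans (C.conjL (d : G) (hdv d))).trans e
  have hFval : ∀ (d : A) (g : ↥(C.L v) ⧸ Cfsg.oddCore ↥(C.L v)),
      ((e.symm (F d g) : ↥(C.L v)) : G) = d * ((e.symm g : ↥(C.L v)) : G) * (d : G)⁻¹ := fun d g => by
    show ((e.symm (e _) : ↥(C.L v)) : G) = _
    rw [e.symm_apply_apply]
    rfl
  have hFa : ∀ (d : A) g, g • ι = ι → F d g • ι = ι := fun d g hg => by
    rw [hιiff] at hg ⊢
    rw [hFval, mul_smul, mul_smul, inv_smul_eq_iff.2 (hda d).symm, hg, hda d]
  have hFb : ∀ (d : A) g, g • β = β → F d g • β = β := fun d g hg => by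
    rw [hβiff] at hg ⊢
    rw [hFval, mul_smul, mul_smul, inv_smul_eq_iff.2 (hdb d).symm, hg, hdb d]
  have hFT : ∀ (d : A), ∀ g ∈ T, F d g ∈ T := by
    intro d g hg
    obtain ⟨i, hi⟩ := hT2 ⟨g, hg⟩
    have h1 : (e.symm g) ^ 2 ^ i = 1 := by
      rw [← map_pow, show g ^ 2 ^ i = 1 from congrArg Subtype.val hi, map_one]
    have h := hmemT (e.symm (F d g)) i (by
      rw [hFval, mul_smul, mul_smul, inv_smul_eq_iff.2 (hda d).symm, hTfix g hg, hda d])
      (Subtype.ext (by
        rw [SubmonoidClass.coe_pow, hFval, conj_pow, ← SubmonoidClass.coe_pow, h1]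
        simp))
    rwa [hes] at h
  have hFZ : ∀ (d : A), ∀ z ∈ S.Z, F d z = z := by
    intro d z hz
    by_cases hz1 : z = 1
    · rw [hz1, map_one]
    set y := e.symm z with hy
    have hy2 : orderOf (y : G) = 2 := by
      rw [Subgroup.orderOf_coe, MulEquiv.orderOf_eq e.symm z]
      exact orderOf_eq_two (S.Z_sq hz) hz1
    have hyE : (y : G) ∈ E :=
      K.ea_mem_E (K.bad.mem_Ea C y.2 hy2 (hTfix z (S.Z_le hz)))
    refine e.symm.injective (Subtype.ext ?_)
    rw [hFval, ← hy, mul_inv_eq_iff_eq_mul.2 ((hA d d.2).2 _ hyE).eq]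
  have hFmul : ∀ (d d' : A) g, F (d * d') g = F d (F d' g) := fun d d' g => by
    refine e.symm.injective (Subtype.ext ?_)
    rw [hFval, hFval, hFval, Subgroup.coe_mul]
    group
  have hFone : ∀ g, F 1 g = g := fun g => by
    refine e.symm.injective (Subtype.ext ?_)
    rw [hFval, OneMemClass.coe_one]
    group
  have hdd : ∀ d : A, d * d = 1 := fun d => Subtype.ext (hA d d.2).1
  have hAbig : ∀ g₀ : A, ∃ d : A, d ≠ 1 ∧ d ≠ g₀ := by
    intro g₀
    by_contra hno
    push Not at hno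
    have hle : Nat.card A ≤ ({1, g₀} : Finset A).card := by
      rw [← Nat.card_eq_finsetCard]
      refine Nat.card_le_card_of_injective (fun z : A => (⟨z, ?_⟩ : ({1, g₀} : Finset A)))
        fun z z' h => congrArg (fun t : ({1, g₀} : Finset A) => (t : A)) h
      by_cases h1 : z = 1
      · simp [h1]
      · simp [hno z h1]
    have := K.big
    have := (Finset.card_le_two : ({1, g₀} : Finset A).card ≤ 2)
    omega
  -- one involution trivial modulo `Z`
  obtain ⟨d, hd1, hdmod⟩ : ∃ d : A, d ≠ 1 ∧ ∀ g ∈ T, g⁻¹ * F d g ∈ S.Z := by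
    rcases htype with h2 | h3
    · obtain ⟨d, hd, -⟩ := hAbig 1
      exact ⟨d, hd, fun g hg => S.mod_Z_of_fix (by rw [hT, hZ, h2]) (F d) (hFT d) (hFZ d) hg⟩
    · have hQ : Nat.card T = Nat.card S.Z ^ 3 := by rw [hT, hZ, h3]
      let al : A → MulAut ↥T := fun d =>
        { toFun := fun g => ⟨F d g, hFT d g g.2⟩
          invFun := fun g => ⟨F d g, hFT d g g.2⟩
          left_inv := fun g => Subtype.ext (show F d (F d g) = g by rw [← hFmul, hdd, hFone])
          right_inv := fun g => Subtype.ext (show F d (F d g) = g by rw [← hFmul, hdd, hFone])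
          map_mul' := fun g g' => Subtype.ext (show F d (g * g') = F d g * F d g' from map_mul _ _ _) }
      have hA2 : IsPGroup 2 A := fun x => ⟨1, by rw [pow_one, pow_two, hdd]⟩
      obtain ⟨g₀, hg₀⟩ := RankOneSuzuki.Data.aut_two_cyclic S hQ (S.not_comm_of_cube hQ) hA2 al
        (fun g h x => by
          show (F (g * h) x)⁻¹ * F g (F h x) ∈ S.Z
          rw [hFmul, inv_mul_cancel]
          exact one_mem _)
      have hmod : ∀ d : A, (∀ g ∈ T, g⁻¹ * F d g ∈ S.Z) ∨ ∀ g ∈ T, (F d g)⁻¹ * F g₀ g ∈ S.Z := by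
        intro d
        obtain ⟨k, hk⟩ := hg₀ d
        obtain ⟨m, rfl | rfl⟩ := Nat.even_or_odd' k
        · left
          intro g hg
          have h := hk ⟨g, hg⟩
          have hp : g₀ ^ (2 * m) = 1 := by rw [pow_mul, pow_two, hdd, one_pow]
          rw [hp] at h
          have h' : (F d g)⁻¹ * F 1 g ∈ S.Z := h
          rw [hFone] at h'
          simpa using inv_mem h'
        · right
          intro g hg
          have h := hk ⟨g, hg⟩
          have hp : g₀ ^ (2 * m + 1) = g₀ := by rw [pow_succ, pow_mul, pow_two, hdd, one_pow, one_mul]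
          rw [hp] at h
          exact h
      by_contra hno
      push Not at hno
      obtain ⟨d₁, hd₁, -⟩ := hAbig 1
      obtain ⟨d₂, hd₂, hd₂₁⟩ := hAbig d₁
      have h1 := (hmod d₁).resolve_left fun h => by
        obtain ⟨g, hg, hg'⟩ := hno d₁ hd₁; exact hg' (h g hg)
      have h2 := (hmod d₂).resolve_left fun h => by
        obtain ⟨g, hg, hg'⟩ := hno d₂ hd₂; exact hg' (h g hg)
      obtain ⟨g, hg, hg'⟩ := hno (d₁ * d₂) fun h => hd₂₁ (by
        rw [eq_inv_of_mul_eq_one_right h, inv_eq_of_mul_eq_one_right (hdd d₁)])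
      refine hg' ?_
      rw [hFmul]
      -- `F d₁ (F d₂ g) ≡ F g₀ (F d₂ g) ≡ g`
      have h3 := h1 _ (hFT d₂ g hg)
      have h4 : F g₀ ((F d₂ g)⁻¹ * F g₀ g) = (F d₂ g)⁻¹ * F g₀ g := hFZ g₀ _ (h2 g hg)
      have h5 : F g₀ (F g₀ g) = g := by rw [← hFmul, hdd, hFone]
      rw [map_mul, map_inv, h5] at h4
      rw [show g⁻¹ * F d₁ (F d₂ g) = ((F g₀ (F d₂ g))⁻¹ * g)⁻¹ *
        ((F d₁ (F d₂ g))⁻¹ * F g₀ (F d₂ g))⁻¹ by group]
      exact mul_mem (inv_mem (h4 ▸ h2 g hg)) (inv_mem h3)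
  -- it fixes all fixed points of `v`
  refine ⟨d, d.2, K.ker _ (hAD d.2) fun c hc => ?_, fun h => hd1 (Subtype.ext h)⟩
  by_cases hca : c = a
  · rw [hca, hda d]
  obtain ⟨s, hs, hsc⟩ := hSR.trans b c K.vb K.ne.symm hc hca
  obtain ⟨i, hi⟩ := hSR.two ⟨s, hs⟩
  have hsT := hmemT ⟨s, hSR.le hs⟩ i (hSR.fix s hs) (Subtype.ext (congrArg Subtype.val hi :))
  have hfix := RankOneSuzuki.Data.fix_Q_of_trivial S
    (htype.imp (fun h => by rw [hT, hZ, h]) fun h => by rw [hT, hZ, h]) (F d) hβne (hFa d) (hFb d)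
    (hFT d) (hFZ d) hdmod hsT
  have h1 : (d : G) * s * (d : G)⁻¹ = s := by
    have h := congrArg (fun g => ((e.symm g : ↥(C.L v)) : G)) hfix
    simp only [hFval, ← heπ, e.symm_apply_apply] at h
    exact h
  rw [← hsc, smul_smul, mul_inv_eq_iff_eq_mul.1 h1, mul_smul, hdb d]

end Kern

/-- The exclusion of the Suzuki and unitary types from the case of the kernel `⟨v⟩`. -/
theorem false_of_type_one (hgen : closure C.Z = ⊤)
    (hfaith : ∀ g : G, (∀ c : C.Pt, g • c = c) → g = 1)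
    (hone : ∀ (v : G) (b : C.Pt) (D E : Subgroup G), C.TypePair v b D E →
      (∀ g ∈ D, (∀ c : C.Pt, v • c = c → g • c = c) → g = 1 ∨ g = v) → False) :
    ∀ (v : G) (b : C.Pt) (D E : Subgroup G), C.Bad v → C.MaxPair v C.base b D →
      C.IsE v C.base E →
      (C.qn v C.base = Nat.card E ^ 2 ∨ C.qn v C.base = Nat.card E ^ 3) → False :=
  C.false_of_type_parts hgen hfaith hone fun _ _ _ _ _ hT K A hAD hcard hA =>
    K.meet hT.type A hAD hcard hA

end Ctx

end CfsgLib.Criterion
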