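import Cfsg.Agent.Criterion.TransferEnd

/-!
# The strong embedding criterion: the transfer end at fully centralised conjugates

In the transfer of an involution `g` to a Sylow 2-group `T` the conjugates `u` of `g` in `T` whose
centraliser in `T` is not a Sylow subgroup of their centraliser contribute an even number of equal
terms.  So a homomorphism on `T` need only be trivial on the central members of the class and
constant on the fully centralised conjugates of `v`.
-/

set_option autoImplicit false
set_option linter.style.haveILetI false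
set_option linter.unusedSectionVars false

namespace CfsgLib.Criterion

open Subgroup CfsgLib.Invol MulAction

universe u

variable {G : Type u} [Group G] [Finite G]

/-- The transfer of an involution when `φ` takes one value on its fully centralised conjugates. -/
theorem transfer_eq_of_full (T : Sylow 2 G) {A : Type*} [CommGroup A]
    (φ : ↥(T : Subgroup G) →* A) {g : G} (hg : g * g = 1) {c : A} (hc : c * c = 1)
    (hfull : ∀ u : ↥(T : Subgroup G), IsConj g u →
      Odd ((T : Subgroup G).relIndex (centralizer ({(u : G)} : Set G))) → φ u = c) :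
    MonoidHom.transfer φ g = c := by
  classical
  haveI : Fact (Nat.Prime 2) := ⟨Nat.prime_two⟩
  letI := (T : Subgroup G).fintypeQuotientOfFiniteIndex
  have hsq : ∀ x : ↥(T : Subgroup G), x * x = 1 → φ x * φ x = 1 := fun x hx => by
    rw [← map_mul, hx, map_one]
  have hmem : ∀ (g₀ : G), g • (QuotientGroup.mk g₀ : G ⧸ (T : Subgroup G)) = QuotientGroup.mk g₀ ↔
      g₀⁻¹ * g * g₀ ∈ (T : Subgroup G) := by
    intro g₀
    rw [Quotient.smul_mk, eq_comm, QuotientGroup.eq, smul_eq_mul, mul_assoc]
  -- the value at a fixed coset does not depend on the representative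
  let F : G ⧸ (T : Subgroup G) → A := fun q =>
    if h : q.out⁻¹ * g * q.out ∈ (T : Subgroup G) then φ ⟨_, h⟩ else 1
  have hF : ∀ (q : G ⧸ (T : Subgroup G)) (g₀ : G), QuotientGroup.mk g₀ = q →
      ∀ h : g₀⁻¹ * g * g₀ ∈ (T : Subgroup G), F q = φ ⟨_, h⟩ := by
    intro q g₀ hq h
    have h' : q.out⁻¹ * g * q.out ∈ (T : Subgroup G) :=
      (hmem q.out).1 (by rw [QuotientGroup.out_eq', ← hq]; exact (hmem g₀).2 h)
    obtain ⟨t, ht⟩ : ∃ t : ↥(T : Subgroup G), q.out = g₀ * t := by
      subst hq
      exact ⟨⟨g₀⁻¹ * _, QuotientGroup.eq.1 (QuotientGroup.out_eq' _).symm⟩, by simp⟩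
    show dite _ _ _ = _
    rw [dif_pos h', show (⟨q.out⁻¹ * g * q.out, h'⟩ : ↥(T : Subgroup G)) = t⁻¹ * ⟨_, h⟩ * t from
      Subtype.ext (by rw [coe_mul, coe_mul, coe_inv]; simp only [ht]; group),
      map_mul, map_mul, map_inv, mul_comm (φ t)⁻¹, inv_mul_cancel_right]
  have hF1 : ∀ q : G ⧸ (T : Subgroup G), g • q ≠ q → F q = 1 := fun q hq =>
    dif_neg fun h => hq (by rw [← QuotientGroup.out_eq' q]; exact (hmem _).2 h)
  -- the transfer is the product of the values at the fixed cosets
  have h1 : MonoidHom.transfer φ g = ∏ q, F q := by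
    rw [MonoidHom.transfer_eq_prod_quotient_orbitRel_zpowers_quot,
      ← Equiv.prod_comp (selfEquivSigmaOrbits (zpowers g) (G ⧸ (T : Subgroup G))).symm F,
      Fintype.prod_sigma]
    refine Finset.prod_congr rfl fun o _ => ?_
    by_cases hfix : g • o.out = o.out
    · have hone : Function.minimalPeriod (g • ·) o.out = 1 :=
        Function.minimalPeriod_eq_one_iff_isFixedPt.2 hfix
      have horb : ∀ x : orbit (zpowers g) o.out, (x : G ⧸ (T : Subgroup G)) = o.out := by
        rintro ⟨_, ⟨k, hk⟩, rfl⟩
        exact MulAction.mem_stabilizer_iff.1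
          (zpowers_le.2 (MulAction.mem_stabilizer_iff.2 hfix) hk)
      haveI : Subsingleton (orbit (zpowers g) o.out) :=
        ⟨fun x y => Subtype.ext ((horb x).trans (horb y).symm)⟩
      rw [Fintype.prod_subsingleton _ ⟨o.out, mem_orbit_self _⟩]
      refine Eq.trans ?_ (hF o.out o.out.out (QuotientGroup.out_eq' _)
        ((hmem _).1 (by rwa [QuotientGroup.out_eq']))).symm
      refine congrArg φ (Subtype.ext ?_)
      simp only [hone, pow_one]
    · have hper : Function.minimalPeriod (g • ·) o.out = 2 := by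
        refine (Nat.Prime.eq_one_or_self_of_dvd Nat.prime_two _
          (Function.IsPeriodicPt.minimalPeriod_dvd ?_)).resolve_left fun h =>
            hfix (Function.minimalPeriod_eq_one_iff_isFixedPt.1 h)
        show g • g • o.out = o.out
        rw [smul_smul, hg, one_smul]
      rw [Finset.prod_eq_one fun x _ => hF1 _ fun h => hfix ?_]
      · refine (congrArg φ (Subtype.ext ?_)).trans (map_one φ)
        simp only [hper, pow_two, hg, mul_one, inv_mul_cancel, coe_one]
      · obtain ⟨_, ⟨k, hk⟩, rfl⟩ := x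
        obtain ⟨i, rfl⟩ := mem_zpowers_iff.1 hk
        have e : g • g ^ i • o.out = g ^ i • g • o.out := by
          rw [smul_smul, smul_smul, (Commute.self_zpow g i).eq]
        exact smul_left_cancel (g ^ i) (e.symm.trans h)
  -- on the fixed cosets, orbits of the centraliser
  let X := {q : G ⧸ (T : Subgroup G) // g • q = q}
  have h2 : ∏ q, F q = ∏ q : X, F q := by
    rw [← Finset.prod_subtype (Finset.univ.filter fun q => g • q = q) (fun q => by simp) F,
      Finset.prod_filter_of_ne fun q _ hne => by_contra fun h => hne (hF1 q h)]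
  letI : MulAction (centralizer ({g} : Set G)) X :=
    { smul := fun k q => ⟨(k : G) • q.1, by
        rw [smul_smul, ← mem_centralizer_singleton_iff.1 k.2, mul_smul, q.2]⟩
      one_smul := fun q => Subtype.ext (one_smul G q.1)
      mul_smul := fun k l q => Subtype.ext (mul_smul (k : G) (l : G) q.1) }
  have h3 : ∏ q : X, F q * c = 1 := by
    rw [← Equiv.prod_comp (selfEquivSigmaOrbits (centralizer ({g} : Set G)) X).symm
      (fun q : X => F q * c), Fintype.prod_sigma]
    refine Finset.prod_eq_one fun o _ => ?_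
    set q₀ : X := o.out with hq₀
    set g₀ := q₀.1.out with hg₀
    have hq₀' : (QuotientGroup.mk g₀ : G ⧸ (T : Subgroup G)) = q₀.1 := QuotientGroup.out_eq' _
    have hu : g₀⁻¹ * g * g₀ ∈ (T : Subgroup G) := (hmem _).1 (by rw [hq₀']; exact q₀.2)
    set w : ↥(T : Subgroup G) := ⟨_, hu⟩ with hw
    have hw2 : w * w = 1 := Subtype.ext (show g₀⁻¹ * g * g₀ * (g₀⁻¹ * g * g₀) = 1 by
      rw [show g₀⁻¹ * g * g₀ * (g₀⁻¹ * g * g₀) = g₀⁻¹ * (g * g) * g₀ by group, hg]; group)
    have hval : ∀ x : orbit (centralizer ({g} : Set G)) q₀, F x.1.1 = φ w := by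
      rintro ⟨_, k, rfl⟩
      have e : ((k : G) * g₀)⁻¹ * g * ((k : G) * g₀) = g₀⁻¹ * g * g₀ := by
        rw [show ((k : G) * g₀)⁻¹ * g * ((k : G) * g₀) = g₀⁻¹ * ((k : G)⁻¹ * (g * k)) * g₀ by group,
          ← mem_centralizer_singleton_iff.1 k.2, inv_mul_cancel_left]
      refine (hF _ ((k : G) * g₀) ?_ (by rw [e]; exact hu)).trans (congrArg φ (Subtype.ext e))
      show _ = (k : G) • q₀.1
      rw [← hq₀', Quotient.smul_mk, smul_eq_mul]
    rw [Finset.prod_congr rfl fun x _ => show F x.1.1 * c = φ w * c by rw [hval x],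
      Finset.prod_const, Finset.card_univ, ← Nat.card_eq_fintype_card]
    set m := Nat.card (orbit (centralizer ({g} : Set G)) q₀) with hm
    rcases Nat.even_or_odd m with ⟨j, hj⟩ | hodd
    · rw [hj, ← two_mul, pow_mul, pow_two, mul_mul_mul_comm, hsq w hw2, hc, one_mul, one_pow]
    · rw [hfull w (isConj_iff.2 ⟨g₀⁻¹, by rw [inv_inv]⟩) ?_, hc, one_pow]
      have hst : stabilizer (centralizer ({g} : Set G)) q₀ =
          ((T : Subgroup G).map (MulAut.conj g₀).toMonoidHom).subgroupOf (centralizer ({g} : Set G)) := by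
        ext k
        rw [MulAction.mem_stabilizer_iff, mem_subgroupOf, mem_map_equiv, Subtype.ext_iff,
          show (k • q₀).1 = (k : G) • q₀.1 from rfl, ← hq₀', Quotient.smul_mk, eq_comm,
          QuotientGroup.eq, smul_eq_mul, MulAut.conj_symm_apply, mul_assoc]
      have hmap : (centralizer ({g₀⁻¹ * g * g₀} : Set G)).map (MulAut.conj g₀).toMonoidHom =
          centralizer ({g} : Set G) := by
        ext x
        rw [mem_map_equiv, MulAut.conj_symm_apply, mem_centralizer_singleton_iff,
          mem_centralizer_singleton_iff]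
        constructor <;> intro h
        · calc x * g = g₀ * (g₀⁻¹ * x * g₀ * (g₀⁻¹ * g * g₀)) * g₀⁻¹ := by group
            _ = g₀ * (g₀⁻¹ * g * g₀ * (g₀⁻¹ * x * g₀)) * g₀⁻¹ := by rw [h]
            _ = g * x := by group
        · calc g₀⁻¹ * x * g₀ * (g₀⁻¹ * g * g₀) = g₀⁻¹ * (x * g) * g₀ := by group
            _ = g₀⁻¹ * (g * x) * g₀ := by rw [h]
            _ = g₀⁻¹ * g * g₀ * (g₀⁻¹ * x * g₀) := by group
      have hcard : m = (T : Subgroup G).relIndex (centralizer ({(w : G)} : Set G)) := by
        rw [hm, Nat.card_coe_set_eq, ← MulAction.index_stabilizer, hst]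
        show ((T : Subgroup G).map (MulAut.conj g₀).toMonoidHom).relIndex (centralizer ({g} : Set G)) = _
        rw [← hmap, relIndex_map_map_of_injective _ _ (MulAut.conj g₀).injective]
      rwa [← hcard]
  -- the number of fixed cosets is odd
  have hodd : Odd (Nat.card X) := by
    refine odd_card_fixed ?_ (f := fun q => g • q) fun q => by simp only [smul_smul, hg, one_smul]
    rw [← index_eq_card]
    exact Nat.odd_iff.2 (Nat.two_dvd_ne_zero.1 T.not_dvd_index)
  rw [Finset.prod_mul_distrib, Finset.prod_const, Finset.card_univ, ← Nat.card_eq_fintype_card] at h3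
  obtain ⟨j, hj⟩ := hodd
  rw [hj, pow_succ, pow_mul, pow_two, hc, one_pow, one_mul] at h3
  rw [h1, h2, eq_inv_of_mul_eq_one_left h3]
  exact inv_eq_of_mul_eq_one_right hc

namespace Ctx

variable (C : Ctx G)

/-- A fully centralised member of the class is central in the Sylow subgroup. -/
theorem mem_center_of_full (T : Sylow 2 G) {u : G} (hu : u ∈ C.Z) (huT : u ∈ (T : Subgroup G))
    (hodd : Odd ((T : Subgroup G).relIndex (centralizer ({u} : Set G)))) {t : G}
    (ht : t ∈ (T : Subgroup G)) : Commute t u := by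
  haveI : Fact (Nat.Prime 2) := ⟨Nat.prime_two⟩
  obtain ⟨g, hg⟩ := C.exists_conj hu
  set K := centralizer ({u} : Set G) with hK
  set P' := (C.P : Subgroup G).map (MulAut.conj g).toMonoidHom with hP'
  have hP'K : P' ≤ K := by
    rintro _ ⟨x, hx, rfl⟩
    rw [hK, mem_centralizer_singleton_iff, ← hg]
    show g * x * g⁻¹ * (g * C.z * g⁻¹) = g * C.z * g⁻¹ * (g * x * g⁻¹)
    have := (C.commute_z_of_mem hx).eq
    calc g * x * g⁻¹ * (g * C.z * g⁻¹) = g * (x * C.z) * g⁻¹ := by group
      _ = g * (C.z * x) * g⁻¹ := by rw [this]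
      _ = _ := by group
  have hcardT : Nat.card (T : Subgroup G) = Nat.card P' := by
    rw [hP', card_map_of_injective (MulAut.conj g).injective, Sylow.card_eq_multiplicity,
      Sylow.card_eq_multiplicity]
  set TK := (T : Subgroup G) ⊓ K with hTK
  obtain ⟨n, hn⟩ := IsPGroup.iff_card.1 T.isPGroup'
  have h1 : Nat.card TK * (T : Subgroup G).relIndex K = Nat.card K := by
    rw [← inf_relIndex_right, ← relIndex_bot_left, ← relIndex_bot_left K]
    exact relIndex_mul_relIndex _ _ _ bot_le inf_le_right
  have h2 : 2 ^ n ∣ Nat.card TK := by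
    refine (Nat.Coprime.pow_left n (Nat.coprime_two_left.2 hodd)).dvd_of_dvd_mul_right ?_
    rw [h1, ← hn, hcardT]
    exact card_dvd_of_le hP'K
  have h3 : TK = (T : Subgroup G) :=
    eq_of_le_of_card_ge inf_le_left (hn ▸ Nat.le_of_dvd Nat.card_pos h2)
  exact mem_centralizer_singleton_iff.1 ((inf_le_right : TK ≤ K) (h3.ge ht))

/-- **The transfer end at fully centralised conjugates**: a homomorphism of a Sylow subgroup into an
abelian group, trivial on its central members of the class and constant on the fully centralised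
conjugates of the involution `v`, takes only the value `1` there. -/
theorem eq_one_of_full (hgen : closure C.Z = ⊤) (T : Sylow 2 G) {A : Type*} [CommGroup A]
    (φ : ↥(T : Subgroup G) →* A)
    (hZ : ∀ x : ↥(T : Subgroup G), (x : G) ∈ C.Z → (∀ t ∈ (T : Subgroup G), Commute t (x : G)) → φ x = 1)
    {v : G} (hv : v * v = 1) {c : A} (hc : c * c = 1)
    (hconj : ∀ u : ↥(T : Subgroup G), IsConj v u →
      Odd ((T : Subgroup G).relIndex (centralizer ({(u : G)} : Set G))) → φ u = c) : c = 1 := by
  have hle : (⊤ : Subgroup G) ≤ (MonoidHom.transfer φ).ker := hgen ▸ (closure_le _).2 fun x hx => by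
    refine transfer_eq_of_full T φ (C.mul_self_Z hx) (one_mul 1) fun u hu hodd => ?_
    have huZ : (u : G) ∈ C.Z := IsConj.trans hx hu
    exact hZ u huZ fun t ht => C.mem_center_of_full T huZ u.2 hodd ht
  rw [← transfer_eq_of_full T φ hv hc hconj]
  exact hle (mem_top v)

end Ctx

end CfsgLib.Criterion
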