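import Cfsg.Agent.Criterion.Quot
import Cfsg.Agent.Invol.NormalFourPair
import Cfsg.Agent.ZStar.Final
import Cfsg.Agent.PLocal.Uniserial

/-!
# The strong embedding criterion: local groups of rank one

A bad involution whose local group has no two commuting members of the class cannot exist when `G` is
generated by the class: the Sylow subgroup of the centralizer of `z` has a subgroup of index two
avoiding its conjugates, against Thompson transfer.
-/

set_option autoImplicit false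
set_option linter.style.haveILetI false
set_option linter.unusedSectionVars false

namespace CfsgLib.Criterion

open Subgroup CfsgLib.Invol CfsgLib.Bender
open scoped commutatorElement

universe u

variable {G : Type u} [Group G]

/-- A 2-subgroup of a subgroup is conjugate there into a given Sylow subgroup of it. -/
theorem exists_conj_le_in [Finite G] {K Q : Subgroup G} (hQK : Q ≤ K) (hQ : IsPGroup 2 Q)
    (R : Sylow 2 K) : ∃ c ∈ K, ∀ x ∈ Q, c * x * c⁻¹ ∈ (R : Subgroup K).map K.subtype := by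
  haveI : Fact (Nat.Prime 2) := ⟨Nat.prime_two⟩
  obtain ⟨R', hR'⟩ := (hQ.of_equiv (subgroupOfEquivOfLe hQK).symm).exists_le_sylow
  obtain ⟨c, hc⟩ := MulAction.exists_smul_eq ↥K R' R
  refine ⟨c, c.2, fun x hx => ⟨c * ⟨x, hQK hx⟩ * c⁻¹, ?_, rfl⟩⟩
  rw [← hc, Sylow.coe_subgroup_smul]
  exact smul_mem_pointwise_smul _ (MulAut.conj c) _ (hR' (mem_subgroupOf.2 hx))

theorem isPGroup_zpowers_of_pow {x : G} {n : ℕ} (hx : x ^ 2 ^ n = 1) : IsPGroup 2 (zpowers x) := by
  haveI : Fact (Nat.Prime 2) := ⟨Nat.prime_two⟩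
  obtain ⟨m, -, hm⟩ := (Nat.dvd_prime_pow Nat.prime_two).1 (orderOf_dvd_of_pow_eq_one hx)
  exact IsPGroup.of_card (n := m) (by rw [Nat.card_zpowers, hm])

namespace Ctx

variable [Finite G] (C : Ctx G)

/-- A bad involution with no two commuting members of the class centralising it. -/
def Poor (u : G) : Prop :=
  C.Bad u ∧ ∀ x ∈ C.ZC u, ∀ y ∈ C.ZC u, Commute x y → x = y

theorem Bad.conj_bad {v : G} (hv : C.Bad v) (g : G) : C.Bad (g * v * g⁻¹) := by
  obtain ⟨h2, a, b, hab, ha, hb⟩ := hv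
  exact ⟨by rw [orderOf_conj_eq, h2], g • a, g • b, fun h => hab (smul_left_cancel g h),
    by rw [mul_smul, mul_smul, inv_smul_smul, ha], by rw [mul_smul, mul_smul, inv_smul_smul, hb]⟩

theorem Poor.unique {u x y : G} (hu : C.Poor u) (hx : x ∈ C.Z) (hy : y ∈ C.Z) (hxu : Commute x u)
    (hyu : Commute y u) (hxy : Commute x y) : x = y :=
  hu.2 x ⟨hx, hxu⟩ y ⟨hy, hyu⟩ hxy

theorem Poor.conj_poor {u : G} (hu : C.Poor u) (g : G) : C.Poor (g * u * g⁻¹) := by
  refine ⟨hu.1.conj_bad C g, fun x hx y hy h => ?_⟩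
  have key : ∀ {x : G}, x ∈ C.ZC (g * u * g⁻¹) → g⁻¹ * x * g⁻¹⁻¹ ∈ C.ZC u := fun {x} hx => by
    refine ⟨C.conj_mem_Z hx.1 _, ?_⟩
    have h' := (Commute.conj_iff g⁻¹).2 hx.2
    rwa [show g⁻¹ * (g * u * g⁻¹) * g⁻¹⁻¹ = u by group] at h'
  exact mul_left_cancel (mul_right_cancel (hu.2 _ (key hx) _ (key hy) ((Commute.conj_iff g⁻¹).2 h)))

theorem Poor.exists_at {v : G} (hv : C.Poor v) {a : G} (ha : a ∈ C.Z) :
    ∃ u, C.Poor u ∧ Commute u a := by
  obtain ⟨hv2, p, -, -, hp, -⟩ := id hv.1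
  obtain ⟨e, he, hev⟩ := C.exists_commute_at (mul_self_eq_one hv2) hp
  obtain ⟨c, hc⟩ := isConj_iff.1 (IsConj.trans (IsConj.symm he.1) ha)
  exact ⟨_, hv.conj_poor C c, hc ▸ (Commute.conj_iff c).2 hev.symm⟩

/-- Commuting members `a`, `b` are moved by an element centralising `a` mapping `b` to `b a`. -/
theorem Poor.exists_move (hfaith : ∀ v : G, orderOf v = 2 → ∃ c : C.Pt, v • c ≠ c) {v : G}
    (hv : C.Poor v) {a b : G} (ha : a ∈ C.Z) (hb : b ∈ C.Z) (hab : Commute b a) (hne : b ≠ a) :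
    ∃ x : G, Commute x a ∧ x * b * x⁻¹ = b * a := by
  obtain ⟨u, hu, hua⟩ := hv.exists_at C ha
  have hb2 := C.orderOf_Z hb
  have hu2 := hu.1.1
  have hbu : ¬ Commute b u := fun h => hne (hu.unique C hb ha h hua.symm hab)
  have hev : Even (orderOf (b * u)) := even_orderOf_mul_of_not_isConj hb2 hu2
    fun h => hu.1.not_mem_Z C (IsConj.trans hb h)
  obtain ⟨hi, hib, hiu⟩ := half_props hb2 hu2 hev
  obtain ⟨l, hl⟩ := hev
  rw [show orderOf (b * u) / 2 = l by omega] at hi hib hiu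
  set i := (b * u) ^ l with hidef
  have hia : Commute i a := (hab.mul_left hua).pow_left l
  have hodd : ∀ j, l = 2 * j + 1 → u * i ∈ C.Z := fun j hj => by
    have hli : (u * b) ^ l = i := by
      rw [← mul_inv_rev_invol hb2 hu2, inv_pow, ← hidef, inv_eq_self hi]
    rw [← hli, hj, ← zpow_natCast,
      show ((2 * j + 1 : ℕ) : ℤ) = 2 * (j : ℤ) + 1 by push_cast; ring, mul_zpow_odd hu2 hb2]
    exact C.conj_mem_Z hb _
  have hieq : i = a := by
    rcases C.mem_Z_or_bad hfaith hi with hiZ | hiB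
    · exact hu.unique C hiZ ha hiu hua.symm hia
    rcases Nat.even_or_odd l with ⟨j, hj⟩ | ⟨j, hj⟩
    · refine absurd (hiB.mem_Z_of_mem_L C ?_ hi) (hiB.not_mem_Z C)
      have hi2 : i = (b * (u * b * u⁻¹)) ^ j := by
        rw [hidef, hj, ← two_mul, pow_mul, sq, inv_eq_self hu2]
        simp only [mul_assoc]
      have hmem : b * (u * b * u⁻¹) ∈ C.L i := by
        refine mul_mem (C.mem_L hb hib.symm) (C.mem_L (C.conj_mem_Z hb u) ?_)
        have := (Commute.conj_iff u).2 hib.symm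
        rwa [show u * i * u⁻¹ = i from mul_inv_eq_iff_eq_mul.2 hiu.eq.symm] at this
      nth_rw 2 [hi2]
      exact pow_mem hmem j
    · exfalso
      have h1 := hu.unique C (hodd j hj) ha ((Commute.refl u).mul_left hiu) hua.symm
        (hua.mul_left hia)
      have h2 : i = u * a := by rw [← h1, ← mul_assoc, mul_self_eq_one hu2, one_mul]
      have h3 : Commute b (u * a) := h2 ▸ hib.symm
      have h4 := h3.mul_right hab
      rw [mul_assoc, C.mul_self_Z ha, mul_one] at h4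
      exact hbu h4
  rcases Nat.even_or_odd l with ⟨j, hj⟩ | ⟨j, hj⟩
  · refine ⟨(b * u) ^ j, (hab.mul_left hua).pow_left j, ?_⟩
    set x := (b * u) ^ j
    have hxx : x * x = a := by rw [← hieq, hidef, hj, pow_add]
    have hinv : b * x * b⁻¹ = x⁻¹ := by rw [← conj_pow, conj_mul_inv hb2 hu2, inv_pow]
    calc x * b * x⁻¹ = x * b * (b * x * b) := by rw [← hinv, C.inv_Z hb]
      _ = x * (b * b) * x * b := by group
      _ = b * a := by rw [C.mul_self_Z hb, mul_one, hxx, hab.eq]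
  · exfalso
    have h1 := hu.unique C (hodd j hj) ha ((Commute.refl u).mul_left hiu) hua.symm (hua.mul_left hia)
    rw [hieq, mul_eq_right] at h1
    exact ne_one hu2 h1

/-- Without a normal subgroup of index two. -/
theorem not_normal_index_two (hfaith : ∀ v : G, orderOf v = 2 → ∃ c : C.Pt, v • c ≠ c)
    (hgen : closure C.Z = ⊤) {s : G} (hs : s ∈ C.Z) (hsz : Commute s C.z) (hne : s ≠ C.z)
    {M : Subgroup G} (hMn : M.Normal) (hM : M.index = 2) : False := by
  have hiff : ∀ x ∈ C.Z, x ∈ M → C.z ∈ M := fun x hx h => by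
    obtain ⟨c, hc⟩ := C.exists_conj hx
    have := hMn.conj_mem x h c⁻¹
    rwa [← hc, show c⁻¹ * (c * C.z * c⁻¹) * c⁻¹⁻¹ = C.z by group] at this
  by_cases hz : C.z ∈ M
  · have : M = ⊤ := by
      rw [eq_top_iff, ← hgen, closure_le]
      intro x hx
      obtain ⟨c, rfl⟩ := C.exists_conj hx
      exact hMn.conj_mem _ hz c
    rw [this, index_top] at hM
    omega
  · refine hz (hiff (s * C.z) (C.mul_mem_Z hfaith hs C.z_mem_Z hsz hne) ?_)
    exact (mul_mem_iff_of_index_two hM).2 (iff_of_false (fun h => hz (hiff s hs h)) hz)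

theorem commute_z {T : Sylow 2 G} (hT : (T : Subgroup G) ≤ centralizer ({C.z} : Set G)) {x : G}
    (hx : x ∈ (T : Subgroup G)) : Commute x C.z :=
  mem_centralizer_singleton_iff.1 (hT hx)

/-- Members of the class in a Sylow subgroup centralising a bad involution of it commute. -/
theorem commute_of_bad {T : Sylow 2 G} (hT : (T : Subgroup G) ≤ centralizer ({C.z} : Set G))
    {b : G} (hb : C.Bad b) (hbT : b ∈ (T : Subgroup G)) {s x y : G} (hs : s ∈ C.Z)
    (hsz : Commute s C.z) (hne : s ≠ C.z) (hsb : Commute s b) (hx : x ∈ C.Z)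
    (hxT : x ∈ (T : Subgroup G)) (hxb : Commute x b) (hy : y ∈ C.Z) (hyT : y ∈ (T : Subgroup G))
    (hyb : Commute y b) : Commute x y := by
  haveI : Fact (Nat.Prime 2) := ⟨Nat.prime_two⟩
  have hzb : Commute C.z b := (C.commute_z hT hbT).symm
  have hp := C.pairRank_L (v := b) ⟨C.z_mem_Z, hzb⟩ ⟨hs, hsb⟩ hsz.symm (Ne.symm hne)
  have hfix : ∀ {w : G}, w ∈ C.Z → w ∈ (T : Subgroup G) → w • C.base = C.base := fun hw hwT =>
    C.fix_of_commute C.z_mem_Z hw (C.commute_z hT hwT).symm C.z_smul_base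
  have hord : ∀ {w : G} (hw : w ∈ C.Z) (hc : Commute w b),
      orderOf (⟨w, C.mem_L hw hc⟩ : ↥(C.L b)) = 2 := fun {w} hw _ => by
    rw [← Subgroup.orderOf_coe]; exact C.orderOf_Z hw
  have h := hb.commutator_mem_oddCore C hp (C.smul_eq_of_commute_Z C.z_mem_Z hzb C.z_smul_base)
    (hord hx hxb) (hord hy hyb) (hfix hx hxT) (hfix hy hyT)
  have hodd := IsoApps.odd_of_mem_oddCore h
  rw [← Subgroup.orderOf_coe] at hodd
  have hd : x * y * x⁻¹ * y⁻¹ ∈ (T : Subgroup G) :=
    mul_mem (mul_mem (mul_mem hxT hyT) (inv_mem hxT)) (inv_mem hyT)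
  obtain ⟨k, hk⟩ := IsPGroup.iff_orderOf.1 T.2 ⟨_, hd⟩
  rw [← Subgroup.orderOf_coe] at hk
  change Odd (orderOf (x * y * x⁻¹ * y⁻¹)) at hodd
  have h1 : orderOf (x * y * x⁻¹ * y⁻¹) = 1 := by
    rcases k with _ | k
    · simpa using hk
    · rw [hk, pow_succ] at hodd
      exact absurd (Nat.odd_mul.1 hodd).2 (by decide)
  exact mul_inv_eq_iff_eq_mul.1 (mul_inv_eq_one.1 (orderOf_eq_one_iff.1 h1))

section RankOne

variable (hfaith : ∀ v : G, orderOf v = 2 → ∃ c : C.Pt, v • c ≠ c) (hgen : closure C.Z = ⊤)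
  {T : Sylow 2 G} (hT : (T : Subgroup G) ≤ centralizer ({C.z} : Set G))
  {u : G} (hu : C.Poor u) (huT : u ∈ (T : Subgroup G))
  {s : G} (hs : s ∈ C.Z) (hsT : s ∈ (T : Subgroup G)) (hne : s ≠ C.z)

include hfaith hgen hu huT hs hsT hne hT

/-- A subgroup of index two of the Sylow subgroup meets the conjugates of a poor involution. -/
theorem exists_conj_mem_index {Q : Subgroup G} (hQ : Q.relIndex (T : Subgroup G) = 2) :
    ∃ g : G, g * u * g⁻¹ ∈ Q := by
  haveI : Fact (Nat.Prime 2) := ⟨Nat.prime_two⟩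
  have hodd : Odd (T : Subgroup G).index :=
    Nat.not_even_iff_odd.1 fun h => T.not_dvd_index h.two_dvd
  rcases ThompsonTransfer.thompson_transfer (T : Subgroup G) Q hodd hQ
    (mul_self_eq_one hu.1.1) with ⟨M, hMn, hM, -⟩ | h
  · exact (C.not_normal_index_two hfaith hgen hs (C.commute_z hT hsT) hne hMn hM).elim
  · exact h

/-- No member of the class spans a normal four group with `z`. -/
theorem not_normal_four
    (hn : ∀ t ∈ (T : Subgroup G), t * s * t⁻¹ = s ∨ t * s * t⁻¹ = s * C.z) : False := by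
  have hsz := C.commute_z hT hsT
  have hus : ¬ Commute s u := fun h => hne (hu.unique C hs C.z_mem_Z h (C.commute_z hT huT).symm hsz)
  have hmem : ∀ c ∈ (T : Subgroup G),
      (c ∈ (T : Subgroup G) ⊓ centralizer ({s} : Set G) ↔ c * s * c⁻¹ = s) := fun c hc => by
    rw [mem_inf, mem_centralizer_singleton_iff, mul_inv_eq_iff_eq_mul, and_iff_right hc]
  have hQ : ((T : Subgroup G) ⊓ centralizer ({s} : Set G)).relIndex (T : Subgroup G) = 2 := by
    rw [relIndex, index_eq_two_iff]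
    refine ⟨⟨u, huT⟩, fun ⟨b, hb⟩ => ?_⟩
    simp only [mem_subgroupOf, Subgroup.coe_mul, hmem _ (mul_mem hb huT), hmem _ hb]
    have hsu : u * s * u⁻¹ = s * C.z :=
      (hn u huT).resolve_left fun h => hus (mul_inv_eq_iff_eq_mul.1 h).symm
    have e : b * u * s * (b * u)⁻¹ = b * s * b⁻¹ * C.z := by
      calc b * u * s * (b * u)⁻¹ = b * (u * s * u⁻¹) * b⁻¹ := by group
        _ = b * s * (C.z * b⁻¹) := by rw [hsu]; group
        _ = b * s * (b⁻¹ * C.z) := by rw [(C.commute_z hT (inv_mem hb)).eq]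
        _ = _ := by group
    show Xor (b * u * s * (b * u)⁻¹ = s) (b * s * b⁻¹ = s)
    rw [e]
    have hz1 : C.z ≠ 1 := ne_one C.z_two
    rcases hn b hb with h | h <;> rw [h]
    · exact Or.inr ⟨rfl, fun h' => hz1 (mul_eq_left.1 h')⟩
    · exact Or.inl ⟨by rw [mul_assoc, C.mul_self_Z C.z_mem_Z, mul_one],
        fun h' => hz1 (mul_eq_left.1 h')⟩
  obtain ⟨g, hg⟩ := C.exists_conj_mem_index hfaith hgen hT hu huT hs hsT hne hQ
  obtain ⟨hgT, hgs⟩ := mem_inf.1 hg
  exact hne ((hu.conj_poor C g).unique C hs C.z_mem_Z (mem_centralizer_singleton_iff.1 hgs).symm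
    (C.commute_z hT hgT).symm hsz)

/-- A bad involution spanning a normal four group with `z`, or central, centralises no other member
of the class in the Sylow subgroup. -/
theorem not_commute_normal_bad {b : G} (hb : C.Bad b) (hbT : b ∈ (T : Subgroup G))
    (hn : ∀ t ∈ (T : Subgroup G), t * b * t⁻¹ = b ∨ t * b * t⁻¹ = b * C.z) : ¬ Commute s b := by
  intro hsb
  have hsz := C.commute_z hT hsT
  set S : Set G := {x | x ∈ C.Z ∧ x ∈ (T : Subgroup G) ∧ Commute x b} with hSdef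
  have hconj : ∀ t ∈ (T : Subgroup G), ∀ x ∈ S, t * x * t⁻¹ ∈ S := by
    rintro t ht x ⟨hxZ, hxT, hxb⟩
    have hxT' : t * x * t⁻¹ ∈ (T : Subgroup G) := mul_mem (mul_mem ht hxT) (inv_mem ht)
    refine ⟨C.conj_mem_Z hxZ t, hxT', ?_⟩
    have h := (Commute.conj_iff t).2 hxb
    rcases hn t ht with e | e <;> rw [e] at h
    · exact h
    · have h' := h.mul_right (C.commute_z hT hxT')
      rwa [mul_assoc b C.z C.z, C.mul_self_Z C.z_mem_Z, mul_one] at h'
  have hcomm : ∀ x ∈ S, ∀ y ∈ S, Commute x y := fun x hx y hy =>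
    C.commute_of_bad hT hb hbT hs hsz hne hsb hx.1 hx.2.1 hx.2.2 hy.1 hy.2.1 hy.2.2
  have huz := C.commute_z hT huT
  have hkey : ∀ x ∈ S, x ≠ C.z → u * x * u⁻¹ = x * C.z := by
    intro x hx hxz
    have hx' := hconj u huT x hx
    set x' := u * x * u⁻¹ with hx'def
    have hne' : x ≠ x' := fun h => hxz (hu.unique C hx.1 C.z_mem_Z
      (mul_inv_eq_iff_eq_mul.1 h.symm).symm huz.symm (C.commute_z hT hx.2.1))
    have hc := hcomm x hx x' hx'
    have hfix : u * (x * x') * u⁻¹ = x * x' := by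
      have huu : u * u = 1 := mul_self_eq_one hu.1.1
      calc u * (x * x') * u⁻¹ = (u * x * u⁻¹) * ((u * u) * x * (u * u)⁻¹) := by
            rw [hx'def]; group
        _ = x' * x := by rw [huu, hx'def]; group
        _ = x * x' := hc.eq.symm
    have hp : x * x' = C.z := hu.unique C (C.mul_mem_Z hfaith hx.1 hx'.1 hc hne') C.z_mem_Z
      (mul_inv_eq_iff_eq_mul.1 hfix).symm huz.symm
      ((C.commute_z hT hx.2.1).mul_left (C.commute_z hT hx'.2.1))
    rw [← hp, ← mul_assoc, C.mul_self_Z hx.1, one_mul]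
  refine C.not_normal_four hfaith hgen hT hu huT hs hsT hne fun t ht => ?_
  have hsS : s ∈ S := ⟨hs, hsT, hsb⟩
  have hy := hconj t ht s hsS
  set y := t * s * t⁻¹ with hydef
  have hyz : y ≠ C.z := fun h => hne (by
    have := C.commute_z hT ht
    rw [hydef, mul_inv_eq_iff_eq_mul, ← this.eq] at h
    exact mul_left_cancel h)
  by_cases hsy : s = y
  · exact Or.inl hsy.symm
  right
  have hc := hcomm s hsS y hy
  have hfix : u * (s * y) * u⁻¹ = s * y := by
    calc u * (s * y) * u⁻¹ = (u * s * u⁻¹) * (u * y * u⁻¹) := by group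
      _ = s * C.z * (C.z * y) := by
          rw [hkey s hsS hne, hkey y hy hyz, (C.commute_z hT hy.2.1).eq]
      _ = s * y := by rw [← mul_assoc, mul_assoc s, C.mul_self_Z C.z_mem_Z, mul_one]
  have hp : s * y = C.z := hu.unique C (C.mul_mem_Z hfaith hs hy.1 hc hsy) C.z_mem_Z
    (mul_inv_eq_iff_eq_mul.1 hfix).symm huz.symm (hsz.mul_left (C.commute_z hT hy.2.1))
  rw [← hp, ← mul_assoc, C.mul_self_Z hs, one_mul]

/-- No third member of the class in the Sylow subgroup commutes with the four group `z`, `s`. -/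
theorem eq_of_commute_four {k : G} (hk : k ∈ C.Z) (hkT : k ∈ (T : Subgroup G))
    (hks : Commute k s) : k = C.z ∨ k = s ∨ k = s * C.z := by
  by_contra hcon
  push Not at hcon
  obtain ⟨hkz, hks', hksz⟩ := hcon
  set P := (T : Subgroup G)
  have hzP : C.z ∈ P := by
    haveI : Fact (Nat.Prime 2) := ⟨Nat.prime_two⟩
    obtain ⟨c, hc, hc'⟩ := exists_conj_le_in
      (zpowers_le.2 (mem_centralizer_singleton_iff.2 rfl) : zpowers C.z ≤ centralizer ({C.z} : Set G))
      (isPGroup_zpowers_of_pow (n := 1) (by rw [pow_one, sq, C.mul_self_Z C.z_mem_Z]))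
      (T.subtype hT)
    have := hc' C.z (mem_zpowers _)
    rwa [Sylow.coe_subtype, subgroupOf_map_subtype, inf_eq_left.2 hT,
      mul_inv_eq_iff_eq_mul.2 (mem_centralizer_singleton_iff.1 hc)] at this
  have hsz := C.commute_z hT hsT
  have hkz' := C.commute_z hT hkT
  have sub : ∀ {a : G}, a ∈ C.Z → ∀ (ha : a ∈ P), (⟨a, ha⟩ : ↥P) * ⟨a, ha⟩ = 1 := fun ha _ =>
    Subtype.ext (C.mul_self_Z ha)
  have cm : ∀ {a b : G} (ha : a ∈ P) (hb : b ∈ P), Commute a b → Commute (⟨a, ha⟩ : ↥P) ⟨b, hb⟩ :=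
    fun _ _ h => Subtype.ext h.eq
  set z' : ↥P := ⟨C.z, hzP⟩
  set s' : ↥P := ⟨s, hsT⟩
  set k' : ↥P := ⟨k, hkT⟩
  have hz1 : z' ≠ 1 := fun h => ne_one C.z_two (congrArg Subtype.val h)
  have hs1 : s' ≠ 1 := fun h => ne_one (C.orderOf_Z hs) (congrArg Subtype.val h)
  have hk1 : k' ≠ 1 := fun h => ne_one (C.orderOf_Z hk) (congrArg Subtype.val h)
  obtain ⟨E1, hE1c, hE1, hzE, -, hE1comm⟩ := NormalFourPair.exists_adjoin (⊥ : Subgroup ↥P)
    (fun k hk => by simp [mem_bot.1 hk]) (sub C.z_mem_Z hzP) (fun k hk => by simp [mem_bot.1 hk])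
    (fun h => hz1 (mem_bot.1 h))
  rw [card_bot, mul_one] at hE1c
  have hE1mem : ∀ e ∈ E1, e = 1 ∨ e = z' := by
    intro e he
    obtain ⟨w, -, hw⟩ := (Nat.card_eq_two_iff' (1 : E1)).1 hE1c
    by_contra hh
    push Not at hh
    exact hh.2 (congrArg Subtype.val ((hw ⟨e, he⟩ fun h => hh.1 (congrArg Subtype.val h)).trans
      (hw ⟨z', hzE⟩ fun h => hz1 (congrArg Subtype.val h)).symm))
  have hsE1 : s' ∉ E1 := fun h => (hE1mem s' h).elim hs1 fun e => hne (congrArg Subtype.val e)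
  obtain ⟨E2, hE2c, hE2, hsE, hE12, hE2comm⟩ := NormalFourPair.exists_adjoin E1 hE1 (sub hs hsT)
    (hE1comm s' (fun k hk => by simp [mem_bot.1 hk]) (cm hsT hzP hsz)) hsE1
  rw [hE1c] at hE2c
  have hkE2 : k' ∉ E2 := by
    intro h
    classical
    haveI : Fintype E2 := Fintype.ofFinite E2
    have hz := hE12 hzE
    have h5 : ({⟨1, one_mem _⟩, ⟨z', hz⟩, ⟨s', hsE⟩, ⟨s' * z', mul_mem hsE hz⟩, ⟨k', h⟩} :
        Finset E2).card = 5 := by
      have e1 : s' ≠ z' := fun e => hne (congrArg Subtype.val e)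
      have e2 : s' * z' ≠ 1 := fun e => e1 ((eq_inv_of_mul_eq_one_left e).trans
        (inv_eq_of_mul_eq_one_right (sub C.z_mem_Z hzP)))
      have e3 : k' ≠ z' := fun e => hkz (congrArg Subtype.val e)
      have e4 : k' ≠ s' := fun e => hks' (congrArg Subtype.val e)
      have e5 : k' ≠ s' * z' := fun e => hksz (congrArg Subtype.val e)
      simp [Finset.card_insert_of_notMem, Subtype.ext_iff, hz1.symm, hs1.symm, hk1.symm, e1.symm,
        e2.symm, e3.symm, e4.symm, e5.symm, hs1, hz1]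
    have := h5.symm.trans_le (Finset.card_le_univ _)
    rw [← Nat.card_eq_fintype_card, hE2c] at this
    omega
  obtain ⟨E3, hE3c, hE3, -, -, -⟩ := NormalFourPair.exists_adjoin E2 hE2 (sub hk hkT)
    (hE2comm k' (hE1comm k' (fun k hk => by simp [mem_bot.1 hk]) (cm hkT hzP hkz'))
      (cm hkT hsT hks)) hkE2
  rw [hE2c] at hE3c
  obtain ⟨z₀, u₀, hz₀2, hz₀1, hz₀c, hu₀2, hu₀1, hu₀z, hu₀n⟩ :=
    NormalFourPair.exists_pair _ ↥P rfl T.2 E3 hE3c hE3
  have ho : ∀ a : ↥P, a * a = 1 → a ≠ 1 → orderOf (a : G) = 2 := fun a h2 h1 => orderOf_eq_two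
    (congrArg Subtype.val h2) fun h => h1 (Subtype.ext h)
  have hz₀ : (z₀ : G) = C.z := by
    rcases C.mem_Z_or_bad hfaith (ho z₀ hz₀2 hz₀1) with hZ | hB
    · exact hu.unique C hZ C.z_mem_Z (congrArg Subtype.val (hz₀c ⟨u, huT⟩)).symm
        (C.commute_z hT huT).symm (C.commute_z hT z₀.2)
    · refine (C.not_commute_normal_bad hfaith hgen hT hu huT hs hsT hne hB z₀.2
        (fun t ht => Or.inl ?_) (congrArg Subtype.val (hz₀c s'))).elim
      exact mul_inv_eq_iff_eq_mul.2 (congrArg Subtype.val (hz₀c ⟨t, ht⟩))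
  have hu₀z' : (u₀ : G) ≠ C.z := fun h => hu₀z (Subtype.ext (h.trans hz₀.symm))
  have hn : ∀ t ∈ P, t * (u₀ : G) * t⁻¹ = u₀ ∨ t * (u₀ : G) * t⁻¹ = u₀ * C.z := fun t ht => by
    rw [← hz₀]
    exact (hu₀n ⟨t, ht⟩).imp (congrArg Subtype.val) (congrArg Subtype.val)
  rcases C.mem_Z_or_bad hfaith (ho u₀ hu₀2 hu₀1) with hZ | hB
  · exact C.not_normal_four hfaith hgen hT hu huT hZ u₀.2 hu₀z' hn
  -- one of `s`, `k`, `s k` centralises the bad involution
  have key : ∀ {a : G}, a ∈ C.Z → a ∈ P → a ≠ C.z → ¬ Commute a (u₀ : G) := fun ha haT hane =>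
    C.not_commute_normal_bad hfaith hgen hT hu huT ha haT hane hB u₀.2 hn
  have h1 := (hn s hsT).resolve_left fun e => key hs hsT hne (mul_inv_eq_iff_eq_mul.1 e)
  have h2 := (hn k hkT).resolve_left fun e => key hk hkT hkz (mul_inv_eq_iff_eq_mul.1 e)
  refine key (C.mul_mem_Z hfaith hs hk hks.symm (Ne.symm hks')) (mul_mem hsT hkT)
    (fun e => hksz ?_) (mul_inv_eq_iff_eq_mul.1 ?_)
  · rw [← e, ← mul_assoc, C.mul_self_Z hs, one_mul]
  · calc s * k * (u₀ : G) * (s * k)⁻¹ = s * (k * (u₀ : G) * k⁻¹) * s⁻¹ := by group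
      _ = (s * (u₀ : G) * s⁻¹) * (s * C.z * s⁻¹) := by rw [h2]; group
      _ = u₀ := by
          rw [h1, hsz.eq, mul_inv_cancel_right, mul_assoc, C.mul_self_Z C.z_mem_Z, mul_one]

/-- The four group `z`, `s` is not self-centralising in the Sylow subgroup. -/
theorem not_self_centralizing {x₀ : G} (hx₀ : x₀ ∈ (T : Subgroup G)) (hsx : ¬ Commute s x₀)
    (hself : ∀ x ∈ (T : Subgroup G), Commute x s → x = 1 ∨ x = C.z ∨ x = s ∨ x = s * C.z) :
    False := by
  haveI : Fact (Nat.Prime 2) := ⟨Nat.prime_two⟩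
  classical
  set P := (T : Subgroup G)
  set s' : ↥P := ⟨s, hsT⟩ with hs'
  set D := _root_.commutator ↥P with hD
  have hss : s' * s' = 1 := Subtype.ext (C.mul_self_Z hs)
  have h4 : 4 ≤ D.index := by
    have h := CfsgLib.Uniserial.sq_le_index_commutator (p := 2) T.2 (fun h => hsx ?_)
    · exact h
    · have hc : ⁅s', (⟨x₀, hx₀⟩ : ↥P)⁆ = 1 := by
        rw [← mem_bot, ← h]
        exact commutator_mem_commutator (mem_top _) (mem_top _)
      exact congrArg Subtype.val (commutatorElement_eq_one_iff_mul_comm.1 hc)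
  set K := centralizer ({s'} : Set ↥P) with hK
  have hK4 : Nat.card K ≤ 4 := by
    haveI : Fintype K := Fintype.ofFinite K
    have hsub : Finset.univ.image (fun x : K => ((x : ↥P) : G)) ⊆ {1, C.z, s, s * C.z} := by
      intro y hy
      obtain ⟨x, -, rfl⟩ := Finset.mem_image.1 hy
      have := hself _ (x : ↥P).2 (congrArg Subtype.val (mem_centralizer_singleton_iff.1 x.2))
      simpa using this
    rw [Nat.card_eq_fintype_card, ← Finset.card_univ,
      ← Finset.card_image_of_injective Finset.univ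
        (Subtype.val_injective.comp Subtype.val_injective : Function.Injective fun x : K => ((x : ↥P) : G))]
    exact (Finset.card_le_card hsub).trans Finset.card_le_four
  have hfD : ∀ t : ↥P, s' * (t * s' * t⁻¹) ∈ D := fun t => by
    have h : ⁅s', t⁆ ∈ D := commutator_mem_commutator (mem_top _) (mem_top _)
    rwa [commutatorElement_def, inv_eq_of_mul_eq_one_right hss, mul_assoc, mul_assoc,
      ← mul_assoc t s'] at h
  set f : ↥P ⧸ K → D := fun q => ⟨_, hfD q.out⟩ with hf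
  have hinj : Function.Injective f := by
    intro a b h
    have h' : a.out * s' * a.out⁻¹ = b.out * s' * b.out⁻¹ :=
      mul_left_cancel (congrArg Subtype.val h : s' * _ = s' * _)
    rw [← QuotientGroup.out_eq' a, ← QuotientGroup.out_eq' b, QuotientGroup.eq]
    refine mem_centralizer_singleton_iff.2 ?_
    calc a.out⁻¹ * b.out * s' = a.out⁻¹ * (b.out * s' * b.out⁻¹) * b.out := by group
      _ = s' * (a.out⁻¹ * b.out) := by rw [← h']; group
  have hle : Nat.card D ≤ K.index := by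
    have h1 := D.card_mul_index
    rw [← K.card_mul_index] at h1
    have h2 : Nat.card K * K.index ≤ 4 * K.index := Nat.mul_le_mul_right _ hK4
    have h3 : Nat.card D * 4 ≤ Nat.card D * D.index := Nat.mul_le_mul_left _ h4
    omega
  have hbij := hinj.bijective_of_nat_card_le hle
  have hD4 : D.index = 4 := by
    have h1 := D.card_mul_index
    rw [← K.card_mul_index, ← Nat.card_eq_of_bijective f hbij, ← index_eq_card] at h1
    have hpos : 0 < K.index := Nat.pos_of_ne_zero index_ne_zero_of_finite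
    have h2 : Nat.card K * K.index ≤ 4 * K.index := Nat.mul_le_mul_right _ hK4
    rw [← h1, mul_comm 4] at h2
    exact le_antisymm (Nat.le_of_mul_le_mul_left h2 hpos) h4
  have hsD : s' ∉ D := fun h => by
    obtain ⟨q, hq⟩ := hbij.2 ⟨s', h⟩
    have e : q.out * s' * q.out⁻¹ = 1 := mul_eq_left.1 (congrArg Subtype.val hq)
    rw [mul_inv_eq_one, mul_eq_left] at e
    exact ne_one (C.orderOf_Z hs) (congrArg Subtype.val e)
  set π := QuotientGroup.mk' D
  set Q := (zpowers (π s')).comap π with hQdef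
  have hπs : orderOf (π s') = 2 := orderOf_eq_two (by rw [← map_mul, hss, map_one])
    fun h => hsD ((QuotientGroup.eq_one_iff _).1 h)
  have hQ : Q.index = 2 := by
    rw [hQdef, index_comap_of_surjective _ (QuotientGroup.mk'_surjective D)]
    have h1 := (zpowers (π s')).card_mul_index
    rw [Nat.card_zpowers, hπs, ← index_eq_card, hD4] at h1
    omega
  have hrel : (Q.map P.subtype).relIndex P = 2 := by
    rw [relIndex, subgroupOf, comap_map_eq_self_of_injective P.subtype_injective, hQ]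
  obtain ⟨g, hg⟩ := C.exists_conj_mem_index hfaith hgen hT hu huT hs hsT hne hrel
  obtain ⟨w, hw, hwe⟩ := hg
  have hwe' : (w : G) = g * u * g⁻¹ := hwe
  have hwP : C.Poor (w : G) := by rw [hwe']; exact hu.conj_poor C g
  have hw2 := hwP.1.1
  have hwD : w ∈ D ∨ s' * w ∈ D := by
    obtain ⟨m, hm⟩ := mem_zpowers_iff.1 (show π w ∈ zpowers (π s') from hw)
    rcases Int.even_or_odd m with ⟨j, hj⟩ | ⟨j, hj⟩
    · left
      refine (QuotientGroup.eq_one_iff w).1 (hm.symm.trans ?_)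
      rw [hj, ← two_mul, zpow_mul, zpow_two, ← map_mul, hss, map_one, one_zpow]
    · right
      refine (QuotientGroup.eq_one_iff (s' * w)).1 ?_
      show π (s' * w) = 1
      rw [map_mul, ← hm, hj, zpow_add_one, zpow_mul, zpow_two, ← map_mul, hss, map_one, one_zpow,
        one_mul, ← map_mul, hss, map_one]
  rcases hwD with h | h
  · obtain ⟨q, hq⟩ := hbij.2 ⟨w, h⟩
    have e : s * ((q.out : G) * s * (q.out : G)⁻¹) = (w : G) :=
      congrArg Subtype.val (congrArg Subtype.val hq)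
    set s₁ := (q.out : G) * s * (q.out : G)⁻¹
    have hc : Commute s s₁ := by
      have hinv := inv_eq_self hw2
      rw [← e, mul_inv_rev, C.inv_Z hs, C.inv_Z (C.conj_mem_Z hs _)] at hinv
      exact hinv.symm
    exact hne (hwP.unique C hs C.z_mem_Z (e ▸ (Commute.refl s).mul_right hc)
      (C.commute_z hT w.2).symm (C.commute_z hT hsT))
  · obtain ⟨q, hq⟩ := hbij.2 ⟨_, h⟩
    have e : q.out * s' * q.out⁻¹ = w := mul_left_cancel (congrArg Subtype.val hq)
    exact hwP.1.not_mem_Z C (congrArg Subtype.val e ▸ C.conj_mem_Z hs (q.out : G))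

end RankOne

/-- A poor involution does not exist. -/
theorem Poor.false (hfaith : ∀ v : G, orderOf v = 2 → ∃ c : C.Pt, v • c ≠ c)
    (hgen : closure C.Z = ⊤) {v : G} (hv : C.Poor v) : False := by
  haveI : Fact (Nat.Prime 2) := ⟨Nat.prime_two⟩
  obtain ⟨u₀, hu₀, hu₀z⟩ := hv.exists_at C C.z_mem_Z
  -- another member of the class commutes with `z`
  obtain ⟨s, hs, hsz, hne⟩ : ∃ s ∈ C.Z, Commute s C.z ∧ s ≠ C.z := by
    by_contra! hall
    obtain ⟨N, hN, hNodd, hNc⟩ := CfsgLib.ZStar.zstar_of_sylow C.P C.z_two fun g hg =>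
      hall _ (C.conj_mem_Z C.z_mem_Z g) (mem_centralizer_singleton_iff.1 (C.P_le_centralizer hg))
    set π := QuotientGroup.mk' N
    have hrange : ∀ g : G, π g ∈ zpowers (π C.z) := fun g => by
      have hg : g ∈ (⊤ : Subgroup G) := mem_top g
      rw [← hgen] at hg
      induction hg using closure_induction with
      | mem g hg =>
        obtain ⟨c, rfl⟩ := C.exists_conj hg
        have h1 : π (C.z * c * C.z⁻¹ * c⁻¹) = 1 := (QuotientGroup.eq_one_iff _).2 (hNc c)
        have h2 : π C.z * π c = π c * π C.z := by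
          rwa [map_mul, map_mul, map_mul, map_inv, map_inv, mul_inv_eq_one,
            mul_inv_eq_iff_eq_mul] at h1
        rw [map_mul, map_mul, map_inv, ← h2, mul_inv_cancel_right]
        exact mem_zpowers _
      | one => rw [map_one]; exact one_mem _
      | mul g g' _ _ h h' => rw [map_mul]; exact mul_mem h h'
      | inv g _ h => rw [map_inv]; exact inv_mem h
    have hnot : ∀ w : G, orderOf w = 2 → w ∉ N := fun w hw h => by
      have := N.orderOf_dvd_natCard h
      rw [hw] at this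
      exact absurd (even_iff_two_dvd.2 this) (Nat.not_even_iff_odd.2 hNodd)
    have hzz : π C.z * π C.z = 1 := by rw [← map_mul, C.mul_self_Z C.z_mem_Z, map_one]
    obtain ⟨m, hm⟩ := mem_zpowers_iff.1 (hrange u₀)
    rcases Int.even_or_odd m with ⟨j, hj⟩ | ⟨j, hj⟩
    · refine hnot u₀ hu₀.1.1 ((QuotientGroup.eq_one_iff u₀).1 (hm.symm.trans ?_))
      rw [hj, ← two_mul, zpow_mul, zpow_two, hzz, one_zpow]
    · refine hnot (u₀ * C.z) (orderOf_eq_two ?_ ?_) ((QuotientGroup.eq_one_iff (u₀ * C.z)).1 ?_)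
      · rw [hu₀z.symm.mul_mul_mul_comm, mul_self_eq_one hu₀.1.1, C.mul_self_Z C.z_mem_Z, one_mul]
      · exact fun h => hu₀.1.not_mem_Z C (by
          rw [eq_inv_of_mul_eq_one_left h, C.inv_Z C.z_mem_Z]; exact C.z_mem_Z)
      · show π (u₀ * C.z) = 1
        rw [map_mul, ← hm, hj, zpow_add_one, zpow_mul, zpow_two, hzz, one_zpow, one_mul, hzz]
  -- a Sylow subgroup of the centralizer of `z` and `s`, inside one of the centralizer of `z`
  set X := centralizer ({C.z} : Set G) ⊓ centralizer ({s} : Set G) with hX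
  obtain ⟨R⟩ : Nonempty (Sylow 2 X) := inferInstance
  set S₀ := (R : Subgroup X).map X.subtype
  have hS₀X : S₀ ≤ X := map_subtype_le _
  obtain ⟨c, hc, hc'⟩ := exists_conj_le_in (hS₀X.trans inf_le_left) (R.2.map X.subtype)
    (C.P.subtype C.P_le_centralizer)
  rw [Sylow.coe_subtype, subgroupOf_map_subtype, inf_eq_left.2 C.P_le_centralizer] at hc'
  set T : Sylow 2 G := c⁻¹ • C.P with hTdef
  have hmemT : ∀ x, x ∈ (T : Subgroup G) ↔ c * x * c⁻¹ ∈ (C.P : Subgroup G) := fun x => by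
    rw [hTdef, Sylow.coe_subgroup_smul, mem_pointwise_smul_iff_inv_smul_mem]
    simp [MulAut.smul_def, mul_assoc]
  have hT : (T : Subgroup G) ≤ centralizer ({C.z} : Set G) := fun x hx => by
    have h := C.P_le_centralizer ((hmemT x).1 hx)
    have := mul_mem (mul_mem (inv_mem hc) h) hc
    rwa [show c⁻¹ * (c * x * c⁻¹) * c = x by group] at this
  have hS₀T : S₀ ≤ (T : Subgroup G) := fun x hx => (hmemT x).2 (hc' x hx)
  have hsT : s ∈ (T : Subgroup G) := by
    obtain ⟨d, hd, hd'⟩ := exists_conj_le_in (K := X) (zpowers_le.2 (mem_inf.2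
      ⟨mem_centralizer_singleton_iff.2 hsz.eq, mem_centralizer_singleton_iff.2 rfl⟩))
      (isPGroup_zpowers_of_pow (n := 1) (by rw [pow_one, sq, C.mul_self_Z hs])) R
    have := hS₀T (hd' s (mem_zpowers _))
    rwa [mul_inv_eq_iff_eq_mul.2 (mem_centralizer_singleton_iff.1 (mem_inf.1 hd).2)] at this
  obtain ⟨e, he, he'⟩ := exists_conj_le_in
    (zpowers_le.2 (mem_centralizer_singleton_iff.2 hu₀z.eq) : zpowers u₀ ≤ _)
    (isPGroup_zpowers_of_pow (n := 1) (by rw [pow_one, sq, mul_self_eq_one hu₀.1.1]))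
    (T.subtype hT)
  rw [Sylow.coe_subtype, subgroupOf_map_subtype, inf_eq_left.2 hT] at he'
  obtain ⟨u, hu, huT⟩ : ∃ u, C.Poor u ∧ u ∈ (T : Subgroup G) :=
    ⟨_, hu₀.conj_poor C e, he' u₀ (mem_zpowers _)⟩
  -- the normalizer of the four group
  set P := (T : Subgroup G)
  by_cases hn : ∀ t ∈ P, t * s * t⁻¹ = s ∨ t * s * t⁻¹ = s * C.z
  · exact C.not_normal_four hfaith hgen hT hu huT hs hsT hne hn
  have hzz := C.mul_self_Z C.z_mem_Z
  have hconjz : ∀ t ∈ P, t * C.z * t⁻¹ = C.z := fun t ht =>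
    mul_inv_eq_iff_eq_mul.2 (C.commute_z hT ht).eq
  let N : Subgroup ↥P :=
    { carrier := {t | (t : G) * s * (t : G)⁻¹ = s ∨ (t : G) * s * (t : G)⁻¹ = s * C.z}
      one_mem' := Or.inl (by simp)
      mul_mem' := by
        rintro a b ha hb
        have e : ((a * b : ↥P) : G) * s * ((a * b : ↥P) : G)⁻¹
            = (a : G) * ((b : G) * s * (b : G)⁻¹) * (a : G)⁻¹ := by simp [mul_assoc]
        show _ ∨ _
        rw [e]
        rcases hb with h | h <;> rw [h]
        · exact ha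
        · rw [← conj_mul, hconjz a a.2]
          rcases ha with h' | h' <;> rw [h']
          · exact Or.inr rfl
          · exact Or.inl (by rw [mul_assoc, hzz, mul_one])
      inv_mem' := by
        rintro a ha
        have key : ∀ {y : G}, (a : G) * s * (a : G)⁻¹ = y → (a : G)⁻¹ * y * (a : G) = s :=
          fun {y} h => by rw [← h]; group
        show ((a⁻¹ : ↥P) : G) * s * ((a⁻¹ : ↥P) : G)⁻¹ = s ∨ _
        rw [Subgroup.coe_inv, inv_inv]
        rcases ha with h | h
        · exact Or.inl (key h)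
        · refine Or.inr ?_
          have h1 := key h
          have h2 := hconjz _ (inv_mem a.2)
          rw [inv_inv] at h2
          calc (a : G)⁻¹ * s * (a : G) = (a : G)⁻¹ * (s * C.z) * (a : G) * ((a : G)⁻¹ * C.z * (a : G)) := by
                rw [show (a : G)⁻¹ * (s * C.z) * (a : G) * ((a : G)⁻¹ * C.z * (a : G))
                  = (a : G)⁻¹ * (s * (C.z * C.z)) * (a : G) by group, hzz, mul_one]
            _ = s * C.z := by rw [h1, h2] }
  have hN : N < ⊤ := lt_top_iff_ne_top.2 fun h => hn fun t ht => by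
    have : (⟨t, ht⟩ : ↥P) ∈ N := h ▸ mem_top _
    exact this
  haveI := T.2.isNilpotent
  obtain ⟨t, htn, htN⟩ := SetLike.exists_of_lt (Group.normalizerCondition_of_isNilpotent N hN)
  have hsN : (⟨s, hsT⟩ : ↥P) ∈ N := Or.inl (show s * s * s⁻¹ = s by group)
  have hconjN : ∀ {x : ↥P}, x ∈ N → t * x * t⁻¹ ∈ N ∧ t⁻¹ * x * t ∈ N := fun {x} hx => by
    refine ⟨(mem_normalizer_iff.1 htn x).1 hx, ?_⟩
    have := (mem_normalizer_iff.1 (inv_mem htn) x).1 hx
    rwa [inv_inv] at this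
  set s₁ := (t : G) * s * (t : G)⁻¹ with hs₁
  have hs₁Z : s₁ ∈ C.Z := C.conj_mem_Z hs _
  have hs₁T : s₁ ∈ P := mul_mem (mul_mem t.2 hsT) (inv_mem t.2)
  have hs₁z : s₁ ≠ C.z := fun h => hne (by
    rw [hs₁, mul_inv_eq_iff_eq_mul, ← (C.commute_z hT t.2).eq] at h
    exact mul_left_cancel h)
  have hnot : ¬ (s₁ = s ∨ s₁ = s * C.z) := htN
  -- elements of `N` normalise the second four group
  have hN₁ : ∀ x : ↥P, x ∈ N → (x : G) * s₁ * (x : G)⁻¹ = s₁ ∨ (x : G) * s₁ * (x : G)⁻¹ = s₁ * C.z := by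
    intro x hx
    have h' : ((t⁻¹ * x * t : ↥P) : G) * s * ((t⁻¹ * x * t : ↥P) : G)⁻¹ = s ∨
        ((t⁻¹ * x * t : ↥P) : G) * s * ((t⁻¹ * x * t : ↥P) : G)⁻¹ = s * C.z := (hconjN hx).2
    have e : (x : G) * s₁ * (x : G)⁻¹ =
        (t : G) * (((t⁻¹ * x * t : ↥P) : G) * s * ((t⁻¹ * x * t : ↥P) : G)⁻¹) * (t : G)⁻¹ := by
      rw [hs₁]; simp [mul_assoc]
    rw [e]
    rcases h' with h | h <;> rw [h]
    · exact Or.inl rfl
    · exact Or.inr (by rw [← conj_mul, hconjz t t.2])
  -- the two four groups do not commute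
  have hss₁ : ¬ Commute s₁ s := fun h => by
    rcases C.eq_of_commute_four hfaith hgen hT hu huT hs hsT hne hs₁Z hs₁T h with h' | h'
    · exact hs₁z h'
    · exact hnot h'
  -- the common centralizer is generated by `z`
  have hinv : ∀ {w : G}, w ∈ P → orderOf w = 2 → Commute w s → Commute w s₁ → w = C.z := by
    intro w hwT hw2 hws hws₁
    rcases C.mem_Z_or_bad hfaith hw2 with hZ | hB
    · rcases C.eq_of_commute_four hfaith hgen hT hu huT hs hsT hne hZ hwT hws with h | h | h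
      · exact h
      · exact absurd (h ▸ hws₁).symm hss₁
      · refine absurd ?_ hss₁
        have h' := (h ▸ hws₁ : Commute (s * C.z) s₁).symm.mul_right (C.commute_z hT hs₁T)
        rwa [mul_assoc, hzz, mul_one] at h'
    · exact absurd (C.commute_of_bad hT hB hwT hs hsz hne hws.symm hs₁Z hs₁T hws₁.symm hs hsT
        hws.symm) hss₁
  have hfour : ∀ {x : G}, x ∈ P → Commute x s → Commute x s₁ → x = 1 ∨ x = C.z := by
    intro x hxT hxs hxs₁
    obtain ⟨k, hk⟩ := IsPGroup.iff_orderOf.1 T.2 ⟨x, hxT⟩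
    rw [← Subgroup.orderOf_coe] at hk
    rcases k with _ | _ | k
    · exact Or.inl (orderOf_eq_one_iff.1 (hk.trans (pow_zero 2)))
    · exact Or.inr (hinv hxT (hk.trans (pow_one 2)) hxs hxs₁)
    exfalso
    -- a square root of `z` is carried to one of `s`
    set h := x ^ 2 ^ k with hh
    have hh4 : orderOf h = 4 := by
      rw [hh, orderOf_pow' _ (pow_ne_zero _ two_ne_zero), show orderOf x = 2 ^ (k + 1 + 1) from hk,
        Nat.gcd_eq_right (pow_dvd_pow 2 (by omega)), Nat.pow_div (by omega) two_pos,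
        show k + 1 + 1 - k = 2 by omega]
      norm_num
    have hh2 : h * h = C.z := by
      refine hinv (pow_mem hxT _ |> fun h' => mul_mem h' h') ?_ ((hxs.pow_left _).mul_left (hxs.pow_left _))
        ((hxs₁.pow_left _).mul_left (hxs₁.pow_left _))
      rw [← sq, orderOf_pow' _ two_ne_zero, hh4]; rfl
    obtain ⟨g, hgc, hg⟩ := hv.exists_move C hfaith (a := s * C.z) (b := C.z)
      (C.mul_mem_Z hfaith hs C.z_mem_Z hsz hne) C.z_mem_Z (hsz.symm.mul_right (Commute.refl _))
      (fun e => ne_one (C.orderOf_Z hs) (mul_eq_right.1 e.symm))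
    have hgz : g * C.z * g⁻¹ = s := by
      rw [hg, ← mul_assoc, ← hsz.eq, mul_assoc, hzz, mul_one]
    have hgs : g * s * g⁻¹ = C.z := by
      calc g * s * g⁻¹ = (g * (s * C.z) * g⁻¹) * (g * C.z * g⁻¹)⁻¹ := by group
        _ = C.z := by
            rw [hgz, mul_inv_eq_iff_eq_mul.2 hgc.eq, C.inv_Z hs, hsz.eq, mul_assoc,
              C.mul_self_Z hs, mul_one]
    set h' := g * h * g⁻¹
    have hh's : Commute h' s := by
      have := (Commute.conj_iff g).2 ((C.commute_z hT hxT).pow_left (2 ^ k))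
      rwa [hgz] at this
    have hh'z : Commute h' C.z := by
      have := (Commute.conj_iff g).2 (hxs.pow_left (2 ^ k))
      rwa [hgs] at this
    have hh'2 : h' * h' = s := by
      rw [← hgz, ← hh2]
      show g * h * g⁻¹ * (g * h * g⁻¹) = g * (h * h) * g⁻¹
      group
    obtain ⟨d, hd, hd'⟩ := exists_conj_le_in (K := X) (Q := zpowers h') (zpowers_le.2 (mem_inf.2
      ⟨mem_centralizer_singleton_iff.2 hh'z.eq, mem_centralizer_singleton_iff.2 hh's.eq⟩))
      (isPGroup_zpowers_of_pow (n := 2) (by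
        rw [show (2 : ℕ) ^ 2 = 2 * 2 by rfl, pow_mul, sq, sq, hh'2, C.mul_self_Z hs])) R
    have hd2 := mem_centralizer_singleton_iff.1 (mem_inf.1 hd).2
    set y := d * h' * d⁻¹
    have hyT : y ∈ P := hS₀T (hd' h' (mem_zpowers _))
    have hy2 : y * y = s := by
      rw [show y * y = d * (h' * h') * d⁻¹ from (by group : d * h' * d⁻¹ * (d * h' * d⁻¹) = _),
        hh'2, mul_inv_eq_iff_eq_mul.2 hd2]
    have hys : y * s * y⁻¹ = s := by rw [← hy2]; group
    have hyN : (⟨y, hyT⟩ : ↥P) ∈ N := Or.inl hys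
    refine hss₁ (Commute.symm (mul_inv_eq_iff_eq_mul.1 ?_))
    rw [← hy2, show y * y * s₁ * (y * y)⁻¹ = y * (y * s₁ * y⁻¹) * y⁻¹ by group]
    rcases hN₁ ⟨y, hyT⟩ hyN with h1 | h1 <;> rw [h1]
    · exact h1
    · rw [← conj_mul, h1, hconjz y hyT, mul_assoc, hzz, mul_one]
  refine C.not_self_centralizing hfaith hgen hT hu huT hs hsT hne hs₁T (fun h => hss₁ h.symm) ?_
  intro x hxT hxs
  rcases hN₁ ⟨x, hxT⟩ (Or.inl (mul_inv_eq_iff_eq_mul.2 hxs.eq)) with h | h
  · rcases hfour hxT hxs (mul_inv_eq_iff_eq_mul.1 h) with h' | h'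
    · exact Or.inl h'
    · exact Or.inr (Or.inl h')
  · have h1 : s * s₁ * s⁻¹ = s₁ * C.z :=
      (hN₁ ⟨s, hsT⟩ hsN).resolve_left fun e => hss₁ (mul_inv_eq_iff_eq_mul.1 e).symm
    have hfix : (x * s) * s₁ * (x * s)⁻¹ = s₁ := by
      calc (x * s) * s₁ * (x * s)⁻¹ = x * (s * s₁ * s⁻¹) * x⁻¹ := by group
        _ = (x * s₁ * x⁻¹) * (x * C.z * x⁻¹) := by rw [h1]; group
        _ = s₁ := by rw [hconjz x hxT]; rw [show x * s₁ * x⁻¹ = s₁ * C.z from h, mul_assoc, hzz, mul_one]
    rcases hfour (mul_mem hxT hsT) (hxs.mul_left (Commute.refl s))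
      (mul_inv_eq_iff_eq_mul.1 hfix) with h' | h'
    · exact Or.inr (Or.inr (Or.inl (by rw [eq_inv_of_mul_eq_one_left h', C.inv_Z hs])))
    · refine Or.inr (Or.inr (Or.inr ?_))
      rw [← h', ← mul_assoc, ← hxs.eq, mul_assoc, C.mul_self_Z hs, mul_one]

/-- The local group of every bad involution has two commuting involutions. -/
theorem Bad.pairRank_of_gen (hfaith : ∀ v : G, orderOf v = 2 → ∃ c : C.Pt, v • c ≠ c)
    (hgen : closure C.Z = ⊤) {v : G} (hv : C.Bad v) : PairRank ↥(C.L v) := by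
  by_contra hp
  exact Poor.false C hfaith hgen ⟨hv, fun x hx y hy h => by_contra fun hne =>
    hp (C.pairRank_L hx hy h hne)⟩

end Ctx

end CfsgLib.Criterion
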