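import Cfsg.Agent.Criterion.BigKernel
import Cfsg.Agent.Criterion.CaseOne
import Cfsg.Agent.Criterion.CaseTwo
import Cfsg.Agent.Criterion.LayerEnd
import Cfsg.Agent.Criterion.RankOne

/-!
# The strong embedding criterion: assembly

With `G` generated by the class and faithful on the points, every bad involution gives a largest
two-point stabiliser at the base point; the three cases are `L₂` crossed (`CaseOne`), `L₂` uncrossed
and the Suzuki / unitary types.
-/

set_option autoImplicit false
set_option linter.style.haveILetI false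
set_option linter.unusedSectionVars false

namespace CfsgLib.Criterion

open Subgroup CfsgLib.Invol CfsgLib.Bender

universe u

variable {G : Type u} [Group G] [Finite G]

namespace Ctx

variable (C : Ctx G)

/-- A largest pair at another point of the orbit. -/
theorem MaxPair.conj {v : G} {a b : C.Pt} {D : Subgroup G} (hM : C.MaxPair v a b D) (g : G) :
    C.MaxPair (g * v * g⁻¹) (g • a) (g • b) (D.map (MulAut.conj g).toMonoidHom) where
  ne e := hM.ne (smul_left_cancel g e)
  two := hM.two.map _
  mem := ⟨v, hM.mem, rfl⟩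
  fix := by
    rintro _ ⟨x, hx, rfl⟩
    obtain ⟨h1, h2, h3⟩ := hM.fix x hx
    refine ⟨?_, ?_, (Commute.conj_iff g).2 h3⟩
    · show (g * x * g⁻¹) • g • a = g • a
      rw [mul_smul, mul_smul, inv_smul_smul, h1]
    · show (g * x * g⁻¹) • g • b = g • b
      rw [mul_smul, mul_smul, inv_smul_smul, h2]
  max c d hcd P hP hfix := by
    rw [card_map_of_injective (MulAut.conj g).injective]
    exact hM.max c d hcd P hP hfix

/-- Involutions move a point when the action is faithful. -/
theorem exists_move_of_faithful (hfaith : ∀ g : G, (∀ c : C.Pt, g • c = c) → g = 1) {v : G}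
    (hv : orderOf v = 2) : ∃ c : C.Pt, v • c ≠ c := by
  by_contra h
  push Not at h
  rw [hfaith v h, orderOf_one] at hv
  omega

/-- **The strong embedding criterion**, from its two remaining cases: no involution fixes two
points. -/
theorem false_of_bad_of (hgen : closure C.Z = ⊤)
    (hfaith : ∀ g : G, (∀ c : C.Pt, g • c = c) → g = 1)
    (htype : ∀ (v : G) (b : C.Pt) (D E : Subgroup G), C.Bad v → C.MaxPair v C.base b D →
      C.IsE v C.base E →
      (C.qn v C.base = Nat.card E ^ 2 ∨ C.qn v C.base = Nat.card E ^ 3) → False)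
    (htwo : ∀ (v : G) (b : C.Pt) (D E : Subgroup G), C.Bad v → C.MaxPair v C.base b D →
      C.IsE v C.base E → C.qn v C.base = Nat.card E → C.Cross v C.base = ∅ → False)
    {v : G} (hv : C.Bad v) : False := by
  have hf : ∀ u : G, orderOf u = 2 → ∃ c : C.Pt, u • c ≠ c := fun u hu =>
    C.exists_move_of_faithful hfaith hu
  have hp : ∀ {u : G}, C.Bad u → PairRank ↥(C.L u) := fun hu =>
    Bad.pairRank_of_gen C hf hgen hu
  obtain ⟨w, a, b, D, hw, hwa, -, hM⟩ := C.exists_maxPair hv
  obtain ⟨g, hg⟩ : ∃ g : G, g • a = C.base := MulAction.exists_smul_eq G a C.base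
  have hM' := hM.conj C g
  rw [hg] at hM'
  have hw' : C.Bad (g * w * g⁻¹) := hw.conj_bad C g
  have hw'a := (hM'.fix _ hM'.mem).1
  obtain ⟨x, hx, hxw⟩ := C.exists_commute_at (mul_self_eq_one hw'.1) hw'a
  obtain ⟨E, hE, -⟩ := hw'.exists_E C (hp hw') hw'a (x := x) ⟨hx, hxw⟩
  rcases (hw'.qn_cases C (hp hw') hw'a hE).2 with h | h | h
  · rcases Set.eq_empty_or_nonempty (C.Cross (g * w * g⁻¹) C.base) with hne | hne
    · exact htwo _ _ _ _ hw' hM' hE h hne
    · exact hw'.false_case_one C hgen hf hfaith (hp hw') hM' hE hne h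
  · exact htype _ _ _ _ hw' hM' hE (Or.inl h)
  · exact htype _ _ _ _ hw' hM' hE (Or.inr h)

/-- The criterion from the exclusion of the two other types and the small kernels of the uncrossed
case. -/
theorem false_of_bad_of_parts (hgen : closure C.Z = ⊤)
    (hfaith : ∀ g : G, (∀ c : C.Pt, g • c = c) → g = 1)
    (htype : ∀ (v : G) (b : C.Pt) (D E : Subgroup G), C.Bad v → C.MaxPair v C.base b D →
      C.IsE v C.base E →
      (C.qn v C.base = Nat.card E ^ 2 ∨ C.qn v C.base = Nat.card E ^ 3) → False)
    (hsmall : C.SmallKernels)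
    {v : G} (hv : C.Bad v) : False :=
  C.false_of_bad_of hgen hfaith htype (fun w b D E hw hM hE hQ h0 => by
    have hf : ∀ u : G, orderOf u = 2 → ∃ c : C.Pt, u • c ≠ c := fun u hu =>
      C.exists_move_of_faithful hfaith hu
    obtain ⟨t, E', -, hL⟩ := hw.exists_lay C hf (fun u hu => Bad.pairRank_of_gen C hf hgen hu) hM hE
      h0 hQ hsmall
    exact hL.false_of_lay hgen) hv

/-- All kernels on fixed points have order 2. -/
theorem smallKernels (hfaith : ∀ g : G, (∀ c : C.Pt, g • c = c) → g = 1) : C.SmallKernels :=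
  fun _ _ _ _ _ K hn _ hr => K.eq_one_or_eq C hfaith hn hr

/-- **The strong embedding criterion** from the exclusion of the Suzuki and unitary types. -/
theorem false_of_bad_of_type (hgen : closure C.Z = ⊤)
    (hfaith : ∀ g : G, (∀ c : C.Pt, g • c = c) → g = 1)
    (htype : ∀ (v : G) (b : C.Pt) (D E : Subgroup G), C.Bad v → C.MaxPair v C.base b D →
      C.IsE v C.base E →
      (C.qn v C.base = Nat.card E ^ 2 ∨ C.qn v C.base = Nat.card E ^ 3) → False)
    {v : G} (hv : C.Bad v) : False :=
  C.false_of_bad_of_parts hgen hfaith htype (C.smallKernels hfaith) hv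

end Ctx

end CfsgLib.Criterion
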