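import Cfsg.Agent.Criterion.TypeNoh
import Cfsg.Agent.Criterion.Main

/-!
# The strong embedding criterion: the kernel of a Suzuki or unitary involution

Among the involutions central in a largest two-point group at the base point take `v` with most fixed
points; it is of Suzuki or unitary type.  The part `R` of that group fixing all fixed points of `v`
is then elementary with no further fixed points, so it is `⟨v⟩` or as in `Kern`.
-/

set_option autoImplicit false
set_option linter.style.haveILetI false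
set_option linter.unusedSectionVars false

namespace CfsgLib.Criterion

open Subgroup CfsgLib.Invol CfsgLib.Bender

universe u

variable {G : Type u} [Group G] [Finite G]

namespace Ctx

variable (C : Ctx G)

/-- `v` has most fixed points among the involutions central in largest pair groups at `a`. -/
def TopPair (v : G) (a : C.Pt) : Prop :=
  ∀ (u : G) (b : C.Pt) (D : Subgroup G), C.Bad u → C.MaxPair u a b D → C.qn u a ≤ C.qn v a

/-- The Suzuki or unitary type with most fixed points. -/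
structure TypePair (v : G) (b : C.Pt) (D E : Subgroup G) : Prop where
  bad : C.Bad v
  maxPair : C.MaxPair v C.base b D
  isE : C.IsE v C.base E
  type : C.qn v C.base = Nat.card E ^ 2 ∨ C.qn v C.base = Nat.card E ^ 3
  top : C.TopPair v C.base

/-- A central involution of the pair group fixing all fixed points of a `v` with most fixed points has
no further one. -/
theorem TopPair.fix_eq {v : G} {a b : C.Pt} {D : Subgroup G} (hT : C.TopPair v a) (hv : C.Bad v)
    (hM : C.MaxPair v a b D) {r : G} (hr : r ∈ D) (hr2 : orderOf r = 2)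
    (hcen : ∀ d ∈ D, Commute d r) (hfix : ∀ c : C.Pt, v • c = c → r • c = c) (c : C.Pt) :
    r • c = c ↔ v • c = c := by
  classical
  obtain ⟨hva, hvb, -⟩ := hM.fix v hM.mem
  have hbr : C.Bad r := ⟨hr2, a, b, hM.ne, hfix a hva, hfix b hvb⟩
  have hle := hT r b D hbr ⟨hM.ne, hM.two, hr, fun g hg => ⟨(hM.fix g hg).1, (hM.fix g hg).2.1,
    hcen g hg⟩, hM.max⟩
  refine ⟨fun h => ?_, hfix c⟩
  by_contra hvc
  haveI := Fintype.ofFinite C.Pt
  have hlt : C.qn v a < C.qn r a := by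
    rw [Ctx.qn, Ctx.qn, Nat.card_eq_fintype_card, Nat.card_eq_fintype_card, Fintype.card_subtype,
      Fintype.card_subtype]
    refine Finset.card_lt_card ((Finset.ssubset_iff_of_subset fun d hd => ?_).2
      ⟨c, Finset.mem_filter.2 ⟨Finset.mem_univ _, h, fun e => hvc (e ▸ hva)⟩,
        fun hc => hvc (Finset.mem_filter.1 hc).2.1⟩)
    obtain ⟨-, hd1, hd2⟩ := Finset.mem_filter.1 hd
    exact Finset.mem_filter.2 ⟨Finset.mem_univ _, hfix d hd1, hd2⟩
  omega

/-- For `v` with most fixed points no element of the kernel in the pair group fixes also all fixed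
points of `v x`, for `x` centralised by a largest 2-group at `a` over that group. -/
theorem Bad.kernel_free {v : G} (hv : C.Bad v) {a b : C.Pt} {D : Subgroup G} (hM : C.MaxPair v a b D)
    (hT : C.TopPair v a) {x : G} (hxE : x ∈ C.Ea v a) (hu : C.Bad (v * x))
    (hDx : ∀ d ∈ D, Commute d x) {r : G} (hr : r ∈ D ⊓ C.fixAll v)
    (hr' : r ∈ C.fixAll (v * x)) : r = 1 := by
  classical
  haveI : Fact (Nat.Prime 2) := ⟨Nat.prime_two⟩
  set R := D ⊓ C.fixAll v with hR
  set K1 := R ⊓ C.fixAll (v * x) with hK1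
  by_contra hne
  have hK1D : K1 ≤ D := inf_le_left.trans inf_le_left
  letI : MulAction ↥D ↥K1 :=
    { smul := fun d k => ⟨(d : G) * k * (d : G)⁻¹, mem_inf.2 ⟨mem_inf.2
          ⟨mul_mem (mul_mem d.2 (hK1D k.2)) (inv_mem d.2),
            C.conj_mem_fixAll (hM.fix d d.2).2.2 (mem_inf.1 (mem_inf.1 k.2).1).2⟩,
          C.conj_mem_fixAll ((hM.fix d d.2).2.2.mul_right (hDx d d.2)) (mem_inf.1 k.2).2⟩⟩
      one_smul := fun k => Subtype.ext (show ((1 : ↥D) : G) * k * ((1 : ↥D) : G)⁻¹ = k by simp)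
      mul_smul := fun d d' k => Subtype.ext (show ((d * d' : ↥D) : G) * k * ((d * d' : ↥D) : G)⁻¹ =
        (d : G) * ((d' : G) * k * (d' : G)⁻¹) * (d : G)⁻¹ by rw [Subgroup.coe_mul]; group) }
  obtain ⟨n, hn⟩ := IsPGroup.iff_card.1 (hM.two.to_le hK1D)
  have h2 : 2 ∣ Nat.card K1 := by
    rw [hn]
    refine dvd_pow_self 2 fun h => hne ?_
    rw [h, pow_zero] at hn
    haveI := (Nat.card_eq_one_iff_unique.1 hn).1
    exact congrArg Subtype.val (Subsingleton.elim (⟨r, mem_inf.2 ⟨hr, hr'⟩⟩ : ↥K1) 1)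
  obtain ⟨k, hk, hk1⟩ := hM.two.exists_fixed_point_of_prime_dvd_card_of_fixed_point _ h2
    (a := (1 : ↥K1)) fun d => Subtype.ext (show (d : G) * ((1 : ↥K1) : G) * (d : G)⁻¹ = _ by simp)
  have hkc : ∀ d ∈ D, Commute d (k : G) := fun d hd =>
    mul_inv_eq_iff_eq_mul.1 (congrArg Subtype.val (hk ⟨d, hd⟩))
  -- an involution among its powers
  obtain ⟨l, hl⟩ := hM.two ⟨k, hK1D k.2⟩
  obtain ⟨j, -, hj⟩ := (Nat.dvd_prime_pow Nat.prime_two).1
    (orderOf_dvd_of_pow_eq_one (show (k : G) ^ 2 ^ l = 1 from congrArg Subtype.val hl))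
  have hj0 : j ≠ 0 := fun h => hk1 (Subtype.ext (orderOf_eq_one_iff.1 (by rw [hj, h, pow_zero])).symm)
  have hw : orderOf ((k : G) ^ 2 ^ (j - 1)) = 2 := by
    rw [orderOf_pow' _ (by positivity), hj, Nat.gcd_eq_right (pow_dvd_pow 2 (Nat.sub_le j 1)),
      Nat.pow_div (Nat.sub_le j 1) two_pos, show j - (j - 1) = 1 by omega, pow_one]
  have hwK := pow_mem k.2 (2 ^ (j - 1))
  have hfix := hT.fix_eq C hv hM (hK1D hwK) hw (fun d hd => (hkc d hd).pow_right _)
    (mem_inf.1 (mem_inf.1 hwK).1).2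
  obtain ⟨c, hca, hc⟩ := hu.exists_other C a
  refine hca (C.fix_unique hxE.1.1 ?_ hxE.1.2)
  have h2' := (hfix c).1 ((mem_inf.1 hwK).2 c hc)
  have h3 := congrArg (v • ·) hc
  simp only [smul_smul, ← mul_assoc, mul_self_eq_one hv.1, one_mul, h2'] at h3
  exact h3

/-- An element of a largest 2-group at `a` for `v x` fixing all fixed points of `v` centralises the
part of that group in the local group of `v x`. -/
theorem Bad.commute_line {v : G} (hv : C.Bad v) (hf : ∀ v : G, orderOf v = 2 → ∃ c : C.Pt, v • c ≠ c)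
    {a b : C.Pt} (hba : b ≠ a) (hvb : v • b = b) {E : Subgroup G} (hE : C.IsE v a E) {x : G}
    (hx : x ∈ E) (hx1 : x ≠ 1) (hE' : C.IsE (v * x) a E) {P : Subgroup G} (hP : IsPGroup 2 P)
    (hEP : E ≤ P) (hPa : ∀ g ∈ P, g • a = a ∧ Commute g v ∧ Commute g x) {r : G} (hrP : r ∈ P)
    (hR : ∀ c : C.Pt, v • c = c → r • c = c) {s : G} (hs : s ∈ P) (hsL : s ∈ C.L (v * x)) :
    Commute r s := by
  haveI : Fact (Nat.Prime 2) := ⟨Nat.prime_two⟩
  have hu : C.Bad (v * x) := hv.mul_bad C (hf v hv.1) ⟨(hE.mem x hx hx1).1.1, (hE.mem x hx hx1).2⟩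
  set y := r * s * r⁻¹ * s⁻¹ with hy
  have hyP : y ∈ P := mul_mem (mul_mem (mul_mem hrP hs) (inv_mem hrP)) (inv_mem hs)
  have hyL : y ∈ C.L (v * x) := mul_mem
    (C.conj_mem_L_of_commute ((hPa r hrP).2.1.mul_right (hPa r hrP).2.2) hsL) (inv_mem hsL)
  have hyR : ∀ c : C.Pt, v • c = c → y • c = c := by
    intro c hc
    have hc' : v • (s⁻¹ • c) = s⁻¹ • c := by
      rw [smul_smul, ← (hPa s hs).2.1.inv_left.eq, mul_smul, hc]
    rw [hy, mul_smul, mul_smul, mul_smul, inv_smul_eq_iff.2 (hR _ hc').symm, smul_inv_smul, hR c hc]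
  refine mul_inv_eq_iff_eq_mul.1 (mul_inv_eq_one.1 (?_ : y = 1))
  by_contra hy1
  -- the involution among the powers of `y`
  obtain ⟨i, hi⟩ := hP ⟨y, hyP⟩
  obtain ⟨l, -, hl⟩ := (Nat.dvd_prime_pow Nat.prime_two).1
    (orderOf_dvd_of_pow_eq_one (show y ^ 2 ^ i = 1 from congrArg Subtype.val hi))
  have hl0 : l ≠ 0 := fun h => hy1 (orderOf_eq_one_iff.1 (by rw [hl, h, pow_zero]))
  have hw : orderOf (y ^ 2 ^ (l - 1)) = 2 := by
    rw [orderOf_pow' _ (by positivity), hl, Nat.gcd_eq_right (pow_dvd_pow 2 (Nat.sub_le l 1)),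
      Nat.pow_div (Nat.sub_le l 1) two_pos, show l - (l - 1) = 1 by omega, pow_one]
  have hwE : y ^ 2 ^ (l - 1) ∈ E := hE'.mem_of_two C
    (hu.mem_Ea C (pow_mem hyL _) hw (hPa _ (pow_mem hyP _)).1) hP hEP (pow_mem hyP _)
  refine hba (C.fix_unique (hE.mem _ hwE (ne_one hw)).1.1 ?_ (hE.mem _ hwE (ne_one hw)).1.2)
  exact MulAction.mem_stabilizer_iff.1
    (pow_mem (MulAction.mem_stabilizer_iff.2 (hyR b hvb)) _)

/-- For `v` with most fixed points the kernel in the pair group is elementary, and its elements fix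
nothing else. -/
theorem Bad.kernel_props {v : G} (hv : C.Bad v) (hf : ∀ v : G, orderOf v = 2 → ∃ c : C.Pt, v • c ≠ c)
    (hp : PairRank ↥(C.L v)) {a b : C.Pt} {D E : Subgroup G} (hM : C.MaxPair v a b D)
    (hT : C.TopPair v a) (hE : C.IsE v a E) {r : G} (hr : r ∈ D ⊓ C.fixAll v) :
    r * r = 1 ∧ (r ≠ 1 → ∀ c : C.Pt, r • c = c → v • c = c) := by
  classical
  haveI : Fact (Nat.Prime 2) := ⟨Nat.prime_two⟩
  obtain ⟨hva, hvb, -⟩ := hM.fix v hM.mem
  have hvv := mul_self_eq_one hv.1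
  obtain ⟨x₀, hx₀, hx₀v⟩ := C.exists_commute_at hvv hva
  obtain ⟨P, E', x, hP, hDP, hPa, hmax, hE', -, hEP, -, hx, hx1, hPx⟩ :=
    hv.exists_big_two C hva hE (Bad.one_lt_E C ⟨hx₀, hx₀v⟩ hE) hM.two
      fun g hg => ⟨(hM.fix g hg).1, (hM.fix g hg).2.2⟩
  have hxE := hE'.mem x hx hx1
  obtain ⟨hu, hua, -, hpu⟩ := hv.mul_Ea C hf hp hva hxE
  have hE'u := hv.isE_mul C hf hp hva hE' hx hx1
  have hmax' := hv.max_two_mul C hf hp hva hE' hx hmax
  set R := D ⊓ C.fixAll v with hR
  have hvR : v ∈ R := mem_inf.2 ⟨hM.mem, fun c hc => hc⟩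
  have hRP : R ≤ P := inf_le_left.trans hDP
  obtain ⟨ψ, hψE, hψm, hψf, -⟩ := hv.exists_graph C hf hM.ne.symm hvb hva hE' hx hx1 hpu
    hE'u hP hEP (fun g hg => ⟨(hPa g hg).1, (hPa g hg).2, hPx g hg⟩) hmax' hRP hvR
    fun g hg => (mem_inf.1 hg).2
  have hfree : ∀ {r : G}, r ∈ R → r ∈ C.fixAll (v * x) → r = 1 := fun {r} h h' =>
    hv.kernel_free C hM hT hxE hu (fun d hd => hPx d (hDP hd)) h h'
  refine ⟨hfree (mul_mem hr hr) fun c hc => ?_, fun hr1 c hrc => ?_⟩
  · have h := hψf (⟨r, hr⟩ * ⟨r, hr⟩) c hc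
    rwa [hψm, hE'.mul_self C (hψE _), one_mul] at h
  by_contra hvc
  obtain ⟨hrD, hrF⟩ := mem_inf.1 hr
  have hrv : Commute r v := (hM.fix r hrD).2.2
  -- a swapper of `c`, `v c` centralising `v` and `r`
  obtain ⟨w, ⟨hwX, hwv⟩, hwr⟩ : ∃ w, w ∈ C.CX v c ∧ Commute w r := by
    have hrr : r * r = 1 := hfree (mul_mem hr hr) fun c hc => by
      have h := hψf (⟨r, hr⟩ * ⟨r, hr⟩) c hc
      rwa [hψm, hE'.mul_self C (hψE _), one_mul] at h
    have hri : r⁻¹ = r := inv_eq_of_mul_eq_one_right hrr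
    have hvi : v⁻¹ = v := inv_eq_self hv.1
    have hrvc : r • (v • c) = v • c := by rw [smul_smul, hrv.eq, mul_smul, hrc]
    have hXc : ∀ w ∈ C.X c (v • c), v * w * v⁻¹ ∈ C.X c (v • c) := fun w hw => by
      have := C.conj_mem_X (g := v) hw
      rw [smul_smul, hvv, one_smul] at this
      exact C.X_symm this
    have hodd : Odd (Nat.card (C.CX v c)) := by
      have h := odd_card_fixed (α := C.X c (v • c))
        (by rw [C.card_X (Ne.symm hvc)]; exact C.odd_Za _)
        (f := fun w => (⟨v * w.1 * v⁻¹, hXc _ w.2⟩ : C.X c (v • c)))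
        (fun w => Subtype.ext (show v * (v * w.1 * v⁻¹) * v⁻¹ = w.1 by
          rw [hvi, show v * (v * w.1 * v) * v = v * v * w.1 * (v * v) by group, hvv, one_mul, mul_one]))
      let e : {w : C.X c (v • c) // (⟨v * w.1 * v⁻¹, hXc _ w.2⟩ : C.X c (v • c)) = w} ≃ C.CX v c :=
        { toFun := fun w => ⟨w.1.1, w.1.2,
            ((mul_inv_eq_iff_eq_mul.1 (congrArg Subtype.val w.2)).symm : w.1.1 * v = v * w.1.1)⟩
          invFun := fun w => ⟨⟨w.1, w.2.1⟩, Subtype.ext
            (mul_inv_eq_iff_eq_mul.2 (w.2.2.eq.symm : v * w.1 = w.1 * v))⟩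
          left_inv := fun _ => rfl
          right_inv := fun _ => rfl }
      exact Nat.card_congr e ▸ h
    obtain ⟨⟨w, hw⟩, hfix⟩ := exists_fixed_of_involutive hodd
      (f := fun w => (⟨r * w.1 * r⁻¹, by
          have := C.conj_mem_X (g := r) w.2.1
          rwa [hrc, hrvc] at this,
        by have h := (Commute.conj_iff r).2 w.2.2
           rwa [mul_inv_eq_iff_eq_mul.2 hrv.eq] at h⟩ : C.CX v c))
      (fun w => Subtype.ext (show r * (r * w.1 * r⁻¹) * r⁻¹ = w.1 by
        rw [hri, show r * (r * w.1 * r) * r = r * r * w.1 * (r * r) by group, hrr, one_mul, mul_one]))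
    exact ⟨w, hw, ((mul_inv_eq_iff_eq_mul.1 (congrArg Subtype.val hfix)).symm : w * r = r * w)⟩
  obtain ⟨p, hp'⟩ := C.exists_fix hwX.1
  obtain ⟨l, hl, hla, hlx, hlvw⟩ := hv.exists_carry C ⟨hwX.1, hwv⟩ hp' hxE
  -- on `Fix (v x)` the commutator of `l` and `r` is trivial
  have hlv : Commute l v := C.commute_of_mem_L hl
  set o := l * r * l⁻¹ * r⁻¹ with ho
  have hoO : o ∈ C.Om v := by
    refine C.mem_Om.2 ⟨?_, fun d hd => ?_⟩
    · rw [ho, show l * r * l⁻¹ * r⁻¹ = l * (r * l⁻¹ * r⁻¹) by group]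
      exact mul_mem hl (C.conj_mem_L_of_commute hrv (inv_mem hl))
    · have hd' : v • (l⁻¹ • d) = l⁻¹ • d := by
        rw [smul_smul, ← hlv.inv_left.eq, mul_smul, hd]
      rw [ho, mul_smul, mul_smul, mul_smul, inv_smul_eq_iff.2 (hrF d hd).symm, hrF _ hd', smul_inv_smul]
  have hrx : Commute r x := hPx r (hDP hrD)
  have hox : Commute o x := by
    have h1 : Commute (l * r * l⁻¹) x := by
      have h := (Commute.conj_iff l).2 hwr.symm
      rwa [hlx] at h
    exact h1.mul_left hrx.inv_left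
  set c' := l • c with hc'
  have hvwc : (v * w) • c = c := by rw [mul_smul, hwX.2, smul_smul, hvv, one_smul]
  have hc'u : (v * x) • c' = c' := by
    rw [hc', ← hlvw, mul_smul, mul_smul, inv_smul_smul, hvwc]
  have hc'a : c' ≠ a := fun h => hvc (by
    have h2 : v • l • c = l • c := by rw [← hc', h, hva]
    rwa [smul_smul, ← hlv.eq, mul_smul, smul_left_cancel_iff] at h2)
  have hrc' : r • c' = c' := by
    have h1 : (l * r * l⁻¹) • c' = c' := by rw [hc', mul_smul, mul_smul, inv_smul_smul, hrc]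
    rw [show l * r * l⁻¹ = o * r by rw [ho]; group, mul_smul] at h1
    have h2 := hv.fix_of_central C hf hp hva hxE hoO hox hc'u
    exact smul_left_cancel o (h1.trans h2.symm)
  -- so `r` fixes all of `Fix (v x)`
  refine hr1 (hfree hr fun d hd => ?_)
  by_cases hda : d = a
  · rw [hda, hrF a hva]
  obtain ⟨s, hs, hsL, hsd⟩ := hu.exists_two_move C hpu hua hE'u hP
    (fun g hg => ⟨(hPa g hg).1, (hPa g hg).2.mul_right (hPx g hg)⟩) hmax' hc'u hd hc'a hda
  have hrs : Commute r s := (hv.commute_line C hf hM.ne.symm hvb hE' hx hx1 hE'u hP hEP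
    (fun g hg => ⟨(hPa g hg).1, (hPa g hg).2, hPx g hg⟩) (hRP hr) hrF hs hsL)
  rw [← hsd, smul_smul, hrs.eq, mul_smul, hrc']

/-- The exclusion of the Suzuki and unitary types from its parts: the kernel `⟨v⟩` and one fact
on a larger kernel: elementary groups of its size in the pair group centralising `E` meet it. -/
theorem false_of_type_parts (hgen : closure C.Z = ⊤)
    (hfaith : ∀ g : G, (∀ c : C.Pt, g • c = c) → g = 1)
    (hone : ∀ (v : G) (b : C.Pt) (D E : Subgroup G), C.TypePair v b D E →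
      (∀ g ∈ D, (∀ c : C.Pt, v • c = c → g • c = c) → g = 1 ∨ g = v) → False)
    (hbig : ∀ (v : G) (b : C.Pt) (D E R : Subgroup G), C.TypePair v b D E →
      C.Kern v C.base b D E R →
      (∀ A : Subgroup G, A ≤ D → Nat.card A = Nat.card R →
        (∀ x ∈ A, x * x = 1 ∧ ∀ e ∈ E, Commute x e) → ∃ x ∈ A, x ∈ R ∧ x ≠ 1)) :
    ∀ (v : G) (b : C.Pt) (D E : Subgroup G), C.Bad v → C.MaxPair v C.base b D →
      C.IsE v C.base E →
      (C.qn v C.base = Nat.card E ^ 2 ∨ C.qn v C.base = Nat.card E ^ 3) → False := by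
  classical
  intro v₀ b₀ D₀ E₀ hv₀ hM₀ _ _
  have hf : ∀ u : G, orderOf u = 2 → ∃ c : C.Pt, u • c ≠ c := fun u hu =>
    C.exists_move_of_faithful hfaith hu
  have hp : ∀ {u : G}, C.Bad u → PairRank ↥(C.L u) := fun hu =>
    Bad.pairRank_of_gen C hf hgen hu
  -- the choice of `v`
  let T : Type u := {t : G × C.Pt × Subgroup G // C.Bad t.1 ∧ C.MaxPair t.1 C.base t.2.1 t.2.2}
  haveI : Finite (Subgroup G) := Finite.of_injective (fun H : Subgroup G => (H : Set G)) SetLike.coe_injective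
  haveI : Nonempty T := ⟨⟨(v₀, b₀, D₀), hv₀, hM₀⟩⟩
  obtain ⟨⟨⟨v, b, D⟩, hv, hM⟩, hmax⟩ := Finite.exists_max (fun t : T => C.qn t.1.1 C.base)
  have hT : C.TopPair v C.base := fun u c D' hu hM' => hmax ⟨(u, c, D'), hu, hM'⟩
  have hva := (hM.fix v hM.mem).1
  obtain ⟨x, hx, hxv⟩ := C.exists_commute_at (mul_self_eq_one hv.1) hva
  obtain ⟨E, hE, -⟩ := hv.exists_E C (hp hv) hva (x := x) ⟨hx, hxv⟩
  have htype : C.qn v C.base = Nat.card E ^ 2 ∨ C.qn v C.base = Nat.card E ^ 3 := by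
    rcases (hv.qn_cases C (hp hv) hva hE).2 with h | h | h
    · exfalso
      rcases Set.eq_empty_or_nonempty (C.Cross v C.base) with hne | hne
      · obtain ⟨t, E', -, hL⟩ := hv.exists_lay C hf (fun u hu => hp hu) hM hE hne h
          (C.smallKernels hfaith)
        exact hL.false_of_lay hgen
      · exact hv.false_case_one C hgen hf hfaith (hp hv) hM hE hne h
    · exact Or.inl h
    · exact Or.inr h
  have hTP : C.TypePair v b D E := ⟨hv, hM, hE, htype, hT⟩
  set R := D ⊓ C.fixAll v with hR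
  by_cases hsmall : ∀ g ∈ D, (∀ c : C.Pt, v • c = c → g • c = c) → g = 1 ∨ g = v
  · exact hone v b D E hTP hsmall
  push Not at hsmall
  obtain ⟨g, hg, hgF, hg1, hgv⟩ := hsmall
  have hK : C.Kern v C.base b D E R :=
    { bad := hv
      faith := hfaith
      pair := fun u hu => hp hu
      maxPair := hM
      isE := hE
      le := inf_le_left
      mem := mem_inf.2 ⟨hM.mem, fun c hc => hc⟩
      sq := fun r hr => (hv.kernel_props C hf (hp hv) hM hT hE hr).1
      fixed := fun r hr hr1 c =>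
        ⟨(hv.kernel_props C hf (hp hv) hM hT hE hr).2 hr1 c, (mem_inf.1 hr).2 c⟩
      ker := fun g hg h => mem_inf.2 ⟨hg, h⟩
      big := by
        haveI : Fact (Nat.Prime 2) := ⟨Nat.prime_two⟩
        haveI := Fintype.ofFinite R
        obtain ⟨k, hk⟩ := IsPGroup.iff_card.1 (hM.two.to_le (inf_le_left : R ≤ D))
        have h3 : 3 ≤ Nat.card R := by
          have h := Finset.card_le_univ ({1, ⟨g, mem_inf.2 ⟨hg, hgF⟩⟩,
            ⟨v, mem_inf.2 ⟨hM.mem, fun c hc => hc⟩⟩} : Finset R)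
          rw [Finset.card_insert_of_notMem, Finset.card_insert_of_notMem, Finset.card_singleton,
            ← Nat.card_eq_fintype_card] at h
          · exact h
          · simp only [Finset.mem_singleton]
            exact fun e => hgv (congrArg Subtype.val e)
          · simp only [Finset.mem_insert, Finset.mem_singleton, not_or]
            exact ⟨fun e => hg1 (congrArg Subtype.val e).symm,
              fun e => ne_one hv.1 (congrArg Subtype.val e).symm⟩
        rw [hk] at h3 ⊢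
        rcases k with _ | _ | k
        · norm_num at h3
        · norm_num at h3
        · exact Nat.le_of_dvd (by positivity) (pow_dvd_pow 2 (show 2 ≤ k + 1 + 1 by omega)) }
  exact hK.false_of_noh C hK.noh (fun g ha hv hE r hr h => hK.cent_R ha hv hE hr h)
    (hbig v b D E R hTP hK)

end Ctx

end CfsgLib.Criterion
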