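import Cfsg.Agent.Criterion.TypeSzOrbit
import Cfsg.Agent.Criterion.TypeReduce
import Cfsg.Agent.Criterion.TransferFull

/-!
# The strong embedding criterion: the Suzuki type with kernel `⟨v⟩` does not occur

The translations form a Sylow subgroup `T`; every fully centralised conjugate of `v` in `T` lies in
`v E`; so the transfer into `T / E` kills `v`.
-/

set_option autoImplicit false
set_option linter.style.haveILetI false
set_option linter.unusedSectionVars false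

namespace CfsgLib.Criterion

open Subgroup CfsgLib.Invol CfsgLib.Bender
open scoped Pointwise

universe u

variable {G : Type u} [Group G] [Finite G]

namespace Ctx

variable {C : Ctx G} {v : G} {a b : C.Pt} {D E P T : Subgroup G}

namespace SzT

variable (K : C.SzT v a b D E P T)
include K

theorem conj_E_of_sq {g : G} (hg : ∀ p ∈ P, g * p * g⁻¹ ∈ T) {e : G} (he : e ∈ E) :
    g * e * g⁻¹ ∈ E := by
  obtain ⟨s, hs, rfl⟩ := K.facts.sqrt e he
  rw [show g * (s * s) * g⁻¹ = g * s * g⁻¹ * (g * s * g⁻¹) by group]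
  exact K.sq_T (hg s hs.1)

theorem mem_E_iff {g : G} (hg : ∀ e ∈ E, g * e * g⁻¹ ∈ E) (e : G) : g * e * g⁻¹ ∈ E ↔ e ∈ E := by
  refine ⟨fun he => ?_, hg e⟩
  let f : E → E := fun y => ⟨g * y * g⁻¹, hg y y.2⟩
  have hf : Function.Injective f := fun y z h =>
    Subtype.ext (mul_left_cancel (mul_right_cancel (congrArg Subtype.val h :)))
  obtain ⟨⟨y, hy⟩, hye⟩ := (Finite.injective_iff_bijective.1 hf).2 ⟨_, he⟩
  rwa [← mul_left_cancel (mul_right_cancel (congrArg Subtype.val hye : g * y * g⁻¹ = g * e * g⁻¹))]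

/-- The translations form a Sylow subgroup. -/
theorem exists_sylow : ∃ S : Sylow 2 G, (S : Subgroup G) = T := by
  haveI : Fact (Nat.Prime 2) := ⟨Nat.prime_two⟩
  obtain ⟨S, hS⟩ := K.two.exists_le_sylow
  letI : MulAction ↥(S : Subgroup G) C.Pt := inferInstance
  obtain ⟨c, hc⟩ := S.isPGroup'.nonempty_fixed_point_of_prime_not_dvd_card C.Pt
    (fun h => Nat.not_even_iff_odd.2 C.odd_Pt (even_iff_two_dvd.2 h))
  have hc' : ∀ g ∈ (S : Subgroup G), g • c = c := fun g hg => hc ⟨g, hg⟩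
  obtain rfl : c = a := K.typ.eq_a_of_fixed fun g hg => hc' g (hS (K.le hg))
  refine ⟨S, ?_⟩
  by_contra hne
  haveI : Group.IsNilpotent ↥(S : Subgroup G) := S.isPGroup'.isNilpotent
  set T₁ := T.subgroupOf (S : Subgroup G)
  have hlt : T₁ < ⊤ := lt_top_iff_ne_top.2 fun h =>
    hne (le_antisymm (subgroupOf_eq_top.1 h) hS)
  obtain ⟨x, hx, hxT⟩ := SetLike.exists_of_lt (Group.normalizerCondition_of_isNilpotent T₁ hlt)
  set W := (S : Subgroup G) ⊓ normalizer (T : Set G) with hW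
  have hxW : (x : G) ∈ W := mem_inf.2 ⟨x.2, Subgroup.mem_normalizer_fintype fun g hg =>
    (mem_normalizer_iff.1 hx ⟨g, hS hg⟩).1 hg⟩
  have hTW : T ≤ W := le_inf hS le_normalizer
  have hWM : W ≤ K.M := by
    intro g hg
    obtain ⟨hgS, hgN⟩ := mem_inf.1 hg
    have hgT : ∀ p ∈ T, g * p * g⁻¹ ∈ T := fun p hp => (mem_normalizer_iff.1 hgN p).1 hp
    exact ⟨hc' g hgS, K.mem_E_iff fun e he => K.conj_E_of_sq (fun p hp => hgT p (K.le hp)) he,
      K.orbit hgT (hc' g hgS)⟩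
  have heq := eq_of_le_of_card_ge hTW (K.card_two_le (S.isPGroup'.to_le inf_le_left) hWM)
  exact hxT (show (x : G) ∈ T from heq ▸ hxW)

/-- Two largest 2-groups of `M` are conjugate in it. -/
theorem exists_conj_M {T' : Subgroup G} (h2 : IsPGroup 2 T') (hle : T' ≤ K.M)
    (hc : Nat.card T' = Nat.card T) : ∃ u ∈ K.M, ∀ x ∈ T', u * x * u⁻¹ ∈ T := by
  haveI : Fact (Nat.Prime 2) := ⟨Nat.prime_two⟩
  have hmax : ∀ {W : Subgroup G}, IsPGroup 2 W → W ≤ K.M → Nat.card W = Nat.card T →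
      ∃ S : Sylow 2 ↥K.M, (S : Subgroup ↥K.M) = W.subgroupOf K.M := by
    intro W hW hWM hc
    obtain ⟨S, hS⟩ := IsPGroup.exists_le_sylow (p := 2) (hW.of_equiv (subgroupOfEquivOfLe hWM).symm)
    refine ⟨S, (eq_of_le_of_card_ge hS ?_).symm⟩
    rw [Nat.card_congr (subgroupOfEquivOfLe hWM).toEquiv, hc,
      ← card_map_of_injective K.M.subtype_injective (K := (S : Subgroup ↥K.M))]
    exact K.card_two_le (S.2.map _) (map_subtype_le _)
  obtain ⟨S, hS⟩ := hmax h2 hle hc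
  obtain ⟨S', hS'⟩ := hmax K.two K.T_le_M rfl
  obtain ⟨u, hu⟩ := MulAction.exists_smul_eq ↥K.M S S'
  refine ⟨u, u.2, fun x hx => ?_⟩
  have h1 : u * ⟨x, hle hx⟩ * u⁻¹ ∈ (S' : Subgroup ↥K.M) := by
    rw [← hu, Sylow.coe_subgroup_smul]
    exact Subgroup.smul_mem_pointwise_smul _ (MulAut.conj u) _ (by rw [hS]; exact hx)
  rw [hS', mem_subgroupOf] at h1
  exact h1

/-- **Fully centralised conjugates of `v` in `T` lie in `v E`.** -/
theorem full_mem {u : G} (hu : u ∈ T) (hconj : IsConj v u)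
    (hodd : Odd (T.relIndex (centralizer ({u} : Set G)))) : u * v ∈ E := by
  haveI : Fact (Nat.Prime 2) := ⟨Nat.prime_two⟩
  obtain ⟨g₀, hg₀⟩ := isConj_iff.1 hconj
  set X := T ⊓ centralizer ({u} : Set G) with hX
  -- the centraliser in `T` is large
  have hXcard : Nat.card P ≤ Nat.card X := by
    have hle : P.map (MulAut.conj g₀).toMonoidHom ≤ centralizer ({u} : Set G) := by
      rintro _ ⟨p, hp, rfl⟩
      rw [mem_centralizer_singleton_iff, ← hg₀]
      exact ((Commute.conj_iff g₀).2 (K.commute_v hp)).eq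
    have h1 : Nat.card X * T.relIndex (centralizer ({u} : Set G)) =
        Nat.card (centralizer ({u} : Set G)) := by
      rw [← inf_relIndex_right, ← relIndex_bot_left, ← relIndex_bot_left (centralizer ({u} : Set G))]
      exact relIndex_mul_relIndex _ _ _ bot_le inf_le_right
    obtain ⟨k, hk⟩ := IsPGroup.iff_card.1 K.typ.two
    refine Nat.le_of_dvd Nat.card_pos ?_
    rw [hk]
    refine (Nat.Coprime.pow_left k (Nat.coprime_two_left.2 hodd)).dvd_of_dvd_mul_right ?_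
    rw [h1, ← hk, ← card_map_of_injective (f := (MulAut.conj g₀).toMonoidHom)
      (MulAut.conj g₀).injective (K := P)]
    exact card_dvd_of_le hle
  -- a carrier fixing `a`
  have hvp : v • (g₀⁻¹ • a) = g₀⁻¹ • a := by
    have h1 : u • a = a := (K.fix u hu).1
    rw [← hg₀, mul_smul, mul_smul] at h1
    exact eq_inv_smul_iff.2 h1
  obtain ⟨l, hl, hla⟩ := C.exists_mem_L_move K.typ.bad K.typ.va hvp
  set g₁ := g₀ * l with hg₁
  have hg₁a : g₁ • a = a := by rw [hg₁, mul_smul, hla, smul_inv_smul]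
  have hg₁v : g₁ * v * g₁⁻¹ = u := by
    rw [← hg₀, hg₁]
    calc g₀ * l * v * (g₀ * l)⁻¹ = g₀ * (l * v * l⁻¹) * g₀⁻¹ := by group
      _ = _ := by rw [C.L_conj_eq hl]
  -- carry the centraliser onto `P`
  set M₀ := centralizer ({v} : Set G) ⊓ MulAction.stabilizer G a with hM₀
  have hmem₀ : ∀ g : G, g ∈ M₀ ↔ g • a = a ∧ Commute g v := fun g => by
    rw [hM₀, mem_inf, mem_centralizer_singleton_iff, MulAction.mem_stabilizer_iff, and_comm]
    rfl
  set W := X.map (MulAut.conj g₁⁻¹).toMonoidHom with hW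
  have hW2 : IsPGroup 2 W := (K.two.to_le inf_le_left).map _
  have hWM : W ≤ M₀ := by
    rintro _ ⟨x, hx, rfl⟩
    obtain ⟨hxT, hxu⟩ := mem_inf.1 hx
    refine (hmem₀ _).2 ⟨?_, ?_⟩
    · show (g₁⁻¹ * x * g₁⁻¹⁻¹) • a = a
      rw [inv_inv, mul_smul, mul_smul, hg₁a, (K.fix x hxT).1, inv_smul_eq_iff, hg₁a]
    · have h := (Commute.conj_iff g₁⁻¹).2
        (mem_centralizer_singleton_iff.1 hxu : Commute x u)
      rwa [show g₁⁻¹ * u * g₁⁻¹⁻¹ = v by rw [← hg₁v]; group] at h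
  have hPM : P ≤ M₀ := fun p hp => (hmem₀ p).2 (K.typ.fix p hp)
  have hmax0 : ∀ {W : Subgroup G}, IsPGroup 2 W → W ≤ M₀ → Nat.card W ≤ Nat.card P :=
    fun hW hWM => K.typ.max _ hW fun x hx => (hmem₀ x).1 (hWM hx)
  have hWc : Nat.card W = Nat.card P := le_antisymm (hmax0 hW2 hWM) (by
    rw [hW, card_map_of_injective (MulAut.conj g₁⁻¹).injective]; exact hXcard)
  obtain ⟨R₁, hR₁⟩ := IsPGroup.exists_le_sylow (p := 2) (hW2.of_equiv (subgroupOfEquivOfLe hWM).symm)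
  obtain ⟨R, hR⟩ := IsPGroup.exists_le_sylow (p := 2)
    (K.typ.two.of_equiv (subgroupOfEquivOfLe hPM).symm)
  have hR₁e : (R₁ : Subgroup ↥M₀) = W.subgroupOf M₀ := (eq_of_le_of_card_ge hR₁ (by
    rw [Nat.card_congr (subgroupOfEquivOfLe hWM).toEquiv, hWc,
      ← card_map_of_injective M₀.subtype_injective (K := (R₁ : Subgroup ↥M₀))]
    exact hmax0 (R₁.2.map _) (map_subtype_le _))).symm
  obtain ⟨k, hk⟩ := MulAction.exists_smul_eq ↥M₀ R R₁
  obtain ⟨hka, hkv⟩ := (hmem₀ (k : G)).1 k.2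
  set g := g₁ * (k : G) with hg
  have hga : g • a = a := by rw [hg, mul_smul, hka, hg₁a]
  have hgv : g * v * g⁻¹ = u := by
    rw [← hg₁v, hg]
    calc g₁ * k * v * (g₁ * k)⁻¹ = g₁ * ((k : G) * v * (k : G)⁻¹) * g₁⁻¹ := by group
      _ = _ := by rw [mul_inv_eq_iff_eq_mul.2 hkv.eq]
  have hgP : ∀ p ∈ P, g * p * g⁻¹ ∈ T := by
    intro p hp
    have h1 : k * ⟨p, hPM hp⟩ * k⁻¹ ∈ (R₁ : Subgroup ↥M₀) := by
      rw [← hk, Sylow.coe_subgroup_smul]
      exact Subgroup.smul_mem_pointwise_smul _ (MulAut.conj k) _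
        (hR (show (⟨p, hPM hp⟩ : ↥M₀) ∈ P.subgroupOf M₀ from hp))
    rw [hR₁e, mem_subgroupOf] at h1
    obtain ⟨x, hx, e⟩ := h1
    have e' : g₁⁻¹ * x * g₁⁻¹⁻¹ = (k : G) * p * (k : G)⁻¹ := e
    have : g * p * g⁻¹ = x := by
      rw [hg, show g₁ * k * p * (g₁ * k)⁻¹ = g₁ * ((k : G) * p * (k : G)⁻¹) * g₁⁻¹ by group, ← e']
      group
    rw [this]
    exact (mem_inf.1 hx).1
  have hgE := K.mem_E_iff fun e he => K.conj_E_of_sq hgP he
  -- Burnside
  have hTM' : T.map (MulAut.conj g⁻¹).toMonoidHom ≤ K.M := by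
    rintro _ ⟨t, ht, rfl⟩
    refine ⟨?_, fun e => ?_, ?_⟩
    · show (g⁻¹ * t * g⁻¹⁻¹) • a = a
      rw [inv_inv, mul_smul, mul_smul, hga, (K.fix t ht).1, inv_smul_eq_iff, hga]
    · show g⁻¹ * t * g⁻¹⁻¹ * e * (g⁻¹ * t * g⁻¹⁻¹)⁻¹ ∈ E ↔ e ∈ E
      rw [← hgE, show g * (g⁻¹ * t * g⁻¹⁻¹ * e * (g⁻¹ * t * g⁻¹⁻¹)⁻¹) * g⁻¹ =
        t * (g * e * g⁻¹) * t⁻¹ by group, K.conj_E_iff ht, hgE]
    · show g⁻¹ * t * g⁻¹⁻¹ * v * (g⁻¹ * t * g⁻¹⁻¹)⁻¹ * v ∈ E
      rw [← hgE, show g * (g⁻¹ * t * g⁻¹⁻¹ * v * (g⁻¹ * t * g⁻¹⁻¹)⁻¹ * v) * g⁻¹ =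
        t * (g * v * g⁻¹) * t⁻¹ * (g * v * g⁻¹) by group, hgv]
      have := K.comm_mem ht hu
      rwa [show u⁻¹ = u from inv_eq_self (by rw [← hg₀, orderOf_conj_eq]; exact K.typ.bad.1)] at this
  obtain ⟨w, hwM, hw⟩ := K.exists_conj_M (K.two.map (MulAut.conj g⁻¹).toMonoidHom) hTM'
    (card_map_of_injective (MulAut.conj g⁻¹).injective)
  set n := g * w⁻¹ with hn
  have hnT : ∀ x ∈ T, n * x * n⁻¹ ∈ T := by
    intro x hx
    let f : ↥T → ↥T := fun t => ⟨w * (g⁻¹ * t * g⁻¹⁻¹) * w⁻¹, hw _ ⟨t, t.2, rfl⟩⟩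
    have hf : Function.Injective f := fun s t h => Subtype.ext (by
      have h1 := mul_left_cancel (mul_right_cancel (congrArg Subtype.val h :))
      exact mul_left_cancel (mul_right_cancel h1))
    obtain ⟨t, ht⟩ := (Finite.injective_iff_bijective.1 hf).2 ⟨x, hx⟩
    have e : x = w * (g⁻¹ * t * g⁻¹⁻¹) * w⁻¹ := (congrArg Subtype.val ht).symm
    rw [show n * x * n⁻¹ = (t : G) by rw [hn, e]; group]
    exact t.2
  have hna : n • a = a := by rw [hn, mul_smul, inv_smul_eq_iff.2 hwM.1.symm, hga]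
  have horb := K.orbit hnT hna
  obtain ⟨y, hy, ey⟩ := K.shift_M (inv_mem hwM)
  have hnv : n * v * n⁻¹ = u * (g * y * g⁻¹) := by
    rw [hn, show g * w⁻¹ * v * (g * w⁻¹)⁻¹ = g * (w⁻¹ * v * w⁻¹⁻¹) * g⁻¹ by group, ey, ← hgv]
    group
  have hey : g * y * g⁻¹ ∈ E := (hgE y).2 hy
  rw [hnv, mul_assoc, (K.typ.Ev hey).eq, ← mul_assoc] at horb
  exact (mul_mem_cancel_right hey).1 horb

end SzT

variable (C)

/-- **The Suzuki type with kernel `⟨v⟩` does not occur.** -/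
theorem false_of_suzuki_one (hgen : closure C.Z = ⊤)
    (hfaith : ∀ g : G, (∀ c : C.Pt, g • c = c) → g = 1) {v : G} {b : C.Pt} {D E : Subgroup G}
    (hT : C.TypePair v b D E) (hQ : C.qn v C.base = Nat.card E ^ 2)
    (hsmall : ∀ g ∈ D, (∀ c : C.Pt, v • c = c → g • c = c) → g = 1 ∨ g = v) : False := by
  classical
  have hf : ∀ u : G, orderOf u = 2 → ∃ c : C.Pt, u • c ≠ c := fun u hu =>
    C.exists_move_of_faithful hfaith hu
  obtain ⟨E', P, T, K, -⟩ := C.exists_szT hT.bad hfaith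
    (fun u hu => Bad.pairRank_of_gen C hf hgen hu) hT.maxPair hT.isE hQ hsmall
  obtain ⟨S, rfl⟩ := K.exists_sylow
  set E₁ := E'.subgroupOf (S : Subgroup G) with hE₁
  haveI : E₁.Normal := ⟨fun e he g => by
    rw [hE₁, mem_subgroupOf] at *
    exact (K.fix g g.2).2.1 _ he⟩
  letI : CommGroup (↥(S : Subgroup G) ⧸ E₁) :=
    { (inferInstance : Group (↥(S : Subgroup G) ⧸ E₁)) with
      mul_comm := fun x y => by
        induction x using QuotientGroup.induction_on with | _ x => ?_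
        induction y using QuotientGroup.induction_on with | _ y => ?_
        refine (QuotientGroup.eq (s := E₁)).2 ?_
        show (((x : G) * y)⁻¹ * (y * x)) ∈ E'
        have := K.comm_mem (inv_mem y.2) (inv_mem x.2)
        simpa [mul_assoc] using this }
  have hc := C.eq_one_of_full hgen S (QuotientGroup.mk' E₁) (v := v) (fun x hx hcen => by
      refine (QuotientGroup.eq_one_iff _).2 ?_
      show (x : G) ∈ E'
      refine K.typ.mem_E_of_mem_Za ?_ hx
      exact K.typ.mem_P K.two K.le x.2 (K.fix x x.2).1 (hcen v (K.le K.v_mem)).symm)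
    K.typ.vv (c := QuotientGroup.mk' E₁ ⟨v, K.le K.v_mem⟩) (by
      rw [← map_mul]
      exact (QuotientGroup.eq_one_iff _).2 (show v * v ∈ E' by rw [K.typ.vv]; exact one_mem _))
    (fun u hu hodd => QuotientGroup.eq.2 (show ((u : G))⁻¹ * v ∈ E' by
      obtain ⟨g₀, hg₀⟩ := isConj_iff.1 hu
      rw [show (u : G)⁻¹ = u from inv_eq_self (by rw [← hg₀, orderOf_conj_eq]; exact K.typ.bad.1)]
      exact K.full_mem u.2 hu hodd))
  exact K.v_not_E ((QuotientGroup.eq_one_iff (N := E₁) ⟨v, K.le K.v_mem⟩).1 hc)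

end Ctx

end CfsgLib.Criterion
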