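import Mathlib.GroupTheory.Sylow
import Mathlib.GroupTheory.QuotientGroup.Basic
import Mathlib.GroupTheory.Perm.Cycle.Type
import Mathlib.Algebra.BigOperators.Group.Finset.Basic

/-!
# The strong embedding criterion: the invariant complement of a fixed class

`T` is central by elementary over elementary `E`, a group acts with image of odd order on `T / E`, and
the only fixed classes are `E` and `v E`.  The product over that image projects `T / E` onto the fixed
classes, so its kernel is an invariant complement to `v`, kept by all automorphisms normalising the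
image.  With an abelian supplement `D` this gives a homomorphism onto an abelian group.
-/

set_option autoImplicit false
set_option linter.style.haveILetI false
set_option linter.unusedSectionVars false

namespace CfsgLib.Criterion.TypeU3

/-- The product over a finite group of automorphisms of an abelian group. -/
noncomputable def avg {V : Type*} [CommGroup V] (B : Subgroup (MulAut V)) [Fintype B] : V →* V :=
  MonoidHom.mk' (fun x => ∏ b : B, (b : MulAut V) x) fun x y => by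
    simp only [map_mul, Finset.prod_mul_distrib]

theorem avg_apply {V : Type*} [CommGroup V] (B : Subgroup (MulAut V)) [Fintype B] (x : V) :
    avg B x = ∏ b : B, (b : MulAut V) x := rfl

theorem avg_smul {V : Type*} [CommGroup V] (B : Subgroup (MulAut V)) [Fintype B] {b : MulAut V}
    (hb : b ∈ B) (x : V) : avg B (b x) = avg B x ∧ b (avg B x) = avg B x := by
  constructor
  · rw [avg_apply, avg_apply]
    exact Fintype.prod_equiv (Equiv.mulRight ⟨b, hb⟩) _ _ fun c => rfl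
  · rw [avg_apply, map_prod]
    exact Fintype.prod_equiv (Equiv.mulLeft ⟨b, hb⟩) _ _ fun c => rfl

theorem avg_of_fixed {V : Type*} [CommGroup V] (B : Subgroup (MulAut V)) [Fintype B]
    (hB : Odd (Nat.card B)) (hV : ∀ x : V, x * x = 1) {x : V} (h : ∀ b ∈ B, b x = x) :
    avg B x = x := by
  rw [avg_apply, Finset.prod_congr rfl fun (b : B) _ => h b b.2, Finset.prod_const, Finset.card_univ,
    ← Nat.card_eq_fintype_card]
  obtain ⟨m, hm⟩ := hB
  rw [hm, pow_succ, pow_mul, pow_two, hV, one_pow, one_mul]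

theorem avg_comm {V : Type*} [CommGroup V] (B : Subgroup (MulAut V)) [Fintype B] {c : MulAut V}
    (hc : ∀ b ∈ B, c * b * c⁻¹ ∈ B) (x : V) : avg B (c x) = c (avg B x) := by
  rw [avg_apply, avg_apply, map_prod]
  let f : B → B := fun b => ⟨c * b * c⁻¹, hc b b.2⟩
  have hf : Function.Injective f := fun b b' h =>
    Subtype.ext (mul_left_cancel (mul_right_cancel (congrArg Subtype.val h :)))
  refine (Fintype.prod_equiv (Equiv.ofBijective f (Finite.injective_iff_bijective.1 hf)) _ _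
    fun b => ?_).symm
  show c ((b : MulAut V) x) = (c * (b : MulAut V) * c⁻¹) (c x)
  simp only [MulAut.mul_apply, MulAut.inv_apply_self]

variable {T : Type*} [Group T] [Finite T]

open scoped Classical in
/-- **The invariant complement of the fixed class.** -/
theorem exists_kernel {E : Subgroup T} (hEc : E ≤ Subgroup.center T) (hsq : ∀ x : T, x * x ∈ E)
    {Γ : Type*} [Group Γ] (J : Γ →* MulAut T) (hJE : ∀ j, ∀ e ∈ E, J j e ∈ E)
    (hodd : ∀ j, ∃ n : ℕ, Odd n ∧ ∀ x, ((J (j ^ n)) x)⁻¹ * x ∈ E) {v : T} (hv : v ∉ E)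
    (hvfix : ∀ j, v⁻¹ * J j v ∈ E)
    (hfix : ∀ x, (∀ j, x⁻¹ * J j x ∈ E) → x ∈ E ∨ v⁻¹ * x ∈ E) :
    ∃ K : Subgroup T, E ≤ K ∧ K.Normal ∧ v ∉ K ∧ (∀ x, x ∈ K ∨ x * v⁻¹ ∈ K) ∧
      (∀ j, ∀ x ∈ K, J j x ∈ K) ∧
      ∀ β : MulAut T, (∀ e ∈ E, β e ∈ E) →
        (∀ j, ∃ j', ∀ x, ((J j') (β x))⁻¹ * β (J j x) ∈ E) → ∀ x ∈ K, β x ∈ K := by
  haveI hN : E.Normal := ⟨fun e he g => by
    rw [Subgroup.mem_center_iff.1 (hEc he) g, mul_inv_cancel_right]; exact he⟩
  haveI : Fact (Nat.Prime 2) := ⟨Nat.prime_two⟩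
  set π := QuotientGroup.mk' E with hπ
  have hV2 : ∀ u : T ⧸ E, u * u = 1 := fun u => by
    obtain ⟨x, rfl⟩ := QuotientGroup.mk'_surjective E u
    rw [← map_mul]
    exact (QuotientGroup.eq_one_iff _).2 (hsq x)
  letI : CommGroup (T ⧸ E) :=
    { (inferInstance : Group (T ⧸ E)) with
      mul_comm := fun x y => by
        have hinv : ∀ z : T ⧸ E, z⁻¹ = z := fun z => inv_eq_of_mul_eq_one_right (hV2 z)
        rw [← hinv (x * y), mul_inv_rev, hinv, hinv] }
  have hmap : ∀ β : MulAut T, (∀ e ∈ E, β e ∈ E) → E.map β.toMonoidHom = E := fun β hβ =>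
    Subgroup.eq_of_le_of_card_ge (fun _ ⟨e, he, h⟩ => h ▸ hβ e he)
      (Subgroup.card_map_of_injective β.injective).ge
  let bar : ∀ β : MulAut T, (∀ e ∈ E, β e ∈ E) → MulAut (T ⧸ E) := fun β hβ =>
    QuotientGroup.congr E E β (hmap β hβ)
  have hbar : ∀ (β : MulAut T) (hβ : ∀ e ∈ E, β e ∈ E) (x : T), bar β hβ (π x) = π (β x) :=
    fun β hβ x => rfl
  let ρ : Γ →* MulAut (T ⧸ E) := MonoidHom.mk' (fun j => bar (J j) (hJE j)) fun i j =>
    MulEquiv.ext fun u => by
      obtain ⟨x, rfl⟩ := QuotientGroup.mk'_surjective E u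
      show π (J (i * j) x) = π (J i (J j x))
      rw [map_mul]
      rfl
  have hρ : ∀ j x, ρ j (π x) = π (J j x) := fun j x => rfl
  set B := ρ.range with hB
  haveI : Finite (MulAut (T ⧸ E)) :=
    Finite.of_injective (fun f : MulAut (T ⧸ E) => (f : T ⧸ E → T ⧸ E)) DFunLike.coe_injective
  haveI : Fintype B := Fintype.ofFinite B
  have hBodd : Odd (Nat.card B) := by
    rw [← Nat.not_even_iff_odd]
    intro hev
    obtain ⟨⟨_, j, rfl⟩, hs⟩ := exists_prime_orderOf_dvd_card' (G := B) 2 hev.two_dvd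
    rw [← Subgroup.orderOf_coe] at hs
    obtain ⟨n, hn, hn'⟩ := hodd j
    have h1 : ρ j ^ n = 1 := by
      rw [← map_pow]
      refine MulEquiv.ext fun u => ?_
      obtain ⟨x, rfl⟩ := QuotientGroup.mk'_surjective E u
      rw [hρ, MulAut.one_apply]
      exact QuotientGroup.eq.2 (hn' x)
    exact (Nat.not_even_iff_odd.2 hn) (even_iff_two_dvd.2 (hs ▸ orderOf_dvd_of_pow_eq_one h1))
  set τ := avg B with hτ
  have hmem : ∀ j, ρ j ∈ B := fun j => ⟨j, rfl⟩
  have hτv : τ (π v) = π v := avg_of_fixed B hBodd hV2 fun b ⟨j, hj⟩ => by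
    rw [← hj, hρ]
    exact (QuotientGroup.eq.2 (hvfix j)).symm
  have hdich : ∀ u, τ u = 1 ∨ τ u = π v := by
    intro u
    obtain ⟨y, hy⟩ := QuotientGroup.mk'_surjective E (τ u)
    rcases hfix y fun j => QuotientGroup.eq.1 (show π y = π (J j y) by
      rw [← hρ, hy, (avg_smul B (hmem j) u).2]) with h | h
    · exact Or.inl (hy ▸ (QuotientGroup.eq_one_iff _).2 h)
    · exact Or.inr (hy ▸ (QuotientGroup.eq.2 h).symm)
  refine ⟨(τ.comp π).ker, fun e he => ?_, inferInstance, fun h => hv ?_, fun x => ?_,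
    fun j x hx => ?_, fun β hβ hnorm x hx => ?_⟩
  · show τ (π e) = 1
    rw [show π e = 1 from (QuotientGroup.eq_one_iff _).2 he, map_one]
  · exact (QuotientGroup.eq_one_iff _).1 (show π v = 1 from hτv.symm.trans h)
  · rcases hdich (π x) with h | h
    · exact Or.inl h
    · refine Or.inr (?_ : τ (π (x * v⁻¹)) = 1)
      rw [map_mul, map_inv, map_mul, map_inv, h, hτv, mul_inv_cancel]
  · show τ (π (J j x)) = 1
    rw [← hρ, (avg_smul B (hmem j) _).1]
    exact hx
  · show τ (π (β x)) = 1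
    rw [← hbar β hβ, hτ, avg_comm B (fun b ⟨j, hj⟩ => ?_), show avg B (π x) = 1 from hx, map_one]
    obtain ⟨j', hj'⟩ := hnorm j
    refine ⟨j', MulEquiv.ext fun u => ?_⟩
    obtain ⟨u', rfl⟩ := (bar β hβ).surjective u
    rw [MulAut.mul_apply, MulAut.mul_apply, MulAut.inv_apply_self, ← hj]
    obtain ⟨y, rfl⟩ := QuotientGroup.mk'_surjective E u'
    rw [hρ, hbar β hβ, hbar β hβ, hρ]
    exact QuotientGroup.eq.2 (hj' y)

open Subgroup in
/-- **The abelian quotient**: with an abelian supplement meeting `T₂` in `⟨v⟩` a complement of `v`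
normal in `T` is the kernel of a homomorphism onto an abelian group. -/
theorem exists_hom_comm.{w} {G : Type w} [Group G] {T₂ T D K : Subgroup G} {v : G}
    (hT₂ : T₂ ≤ T) (hDT : D ≤ T) (hDc : ∀ x ∈ D, ∀ y ∈ D, Commute x y)
    (hmul : ∀ t ∈ T, ∃ x ∈ T₂, ∃ d ∈ D, x * d = t)
    (hmeet : ∀ d ∈ D, d ∈ T₂ → d = 1 ∨ d = v) (hvD : v ∈ D) (hKT₂ : K ≤ T₂) (hvK : v ∉ K)
    (hcov : ∀ x ∈ T₂, x ∈ K ∨ x * v⁻¹ ∈ K) (hnorm : ∀ t ∈ T, ∀ x ∈ K, t * x * t⁻¹ ∈ K) :
    ∃ (A : Type w) (_ : CommGroup A) (φ : ↥T →* A), (∀ x : ↥T, φ x = 1 ↔ (x : G) ∈ K) ∧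
      ∀ d : ↥T, (d : G) ∈ D → φ d = 1 → d = 1 := by
  haveI : (K.subgroupOf T).Normal := ⟨fun x hx g => hnorm g g.2 x hx⟩
  set π := QuotientGroup.mk' (K.subgroupOf T) with hπ
  have hrep : ∀ u, ∃ d : ↥T, (d : G) ∈ D ∧ π d = u := by
    intro u
    obtain ⟨⟨t, ht⟩, rfl⟩ := QuotientGroup.mk'_surjective (K.subgroupOf T) u
    obtain ⟨x, hx, d, hd, rfl⟩ := hmul t ht
    rcases hcov x hx with h | h
    · refine ⟨⟨d, hDT hd⟩, hd, ?_⟩
      rw [show (⟨x * d, ht⟩ : ↥T) = ⟨x, hT₂ hx⟩ * ⟨d, hDT hd⟩ from rfl, map_mul,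
        show π ⟨x, hT₂ hx⟩ = 1 from (QuotientGroup.eq_one_iff _).2 h, one_mul]
    · refine ⟨⟨v * d, hDT (mul_mem hvD hd)⟩, mul_mem hvD hd, ?_⟩
      rw [show (⟨x * d, ht⟩ : ↥T) = ⟨x * v⁻¹, hT₂ (hKT₂ h)⟩ * ⟨v * d, hDT (mul_mem hvD hd)⟩ from
        Subtype.ext (show x * d = x * v⁻¹ * (v * d) by group), map_mul,
        show π ⟨x * v⁻¹, hT₂ (hKT₂ h)⟩ = 1 from (QuotientGroup.eq_one_iff _).2 h, one_mul]
  letI : CommGroup (↥T ⧸ K.subgroupOf T) :=
    { (inferInstance : Group (↥T ⧸ K.subgroupOf T)) with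
      mul_comm := fun u w => by
        obtain ⟨d, hd, rfl⟩ := hrep u
        obtain ⟨d', hd', rfl⟩ := hrep w
        rw [← map_mul, ← map_mul, show d * d' = d' * d from Subtype.ext (hDc _ hd _ hd').eq] }
  refine ⟨_, inferInstance, π, fun x => QuotientGroup.eq_one_iff x, fun d hd h => Subtype.ext ?_⟩
  have h1 : (d : G) ∈ K := (QuotientGroup.eq_one_iff d).1 h
  rcases hmeet _ hd (hKT₂ h1) with e | e
  · exact e
  · exact absurd (e ▸ h1) hvK

end CfsgLib.Criterion.TypeU3
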