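import Cfsg.Agent.Criterion.TypeU3Dec
import Cfsg.Agent.Criterion.TypeU3Form

/-!
# The strong embedding criterion: the decomposition of the translations exists

An element of `M₂` centralising `v` is an element of `S ∪ S v` times one of odd order centralising `S`;
normalising `T₂` it is trivial on `T₂ / E`.  Hence every element of the two-point group lifts to an
element normalising `T₂` determined modulo `E` by its scalar.  The only classes fixed by these lifts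
are `E` and `v E`: the invariant complement `K` of `v` arises by averaging, and `Y` consists of the
elements of `K` fixed modulo `E` by the lift of the circle.
-/

set_option autoImplicit false
set_option linter.style.haveILetI false
set_option linter.unusedSectionVars false

namespace CfsgLib.Criterion

open Subgroup CfsgLib.Invol CfsgLib.Bender

universe u

variable {G : Type u} [Group G] [Finite G]

namespace Ctx

variable {C : Ctx G}

namespace Cfg3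

variable {v : G} {a b : C.Pt} {D E P : Subgroup G} (X : C.Cfg3 v a b D E P)

local notation "S" => P ⊓ C.L v
local notation "q" => Nat.card E

include X

theorem tor_comm {k : G} (hk : k ∈ C.Tor v a b S) : Commute k v :=
  mul_inv_eq_iff_eq_mul.1 (C.L_conj_eq hk.1)

theorem tor_odd {k : G} (hk : k ∈ C.Tor v a b S) : Odd (orderOf k) := by
  obtain ⟨Md⟩ := X.typ.exists_model
  exact Md.odd_fix k hk.1 hk.2.1 hk.2.2.1

/-- An element of `N₁` centralising `v` normalises `S`. -/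
theorem conj_S_of_comm {g : G} (hg : g ∈ X.N₁) (hgv : Commute g v) {s : G} (hs : s ∈ S) :
    g * s * g⁻¹ ∈ S := by
  rcases hg.2.2.2 s hs with h | h
  · exact h
  refine absurd ?_ X.v_not_S
  have h1 := mul_mem (inv_mem (C.conj_mem_L_of_commute hgv (mem_inf.1 hs).2)) (mem_inf.1 h).2
  rw [inv_mul_cancel_left] at h1
  exact mem_inf.2 ⟨X.typ.vP, h1⟩

/-- An element of `M₂` centralising `v` is trivial on `S / E` in the strict sense. -/
theorem triv_mod {g : G} (hg : g ∈ X.M₂) (hgv : Commute g v) {s : G} (hs : s ∈ S) :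
    s⁻¹ * (g * s * g⁻¹) ∈ E := by
  rcases (X.mem_M₂.1 hg).2 s hs with h | h
  · exact h
  · exact absurd (X.E_S h) (X.Sv_excl (mul_mem (inv_mem hs) (X.conj_S_of_comm hg.1 hgv hs)))

/-- An element of `M₂` of odd order centralising `v` centralises `S ∪ S v`. -/
theorem commute_of_odd {f : G} (hf : f ∈ X.M₂) (hfv : Commute f v) (hodd : Odd (orderOf f)) {x : G}
    (hx : x ∈ X.Sv) : Commute f x := by
  suffices h : ∀ s ∈ S, Commute f s by
    rcases hx with hx | hx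
    · exact h x hx
    · rw [← X.mul_v_mul_v (x := x)]; exact (h _ hx).mul_right hfv
  intro s hs
  have hε := X.triv_mod hf hfv hs
  set ε := s⁻¹ * (f * s * f⁻¹) with hεdef
  have h2 : Commute (f ^ 2) s := by
    refine mul_inv_eq_iff_eq_mul.1 ?_
    calc f ^ 2 * s * (f ^ 2)⁻¹ = s * ε * (f * ε * f⁻¹) := by rw [hεdef, pow_two]; group
      _ = s := by
          rw [(X.triv_commute_E hf.1 hf.2 hε).eq, mul_inv_cancel_right, mul_assoc, X.E2 hε, mul_one]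
  obtain ⟨n, hn⟩ := hodd
  have e : f = (f ^ 2) ^ (n + 1) := by
    rw [← pow_mul, show 2 * (n + 1) = orderOf f + 1 by omega, pow_succ, pow_orderOf_eq_one, one_mul]
  rw [e]
  exact h2.pow_left _

/-- **The centraliser of `v` in `M₂`**: `h f` with `h ∈ S ∪ S v` and `f` of odd order centralising
`S ∪ S v`. -/
theorem exists_split_M₂ {g : G} (hg : g ∈ X.M₂) (hgv : Commute g v) :
    ∃ h ∈ X.Sv, ∃ f ∈ Subgroup.zpowers g, Odd (orderOf f) ∧ (∀ x ∈ X.Sv, Commute f x) ∧ h * f = g := by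
  haveI : Fact (Nat.Prime 2) := ⟨Nat.prime_two⟩
  obtain ⟨e, o, ho, hn⟩ := Nat.exists_eq_two_pow_mul_odd (orderOf_pos g).ne'
  set g₂ := g ^ o with hg₂
  -- the 2-part lies in `S ∪ S v`
  have hg₂2 : g₂ ^ 2 ^ e = 1 := by rw [hg₂, ← pow_mul, mul_comm, ← hn, pow_orderOf_eq_one]
  have hg₂M : g₂ ∈ X.M₂ := pow_mem hg o
  set W := Subgroup.zpowers g₂ ⊔ X.Sv with hW
  have hW2 : IsPGroup 2 W := by
    refine IsPGroup.to_sup_of_normal_right' ?_ (X.T₂_two.to_le X.Sv_le_T₂) ?_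
    · obtain ⟨i, -, hi⟩ := (Nat.dvd_prime_pow Nat.prime_two).1 (orderOf_dvd_of_pow_eq_one hg₂2)
      exact IsPGroup.of_card (n := i) (by rw [Nat.card_zpowers, hi])
    · exact zpowers_le.2 (Subgroup.mem_normalizer_fintype fun x hx => X.conj_Sv hg₂M.1 hx)
  have hWM : W ≤ X.M₂ := sup_le (zpowers_le.2 hg₂M) fun x hx => (mem_inf.1 (X.Sv_le_T₂ hx)).2
  have hWv : W ≤ centralizer ({v} : Set G) := sup_le
    (zpowers_le.2 (mem_centralizer_singleton_iff.2 (hgv.pow_left o).eq))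
    fun x hx => mem_centralizer_singleton_iff.2 (X.Sv_comm_v hx).eq
  obtain ⟨n, hnM, hn'⟩ := X.exists_conj_T (M := X.M₂) (fun x hx => hx.1)
    (fun g hg x hx => X.M₂_normal hg hx) hW2 hWM
  obtain ⟨y, hy, hny⟩ := X.typ.shift_eq hnM.1.2.2.1
  have hmap : W.map (MulAut.conj n).toMonoidHom ≤ X.Sv := by
    rintro _ ⟨w, hw, rfl⟩
    have hT : n * w * n⁻¹ ∈ X.T₂ := hn' w hw
    refine X.mem_Sv_of_commute hT ?_
    have h1 := (Commute.conj_iff n).2 (mem_centralizer_singleton_iff.1 (hWv hw) : Commute w v)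
    rw [hny] at h1
    have h2 := h1.mul_right (X.comm_E hT hy)
    rwa [mul_assoc v y y, X.E2 hy, mul_one] at h2
  have hWe : W = X.Sv := (eq_of_le_of_card_ge le_sup_right
    ((card_map_of_injective (MulAut.conj n).injective (K := W)).symm.trans_le
      (Nat.card_le_card_of_injective _ (Subgroup.inclusion_injective hmap)))).symm
  have hg₂Sv : g₂ ∈ X.Sv := hWe ▸ (le_sup_left : Subgroup.zpowers g₂ ≤ W) (mem_zpowers g₂)
  -- Bezout
  have hco : Nat.Coprime o (2 ^ e) := Nat.Coprime.pow_right e ho.coprime_two_right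
  have hb : (1 : ℤ) = o * Nat.gcdA o (2 ^ e) + (2 ^ e : ℕ) * Nat.gcdB o (2 ^ e) := by
    rw [← Nat.gcd_eq_gcd_ab, hco.gcd_eq_one]; rfl
  refine ⟨g₂ ^ Nat.gcdA o (2 ^ e), zpow_mem hg₂Sv _, (g ^ 2 ^ e) ^ Nat.gcdB o (2 ^ e),
    zpow_mem (pow_mem (mem_zpowers g) _) _, ?_, ?_, ?_⟩
  · refine ho.of_dvd_nat (orderOf_dvd_of_pow_eq_one ?_)
    rw [← zpow_natCast ((g ^ 2 ^ e) ^ _) o, ← zpow_mul, mul_comm, zpow_mul, zpow_natCast,
      ← pow_mul, ← hn, pow_orderOf_eq_one, one_zpow]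
  · intro x hx
    refine (X.commute_of_odd (pow_mem hg _) (hgv.pow_left _) ?_ hx).zpow_left _
    refine ho.of_dvd_nat (orderOf_dvd_of_pow_eq_one ?_)
    rw [← pow_mul, ← hn, pow_orderOf_eq_one]
  · rw [hg₂, ← zpow_natCast g o, ← zpow_natCast g (2 ^ e), ← zpow_mul, ← zpow_mul, ← zpow_add, ← hb,
      zpow_one]

/-- **An element of `M₂` centralising `v` and normalising `T₂` is trivial on `T₂ / E`.** -/
theorem comm_mod {g : G} (hg : g ∈ X.M₂) (hgv : Commute g v)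
    (hn : ∀ x ∈ X.T₂, g * x * g⁻¹ ∈ X.T₂) {x : G} (hx : x ∈ X.T₂) : x⁻¹ * (g * x * g⁻¹) ∈ E := by
  obtain ⟨h, hh, f, hf, hodd, hfc, rfl⟩ := X.exists_split_M₂ hg hgv
  have hfM : f ∈ X.M₂ := zpowers_le.2 hg hf
  have hfv : Commute f v := hfc v (Or.inr (by rw [X.vv]; exact one_mem _))
  have hfN : f ∈ normalizer (X.T₂ : Set G) :=
    zpowers_le.2 (Subgroup.mem_normalizer_fintype hn) hf
  have hfx : f * x * f⁻¹ ∈ X.T₂ := (mem_normalizer_iff.1 hfN x).1 hx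
  obtain ⟨y, hy, hxy⟩ := X.typ.shift_eq (X.memT x (X.T₂_le hx)).2.2
  set r := x⁻¹ * (f * x * f⁻¹) with hr
  have hrv : Commute r v := by
    refine mul_inv_eq_iff_eq_mul.1 ?_
    calc r * v * r⁻¹ = x⁻¹ * (f * (x * (f⁻¹ * v * f) * x⁻¹) * f⁻¹) * x := by rw [hr]; group
      _ = x⁻¹ * (f * (x * v * x⁻¹) * f⁻¹) * x := by
          rw [mul_assoc f⁻¹ v f, ← hfv.eq, inv_mul_cancel_left]
      _ = x⁻¹ * (x * v * x⁻¹) * x := by
          rw [hxy, (hfv.mul_right (X.triv_commute_E hfM.1 hfM.2 hy)).eq, mul_inv_cancel_right]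
      _ = v := by group
  have hrS : r ∈ X.Sv := X.mem_Sv_of_commute (mul_mem (inv_mem hx) hfx) hrv
  have hfr := hfc r hrS
  -- the orbit of `x` is cyclic of order dividing four and of odd order
  have hpow : ∀ i : ℕ, f ^ i * x * (f ^ i)⁻¹ = x * r ^ i := by
    intro i
    induction i with
    | zero => simp
    | succ i ih =>
      rw [pow_succ', show f * f ^ i * x * (f * f ^ i)⁻¹ = f * (f ^ i * x * (f ^ i)⁻¹) * f⁻¹ by group, ih,
        show f * (x * r ^ i) * f⁻¹ = x * r * (f * r ^ i * f⁻¹) by rw [hr]; group,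
        (hfr.pow_right i).eq, mul_inv_cancel_right, mul_assoc, ← pow_succ']
  have h1 : r ^ orderOf f = 1 := by
    have := hpow (orderOf f)
    rw [pow_orderOf_eq_one, one_mul, inv_one, mul_one, left_eq_mul] at this
    exact this
  have h4 : r ^ 2 ^ 2 = 1 := by
    rw [show 2 ^ 2 = 2 * 2 from rfl, pow_mul, pow_two r, pow_two]
    exact X.E2 (X.sq_T₂ (X.Sv_le_T₂ hrS))
  have hr1 : r = 1 := by
    have := pow_gcd_eq_one.2 ⟨h1, h4⟩
    rwa [Nat.Coprime.pow_right 2 hodd.coprime_two_right, pow_one] at this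
  have hxx : f * x * f⁻¹ = x := by
    rw [hr] at hr1
    exact (inv_mul_eq_one.1 hr1).symm
  rw [show h * f * x * (h * f)⁻¹ = h * (f * x * f⁻¹) * h⁻¹ by group, hxx,
    show x⁻¹ * (h * x * h⁻¹) = x⁻¹ * h * x⁻¹⁻¹ * h⁻¹ by group]
  exact X.comm_T₂ (inv_mem hx) (X.Sv_le_T₂ hh)

/-- The lifts of the two-point group normalising `T₂`. -/
def Lift (X : C.Cfg3 v a b D E P) : Subgroup G := subgroupOfClosed
  {j | j ∈ X.N₁ ∧ Commute j v ∧ (∀ x ∈ X.T₂, j * x * j⁻¹ ∈ X.T₂) ∧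
    ∃ k ∈ C.Tor v a b S, k⁻¹ * j ∈ X.M₂}
  ⟨one_mem _, Commute.one_left v, fun x hx => by simpa using hx, 1,
    ⟨one_mem _, one_smul _ a, one_smul _ b, fun s hs => by simpa using hs⟩, by simp⟩
  (by
    rintro g h ⟨hg, hgv, hgT, k, hk, hkg⟩ ⟨hh, hhv, hhT, l, hl, hlh⟩
    refine ⟨mul_mem hg hh, hgv.mul_left hhv, fun x hx => ?_, k * l,
      ⟨mul_mem hk.1 hl.1, by rw [mul_smul, hl.2.1, hk.2.1], by rw [mul_smul, hl.2.2.1, hk.2.2.1],
        fun s hs => by simpa [mul_assoc] using hk.2.2.2 _ (hl.2.2.2 s hs)⟩, ?_⟩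
    · simpa [mul_assoc] using hgT _ (hhT x hx)
    · rw [show (k * l)⁻¹ * (g * h) = l⁻¹ * (k⁻¹ * g) * l⁻¹⁻¹ * (l⁻¹ * h) by group]
      exact mul_mem (X.M₂_normal (inv_mem (X.tor_mem hl)) hkg) hlh)

theorem mem_lift {j : G} : j ∈ X.Lift ↔ j ∈ X.N₁ ∧ Commute j v ∧
    (∀ x ∈ X.T₂, j * x * j⁻¹ ∈ X.T₂) ∧ ∃ k ∈ C.Tor v a b S, k⁻¹ * j ∈ X.M₂ := Iff.rfl

/-- **Frattini**: every element of the two-point group has a lift. -/
theorem exists_lift {k : G} (hk : k ∈ C.Tor v a b S) : ∃ j ∈ X.Lift, k⁻¹ * j ∈ X.M₂ := by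
  have hkN := X.tor_mem hk
  set W := X.T₂.map (MulAut.conj k).toMonoidHom with hW
  obtain ⟨n, hn, hnT⟩ := X.exists_conj_T (M := X.M₂) (fun x hx => hx.1)
    (fun g hg x hx => X.M₂_normal hg hx) (W := W) (X.T₂_two.map _) (by
      rintro _ ⟨x, hx, rfl⟩; exact X.M₂_normal hkN (mem_inf.1 hx).2)
  obtain ⟨y, hy, hny⟩ := X.typ.shift_eq hn.1.2.2.1
  obtain ⟨x, hx, hxy⟩ := X.trans₂ hy
  have hxv : x * v * x⁻¹ = v * y := by rw [← (X.typ.Ev hy).eq, ← hxy, X.mul_v_mul_v]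
  refine ⟨x⁻¹ * n * k, ⟨mul_mem (mul_mem (inv_mem (X.T_le (X.T₂_le hx))) hn.1) hkN, ?_,
    fun z hz => ?_, k, hk, ?_⟩, ?_⟩
  · refine mul_inv_eq_iff_eq_mul.1 ?_
    calc x⁻¹ * n * k * v * (x⁻¹ * n * k)⁻¹ = x⁻¹ * (n * (k * v * k⁻¹) * n⁻¹) * x := by group
      _ = x⁻¹ * (x * v * x⁻¹) * x := by rw [C.L_conj_eq hk.1, hny, hxv]
      _ = v := by group
  · rw [show x⁻¹ * n * k * z * (x⁻¹ * n * k)⁻¹ = x⁻¹ * (n * (k * z * k⁻¹) * n⁻¹) * x⁻¹⁻¹ by group]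
    exact mul_mem (mul_mem (inv_mem hx) (hnT _ ⟨z, hz, rfl⟩)) (inv_mem (inv_mem hx))
  all_goals
    rw [show k⁻¹ * (x⁻¹ * n * k) = k⁻¹ * (x⁻¹ * n) * k⁻¹⁻¹ by group]
    exact X.M₂_normal (inv_mem hkN) (mul_mem (inv_mem (mem_inf.1 hx).2) hn)

/-- A lift acts by a scalar. -/
theorem exists_scalar_lift {j : G} (hj : j ∈ X.Lift) : ∃ m : X.co.K, m ≠ 0 ∧
    (∀ s ∈ S, X.co.w (j * s * j⁻¹) = m * X.co.w s) ∧
      ∀ e ∈ E, X.co.z (j * e * j⁻¹) = m ^ (q + 1) * X.co.z e := by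
  obtain ⟨hjN, hjv, -, k, hk, hkj⟩ := hj
  obtain ⟨m, hm, hw, hz⟩ := X.co.scalar k hk
  have hμv : Commute (k⁻¹ * j) v := (X.tor_comm hk).inv_left.mul_left hjv
  refine ⟨m, hm, fun s hs => ?_, fun e he => ?_⟩
  · have h := X.triv_mod hkj hμv hs
    have hs' : k⁻¹ * j * s * (k⁻¹ * j)⁻¹ ∈ S := X.conj_S_of_comm hkj.1 hμv hs
    rw [show j * s * j⁻¹ = k * (k⁻¹ * j * s * (k⁻¹ * j)⁻¹) * k⁻¹ by group, hw _ hs',
      (X.w_eq hs hs').2 h]
  · rw [show j * e * j⁻¹ = k * (k⁻¹ * j * e * (k⁻¹ * j)⁻¹) * k⁻¹ by group,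
      (X.triv_commute_E hkj.1 hkj.2 he).eq, mul_inv_cancel_right, hz e he]

theorem w_inv {x : G} (hx : x ∈ S) : X.co.w x⁻¹ = X.co.w x := by
  have h := X.co.w_mul _ hx _ (inv_mem hx)
  rw [mul_inv_cancel, X.w_one] at h
  exact (CharTwo.add_eq_zero.1 h.symm).symm

/-- The lift of a scalar element acts by the same scalar. -/
theorem lift_scalar {j k : G} (hj : j ∈ X.Lift) (hk : k ∈ C.Tor v a b S) (hjk : k⁻¹ * j ∈ X.M₂)
    {m : X.co.K} (hkw : ∀ s ∈ S, X.co.w (k * s * k⁻¹) = m * X.co.w s) :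
    (∀ s ∈ S, X.co.w (j * s * j⁻¹) = m * X.co.w s) ∧
      ∀ e ∈ E, X.co.z (j * e * j⁻¹) = m ^ (q + 1) * X.co.z e := by
  obtain ⟨s₁, hs₁, hw₁⟩ := X.co.w_surj 1
  have hμv : Commute (k⁻¹ * j) v := (X.tor_comm hk).inv_left.mul_left hj.2.1
  obtain ⟨m', -, hw, hz⟩ := X.exists_scalar_lift hj
  have e : m' = m := by
    have h1 := hw s₁ hs₁
    have hs' := X.conj_S_of_comm hjk.1 hμv hs₁
    rw [show j * s₁ * j⁻¹ = k * (k⁻¹ * j * s₁ * (k⁻¹ * j)⁻¹) * k⁻¹ by group, hkw _ hs',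
      ← (X.w_eq hs₁ hs').2 (X.triv_mod hjk hμv hs₁), hw₁, mul_one, mul_one] at h1
    exact h1.symm
  exact ⟨e ▸ hw, e ▸ hz⟩

/-- **Lifts with the same scalar agree on `T₂ / E`.** -/
theorem lift_unique {j j' : G} (hj : j ∈ X.Lift) (hj' : j' ∈ X.Lift) {m : X.co.K} (hm : m ≠ 0)
    (hw : ∀ s ∈ S, X.co.w (j * s * j⁻¹) = m * X.co.w s)
    (hw' : ∀ s ∈ S, X.co.w (j' * s * j'⁻¹) = m * X.co.w s) {x : G} (hx : x ∈ X.T₂) :
    (j * x * j⁻¹)⁻¹ * (j' * x * j'⁻¹) ∈ E := by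
  have hg : j⁻¹ * j' ∈ X.Lift := mul_mem (inv_mem hj) hj'
  obtain ⟨hgN, hgv, hgT, -⟩ := X.mem_lift.1 hg
  have hgM : j⁻¹ * j' ∈ X.M₂ := by
    refine ⟨hgN, fun s hs => Or.inl ?_⟩
    have hr := X.conj_S_of_comm hgN hgv hs
    refine (X.w_eq hs hr).1 (mul_left_cancel₀ hm ?_).symm
    rw [← hw _ hr, ← hw' s hs]
    congr 1; group
  rw [show (j * x * j⁻¹)⁻¹ * (j' * x * j'⁻¹) =
    j * (x⁻¹ * (j⁻¹ * j' * x * (j⁻¹ * j')⁻¹)) * j⁻¹ by group]
  exact hj.1.2.1 _ (X.comm_mod hgM hgv hgT hx)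

theorem scal_of_lift {K Y : Subgroup G} {j : G} (hj : j ∈ X.Lift)
    (hK : ∀ x ∈ K, j * x * j⁻¹ ∈ K) (hY : ∀ y ∈ Y, j * y * j⁻¹ ∈ Y) {m : X.co.K}
    (hw : ∀ s ∈ S, X.co.w (j * s * j⁻¹) = m * X.co.w s)
    (hz : ∀ e ∈ E, X.co.z (j * e * j⁻¹) = m ^ (q + 1) * X.co.z e) : X.Scal K Y m j :=
  ⟨hj.1.1, hj.2.1, hj.1.2.1, fun s hs => X.conj_S_of_comm hj.1 hj.2.1 hs, hj.2.2.1, hK, hY, hw, hz,
    hj.2.2.2⟩

/-- The shift is multiplicative on `T₂`. -/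
theorem shift_mul {g h : G} (hg : g ∈ X.T₂) (hh : h ∈ X.T₂) :
    g * h * v * (g * h)⁻¹ * v = g * v * g⁻¹ * v * (h * v * h⁻¹ * v) := by
  have he := (X.memT h (X.T₂_le hh)).2.2
  set e := h * v * h⁻¹ * v with hedef
  have h1 : h * v * h⁻¹ = e * v := by rw [hedef, X.mul_v_mul_v]
  calc g * h * v * (g * h)⁻¹ * v = g * (h * v * h⁻¹) * g⁻¹ * v := by group
    _ = g * e * g⁻¹ * (g * v * g⁻¹ * v) := by rw [h1]; group
    _ = e * (g * v * g⁻¹ * v) := by rw [(X.comm_E hg he).eq, mul_inv_cancel_right]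
    _ = _ := X.typ.isE.commute C he (X.memT g (X.T₂_le hg)).2.2

theorem sh_mul {g h : G} (hg : g ∈ X.T₂) (hh : h ∈ X.T₂) : X.sh (g * h) = X.sh g + X.sh h := by
  unfold sh
  rw [X.shift_mul hg hh, X.co.z_mul _ (X.memT g (X.T₂_le hg)).2.2 _ (X.memT h (X.T₂_le hh)).2.2]

theorem sh_of_comm {g : G} (h : Commute g v) : X.sh g = 0 := by
  unfold sh
  rw [mul_inv_eq_iff_eq_mul.2 h.eq, X.vv, X.z_one]

theorem comm_of_sh {g : G} (hg : g ∈ X.T₂) (h : X.sh g = 0) : Commute g v := by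
  have h1 := (X.z_eq_zero (X.memT g (X.T₂_le hg)).2.2).1 h
  rw [mul_eq_one_iff_eq_inv, inv_eq_of_mul_eq_one_right X.vv] at h1
  exact mul_inv_eq_iff_eq_mul.1 h1

theorem sh_conj {j g : G} {m : X.co.K} (hjv : Commute j v) (hg : g ∈ X.T₂)
    (hz : ∀ e ∈ E, X.co.z (j * e * j⁻¹) = m ^ (q + 1) * X.co.z e) :
    X.sh (j * g * j⁻¹) = m ^ (q + 1) * X.sh g := by
  unfold sh
  have hjv' : j⁻¹ * v * j = v := by rw [mul_assoc, ← hjv.eq, inv_mul_cancel_left]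
  rw [← hz _ (X.memT g (X.T₂_le hg)).2.2]
  congr 1
  calc j * g * j⁻¹ * v * (j * g * j⁻¹)⁻¹ * v = j * g * (j⁻¹ * v * j) * g⁻¹ * j⁻¹ * v := by group
    _ = j * g * (j⁻¹ * v * j) * g⁻¹ * (j⁻¹ * v * j) * j⁻¹ := by group
    _ = _ := by rw [hjv']; group

open scoped Classical in
/-- **The decomposition exists.** -/
theorem exists_dec : Nonempty X.Dec := by
  have h2T : ∀ {x}, x ∈ X.T₂ → x ∈ X.T := fun h => X.T₂_le h
  -- averaging over the lifts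
  have hJn : ∀ j : ↥X.Lift, ∀ x ∈ X.T₂, (j : G) * x * (j : G)⁻¹ ∈ X.T₂ := fun j => j.2.2.2.1
  let J : ↥X.Lift →* MulAut ↥X.T₂ := MonoidHom.mk' (fun j =>
    { toFun := fun x => ⟨j * x * (j : G)⁻¹, hJn j x x.2⟩
      invFun := fun x => ⟨(j : G)⁻¹ * x * j, by simpa using hJn j⁻¹ x x.2⟩
      left_inv := fun x => Subtype.ext (by simp [mul_assoc])
      right_inv := fun x => Subtype.ext (by simp [mul_assoc])
      map_mul' := fun x y => Subtype.ext (by simp [mul_assoc]) })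
    fun i j => MulEquiv.ext fun x => Subtype.ext (by simp [mul_assoc])
  set E₂ := E.subgroupOf X.T₂ with hE₂
  have hmemE : ∀ {x : ↥X.T₂}, x ∈ E₂ ↔ (x : G) ∈ E := Iff.rfl
  have hscal : ∀ {m : X.co.K}, m ≠ 0 → m ^ q = m → ∃ j ∈ X.Lift,
      (∀ s ∈ S, X.co.w (j * s * j⁻¹) = m * X.co.w s) ∧
        ∀ e ∈ E, X.co.z (j * e * j⁻¹) = m ^ (q + 1) * X.co.z e := by
    intro m hm hmq
    obtain ⟨k, hk, hkw⟩ := X.co.torus m hm hmq
    obtain ⟨j, hj, hjk⟩ := X.exists_lift hk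
    exact ⟨j, hj, X.lift_scalar hj hk hjk hkw⟩
  obtain ⟨mc, hmc1, hmcn, jc, hjc, hjcw, hjcz⟩ : ∃ m : X.co.K, m ≠ 1 ∧ m ^ (q + 1) = 1 ∧ ∃ j ∈ X.Lift,
      (∀ s ∈ S, X.co.w (j * s * j⁻¹) = m * X.co.w s) ∧
        ∀ e ∈ E, X.co.z (j * e * j⁻¹) = m ^ (q + 1) * X.co.z e := by
    obtain ⟨k, hk, m, hm1, hmn, hkw, -⟩ := X.co.circle
    obtain ⟨j, hj, hjk⟩ := X.exists_lift hk
    exact ⟨m, hm1, hmn, j, hj, X.lift_scalar hj hk hjk hkw⟩
  have hjcE : ∀ e ∈ E, jc * e * jc⁻¹ = e := fun e he => X.co.z_inj (hjc.1.2.1 e he) he (by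
    rw [hjcz e he, hmcn, one_mul])
  have hmc' : mc + 1 ≠ 0 := fun h => hmc1 (CharTwo.add_eq_zero.1 h)
  obtain ⟨K₂, hEK, hKn, hvK, hcov, hJK, hβ⟩ := TypeU3.exists_kernel (E := E₂)
    (fun e he => Subgroup.mem_center_iff.2 fun x => Subtype.ext (X.comm_E x.2 (hmemE.1 he)).eq)
    (fun x => hmemE.2 (X.sq_T₂ x.2)) J
    (fun j e he => hmemE.2 (j.2.1.2.1 _ (hmemE.1 he)))
    (fun j => by
      obtain ⟨hjN, hjv, -, k, hk, hkj⟩ := j.2
      refine ⟨orderOf k, X.tor_odd hk, fun x => hmemE.2 ?_⟩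
      have hi : ∀ i : ℕ, (k ^ i)⁻¹ * (j : G) ^ i ∈ X.M₂ := by
        intro i
        induction i with
        | zero => simp
        | succ i ih =>
          rw [pow_succ, pow_succ, show (k ^ i * k)⁻¹ * ((j : G) ^ i * j) =
            k⁻¹ * ((k ^ i)⁻¹ * (j : G) ^ i) * k⁻¹⁻¹ * (k⁻¹ * j) by group]
          exact mul_mem (X.M₂_normal (inv_mem (X.tor_mem hk)) ih) hkj
      have hM := hi (orderOf k)
      rw [pow_orderOf_eq_one, inv_one, one_mul] at hM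
      have h1 := inv_mem (X.comm_mod hM (hjv.pow_left _) (by
        have := (j ^ orderOf k).2.2.2.1
        rwa [SubgroupClass.coe_pow] at this) x.2)
      show ((((j ^ orderOf k : ↥X.Lift) : G) * x * ((j ^ orderOf k : ↥X.Lift) : G)⁻¹))⁻¹ * (x : G) ∈ E
      rw [SubgroupClass.coe_pow]
      rwa [mul_inv_rev, inv_inv] at h1)
    (v := ⟨v, X.v_mem_T₂⟩) (fun h => X.typ.v_not_E (hmemE.1 h))
    (fun j => hmemE.2 (by
      show v⁻¹ * ((j : G) * v * (j : G)⁻¹) ∈ E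
      rw [j.2.2.1.eq, mul_inv_cancel_right, inv_mul_cancel]; exact one_mem _))
    (fun x hfx => by
      obtain ⟨r, hrq, hr0, hr1⟩ : ∃ r : X.co.K, r ^ q = r ∧ r ≠ 0 ∧ r ≠ 1 := by
        haveI := Fintype.ofFinite E
        have h4 := X.four_le
        rw [Nat.card_eq_fintype_card, ← Finset.card_univ] at h4
        obtain ⟨t, -, ht⟩ := Finset.exists_mem_notMem_of_card_lt_card
          (s := Finset.univ.filter fun t : E => X.co.z t = 0 ∨ X.co.z t = 1) (t := Finset.univ) (by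
            refine lt_of_le_of_lt ?_ (show 2 < (Finset.univ : Finset E).card by omega)
            refine (Finset.card_le_card_of_injOn (fun t : E => X.co.z t)
              (t := ({0, 1} : Finset X.co.K)) (fun t ht => by simpa using ht) fun t _ t' _ h =>
                Subtype.ext (X.co.z_inj t.2 t'.2 h)).trans Finset.card_le_two)
        simp only [Finset.mem_filter, Finset.mem_univ, true_and, not_or] at ht
        exact ⟨X.co.z t, X.co.z_fix t t.2, ht⟩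
      obtain ⟨j, hj, hjw, hjz⟩ := hscal hr0 hrq
      have he : (x : G)⁻¹ * (j * x * j⁻¹) ∈ E := hfx ⟨j, hj⟩
      have hn : r ^ (q + 1) ≠ 1 := fun h => hr1 (by
        rw [pow_succ, hrq] at h
        rcases mul_self_eq_one_iff.1 h with h' | h'
        · exact h'
        · rw [h', CharTwo.neg_eq])
      have hsh : X.sh (x : G) = 0 := by
        have h1 := X.sh_conj hj.2.1 x.2 hjz
        rw [show j * x * j⁻¹ = (x : G) * ((x : G)⁻¹ * (j * x * j⁻¹)) by group,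
          X.sh_mul x.2 (X.S_le_T₂ (X.E_S he)), X.sh_of_comm (X.typ.Ev he), add_zero] at h1
        by_contra h0
        exact hn (mul_right_cancel₀ h0 (by rw [one_mul]; exact h1.symm))
      have hxv := X.comm_of_sh x.2 hsh
      have key : ∀ s ∈ S, s⁻¹ * (j * s * j⁻¹) ∈ E → s ∈ E := fun s hs h => by
        refine (X.co.w_E s hs).1 ?_
        have h1 := (X.w_eq hs (X.conj_S_of_comm hj.1 hj.2.1 hs)).2 h
        rw [hjw s hs] at h1
        by_contra h0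
        exact hr1 (mul_right_cancel₀ h0 (by rw [one_mul]; exact h1.symm))
      rcases X.mem_Sv_of_commute x.2 hxv with h | h
      · exact Or.inl (hmemE.2 (key _ h he))
      · refine Or.inr (hmemE.2 ?_)
        show v⁻¹ * (x : G) ∈ E
        rw [inv_eq_of_mul_eq_one_right X.vv, ← hxv.eq]
        refine key _ h ?_
        rwa [show ((x : G) * v)⁻¹ * (j * ((x : G) * v) * j⁻¹) =
          v⁻¹ * ((x : G)⁻¹ * (j * x * j⁻¹)) * (j * v * j⁻¹) by group, hj.2.1.eq, mul_inv_cancel_right,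
          mul_assoc, (X.typ.Ev he).eq, inv_mul_cancel_left])
  set K := K₂.map X.T₂.subtype with hK
  have hKmem : ∀ {x : ↥X.T₂}, (x : G) ∈ K ↔ x ∈ K₂ := fun {x} =>
    Subgroup.mem_map_iff_mem X.T₂.subtype_injective
  have hKle : K ≤ X.T₂ := map_subtype_le _
  have hKE : ∀ e ∈ E, e ∈ K := fun e he =>
    (hKmem (x := ⟨e, X.S_le_T₂ (X.E_S he)⟩)).2 (hEK (hmemE.2 he))
  have hKj : ∀ j ∈ X.Lift, ∀ x ∈ K, j * x * j⁻¹ ∈ K := fun j hj x hx =>
    (hKmem (x := J ⟨j, hj⟩ ⟨x, hKle hx⟩)).2 (hJK _ _ ((hKmem (x := ⟨x, hKle hx⟩)).1 hx))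
  have hKv : v ∉ K := fun h => hvK ((hKmem (x := ⟨v, X.v_mem_T₂⟩)).1 h)
  have hKcov : ∀ x ∈ X.T₂, x ∈ K ∨ x * v ∈ K := fun x hx => by
    rcases hcov ⟨x, hx⟩ with h | h
    · exact Or.inl ((hKmem (x := ⟨x, hx⟩)).2 h)
    · have := (hKmem (x := (⟨x, hx⟩ : ↥X.T₂) * ⟨v, X.v_mem_T₂⟩⁻¹)).2 h
      rw [Subgroup.coe_mul, Subgroup.coe_inv] at this
      rw [inv_eq_of_mul_eq_one_right X.vv] at this
      exact Or.inr this
  have hKd : ∀ d ∈ D, ∀ x ∈ K, d * x * d⁻¹ ∈ K := by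
    intro d hd x hx
    obtain ⟨hda, hdb, hdv⟩ := X.typ.maxPair.fix d hd
    have hdT : d ∈ X.T := X.le (X.typ.le hd)
    let β : MulAut ↥X.T₂ :=
      { toFun := fun x => ⟨d * x * d⁻¹, X.T₂_normal hdT x.2⟩
        invFun := fun x => ⟨d⁻¹ * x * d, by simpa using X.T₂_normal (inv_mem hdT) x.2⟩
        left_inv := fun x => Subtype.ext (by simp [mul_assoc])
        right_inv := fun x => Subtype.ext (by simp [mul_assoc])
        map_mul' := fun x y => Subtype.ext (by simp [mul_assoc]) }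
    refine (hKmem (x := β ⟨x, hKle hx⟩)).2 (hβ β (fun e he => hmemE.2 ((X.memT d hdT).2.1 _ (hmemE.1 he)))
      (fun j => ?_) _ ((hKmem (x := ⟨x, hKle hx⟩)).1 hx))
    obtain ⟨hjN, hjv, hjT, k, hk, hkj⟩ := j.2
    have hk' : d * k * d⁻¹ ∈ C.Tor v a b S := ⟨C.conj_mem_L_of_commute hdv hk.1,
      by rw [mul_smul, mul_smul, inv_smul_eq_iff.2 hda.symm, hk.2.1, hda],
      by rw [mul_smul, mul_smul, inv_smul_eq_iff.2 hdb.symm, hk.2.2.1, hdb],
      fun s hs => by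
        rw [show d * k * d⁻¹ * s * (d * k * d⁻¹)⁻¹ = d * (k * (d⁻¹ * s * d⁻¹⁻¹) * k⁻¹) * d⁻¹ by group]
        exact X.typ.conj_S (X.typ.le hd) (hk.2.2.2 _ (X.typ.conj_S (inv_mem (X.typ.le hd)) hs))⟩
    refine ⟨⟨d * j * d⁻¹, ⟨mul_mem (mul_mem (X.T_le hdT) hjN) (inv_mem (X.T_le hdT)),
      (hdv.mul_left hjv).mul_left hdv.inv_left, fun y hy => ?_, d * k * d⁻¹, hk', ?_⟩⟩, fun y => ?_⟩
    · rw [show d * j * d⁻¹ * y * (d * j * d⁻¹)⁻¹ = d * (j * (d⁻¹ * y * d⁻¹⁻¹) * (j : G)⁻¹) * d⁻¹ by group]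
      exact X.T₂_normal hdT (hjT _ (X.T₂_normal (inv_mem hdT) hy))
    · rw [show (d * k * d⁻¹)⁻¹ * (d * j * d⁻¹) = d * (k⁻¹ * j) * d⁻¹ by group]
      exact X.M₂_normal (X.T_le hdT) hkj
    · refine hmemE.2 ?_
      show (d * j * d⁻¹ * (d * y * d⁻¹) * (d * j * d⁻¹)⁻¹)⁻¹ * (d * (j * y * (j : G)⁻¹) * d⁻¹) ∈ E
      rw [show d * j * d⁻¹ * (d * y * d⁻¹) * (d * j * d⁻¹)⁻¹ = d * (j * y * (j : G)⁻¹) * d⁻¹ by group,
        inv_mul_cancel]
      exact one_mem _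
  have hKnormal : ∀ t ∈ X.T, ∀ x ∈ K, t * x * t⁻¹ ∈ K := by
    intro t ht x hx
    obtain ⟨y, hy, d, hd, rfl⟩ := X.exists_mul_T ht
    have h1 := hKd d hd x hx
    rw [show y * d * x * (y * d)⁻¹ = y * (d * x * d⁻¹) * y⁻¹ * (d * x * d⁻¹)⁻¹ * (d * x * d⁻¹) by group]
    exact mul_mem (hKE _ (X.comm_T₂ hy (hKle h1))) h1
  have hSK : ∀ s ∈ S, s ∈ K := by
    intro s hs
    obtain ⟨s', hs', hws'⟩ := X.co.w_surj (X.co.w s / (mc + 1))
    have hu : jc * s' * jc⁻¹ * s'⁻¹ ∈ K := by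
      rcases hKcov s' (X.S_le_T₂ hs') with h | h
      · exact mul_mem (hKj jc hjc _ h) (inv_mem h)
      · have := mul_mem (hKj jc hjc _ h) (inv_mem h)
        rwa [show jc * (s' * v) * jc⁻¹ * (s' * v)⁻¹ = jc * s' * jc⁻¹ * (jc * v * jc⁻¹) * v⁻¹ * s'⁻¹ by
          group, hjc.2.1.eq, mul_inv_cancel_right, mul_inv_cancel_right] at this
    have hjs := X.conj_S_of_comm hjc.1 hjc.2.1 hs'
    have huS := mul_mem hjs (inv_mem hs')
    have hwu : X.co.w (jc * s' * jc⁻¹ * s'⁻¹) = X.co.w s := by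
      rw [X.co.w_mul _ hjs _ (inv_mem hs'), hjcw s' hs', X.w_inv hs', ← add_one_mul, hws',
        mul_div_cancel₀ _ hmc']
    have := mul_mem hu (hKE _ ((X.w_eq huS hs).1 hwu))
    rwa [mul_inv_cancel_left] at this
  have hSvK : ∀ x ∈ K, Commute x v → x ∈ S := fun x hx hxv => by
    rcases X.mem_Sv_of_commute (hKle hx) hxv with h | h
    · exact h
    · refine absurd ?_ hKv
      have := mul_mem (inv_mem hx) (hSK _ h)
      rwa [inv_mul_cancel_left] at this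
  have hcard : Nat.card K = q ^ 4 := by
    have h2 : Nat.card (K ⊕ K) = Nat.card X.T₂ := Nat.card_congr (Equiv.ofBijective
      (Sum.elim (fun x : ↥K => (⟨x, hKle x.2⟩ : ↥X.T₂))
        (fun x : ↥K => (⟨(x : G) * v, mul_mem (hKle x.2) X.v_mem_T₂⟩ : ↥X.T₂))) ⟨by
          rintro (x | x) (y | y) h <;> have h' := congrArg Subtype.val h <;>
            simp only [Sum.elim_inl, Sum.elim_inr] at h'
          · exact congrArg Sum.inl (Subtype.ext h')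
          · refine absurd ?_ hKv
            have := mul_mem (inv_mem y.2) x.2
            rwa [h', inv_mul_cancel_left] at this
          · refine absurd ?_ hKv
            have := mul_mem (inv_mem x.2) y.2
            rwa [← h', inv_mul_cancel_left] at this
          · exact congrArg Sum.inr (Subtype.ext (mul_right_cancel h')), by
          rintro ⟨x, hx⟩
          rcases hKcov x hx with h | h
          · exact ⟨Sum.inl ⟨x, h⟩, rfl⟩
          · exact ⟨Sum.inr ⟨x * v, h⟩, Subtype.ext X.mul_v_mul_v⟩⟩)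
    rw [Nat.card_sum, X.card_T₂] at h2
    omega
  -- the part fixed by the circle
  let Y : Subgroup G := subgroupOfClosed {x | x ∈ K ∧ x⁻¹ * (jc * x * jc⁻¹) ∈ E}
    ⟨one_mem _, by simp⟩ (by
      rintro g h ⟨hg, hge⟩ ⟨hh, hhe⟩
      refine ⟨mul_mem hg hh, ?_⟩
      rw [show (g * h)⁻¹ * (jc * (g * h) * jc⁻¹) =
        h⁻¹ * (g⁻¹ * (jc * g * jc⁻¹)) * h * (h⁻¹ * (jc * h * jc⁻¹)) by group,
        mul_assoc h⁻¹ _ h, ← (X.comm_E (hKle hh) hge).eq, inv_mul_cancel_left]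
      exact mul_mem hge hhe)
  have hYK : ∀ {y}, y ∈ Y → y ∈ K := fun h => (mem_subgroupOfClosed.1 h).1
  have hYfix : ∀ y ∈ Y, Commute y v → y ∈ E := by
    intro y hy hyv
    obtain ⟨hyK, hye⟩ := mem_subgroupOfClosed.1 hy
    have hyS := hSvK y hyK hyv
    refine (X.co.w_E y hyS).1 ?_
    have h1 := (X.w_eq hyS (X.conj_S_of_comm hjc.1 hjc.2.1 hyS)).2 hye
    rw [hjcw y hyS] at h1
    by_contra h0
    exact hmc1 (mul_right_cancel₀ h0 (by rw [one_mul]; exact h1.symm))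
  have hconjY : ∀ j ∈ X.Lift, ∀ y ∈ Y, j * y * j⁻¹ ∈ Y := by
    intro j hj y hy
    obtain ⟨hyK, hye⟩ := mem_subgroupOfClosed.1 hy
    refine mem_subgroupOfClosed.2 ⟨hKj j hj y hyK, ?_⟩
    obtain ⟨m, hm, hw, -⟩ := X.exists_scalar_lift hj
    have hc' : j⁻¹ * jc * j ∈ X.Lift := mul_mem (mul_mem (inv_mem hj) hjc) hj
    have hw' : ∀ s ∈ S, X.co.w (j⁻¹ * jc * j * s * (j⁻¹ * jc * j)⁻¹) = mc * X.co.w s := by
      intro s hs
      have hr := X.conj_S_of_comm hc'.1 hc'.2.1 hs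
      have hjs := X.conj_S_of_comm hj.1 hj.2.1 hs
      refine mul_left_cancel₀ hm ?_
      rw [← hw _ hr, show j * (j⁻¹ * jc * j * s * (j⁻¹ * jc * j)⁻¹) * j⁻¹ =
        jc * (j * s * j⁻¹) * jc⁻¹ by group, hjcw _ hjs, hw s hs, mul_left_comm]
    have hm0 : mc ≠ 0 := fun h => by rw [h, zero_pow (by omega)] at hmcn; exact zero_ne_one hmcn
    have h1 := mul_mem hye (X.lift_unique hjc hc' hm0 hjcw hw' (hKle hyK))
    rw [show y⁻¹ * (jc * y * jc⁻¹) * ((jc * y * jc⁻¹)⁻¹ * (j⁻¹ * jc * j * y * (j⁻¹ * jc * j)⁻¹)) =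
      y⁻¹ * (j⁻¹ * jc * j * y * (j⁻¹ * jc * j)⁻¹) by group] at h1
    have h2 := hj.1.2.1 _ h1
    rwa [show j * (y⁻¹ * (j⁻¹ * jc * j * y * (j⁻¹ * jc * j)⁻¹)) * j⁻¹ =
      (j * y * j⁻¹)⁻¹ * (jc * (j * y * j⁻¹) * jc⁻¹) by group] at h2
  have hmul : ∀ x ∈ K, ∃ s ∈ S, ∃ y ∈ Y, s * y = x := by
    intro x hx
    set r := x⁻¹ * (jc * x * jc⁻¹) with hr
    have hrK : r ∈ K := mul_mem (inv_mem hx) (hKj jc hjc x hx)
    have hrS : r ∈ S := hSvK r hrK (X.comm_of_sh (hKle hrK) (by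
      have h1 := X.sh_mul (hKle hx) (hKle hrK)
      rw [show x * r = jc * x * jc⁻¹ by rw [hr, mul_inv_cancel_left],
        X.sh_conj hjc.2.1 (hKle hx) hjcz, hmcn, one_mul, left_eq_add] at h1
      exact h1))
    obtain ⟨s, hs, hws⟩ := X.co.w_surj (X.co.w r / (mc + 1))
    refine ⟨s, hs, s⁻¹ * x, mem_subgroupOfClosed.2 ⟨mul_mem (inv_mem (hSK s hs)) hx, ?_⟩,
      mul_inv_cancel_left s x⟩
    have hjs := X.conj_S_of_comm hjc.1 hjc.2.1 (inv_mem hs)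
    set u := s * (jc * s⁻¹ * jc⁻¹) with hu
    have huS : u ∈ S := mul_mem hs hjs
    have e1 : (s⁻¹ * x)⁻¹ * (jc * (s⁻¹ * x) * jc⁻¹) = x⁻¹ * u * x⁻¹⁻¹ * u⁻¹ * (u * r) := by
      rw [hu, hr]; group
    rw [e1]
    refine mul_mem (X.comm_T₂ (inv_mem (hKle hx)) (X.S_le_T₂ huS)) ((X.co.w_E _ (mul_mem huS hrS)).1 ?_)
    rw [X.co.w_mul u huS r hrS, hu, X.co.w_mul _ hs _ hjs, hjcw _ (inv_mem hs), X.w_inv hs,
      show X.co.w s + mc * X.co.w s = (mc + 1) * X.co.w s by ring, hws, mul_div_cancel₀ _ hmc',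
      CharTwo.add_self_eq_zero]
  have hshift : ∀ e ∈ E, ∃ y ∈ Y, y * v * y⁻¹ * v = e := by
    intro e he
    obtain ⟨x, hx, hxe⟩ := X.trans₂ he
    obtain ⟨x', hx', hxe'⟩ : ∃ x' ∈ K, x' * v * x'⁻¹ * v = e := by
      rcases hKcov x hx with h | h
      · exact ⟨x, h, hxe⟩
      · refine ⟨x * v, h, ?_⟩
        rw [← hxe]; group
    obtain ⟨s, hs, y, hy, rfl⟩ := hmul x' hx'
    refine ⟨y, hy, ?_⟩
    rwa [X.shift_mul (X.S_le_T₂ hs) (hKle (hYK hy)), mul_inv_eq_iff_eq_mul.2 (X.sv hs).eq, X.vv,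
      one_mul] at hxe'
  obtain ⟨y₁, hy₁, hy₁e⟩ : ∃ y ∈ Y, X.sh y = 1 := by
    obtain ⟨e, he, hze⟩ := X.co.z_surj 1 (one_pow _)
    obtain ⟨y, hy, hye⟩ := hshift e he
    exact ⟨y, hy, by unfold sh; rw [hye, hze]⟩
  set κ := X.co.z (y₁ * y₁) with hκ
  have hYsq : ∀ y ∈ Y, X.co.z (y * y) = κ * X.sh y := by
    intro y hy
    have hyT := hKle (hYK hy)
    by_cases h0 : X.sh y = 0
    · have hyE := hYfix y hy (X.comm_of_sh hyT h0)
      rw [h0, mul_zero, X.E2 hyE, X.z_one]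
    obtain ⟨hmq, hmn⟩ := X.sqrt_fixed (r := X.sh y) (X.co.z_fix _ (X.memT y (h2T hyT)).2.2)
    obtain ⟨j, hj, -, hjz⟩ := hscal (pow_ne_zero (q / 2) h0) hmq
    set y' := j * y₁ * j⁻¹ with hy'
    have hy'Y : y' ∈ Y := hconjY j hj y₁ hy₁
    have hy'T := hKle (hYK hy'Y)
    have hsh' : X.sh y' = X.sh y := by
      rw [hy', X.sh_conj hj.2.1 (hKle (hYK hy₁)) hjz, hy₁e, mul_one, hmn]
    have hd : y⁻¹ * y' ∈ E := hYfix _ (mul_mem (inv_mem hy) hy'Y) (X.comm_of_sh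
      (mul_mem (inv_mem hyT) hy'T) (by
        have h1 := X.sh_mul hyT (mul_mem (inv_mem hyT) hy'T)
        rw [mul_inv_cancel_left, hsh', left_eq_add] at h1
        exact h1))
    have e1 : y * y = y' * y' := by
      set ε := y⁻¹ * y' with hε
      rw [show y' = y * ε by rw [hε, mul_inv_cancel_left]]
      calc y * y = y * y * (ε * ε) := by rw [X.E2 hd, mul_one]
        _ = y * (y * ε) * ε := by group
        _ = y * (ε * y) * ε := by rw [(X.comm_E hyT hd).eq]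
        _ = _ := by group
    rw [e1, hy', show j * y₁ * j⁻¹ * (j * y₁ * j⁻¹) = j * (y₁ * y₁) * j⁻¹ by group,
      hjz _ (X.sq_T₂ (hKle (hYK hy₁))), hmn, mul_comm]
  refine ⟨⟨K, Y, hKle, hSK, hKv, hKcov, hKnormal, hcard, fun y hy => hYK hy,
    fun e he => mem_subgroupOfClosed.2 ⟨hKE e he, by rw [hjcE e he, inv_mul_cancel]; exact one_mem _⟩,
    hmul, ?_, ?_, fun y hy hyS => hYfix y hy (X.sv hyS), hYfix, hshift, κ,
    X.co.z_fix _ (X.sq_T₂ (hKle (hYK hy₁))), hYsq, fun m hm hmq => ?_,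
    ⟨jc, mc, hmc1, hmcn, X.scal_of_lift hjc (hKj jc hjc) (hconjY jc hjc) hjcw hjcz, hjcE⟩⟩⟩
  · intro y hy s hs
    obtain ⟨hyK, hye⟩ := mem_subgroupOfClosed.1 hy
    have hyT := hKle hyK
    obtain ⟨s', hs', hws'⟩ := X.co.w_surj (X.co.w s / (mc + 1))
    have hjs := X.conj_S_of_comm hjc.1 hjc.2.1 hs'
    set u := jc * s' * jc⁻¹ * s'⁻¹ with hu
    have hwu : X.co.w u = X.co.w s := by
      rw [hu, X.co.w_mul _ hjs _ (inv_mem hs'), hjcw s' hs', X.w_inv hs', ← add_one_mul, hws',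
        mul_div_cancel₀ _ hmc']
    have hε : u⁻¹ * s ∈ E := (X.w_eq (mul_mem hjs (inv_mem hs')) hs).1 hwu
    have hyu : Commute y u := by
      set ε := y⁻¹ * (jc * y * jc⁻¹) with hεy
      have hc : y * s' * y⁻¹ * s'⁻¹ ∈ E := X.comm_T₂ hyT (X.S_le_T₂ hs')
      set c := y * s' * y⁻¹ * s'⁻¹ with hcdef
      refine mul_inv_eq_iff_eq_mul.1 ?_
      have e1 : y * ε * (jc * s' * jc⁻¹) * (y * ε)⁻¹ = c * (jc * s' * jc⁻¹) := by
        calc y * ε * (jc * s' * jc⁻¹) * (y * ε)⁻¹ = jc * (c * s') * jc⁻¹ := by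
              rw [hεy, hcdef]; group
          _ = jc * c * jc⁻¹ * (jc * s' * jc⁻¹) := by group
          _ = _ := by rw [hjcE c hc]
      have e2 : y * (jc * s' * jc⁻¹) * y⁻¹ = c * (jc * s' * jc⁻¹) := by
        rw [← e1, show y * ε * (jc * s' * jc⁻¹) * (y * ε)⁻¹ =
          y * (ε * (jc * s' * jc⁻¹) * ε⁻¹) * y⁻¹ by group, (X.es hye hjs).eq, mul_inv_cancel_right]
      calc y * u * y⁻¹ = y * (jc * s' * jc⁻¹) * y⁻¹ * (y * s' * y⁻¹)⁻¹ := by rw [hu]; group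
        _ = c * (jc * s' * jc⁻¹) * (c * s')⁻¹ := by rw [e2, hcdef]; group
        _ = c * (jc * s' * jc⁻¹ * s'⁻¹ * c⁻¹) := by group
        _ = u := by
            rw [← hu, ← (X.es (inv_mem hc) (mul_mem hjs (inv_mem hs'))).eq, mul_inv_cancel_left]
    have := hyu.mul_right (X.comm_E hyT hε)
    rwa [mul_inv_cancel_left] at this
  · intro y hy y' hy'
    have hyT := hKle (hYK hy)
    have hyT' := hKle (hYK hy')
    have h1 := hYsq _ (mul_mem hy hy')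
    rw [X.sh_mul hyT hyT', mul_add, ← hYsq y hy, ← hYsq y' hy',
      ← X.co.z_mul _ (X.sq_T₂ hyT) _ (X.sq_T₂ hyT')] at h1
    have h2 := X.co.z_inj (X.sq_T₂ (mul_mem hyT hyT')) (mul_mem (X.sq_T₂ hyT) (X.sq_T₂ hyT')) h1
    refine (mul_left_cancel (a := y) (mul_right_cancel (b := y') ?_)).symm
    simpa [mul_assoc] using h2
  · obtain ⟨j, hj, hw, hz⟩ := hscal hm hmq
    exact ⟨j, X.scal_of_lift hj (hKj j hj) (hconjY j hj) hw hz⟩

end Cfg3

end Ctx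

end CfsgLib.Criterion
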