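import Cfsg.Agent.Criterion.TypeU3ExtM

/-!
# The strong embedding criterion: how the second layer acts on the first

No element of `v M` centralises `R`; when the squares of `W` are its shifts, `W` centralises `R`.
-/

set_option autoImplicit false
set_option linter.style.haveILetI false
set_option linter.unusedSectionVars false

namespace CfsgLib.Criterion

open Subgroup CfsgLib.Invol CfsgLib.Bender

/-- A biadditive map on the fixed field, semilinear of degree one and zero on the diagonal, is zero. -/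
theorem biadd_eq_zero {K : Type*} [Field K] [CharP K 2] [Finite K] {q : ℕ}
    (hq : ∀ x y : K, (x + y) ^ q = x ^ q + y ^ q) {f : K → K → K}
    (hl : ∀ t t' d, t ^ q = t → t' ^ q = t' → d ^ q = d → f (t + t') d = f t d + f t' d)
    (hr : ∀ t d d', t ^ q = t → d ^ q = d → d' ^ q = d' → f t (d + d') = f t d + f t d')
    (hs : ∀ ν t d, ν ≠ 0 → ν ^ q = ν → t ^ q = t → d ^ q = d → f (ν * t) (ν * d) = ν * f t d)
    (hd : ∀ t, t ^ q = t → f t t = 0) {t d : K} (ht : t ^ q = t) (hdq : d ^ q = d)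
    (hsqrt : ∀ r : K, r ^ q = r → ∃ s : K, s ^ q = s ∧ s * s = r) : f t d = 0 := by
  have h1 : (1 : K) ^ q = 1 := one_pow q
  have h2 : ∀ t : K, t ≠ 0 → t ^ q = t → f 1 (t * t) = 0 := by
    intro t ht0 ht
    by_cases ht1 : t = 1
    · rw [ht1, mul_one]; exact hd 1 h1
    have htt : (t * t) ^ q = t * t := by rw [mul_pow, ht]
    have ht' : (t + 1) ^ q = t + 1 := by rw [hq, ht, h1]
    have htt' : (t * t + t) ^ q = t * t + t := by rw [hq, htt, ht]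
    have e1 : f (t + 1) (t * t + t) = (t + 1) * f 1 t := by
      have := hs (t + 1) 1 t (fun h => ht1 (CharTwo.add_eq_zero.1 h)) ht' h1 ht
      rwa [mul_one, show (t + 1) * t = t * t + t by ring] at this
    have e2 : f t (t * t + t) = t * f 1 t := by
      have := hs t 1 (t + 1) ht0 ht h1 ht'
      rw [mul_one, show t * (t + 1) = t * t + t by ring, hr 1 t 1 h1 ht h1, hd 1 h1, add_zero] at this
      exact this
    have e3 := hl t 1 (t * t + t) ht h1 htt'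
    rw [e1, e2, hr 1 (t * t) t h1 htt ht] at e3
    linear_combination -e3
  by_cases ht0 : t = 0
  · have := hl 0 0 d (by rw [← ht0, ht]) (by rw [← ht0, ht]) hdq
    rw [add_zero, left_eq_add] at this
    rwa [ht0]
  obtain ⟨s, hsq, hss⟩ := hsqrt (t⁻¹ * d) (by rw [mul_pow, inv_pow, ht, hdq])
  by_cases hs0 : s = 0
  · have hd0 : d = 0 := by
      rw [hs0, mul_zero] at hss
      exact (mul_eq_zero.1 hss.symm).resolve_left (inv_ne_zero ht0)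
    have := hr t 0 0 ht (by rw [← hd0, hdq]) (by rw [← hd0, hdq])
    rw [add_zero, left_eq_add] at this
    rwa [hd0]
  have := hs t 1 (s * s) ht0 ht h1 (by rw [mul_pow, hsq])
  rwa [mul_one, h2 s hs0 hsq, mul_zero, hss, mul_inv_cancel_left₀ ht0] at this

universe u

variable {G : Type u} [Group G] [Finite G]

namespace Ctx.Ext3

variable {C : Ctx G} {v : G} {a b : C.Pt} {D E P : Subgroup G} (X : C.Ext3 v a b D E P)

local notation "S" => P ⊓ C.L v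
local notation "q" => Nat.card E

include X

theorem exists_sqrt_fix {r : X.co.K} (hr : r ^ q = r) : ∃ s : X.co.K, s ^ q = s ∧ s * s = r := by
  obtain ⟨h1, h2⟩ := X.sqrt_fixed hr
  refine ⟨_, h1, ?_⟩
  rwa [pow_succ, h1] at h2

theorem exists_ne_zero_one : ∃ ν : X.co.K, ν ≠ 0 ∧ ν ≠ 1 ∧ ν ^ q = ν := by
  classical
  by_contra hall
  push Not at hall
  have hle : q ≤ Nat.card (({0, 1} : Finset X.co.K)) := by
    refine Nat.card_le_card_of_injective (fun e : ↥E => (⟨X.co.z e, ?_⟩ : ({0, 1} : Finset X.co.K)))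
      fun e e' he => Subtype.ext (X.co.z_inj e.2 e'.2 (congrArg Subtype.val he :))
    simp only [Finset.mem_insert, Finset.mem_singleton]
    by_cases h0 : X.co.z e = 0
    · exact Or.inl h0
    · exact Or.inr (by_contra fun h1 => hall _ h0 h1 (X.co.z_fix e e.2))
  rw [Nat.card_eq_finsetCard] at hle
  have := Finset.card_le_two (a := (0 : X.co.K)) (b := 1)
  have := X.four_le
  omega

theorem del_conj_of_commute {m g : G} (hm : Commute m v) :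
    del v (m * g * m⁻¹) = m * del v g * m⁻¹ := by
  rw [del, del, ← mul_assoc v, ← mul_assoc v, ← hm.eq, mul_inv_rev, mul_inv_rev, inv_inv]
  calc m * v * g * m⁻¹ * v⁻¹ * (m * (g⁻¹ * m⁻¹))
      = m * v * g * (m⁻¹ * v⁻¹ * m) * g⁻¹ * m⁻¹ := by group
    _ = _ := by rw [hm.inv_inv.eq, inv_mul_cancel_right]; group

/-- The scalars on the second shift. -/
theorem exists_scale {ν : X.co.K} (hν : ν ≠ 0) (hνq : ν ^ q = ν) :
    ∃ m : G, Commute m v ∧ (∀ y ∈ X.R, m * y * m⁻¹ ∈ X.R) ∧ (∀ g ∈ X.W, m * g * m⁻¹ ∈ X.W) ∧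
      (∀ g ∈ X.W, X.tt (m * g * m⁻¹) = ν ^ 2 * X.tt g) ∧
      (∀ y ∈ X.R, X.co.z (del v (m * y * m⁻¹)) = ν ^ 2 * X.co.z (del v y)) ∧
      (∀ e ∈ E, m * e * m⁻¹ ∈ E ∧ X.co.z (m * e * m⁻¹) = ν ^ 2 * X.co.z e) ∧ m • a = a ∧
      ∀ s ∈ S, m * s * m⁻¹ ∈ S := by
  obtain ⟨m, hma, hmv, hmS, hmR, hmW, hmE⟩ := X.torW ν hν hνq
  refine ⟨m, hmv, hmR, hmW, fun g hg => ?_, fun y hy => ?_, hmE, hma, hmS⟩
  · rw [tt, X.del_conj_of_commute hmv, X.del_conj_of_commute hmv,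
      (hmE _ (X.del_mem _ (X.W_del g hg))).2]
    rfl
  · rw [X.del_conj_of_commute hmv, (hmE _ (X.del_mem y hy)).2]

/-- One element of `W` off `R` centralising `R` makes all of `W` centralise it. -/
theorem all_comm_R {x₀ : G} (hx₀ : x₀ ∈ X.W) (h₀ : X.tt x₀ ≠ 0) (hc : ∀ y ∈ X.R, Commute x₀ y)
    {x : G} (hx : x ∈ X.W) {y : G} (hy : y ∈ X.R) : Commute x y := by
  by_cases hxt : X.tt x = 0
  · exact X.R_R x (X.mem_R_of_tt hx hxt) y hy
  obtain ⟨ν, hνq, hνν⟩ := X.exists_sqrt_fix (r := X.tt x / X.tt x₀)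
    (by rw [div_pow, X.tt_fix hx, X.tt_fix hx₀])
  have hν : ν ≠ 0 := fun h => by
    rw [h, mul_zero] at hνν
    exact div_ne_zero hxt h₀ hνν.symm
  obtain ⟨m, -, hmR, hmW, hmt, -, -, -⟩ := X.exists_scale hν hνq
  have hmap : X.R.map (MulAut.conj m).toMonoidHom = X.R :=
    eq_of_le_of_card_ge (by rintro _ ⟨y₀, hy₀, rfl⟩; exact hmR y₀ hy₀)
      (card_map_of_injective (MulAut.conj m).injective).ge
  have hc' : ∀ y ∈ X.R, Commute (m * x₀ * m⁻¹) y := by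
    intro y hy
    obtain ⟨y₀, hy₀, rfl⟩ := hmap.ge hy
    exact (Commute.conj_iff m).2 (hc y₀ hy₀)
  have hx₁ := hmW _ hx₀
  have hr : (m * x₀ * m⁻¹)⁻¹ * x ∈ X.R := X.mem_R_of_tt (mul_mem (inv_mem hx₁) hx) (by
    rw [X.tt_mul (inv_mem hx₁) hx, X.tt_inv hx₁, hmt _ hx₀, pow_two, hνν, div_mul_cancel₀ _ h₀,
      CharTwo.add_self_eq_zero])
  have := (hc' y hy).mul_left (X.R_R _ hr y hy)
  rwa [mul_inv_cancel_left] at this

/-- **No element of `v M` centralises `R`.** -/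
theorem no_shift {m : G} (hm : m ∈ X.M) : ∃ y ∈ X.R, ¬ Commute (v * m) y := by
  by_contra hall
  push Not at hall
  obtain ⟨e, he, he1⟩ : ∃ e ∈ E, e ≠ 1 := by
    by_contra h
    push Not at h
    have h4 := X.four_le
    haveI : Subsingleton ↥E := ⟨fun x y => Subtype.ext ((h x x.2).trans (h y y.2).symm)⟩
    rw [Nat.card_of_subsingleton (1 : ↥E)] at h4
    omega
  obtain ⟨y₁, hy₁, hy₁e⟩ := X.del_surj e he
  have hnv : ¬ ∀ y ∈ X.R, Commute v y := fun h => he1 (hy₁e ▸ del_of_commute (h y₁ hy₁))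
  obtain ⟨s, hs, x, hx, rfl⟩ := hm
  have hvx : ∀ y ∈ X.R, Commute (v * x) y := fun y hy => by
    have := ((X.R_S y hy s hs).symm.inv_left).mul_left (hall y hy)
    rwa [← mul_assoc v s x, ← (X.sv hs).eq, mul_assoc s v, inv_mul_cancel_left] at this
  by_cases hxt : X.tt x = 0
  · refine hnv fun y hy => ?_
    have := (hvx y hy).mul_left (X.R_R _ (inv_mem (X.mem_R_of_tt hx hxt)) y hy)
    rwa [mul_inv_cancel_right] at this
  obtain ⟨ν, hν0, hν1, hνq⟩ := X.exists_ne_zero_one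
  obtain ⟨m, hmv, hmR, hmW, hmt, -, -, -⟩ := X.exists_scale hν0 hνq
  have hmap : X.R.map (MulAut.conj m).toMonoidHom = X.R :=
    eq_of_le_of_card_ge (by rintro _ ⟨y₀, hy₀, rfl⟩; exact hmR y₀ hy₀)
      (card_map_of_injective (MulAut.conj m).injective).ge
  set x' := m * x * m⁻¹ with hx'
  have hvx' : ∀ y ∈ X.R, Commute (v * x') y := by
    intro y hy
    obtain ⟨y₀, hy₀, rfl⟩ := hmap.ge hy
    have := (Commute.conj_iff m).2 (hvx y₀ hy₀)
    rwa [show m * (v * x) * m⁻¹ = m * v * x * m⁻¹ by group, hmv.eq,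
      show v * m * x * m⁻¹ = v * x' by rw [hx']; group] at this
  have hx'W := hmW x hx
  have h0 : X.tt (x⁻¹ * x') ≠ 0 := by
    rw [X.tt_mul (inv_mem hx) hx'W, X.tt_inv hx, hmt x hx, ← one_add_mul]
    refine mul_ne_zero (fun h => hν1 ?_) hxt
    have : ν ^ 2 = 1 := (CharTwo.add_eq_zero.1 h).symm
    rcases sq_eq_one_iff.1 this with h1 | h1
    · exact h1
    · rw [h1, CharTwo.neg_eq]
  have hcomm : ∀ y ∈ X.R, Commute (x⁻¹ * x') y := fun y hy => by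
    have := ((hvx y hy).inv_left).mul_left (hvx' y hy)
    rwa [mul_inv_rev, mul_assoc, inv_mul_cancel_left] at this
  refine hnv fun y hy => ?_
  have := (hvx y hy).mul_left (X.all_comm_R (mul_mem (inv_mem hx) hx'W) h0 hcomm (inv_mem hx) hy)
  rwa [mul_inv_cancel_right] at this

/-- A commutator between the layers depends only on the classes. -/
theorem comm_congr {x x' y y' : G} (hx : x ∈ X.W) (hx' : x' ∈ X.W) (hy : y ∈ X.R) (hy' : y' ∈ X.R)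
    (h : X.tt x = X.tt x') (h' : X.co.z (del v y) = X.co.z (del v y')) :
    x * y * x⁻¹ * y⁻¹ = x' * y' * x'⁻¹ * y'⁻¹ := by
  have hd : del v y = del v y' := X.co.z_inj (X.del_mem y hy) (X.del_mem y' hy') h'
  have he := (X.del_eq_iff hy hy').1 hd
  have hr : x⁻¹ * x' ∈ X.R := X.mem_R_of_tt (mul_mem (inv_mem hx) hx') (by
    rw [X.tt_mul (inv_mem hx) hx', X.tt_inv hx, h, CharTwo.add_self_eq_zero])
  have e1 : x' * y' * x'⁻¹ = x * y' * x⁻¹ := by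
    calc x' * y' * x'⁻¹ = x * ((x⁻¹ * x') * y' * (x⁻¹ * x')⁻¹) * x⁻¹ := by group
      _ = _ := by rw [(X.R_R _ hr y' hy').eq, mul_inv_cancel_right]
  have e2 : x * y' * x⁻¹ = x * y * x⁻¹ * (y⁻¹ * y') := by
    calc x * y' * x⁻¹ = x * y * x⁻¹ * (x * (y⁻¹ * y') * x⁻¹) := by group
      _ = _ := by rw [(X.W_E x hx _ he).eq, mul_inv_cancel_right]
  rw [e1, e2]; group

/-- **If `lam = 1` then `W` centralises `R`.** -/
theorem comm_R_of_lam (hlam : X.lam = 1) {x : G} (hx : x ∈ X.W) {y : G} (hy : y ∈ X.R) :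
    Commute x y := by
  choose sw hsw hswt using fun r : {r : X.co.K // r ^ q = r} => X.tt_surj r.2
  have hsr : ∀ r : {r : X.co.K // r ^ q = r}, ∃ y ∈ X.R, X.co.z (del v y) = r := fun r => by
    obtain ⟨e, he, hze⟩ := X.co.z_surj _ r.2
    obtain ⟨y, hy, hye⟩ := X.del_surj e he
    exact ⟨y, hy, by rw [hye, hze]⟩
  choose sy hsy hsyz using hsr
  classical
  let f : X.co.K → X.co.K → X.co.K := fun t d =>
    if h : t ^ q = t ∧ d ^ q = d then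
      X.co.z (sw ⟨t, h.1⟩ * sy ⟨d, h.2⟩ * (sw ⟨t, h.1⟩)⁻¹ * (sy ⟨d, h.2⟩)⁻¹) else 0
  have hf : ∀ x ∈ X.W, ∀ y ∈ X.R, X.co.z (x * y * x⁻¹ * y⁻¹) = f (X.tt x) (X.co.z (del v y)) := by
    intro x hx y hy
    have h : X.tt x ^ q = X.tt x ∧ X.co.z (del v y) ^ q = X.co.z (del v y) :=
      ⟨X.tt_fix hx, X.co.z_fix _ (X.del_mem y hy)⟩
    simp only [f, dif_pos h]
    exact congrArg X.co.z (X.comm_congr hx (hsw _) hy (hsy _) (hswt ⟨_, h.1⟩).symm (hsyz ⟨_, h.2⟩).symm)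
  have hmem : ∀ x ∈ X.W, ∀ y ∈ X.R, x * y * x⁻¹ * y⁻¹ ∈ E := fun x hx y hy =>
    X.W_W x hx y (X.R_le_W hy)
  have hzero : f (X.tt x) (X.co.z (del v y)) = 0 := by
    refine biadd_eq_zero (Forms.add_pow_q X.co.card) ?_ ?_ ?_ ?_ (X.tt_fix hx)
      (X.co.z_fix _ (X.del_mem y hy)) fun r hr => X.exists_sqrt_fix hr
    · intro t t' d ht ht' hd
      obtain ⟨x₁, hx₁, rfl⟩ := X.tt_surj ht
      obtain ⟨x₂, hx₂, rfl⟩ := X.tt_surj ht'
      obtain ⟨y₁, hy₁, hz⟩ : ∃ y ∈ X.R, X.co.z (del v y) = d := ⟨_, hsy ⟨d, hd⟩, hsyz _⟩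
      rw [← hz, ← X.tt_mul hx₁ hx₂, ← hf _ (mul_mem hx₁ hx₂) _ hy₁, ← hf _ hx₁ _ hy₁,
        ← hf _ hx₂ _ hy₁, add_comm, ← X.co.z_mul _ (hmem _ hx₂ _ hy₁) _ (hmem _ hx₁ _ hy₁)]
      refine congrArg X.co.z ?_
      calc x₁ * x₂ * y₁ * (x₁ * x₂)⁻¹ * y₁⁻¹
          = x₁ * (x₂ * y₁ * x₂⁻¹ * y₁⁻¹) * x₁⁻¹ * (x₁ * y₁ * x₁⁻¹ * y₁⁻¹) := by group
        _ = _ := by rw [(X.W_E x₁ hx₁ _ (hmem _ hx₂ _ hy₁)).eq, mul_inv_cancel_right]
    · intro t d d' ht hd hd'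
      obtain ⟨x₁, hx₁, rfl⟩ := X.tt_surj ht
      obtain ⟨y₁, hy₁, hz₁⟩ : ∃ y ∈ X.R, X.co.z (del v y) = d := ⟨_, hsy ⟨d, hd⟩, hsyz _⟩
      obtain ⟨y₂, hy₂, hz₂⟩ : ∃ y ∈ X.R, X.co.z (del v y) = d' := ⟨_, hsy ⟨d', hd'⟩, hsyz _⟩
      rw [← hz₁, ← hz₂, ← X.co.z_mul _ (X.del_mem _ hy₁) _ (X.del_mem _ hy₂), ← X.del_hom hy₁ hy₂,
        ← hf _ hx₁ _ (mul_mem hy₁ hy₂), ← hf _ hx₁ _ hy₁, ← hf _ hx₁ _ hy₂,
        ← X.co.z_mul _ (hmem _ hx₁ _ hy₁) _ (hmem _ hx₁ _ hy₂)]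
      refine congrArg X.co.z ?_
      calc x₁ * (y₁ * y₂) * x₁⁻¹ * (y₁ * y₂)⁻¹
          = x₁ * y₁ * x₁⁻¹ * ((x₁ * y₂ * x₁⁻¹ * y₂⁻¹) * y₁⁻¹) := by group
        _ = x₁ * y₁ * x₁⁻¹ * (y₁⁻¹ * (x₁ * y₂ * x₁⁻¹ * y₂⁻¹)) := by
            rw [((X.eR (hmem _ hx₁ _ hy₂) hy₁).inv_right).eq]
        _ = _ := by group
    · intro ν t d hν0 hνq ht hd
      obtain ⟨μ, hμq, rfl⟩ := X.exists_sqrt_fix hνq
      have hμ0 : μ ≠ 0 := fun h => hν0 (by rw [h, mul_zero])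
      obtain ⟨m, -, hmR, hmW, hmt, hmd, hmE, -⟩ := X.exists_scale hμ0 hμq
      obtain ⟨x₁, hx₁, rfl⟩ := X.tt_surj ht
      obtain ⟨y₁, hy₁, hz₁⟩ : ∃ y ∈ X.R, X.co.z (del v y) = d := ⟨_, hsy ⟨d, hd⟩, hsyz _⟩
      rw [← hz₁, ← pow_two, ← hmt x₁ hx₁, ← hmd y₁ hy₁, ← hf _ (hmW _ hx₁) _ (hmR _ hy₁),
        ← hf _ hx₁ _ hy₁, ← (hmE _ (hmem _ hx₁ _ hy₁)).2]
      exact congrArg X.co.z (by group)
    · intro t ht
      obtain ⟨x₁, hx₁, rfl⟩ := X.tt_surj ht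
      obtain ⟨hsq, hz⟩ := X.W_sq x₁ hx₁
      rw [hlam, one_mul] at hz
      have h0 := hf _ hx₁ _ hsq
      rw [show X.co.z (del v (x₁ * x₁)) = X.tt x₁ from hz, show x₁ * (x₁ * x₁) * x₁⁻¹ * (x₁ * x₁)⁻¹ = 1 by
        group, X.z_one] at h0
      exact h0.symm
  rw [← hf x hx y hy] at hzero
  exact mul_inv_eq_iff_eq_mul.1 (mul_inv_eq_one.1 ((X.z_eq_zero (hmem x hx y hy)).1 hzero))

end Ctx.Ext3

end CfsgLib.Criterion
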