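import Cfsg.Agent.Criterion.TypeU3Carrier
import Cfsg.Agent.Criterion.TypeU3Xi
import Cfsg.Agent.Criterion.TypeU3Form
import Cfsg.Agent.Criterion.TransferFull

/-!
# The strong embedding criterion: the transfer end of the exception

If the second layer gives a Sylow subgroup `T₁`, the fully centralised conjugates of `v` in it meet at
most two classes modulo `M`: `v` and that of an outer one.  Neither is a square there, so the transfer
into the quotient by the squares and the product of the two classes kills `v`: absurd.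
-/

set_option autoImplicit false
set_option linter.style.haveILetI false
set_option linter.unusedSectionVars false

namespace CfsgLib.Criterion

open Subgroup CfsgLib.Invol CfsgLib.Bender

universe u

variable {G : Type u} [Group G] [Finite G]

namespace Ctx.Ext3

variable {C : Ctx G} {v : G} {a b : C.Pt} {D E P : Subgroup G} (X : C.Ext3 v a b D E P)

local notation "S" => P ⊓ C.L v
local notation "q" => Nat.card E

include X

/-- Elements of `D` outside `⟨v⟩` with square in it agree modulo it. -/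
theorem D_sq_unique {d d' : G} (hd : d ∈ D) (hd' : d' ∈ D) (h : d * d = 1 ∨ d * d = v)
    (h' : d' * d' = 1 ∨ d' * d' = v) (hne : ¬ (d = 1 ∨ d = v)) (hne' : ¬ (d' = 1 ∨ d' = v)) :
    d * d'⁻¹ = 1 ∨ d * d'⁻¹ = v := by
  obtain ⟨c, σ, hw, hker, hsq, hfrob, -⟩ := X.exists_sigma
  have hv1 : σ ⟨v, X.typ.vP⟩ = 1 := by
    have hk : ∀ k, c ⟨v, X.typ.vP⟩ * σ ⟨v, X.typ.vP⟩ k = k := fun k => by
      obtain ⟨r, hr, rfl⟩ := X.co.w_surj k
      rw [← hw _ ⟨r, hr⟩, X.conjP_apply, ← (X.sv hr).eq, mul_inv_cancel_right]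
    have h1 := hk 1
    rw [map_one, mul_one] at h1
    exact RingEquiv.ext fun k => by simpa [h1] using hk k
  have hfr : ∀ (x : G) (hx : x ∈ D), (x * x = 1 ∨ x * x = v) → ¬ (x = 1 ∨ x = v) →
      ∀ k, σ ⟨x, X.typ.le hx⟩ k = k ^ q := by
    intro x hx h2 hne
    set x' : ↥P := ⟨x, X.typ.le hx⟩
    have hσ : σ x' * σ x' = 1 := by
      rw [← map_mul]
      rcases h2 with h2 | h2
      · rw [show x' * x' = 1 from Subtype.ext h2, map_one]
      · rw [show x' * x' = ⟨v, X.typ.vP⟩ from Subtype.ext h2, hv1]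
    exact (hfrob x' (hsq x' hσ)).resolve_left fun h1 => hne (X.mem_D_of_ker hx (hker x' h1))
  refine X.mem_D_of_ker (mul_mem hd (inv_mem hd'))
    (hker ⟨d * d'⁻¹, mul_mem (X.typ.le hd) (inv_mem (X.typ.le hd'))⟩ ?_)
  rw [show (⟨d * d'⁻¹, _⟩ : ↥P) = ⟨d, X.typ.le hd⟩ * (⟨d', X.typ.le hd'⟩ : ↥P)⁻¹ from rfl, map_mul,
    map_inv, show σ ⟨d, X.typ.le hd⟩ = σ ⟨d', X.typ.le hd'⟩ from
      RingEquiv.ext fun k => by rw [hfr d hd h hne, hfr d' hd' h' hne'], mul_inv_cancel]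

/-- An element of `D` under an involution outside `S W ⟨v⟩`. -/
theorem exists_outer {u : G} (hu : u ∈ X.T₁) (h2 : u * u = 1) (hW : u ∉ X.W₃) :
    ∃ m ∈ X.M, ∃ d ∈ D, u = m * d ∧ d * d = 1 ∧ ¬ (d = 1 ∨ d = v) := by
  obtain ⟨m, hm, d, hd, rfl⟩ := X.exists_md hu
  refine ⟨m, hm, d, hd, rfl, X.D_inter_M (mul_mem hd hd) ?_, fun h => hW ?_⟩
  · rw [show d * d = (m * (d * m * d⁻¹))⁻¹ * (m * d * (m * d)) by group, h2, mul_one]
    exact inv_mem (mul_mem hm (X.conj_M (X.D_le hd) hm))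
  · rcases h with rfl | rfl
    · rw [mul_one]; exact X.M_le_W₃ hm
    · exact Or.inr (by rw [mul_assoc, X.vv, mul_one]; exact hm)

/-- With an outer conjugate `v` is no square in `D`. -/
theorem not_square_v {u : G} (hu : u ∈ X.T₁) (h2 : u * u = 1) (hW : u ∉ X.W₃) {d : G} (hd : d ∈ D) :
    d * d ≠ v := by
  intro hdd
  obtain ⟨-, -, d₁, hd₁, -, hd₁2, hne₁⟩ := X.exists_outer hu h2 hW
  have hv1 : v ≠ 1 := ne_one X.typ.bad.1
  have hne : ¬ (d = 1 ∨ d = v) := by
    rintro (rfl | rfl)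
    · exact hv1 (by rw [← hdd, one_mul])
    · exact hv1 (hdd.symm.trans X.vv)
  have hc : Commute d v := (X.typ.fix d (X.typ.le hd)).2
  rcases X.D_sq_unique hd hd₁ (Or.inr hdd) (Or.inl hd₁2) hne hne₁ with h | h
  · rw [mul_inv_eq_one.1 h, hd₁2] at hdd
    exact hv1 hdd.symm
  · have e : d₁ = v * d := by
      rw [eq_mul_of_mul_inv_eq h, ← mul_assoc, X.vv, one_mul]
    exact hv1 (by
      have := hd₁2
      rw [e, hc.mul_mul_mul_comm v d, X.vv, one_mul, hdd] at this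
      exact this)

/-- The carrier of a fully centralised conjugate. -/
theorem exists_car {u : G} (hu : u ∈ X.T₁) (hconj : IsConj v u)
    (hodd : Odd (X.T₁.relIndex (centralizer ({u} : Set G)))) : ∃ g, X.Car g u := by
  obtain ⟨g₀, hg₀⟩ := isConj_iff.1 hconj
  have hu2 : u * u = 1 := by
    rw [← hg₀, show g₀ * v * g₀⁻¹ * (g₀ * v * g₀⁻¹) = g₀ * (v * v) * g₀⁻¹ by group, X.vv]; group
  have huE : ∀ e ∈ E, Commute u e := fun e he => X.comm_E_of_invol hu hu2 he
  have hET : E ≤ X.T₁ := fun e he => X.M_le (X.E_le_M he)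
  obtain ⟨g, hga, hgv, hmap⟩ := X.carry X.T₁_two (fun g hg => X.T₁_fix g hg) hu hg₀
    (X.card_le_of_full hg₀ hodd)
  have hgE : ∀ e ∈ E, g * e * g⁻¹ ∈ E := fun e he => X.carry_E hmap hET huE he
  refine ⟨g, hga, hgv, fun p hp => (mem_inf.1 (hmap.le ⟨p, hp, rfl⟩)).1, fun t ht htu => ?_, hgE,
    fun e he => ?_⟩
  · obtain ⟨p, hp, e⟩ := hmap.ge (mem_inf.2 ⟨ht, mem_centralizer_singleton_iff.2 htu.eq⟩)
    rw [show g⁻¹ * t * g = p by rw [← show g * p * g⁻¹ = t from e]; group]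
    exact hp
  · let f : ↥E → ↥E := fun x => ⟨g * x * g⁻¹, hgE x x.2⟩
    have hf : Function.Injective f := fun x y h =>
      Subtype.ext (mul_left_cancel (mul_right_cancel (congrArg Subtype.val h :)))
    obtain ⟨x, hx⟩ := (Finite.injective_iff_bijective.1 hf).2 ⟨e, he⟩
    rw [← show g * (x : G) * g⁻¹ = e from congrArg Subtype.val hx,
      show g⁻¹ * (g * (x : G) * g⁻¹) * g = x by group]
    exact x.2

/-- **An outer conjugate is no square** modulo `M`. -/
theorem not_square_outer {g u : G} (h : X.Car g u) (hW : u ∉ X.W₃) {d : G} (hd : d ∈ D) :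
    u * (d * d)⁻¹ ∉ X.M := by
  intro hmem
  obtain ⟨hback, hlift, -, hover⟩ := Car.structure_M X h
  have hu := Car.mem X h
  have hu2 := Car.sq X h
  obtain ⟨k, hk, hkd⟩ := hover d hd
  set t := k * d with ht
  have htT : t ∈ X.T₁ := mul_mem (X.M_le hk) (X.D_le hd)
  set p := g⁻¹ * t * g with hp
  have hpP : p ∈ P := h.back t htT hkd
  -- `t * t * u` lies in `M`
  have hκ : t * t * u ∈ X.M := by
    have h1 : t * t * u = k * (d * k * d⁻¹) * (d * d * u) := by rw [ht]; group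
    rw [h1]
    refine mul_mem (mul_mem hk (X.conj_M (X.D_le hd) hk)) ?_
    have h3 := inv_mem hmem
    rwa [mul_inv_rev, inv_inv, inv_eq_of_mul_eq_one_right hu2] at h3
  have hgv' : g⁻¹ * u * g = v := by rw [← h.gv]; group
  have hpp : p * p ∈ S ∨ p * p * v ∈ S := by
    rcases hback _ hκ ((hkd.mul_left hkd).mul_left (Commute.refl u)) with h1 | h1 <;>
      rw [show g⁻¹ * (t * t * u) * g = p * p * (g⁻¹ * u * g) by rw [hp]; group, hgv'] at h1
    · exact Or.inr h1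
    · rw [mul_assoc, X.vv, mul_one] at h1; exact Or.inl h1
  obtain ⟨s, hs, hd'⟩ := X.typ.exists_mul hpP
  set d' := s⁻¹ * p with hd'def
  have hps : p = s * d' := by rw [hd'def, mul_inv_cancel_left]
  have hsd : d' * s * d'⁻¹ ∈ S := X.typ.conj_S (X.typ.le hd') hs
  have hd2 : d' * d' = 1 := by
    refine (X.mem_D_of_ker (mul_mem hd' hd') ?_).resolve_right (X.not_square_v hu hu2 hW hd')
    have e : d' * d' = (s * (d' * s * d'⁻¹))⁻¹ * (p * p) := by rw [hps]; group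
    rw [e]
    rcases hpp with h1 | h1
    · exact Or.inl (mul_mem (inv_mem (mul_mem hs hsd)) h1)
    · exact Or.inr (by rw [mul_assoc]; exact mul_mem (inv_mem (mul_mem hs hsd)) h1)
  -- so `t * t` lies in `M`
  obtain ⟨k₁, hk₁, hk₁u, hk₁e⟩ := hlift s hs
  set r := g * d' * g⁻¹ with hr
  have hrT : r ∈ X.T₁ := h.to_T₁ d' (X.typ.le hd')
  have hm : k₁ * (r * k₁ * r⁻¹) ∈ X.M := mul_mem hk₁ (X.conj_M hrT hk₁)
  have hdv : Commute d' v := (X.typ.fix d' (X.typ.le hd')).2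
  have hprod : g⁻¹ * (k₁ * (r * k₁ * r⁻¹)) * g = p * p := by
    rw [show g⁻¹ * (k₁ * (r * k₁ * r⁻¹)) * g =
      g⁻¹ * k₁ * g * (d' * (g⁻¹ * k₁ * g) * d'⁻¹) by rw [hr]; group]
    have hpp' : p * p = s * (d' * s * d'⁻¹) := by
      rw [show p * p = s * (d' * s * d'⁻¹) * (d' * d') by rw [hps]; group, hd2, mul_one]
    rw [hpp']
    rcases hk₁e with h1 | h1 <;> rw [h1]
    calc s * v * (d' * (s * v) * d'⁻¹) = s * v * (d' * s * (v * d'⁻¹)) := by group
      _ = s * v * (d' * s * d'⁻¹ * v) := by rw [← hdv.inv_left.eq]; group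
      _ = s * (v * (d' * s * d'⁻¹)) * v := by group
      _ = _ := by rw [← (X.sv hsd).eq, ← mul_assoc, mul_assoc _ v v, X.vv, mul_one]
  have htt : t * t ∈ X.M := by
    rw [show t * t = g * (p * p) * g⁻¹ by rw [hp]; group, ← hprod,
      show g * (g⁻¹ * (k₁ * (r * k₁ * r⁻¹)) * g) * g⁻¹ = k₁ * (r * k₁ * r⁻¹) by group]
    exact hm
  refine Car.not_M X h ?_
  have h4 := mul_mem (inv_mem htt) hκ
  rwa [inv_mul_cancel_left] at h4

/-- **The end of the exception**: the second layer is no Sylow subgroup. -/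
theorem false_of_sylow (hgen : closure C.Z = ⊤) (S₀ : Sylow 2 G) (hS₀ : (S₀ : Subgroup G) = X.T₁) :
    False := by
  classical
  obtain ⟨A, hA, φ, hker, hinj⟩ := TypeU3.exists_hom_comm (T₂ := X.W₃) (T := (S₀ : Subgroup G)) (D := D)
    (K := X.M) (v := v) (hS₀ ▸ X.W₃_le) (hS₀ ▸ fun d hd => X.D_le hd)
    (fun x hx y hy => X.D_comm hx hy)
    (fun t ht => by
      obtain ⟨m, hm, d, hd, rfl⟩ := X.exists_md (hS₀ ▸ ht)
      exact ⟨m, X.M_le_W₃ hm, d, hd, rfl⟩)
    (fun d hd h => X.D_inter_W₃ hd h) X.typ.maxPair.mem (fun x hx => X.M_le_W₃ hx) X.v_not_M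
    (fun x hx => by rw [inv_eq_of_mul_eq_one_right X.vv]; exact X.mem_W₃.1 hx)
    (fun t ht x hx => X.conj_M (hS₀ ▸ ht) hx)
  have hvS : v ∈ (S₀ : Subgroup G) := hS₀ ▸ X.v_mem
  set c := φ ⟨v, hvS⟩ with hcdef
  have hc2 : c * c = 1 := by
    rw [hcdef, ← map_mul, hker]
    show v * v ∈ X.M
    rw [X.vv]; exact one_mem _
  have hc1 : c ≠ 1 := fun h => X.v_not_M ((hker _).1 h)
  have hZ : ∀ x : ↥(S₀ : Subgroup G), (x : G) ∈ C.Z → (∀ t ∈ (S₀ : Subgroup G), Commute t (x : G)) →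
      φ x = 1 := by
    intro x hx hcen
    rw [hker]
    have hxT : (x : G) ∈ X.T₁ := hS₀ ▸ x.2
    have hxP : (x : G) ∈ P := X.typ.mem_P X.T₁_two X.P_le hxT (X.T₁_fix _ hxT) (hcen v hvS).symm
    exact X.E_le_M (X.typ.mem_E_of_mem_Za hxP hx)
  have hinner : ∀ u : ↥(S₀ : Subgroup G), IsConj v (u : G) →
      Odd ((S₀ : Subgroup G).relIndex (centralizer ({(u : G)} : Set G))) → (u : G) ∈ X.W₃ → φ u = c := by
    intro u hu hodd hW
    obtain ⟨g, hg⟩ := X.exists_car (hS₀ ▸ u.2) hu (hS₀ ▸ hodd)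
    have h1 : φ u * c = 1 := by
      rw [hcdef, ← map_mul, hker]
      exact (X.mem_W₃.1 hW).resolve_left (Car.not_M X hg)
    rw [eq_inv_of_mul_eq_one_left h1, inv_eq_of_mul_eq_one_right hc2]
  by_cases hout : ∀ u : ↥(S₀ : Subgroup G), IsConj v (u : G) →
      Odd ((S₀ : Subgroup G).relIndex (centralizer ({(u : G)} : Set G))) → (u : G) ∈ X.W₃
  · exact hc1 (C.eq_one_of_full hgen S₀ φ (v := v) hZ X.vv hc2
      fun u hu hodd => hinner u hu hodd (hout u hu hodd))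
  push Not at hout
  obtain ⟨u₀, hu₀, hodd₀, hW₀⟩ := hout
  obtain ⟨g₀, hg₀⟩ := X.exists_car (hS₀ ▸ u₀.2) hu₀ (hS₀ ▸ hodd₀)
  obtain ⟨m₀, hm₀, d₀, hd₀, e₀, hd₀2, hne₀⟩ := X.exists_outer (hS₀ ▸ u₀.2) (Car.sq X hg₀) hW₀
  set z := φ u₀ with hz
  have hz2 : z * z = 1 := by
    rw [hz, ← map_mul, hker]
    show (u₀ : G) * u₀ ∈ X.M
    rw [Car.sq X hg₀]; exact one_mem _
  -- outer conjugates have the class of `u₀`
  have houter : ∀ u : ↥(S₀ : Subgroup G), IsConj v (u : G) →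
      Odd ((S₀ : Subgroup G).relIndex (centralizer ({(u : G)} : Set G))) → (u : G) ∉ X.W₃ → φ u = z := by
    intro u hu hodd hW
    obtain ⟨g, hg⟩ := X.exists_car (hS₀ ▸ u.2) hu (hS₀ ▸ hodd)
    obtain ⟨m, hm, d, hd, e, hd2, hne⟩ := X.exists_outer (hS₀ ▸ u.2) (Car.sq X hg) hW
    have hW' : (u : G) * u₀ ∈ X.W₃ := by
      have hdd : d * d₀ = 1 ∨ d * d₀ = v := by
        have := X.D_sq_unique hd hd₀ (Or.inl hd2) (Or.inl hd₀2) hne hne₀
        rwa [inv_eq_of_mul_eq_one_right hd₀2] at this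
      rw [e, e₀, show m * d * (m₀ * d₀) = m * (d * m₀ * d⁻¹) * (d * d₀) by group]
      refine mul_mem (X.M_le_W₃ (mul_mem hm (X.conj_M (X.D_le hd) hm₀))) ?_
      rcases hdd with h | h <;> rw [h]
      · exact one_mem _
      · exact X.v_mem_W₃
    have hcR : ∀ y ∈ X.R, Commute y ((u : G) * u₀) := fun y hy =>
      ((Car.outer X hg hW).1 y hy).mul_right ((Car.outer X hg₀ hW₀).1 y hy)
    have hM : (u : G) * u₀ ∈ X.M := by
      refine (X.mem_W₃.1 hW').resolve_right fun h => ?_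
      obtain ⟨y, hy, hny⟩ := X.no_shift (X.vMv h)
      refine hny ?_
      rw [show v * (v * ((u : G) * u₀ * v) * v) = v * v * ((u : G) * u₀) * (v * v) by group, X.vv,
        one_mul, mul_one]
      exact (hcR y hy).symm
    have h1 : φ u * z = 1 := by rw [hz, ← map_mul, hker]; exact hM
    rw [eq_inv_of_mul_eq_one_left h1, inv_eq_of_mul_eq_one_right hz2]
  -- the quotient by squares and `c z`
  have hcz : c * z * (c * z) = 1 := by rw [mul_mul_mul_comm, hc2, hz2, one_mul]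
  let Q : Subgroup A :=
    { carrier := {α | ∃ x : ↥(S₀ : Subgroup G), α = φ x * φ x ∨ α = φ x * φ x * (c * z)}
      one_mem' := ⟨1, Or.inl (by rw [map_one, one_mul])⟩
      mul_mem' := by
        rintro α β ⟨x, hx⟩ ⟨y, hy⟩
        refine ⟨x * y, ?_⟩
        rw [map_mul, mul_mul_mul_comm]
        rcases hx with rfl | rfl <;> rcases hy with rfl | rfl
        · exact Or.inl rfl
        · exact Or.inr (by ac_rfl)
        · exact Or.inr (by ac_rfl)
        · exact Or.inl (by rw [mul_mul_mul_comm (φ x * φ x), hcz, mul_one])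
      inv_mem' := by
        rintro α ⟨x, hx⟩
        refine ⟨x⁻¹, ?_⟩
        rw [map_inv]
        rcases hx with rfl | rfl
        · exact Or.inl (mul_inv _ _)
        · exact Or.inr (by rw [mul_inv, mul_inv, inv_eq_of_mul_eq_one_right hcz]) }
  set ψ := (QuotientGroup.mk' Q).comp φ with hψ
  have hψ1 : ψ ⟨v, hvS⟩ = 1 := C.eq_one_of_full hgen S₀ ψ (v := v)
    (fun x hx hcen => by rw [hψ, MonoidHom.comp_apply, hZ x hx hcen, map_one]) X.vv
    (by rw [hψ, MonoidHom.comp_apply, ← map_mul, ← hcdef, hc2, map_one]) (fun u hu hodd => by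
      rw [hψ, MonoidHom.comp_apply, MonoidHom.comp_apply, ← hcdef]
      by_cases hW : (u : G) ∈ X.W₃
      · rw [hinner u hu hodd hW]
      · rw [houter u hu hodd hW]
        refine QuotientGroup.eq.2 ⟨1, Or.inr ?_⟩
        rw [map_one, one_mul, one_mul, inv_eq_of_mul_eq_one_right hz2, mul_comm])
  obtain ⟨x, hx⟩ : c ∈ Q := (QuotientGroup.eq_one_iff c).1 hψ1
  obtain ⟨m, hm, d, hd, ex⟩ := X.exists_md (hS₀.le x.2)
  set δ : ↥(S₀ : Subgroup G) := ⟨d, hS₀.ge (X.D_le hd)⟩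
  have hφx : φ x = φ δ := by
    rw [show x = ⟨m, hS₀.ge (X.M_le hm)⟩ * δ from Subtype.ext ex, map_mul,
      show φ ⟨m, hS₀.ge (X.M_le hm)⟩ = 1 from (hker _).2 hm, one_mul]
  rw [hφx, ← map_mul] at hx
  rcases hx with h | h
  · refine X.not_square_v (hS₀ ▸ u₀.2) (Car.sq X hg₀) hW₀ hd ?_
    have h1 := hinj (⟨v, hvS⟩⁻¹ * (δ * δ)) (mul_mem (inv_mem X.typ.maxPair.mem) (mul_mem hd hd))
      (by rw [map_mul, map_inv, ← hcdef, h, inv_mul_cancel])
    exact (inv_mul_eq_one.1 (congrArg Subtype.val h1 :)).symm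
  · refine X.not_square_outer hg₀ hW₀ hd ?_
    have h1 : z * (φ (δ * δ))⁻¹ = 1 := by
      have h' : φ (δ * δ) * z = 1 := by
        have := congrArg (fun α => α * c) h
        simp only [hc2] at this
        rw [mul_assoc (φ (δ * δ)), mul_comm c z, mul_assoc z, hc2, mul_one] at this
        exact this.symm
      rw [eq_inv_of_mul_eq_one_left h', inv_inv, hz2]
    rw [hz, ← map_inv, ← map_mul, hker] at h1
    exact h1

end Ctx.Ext3

end CfsgLib.Criterion
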