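import Cfsg.Agent.Criterion.TypeU3Lay

/-!
# The strong embedding criterion: the first layer, elementary facts

The products `S R` and `S R ⟨v⟩`, their cardinalities, and the involutions commuting with a given one.
-/

set_option autoImplicit false
set_option linter.style.haveILetI false
set_option linter.unusedSectionVars false

namespace CfsgLib.Criterion

open Subgroup CfsgLib.Invol CfsgLib.Bender

universe u

variable {G : Type u} [Group G] [Finite G]

namespace Ctx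

theorem del_eq {v y : G} (hv : v * v = 1) : del v y = v * y * v * y⁻¹ := by
  rw [del, inv_eq_of_mul_eq_one_right hv]

/-- An element moves `v` by its shift. -/
theorem conj_eq_mul_del {v y : G} (hv : v * v = 1) : y * v * y⁻¹ = v * del v y := by
  rw [del_eq hv, ← mul_assoc, ← mul_assoc, ← mul_assoc, hv, one_mul]

theorem conj_v_eq {v y : G} (hv : v * v = 1) : v * y * v = del v y * y := by
  rw [del_eq hv, inv_mul_cancel_right]

theorem del_mul {v y y' : G} (h : Commute y (del v y')) : del v (y * y') = del v y * del v y' := by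
  calc del v (y * y') = v * y * v⁻¹ * (v * y' * v⁻¹ * y'⁻¹) * y⁻¹ := by rw [del]; group
    _ = v * y * v⁻¹ * (del v y' * y⁻¹) := by rw [del, mul_assoc]
    _ = v * y * v⁻¹ * (y⁻¹ * del v y') := by rw [h.inv_left.eq]
    _ = _ := by rw [del, del]; group

theorem commute_of_del {v y : G} (h : del v y = 1) : Commute v y :=
  mul_inv_eq_iff_eq_mul.1 (mul_inv_eq_one.1 h)

theorem del_of_commute {v y : G} (h : Commute v y) : del v y = 1 := by
  rw [del, h.eq, mul_inv_cancel_right, mul_inv_cancel]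

namespace Lay3

variable {C : Ctx G} {v : G} {a b : C.Pt} {D E P : Subgroup G} (X : C.Lay3 v a b D E P)

local notation "S" => P ⊓ C.L v
local notation "q" => Nat.card E

include X

theorem eR {e y : G} (he : e ∈ E) (hy : y ∈ X.R) : Commute e y := X.R_R e (X.E_le_R he) y hy

theorem Ev {e : G} (he : e ∈ E) : Commute e v := X.typ.Ev he

theorem v_norm {y : G} (hy : y ∈ X.R) : v * y * v ∈ X.R := by
  rw [conj_v_eq X.vv]
  exact mul_mem (X.E_le_R (X.del_mem y hy)) hy

theorem del_hom {y y' : G} (hy : y ∈ X.R) (hy' : y' ∈ X.R) :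
    del v (y * y') = del v y * del v y' :=
  del_mul (X.eR (X.del_mem y' hy') hy).symm

theorem del_E {e : G} (he : e ∈ E) : del v e = 1 := del_of_commute (X.Ev he).symm

theorem del_inv {y : G} (hy : y ∈ X.R) : del v y⁻¹ = del v y := by
  have h := X.del_hom hy (inv_mem hy)
  rw [mul_inv_cancel, del_of_commute (Commute.one_right v)] at h
  exact (inv_eq_of_mul_eq_one_right h.symm).symm.trans (X.Einv (X.del_mem y hy))

/-- The shift separates the classes of `R`. -/
theorem del_eq_iff {y y' : G} (hy : y ∈ X.R) (hy' : y' ∈ X.R) :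
    del v y = del v y' ↔ y⁻¹ * y' ∈ E := by
  have h := X.del_hom (inv_mem hy) hy'
  rw [X.del_inv hy] at h
  refine ⟨fun e => X.del_ker _ (mul_mem (inv_mem hy) hy') (commute_of_del ?_).symm.symm, fun he => ?_⟩
  · rw [h, e, X.E2 (X.del_mem y' hy')]
  · rw [X.del_E he] at h
    have := eq_inv_of_mul_eq_one_left h.symm
    rwa [X.Einv (X.del_mem y' hy')] at this

/-- `R` meets `S` in `E`. -/
theorem mem_E_of_SR {x : G} (hs : x ∈ S) (hy : x ∈ X.R) : x ∈ E := X.del_ker x hy (X.sv hs).symm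

/-- The group `S R`. -/
def K : Subgroup G :=
  subgroupOfClosed {g | ∃ s ∈ S, ∃ y ∈ X.R, g = s * y} ⟨1, one_mem _, 1, one_mem _, (one_mul 1).symm⟩
    (by
      rintro _ _ ⟨s, hs, y, hy, rfl⟩ ⟨s', hs', y', hy', rfl⟩
      refine ⟨s * s', mul_mem hs hs', y * y', mul_mem hy hy', ?_⟩
      rw [mul_assoc s s', ← mul_assoc s' y, ← (X.R_S y hy s' hs').eq, mul_assoc y s', ← mul_assoc s y])

theorem mem_K {g : G} : g ∈ X.K ↔ ∃ s ∈ S, ∃ y ∈ X.R, g = s * y := Iff.rfl

theorem S_le_K {s : G} (hs : s ∈ S) : s ∈ X.K := X.mem_K.2 ⟨s, hs, 1, one_mem _, (mul_one s).symm⟩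

theorem R_le_K {y : G} (hy : y ∈ X.R) : y ∈ X.K := X.mem_K.2 ⟨1, one_mem _, y, hy, (one_mul y).symm⟩

theorem v_norm_K {g : G} (hg : g ∈ X.K) : v * g * v ∈ X.K := by
  obtain ⟨s, hs, y, hy, rfl⟩ := X.mem_K.1 hg
  rw [← mul_assoc v s, ← (X.sv hs).eq, mul_assoc s v, mul_assoc s]
  exact X.mem_K.2 ⟨s, hs, _, X.v_norm hy, rfl⟩

/-- The group `S R ⟨v⟩`. -/
def T₂ : Subgroup G :=
  subgroupOfClosed {g | g ∈ X.K ∨ g * v ∈ X.K} (Or.inl (one_mem _))
    (by
      intro g h hg hh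
      rcases hg with hg | hg <;> rcases hh with hh | hh
      · exact Or.inl (mul_mem hg hh)
      · exact Or.inr (by rw [mul_assoc]; exact mul_mem hg hh)
      · refine Or.inr ?_
        have := mul_mem hg (X.v_norm_K hh)
        rwa [show g * v * (v * h * v) = g * (v * v) * (h * v) by group, X.vv, mul_one,
          ← mul_assoc] at this
      · refine Or.inl ?_
        have := mul_mem hg (X.v_norm_K hh)
        rwa [show g * v * (v * (h * v) * v) = g * (v * v) * h * (v * v) by group, X.vv, mul_one,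
          mul_one] at this)

theorem mem_T₂ {g : G} : g ∈ X.T₂ ↔ g ∈ X.K ∨ g * v ∈ X.K := Iff.rfl

theorem v_mem_T₂ : v ∈ X.T₂ := X.mem_T₂.2 (Or.inr (X.vv ▸ one_mem _))

theorem K_le_T₂ : X.K ≤ X.T₂ := fun _ hg => X.mem_T₂.2 (Or.inl hg)

theorem K_E {g e : G} (hg : g ∈ X.K) (he : e ∈ E) : Commute e g := by
  obtain ⟨s, hs, y, hy, rfl⟩ := X.mem_K.1 hg
  exact (X.es he hs).mul_right (X.eR he hy)

theorem T₂_E {g e : G} (hg : g ∈ X.T₂) (he : e ∈ E) : Commute e g := by
  rcases X.mem_T₂.1 hg with h | h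
  · exact X.K_E h he
  · have := (X.K_E h he).mul_right (X.Ev he)
    rwa [mul_assoc, X.vv, mul_one] at this

theorem K_le_T : X.K ≤ X.T := fun g hg => by
  obtain ⟨s, hs, y, hy, rfl⟩ := X.mem_K.1 hg
  exact mul_mem (X.le (mem_inf.1 hs).1) (X.R_le_T hy)

theorem T₂_le_T : X.T₂ ≤ X.T := fun g hg => by
  rcases X.mem_T₂.1 hg with h | h
  · exact X.K_le_T h
  · have := mul_mem (X.K_le_T h) (X.le X.typ.vP)
    rwa [mul_assoc, X.vv, mul_one] at this

theorem v_not_K : v ∉ X.K := fun h => by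
  obtain ⟨s, hs, y, hy, e⟩ := X.mem_K.1 h
  have hy' : y = s⁻¹ * v := eq_inv_mul_of_mul_eq e.symm
  have hyv : Commute v y := by
    rw [hy']; exact (X.sv hs).symm.inv_right.mul_right (Commute.refl v)
  have hS := mul_mem hs (X.E_S (X.del_ker y hy hyv))
  rw [← e] at hS
  exact X.v_not_S hS

/-- The centraliser of `v` in `S R ⟨v⟩`. -/
theorem T₂_comm {g : G} (hg : g ∈ X.T₂) (hgv : Commute g v) : g ∈ S ∨ g * v ∈ S := by
  have key : ∀ k ∈ X.K, Commute k v → k ∈ S := fun k hk hkv => by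
    obtain ⟨s, hs, y, hy, rfl⟩ := X.mem_K.1 hk
    have hyv : Commute y v := by
      have := ((X.sv hs).inv_left).mul_left hkv
      rwa [inv_mul_cancel_left] at this
    exact mul_mem hs (X.E_S (X.del_ker y hy hyv.symm))
  rcases X.mem_T₂.1 hg with h | h
  · exact Or.inl (key g h hgv)
  · exact Or.inr (key _ h (hgv.mul_left (Commute.refl v)))

theorem card_R : Nat.card X.R = q * q := by
  let f : ↥X.R →* ↥E := MonoidHom.mk' (fun y => ⟨del v y, X.del_mem y y.2⟩)
    fun y y' => Subtype.ext (X.del_hom y.2 y'.2)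
  have hker : f.ker = E.subgroupOf X.R := by
    ext y
    rw [MonoidHom.mem_ker, mem_subgroupOf, Subtype.ext_iff]
    exact ⟨fun h => X.del_ker y y.2 (commute_of_del h), X.del_E⟩
  have hrange : f.range = ⊤ := MonoidHom.range_eq_top.2 fun e => by
    obtain ⟨y, hy, hye⟩ := X.del_surj e e.2
    exact ⟨⟨y, hy⟩, Subtype.ext hye⟩
  rw [← f.ker.card_mul_index, Subgroup.index_ker, hrange, hker, card_top,
    Nat.card_congr (subgroupOfEquivOfLe X.E_le_R).toEquiv]

/-- `|S R| = q ^ 4`. -/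
theorem card_K : Nat.card X.K = q ^ 4 := by
  choose sec hsec hdel using fun e : ↥E => X.del_surj e e.2
  let f : ↥(S) × ↥E → ↥X.K := fun p => ⟨p.1 * sec p.2, X.mem_K.2 ⟨_, p.1.2, _, hsec _, rfl⟩⟩
  have hf : Function.Bijective f := by
    refine ⟨fun p p' h => ?_, fun ⟨g, hg⟩ => ?_⟩
    · have h' : (p.1 : G) * sec p.2 = p'.1 * sec p'.2 := congrArg Subtype.val h
      have h1 : (p'.1 : G)⁻¹ * p.1 = sec p'.2 * (sec p.2)⁻¹ := by
        rw [eq_mul_inv_iff_mul_eq, mul_assoc, h', inv_mul_cancel_left]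
      have hE := X.mem_E_of_SR (mul_mem (inv_mem p'.1.2) p.1.2)
        (h1 ▸ mul_mem (hsec _) (inv_mem (hsec _)))
      rw [h1] at hE
      have h2 : p.2 = p'.2 := by
        refine Subtype.ext ?_
        rw [← hdel, ← hdel, X.del_eq_iff (hsec _) (hsec _)]
        rw [(X.R_R _ (inv_mem (hsec p.2)) _ (hsec p'.2)).eq]
        exact hE
      refine Prod.ext (Subtype.ext ?_) h2
      rw [h2] at h'
      exact mul_right_cancel h'
    · obtain ⟨s, hs, y, hy, rfl⟩ := X.mem_K.1 hg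
      set e : ↥E := ⟨del v y, X.del_mem y hy⟩
      have hE : (sec e)⁻¹ * y ∈ E := (X.del_eq_iff (hsec e) hy).1 (hdel e)
      refine ⟨(⟨s * ((sec e)⁻¹ * y), mul_mem hs (X.E_S hE)⟩, e), Subtype.ext ?_⟩
      show s * ((sec e)⁻¹ * y) * sec e = s * y
      rw [mul_assoc s, (X.eR hE (hsec e)).eq, mul_inv_cancel_left]
  rw [← Nat.card_congr (Equiv.ofBijective f hf), Nat.card_prod, X.typ.card_S, X.qn]
  ring

/-! ### Squares and centralisers -/

theorem sq_SR {s y : G} (hs : s ∈ S) (hy : y ∈ X.R) :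
    (s * y) * (s * y) ∈ E ∧
      X.co.z ((s * y) * (s * y)) = X.co.w s ^ (q + 1) + X.κ * X.co.z (del v y) := by
  have e : (s * y) * (s * y) = s * s * (y * y) := (X.R_S y hy s hs).mul_mul_mul_comm s y
  rw [e, X.co.z_mul _ (X.sq_mem hs) _ (X.sq_mem_E y hy), X.co.z_sq s hs, X.sq_R y hy]
  exact ⟨mul_mem (X.sq_mem hs) (X.sq_mem_E y hy), rfl⟩

theorem sq_vSR {s y : G} (hs : s ∈ S) (hy : y ∈ X.R) :
    (v * s * y) * (v * s * y) ∈ E ∧ X.co.z ((v * s * y) * (v * s * y)) =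
      X.co.w s ^ (q + 1) + (1 + X.κ) * X.co.z (del v y) := by
  have hd := X.del_mem y hy
  have e : (v * s * y) * (v * s * y) = s * s * (del v y * (y * y)) := by
    rw [← (X.sv hs).eq, show s * v * y * (s * v * y) = s * (v * y) * s * v * y by group,
      mul_assoc s (v * y) s, ((X.sv hs).symm.mul_left (X.R_S y hy s hs)).eq,
      show s * (s * (v * y)) * v * y = s * s * (v * y * v * y) by group, conj_v_eq X.vv,
      mul_assoc (del v y)]
  have hE := mul_mem hd (X.sq_mem_E y hy)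
  rw [e, X.co.z_mul _ (X.sq_mem hs) _ hE, X.co.z_mul _ hd _ (X.sq_mem_E y hy), X.co.z_sq s hs,
    X.sq_R y hy]
  exact ⟨mul_mem (X.sq_mem hs) hE, by ring⟩

/-- A commutator inside `S R`. -/
theorem comm_SR {s y s' y' : G} (hs : s ∈ S) (hy : y ∈ X.R) (hs' : s' ∈ S) (hy' : y' ∈ X.R) :
    (s * y) * (s' * y') * (s * y)⁻¹ * (s' * y')⁻¹ = s * s' * s⁻¹ * s'⁻¹ := by
  calc _ = s * (y * (s' * y') * y⁻¹) * s⁻¹ * (s' * y')⁻¹ := by group
    _ = s * (s' * y') * s⁻¹ * (s' * y')⁻¹ := by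
        rw [((X.R_S y hy s' hs').mul_right (X.R_R y hy y' hy')).eq, mul_inv_cancel_right]
    _ = s * (s' * (y' * s⁻¹)) * (s' * y')⁻¹ := by group
    _ = _ := by rw [(X.R_S y' hy' s hs).inv_right.eq]; group

/-- When `v s y` centralises `s' y'`. -/
theorem commute_vSR {s y s' y' : G} (hs : s ∈ S) (hy : y ∈ X.R) (hs' : s' ∈ S) (hy' : y' ∈ X.R)
    (h : s * s' * s⁻¹ * s'⁻¹ = del v y') : Commute (v * s * y) (s' * y') := by
  have hE := X.del_mem y' hy'
  let k := s * y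
  let k' := s' * y'
  have hk' : k' ∈ X.K := X.mem_K.2 ⟨s', hs', y', hy', rfl⟩
  have h1 : k * k' = del v y' * (k' * k) := by
    rw [← h, ← X.comm_SR hs hy hs' hy']; simp only [k, k']; group
  have h2 : v * k' = del v y' * (k' * v) := by
    show v * (s' * y') = del v y' * (s' * y' * v)
    rw [← mul_assoc (del v y'), ← mul_assoc (del v y'), (X.es hE hs').eq, mul_assoc s' (del v y'),
      mul_assoc s' (del v y' * y'), ← conj_v_eq X.vv, mul_assoc (v * y'), X.vv, mul_one, ← mul_assoc, ← mul_assoc,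
      (X.sv hs').eq]
  show v * s * y * k' = k' * (v * s * y)
  rw [mul_assoc v s y]
  calc v * k * k' = v * (del v y' * (k' * k)) := by rw [mul_assoc, h1]
    _ = del v y' * (v * k') * k := by rw [← mul_assoc, (X.Ev hE).symm.eq]; group
    _ = del v y' * del v y' * (k' * v) * k := by rw [h2]; group
    _ = k' * (v * k) := by rw [X.E2 hE, one_mul, mul_assoc]

/-- For a shift off `E` with `κ ≠ 0` a further involution centralises `v s y`. -/
theorem exists_invol_vSR (hκ : X.κ ≠ 0) {s y : G} (hs : s ∈ S) (hy : y ∈ X.R) (hsE : s ∉ E) :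
    ∃ s' ∈ S, ∃ y' ∈ X.R, s' ∉ E ∧ s' * y' * (s' * y') = 1 ∧ Commute (v * s * y) (s' * y') := by
  obtain ⟨-, μ, hμ1, hμ, -⟩ := X.circ
  set x := X.co.w s with hx
  have hx0 : x ≠ 0 := fun h => hsE ((X.co.w_E s hs).1 h)
  obtain ⟨s', hs', hw'⟩ := X.co.w_surj ((1 + μ) * X.κ * x)
  obtain ⟨y', hy', hdel⟩ := X.del_surj _ (X.comm_mem hs hs')
  have hμ' : 1 + μ ≠ 0 := fun h => hμ1 (CharTwo.add_eq_zero.1 h).symm
  refine ⟨s', hs', y', hy', fun h => ?_, ?_, X.commute_vSR hs hy hs' hy' hdel.symm⟩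
  · rw [← X.co.w_E s' hs', hw'] at h
    exact mul_ne_zero (mul_ne_zero hμ' hκ) hx0 h
  · obtain ⟨hE, hz⟩ := X.sq_SR hs' hy'
    rw [← X.z_eq_zero hE, hz, hdel, X.co.z_comm s hs s' hs', ← hx, hw', pow_succ, mul_pow, mul_pow,
      Forms.add_pow_q X.co.card, one_pow, X.κ_fix]
    have hμq : μ ^ q * μ = 1 := by rw [← pow_succ]; exact hμ
    linear_combination X.κ ^ 2 * x ^ q * x * hμq + (μ * X.κ ^ 2 * x ^ q * x +
      μ ^ q * X.κ ^ 2 * x ^ q * x + 2 * X.κ ^ 2 * x ^ q * x) * CharTwo.two_eq_zero (R := X.co.K)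

/-- An involution of `S R` off `R` centralises a further one. -/
theorem exists_invol_SR {s y : G} (hs : s ∈ S) (hy : y ∈ X.R) (hsE : s ∉ E)
    (h2 : s * y * (s * y) = 1) :
    ∃ s' ∈ S, ∃ y' ∈ X.R, s' ∉ E ∧ s⁻¹ * s' ∉ E ∧ s' * y' * (s' * y') = 1 ∧
      Commute (s * y) (s' * y') := by
  set x := X.co.w s with hx
  have hx0 : x ≠ 0 := fun h => hsE ((X.co.w_E s hs).1 h)
  have h4 := X.four_le
  classical
  obtain ⟨e, he, he1, heν⟩ : ∃ e ∈ E, X.co.z e ≠ 1 ∧ X.co.z e ≠ 0 := by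
    by_contra h
    push Not at h
    have hle : q ≤ Nat.card (({0, 1} : Finset X.co.K)) := by
      refine Nat.card_le_card_of_injective (fun e : ↥E => (⟨X.co.z e, ?_⟩ : ({0, 1} : Finset X.co.K)))
        fun e e' he => Subtype.ext (X.co.z_inj e.2 e'.2 (congrArg Subtype.val he :))
      simp only [Finset.mem_insert, Finset.mem_singleton]
      by_cases h1 : X.co.z e = 1
      · exact Or.inr h1
      · exact Or.inl (h e e.2 h1)
    rw [Nat.card_eq_finsetCard] at hle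
    have := Finset.card_le_two (a := (0 : X.co.K)) (b := 1)
    omega
  set ν := X.co.z e with hν
  have hνq : ν ^ q = ν := X.co.z_fix e he
  obtain ⟨s', hs', hw'⟩ := X.co.w_surj (ν * x)
  obtain ⟨d, hd, hzd⟩ := X.co.z_surj (ν ^ 2 * X.co.z (del v y)) (by
    rw [mul_pow, ← pow_mul, mul_comm 2, pow_mul, hνq, X.co.z_fix _ (X.del_mem y hy)])
  obtain ⟨y', hy', hdel⟩ := X.del_surj d hd
  refine ⟨s', hs', y', hy', fun h => ?_, fun h => ?_, ?_, ?_⟩
  · rw [← X.co.w_E s' hs', hw'] at h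
    exact mul_ne_zero heν hx0 h
  · rw [← X.w_eq hs hs', hw', ← hx] at h
    exact he1 ((mul_eq_right₀ hx0).1 h.symm)
  · obtain ⟨hE, hz⟩ := X.sq_SR hs hy
    obtain ⟨hE', hz'⟩ := X.sq_SR hs' hy'
    rw [h2, X.z_one, ← hx] at hz
    rw [← X.z_eq_zero hE', hz', hdel, hzd, hw', mul_pow, pow_succ, hνq]
    linear_combination (-(ν ^ 2)) * hz
  · have h1 : s * s' * s⁻¹ * s'⁻¹ = 1 := by
      rw [← X.z_eq_zero (X.comm_mem hs hs'), X.co.z_comm s hs s' hs', ← hx, hw', mul_pow, hνq]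
      linear_combination (ν * x ^ q * x) * CharTwo.two_eq_zero (R := X.co.K)
    rw [← X.comm_SR hs hy hs' hy'] at h1
    exact mul_inv_eq_iff_eq_mul.1 (mul_inv_eq_one.1 h1)

end Lay3

end Ctx

end CfsgLib.Criterion
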