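import Cfsg.Agent.Criterion.TypeU3Key
import Cfsg.Agent.Criterion.TypeU3LayBasic
import Cfsg.Agent.Criterion.TypeU3Form
import Cfsg.Agent.Criterion.TransferFull

/-!
# The strong embedding criterion: the transfer end when the translations are a Sylow subgroup

A fully centralised conjugate of `v` in `T` lies in `T₂` outside `K`; the transfer into `T / K`
kills `v`.
-/

set_option autoImplicit false
set_option linter.style.haveILetI false
set_option linter.unusedSectionVars false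

namespace CfsgLib.Criterion

open Subgroup CfsgLib.Invol CfsgLib.Bender

universe u

variable {G : Type u} [Group G] [Finite G]

namespace Ctx.Lay3

variable {C : Ctx G} {v : G} {a b : C.Pt} {D E P : Subgroup G} (X : C.Lay3 v a b D E P)

local notation "S" => P ⊓ C.L v
local notation "q" => Nat.card E

include X

theorem E_le_K {e : G} (he : e ∈ E) : e ∈ X.K := X.R_le_K (X.E_le_R he)

/-- `T` normalises `S R`. -/
theorem T_K {g : G} (hg : g ∈ X.T) {k : G} (hk : k ∈ X.K) : g * k * g⁻¹ ∈ X.K := by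
  obtain ⟨s, hs, y, hy, rfl⟩ := X.mem_K.1 hk
  exact X.mem_K.2 ⟨_, X.T_S g hg s hs, _, X.T_R g hg y hy, by group⟩

/-- Squares of `S R ⟨v⟩` lie in `E`. -/
theorem sq_T₂ {g : G} (hg : g ∈ X.T₂) : g * g ∈ E := by
  rcases X.mem_T₂.1 hg with h | h
  · obtain ⟨s, hs, y, hy, rfl⟩ := X.mem_K.1 h
    exact (X.sq_SR hs hy).1
  · obtain ⟨s, hs, y, hy, e⟩ := X.mem_K.1 (X.v_norm_K h)
    have hg' : g = v * s * y := by
      calc g = v * v * g * (v * v) := by rw [X.vv, one_mul, mul_one]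
        _ = v * (v * (g * v) * v) := by group
        _ = _ := by rw [e, mul_assoc]
    rw [hg']
    exact (X.sq_vSR hs hy).1

/-- Commutators of `S R ⟨v⟩` lie in `E`. -/
theorem comm_T₂ {g h : G} (hg : g ∈ X.T₂) (hh : h ∈ X.T₂) : g * h * g⁻¹ * h⁻¹ ∈ E := by
  rw [show g * h * g⁻¹ * h⁻¹ = g * h * (g * h) * (h⁻¹ * (g * g)⁻¹ * h) * (h * h)⁻¹ by group]
  refine mul_mem (mul_mem (X.sq_T₂ (mul_mem hg hh)) ?_) (inv_mem (X.sq_T₂ hh))
  rw [mul_assoc, (X.T₂_E hh (inv_mem (X.sq_T₂ hg))).eq, inv_mul_cancel_left]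
  exact inv_mem (X.sq_T₂ hg)

/-- `D` meets `S R ⟨v⟩` in `⟨v⟩`. -/
theorem mem_D_T₂ {d : G} (hd : d ∈ D) (h : d ∈ X.T₂) : d = 1 ∨ d = v :=
  X.mem_D_of_ker hd (X.T₂_comm h (X.typ.fix d (X.typ.le hd)).2)

/-- An involution of `T` centralises `E`. -/
theorem commute_E_of_invol {u : G} (hu : u ∈ X.T) (h2 : u * u = 1) {e : G} (he : e ∈ E) :
    Commute u e := by
  obtain ⟨s, hs, y, hy, d, hd, rfl⟩ := X.T_mul u hu
  have hk : s * y ∈ X.K := X.mem_K.2 ⟨s, hs, y, hy, rfl⟩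
  have hdd : d * d ∈ X.K := by
    have hk' := X.T_K (X.le (X.typ.le hd)) hk
    have e1 : d * d = (s * y * (d * (s * y) * d⁻¹))⁻¹ * (s * y * d * (s * y * d)) := by group
    rw [e1, h2, mul_one]
    exact inv_mem (mul_mem hk hk')
  have hd1 : d * d = 1 := (X.mem_D_T₂ (mul_mem hd hd) (X.K_le_T₂ hdd)).resolve_right
    fun h => X.v_not_K (h ▸ hdd)
  exact ((X.K_E hk he).symm).mul_left (X.comm_E_of_sq hd (Or.inl hd1) e he)

/-- **A fully centralised conjugate of `v` in `T`** lies in `S R v`. -/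
theorem mul_v_mem_K_of_full {u : G} (hu : u ∈ X.T) (hconj : IsConj v u)
    (hodd : Odd (X.T.relIndex (centralizer ({u} : Set G)))) : u * v ∈ X.K := by
  obtain ⟨g₀, hg₀⟩ := isConj_iff.1 hconj
  have hu2 : u * u = 1 := by
    rw [← hg₀, show g₀ * v * g₀⁻¹ * (g₀ * v * g₀⁻¹) = g₀ * (v * v) * g₀⁻¹ by group, X.vv]; group
  have huE : ∀ e ∈ E, Commute u e := fun e he => X.commute_E_of_invol hu hu2 he
  have hTa : ∀ g ∈ X.T, g • a = a := fun g hg => (X.memT g hg).1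
  have hES : E ≤ X.T := fun e he => X.K_le_T (X.E_le_K he)
  have hfull := X.card_le_of_full hg₀ hodd
  obtain ⟨g, -, hgv, hmap⟩ := X.carry X.two hTa hu hg₀ hfull
  have hgE : ∀ e ∈ E, g * e * g⁻¹ ∈ E := fun e he => X.carry_E hmap hES huE he
  set U := X.T ⊓ centralizer ({u} : Set G) with hU
  set Y := X.T₂ ⊓ centralizer ({u} : Set G) with hY
  set Y₀ := Y.map (MulAut.conj g⁻¹).toMonoidHom with hY₀
  have hmem₀ : ∀ {x : G}, x ∈ Y₀ → g * x * g⁻¹ ∈ Y := by
    rintro _ ⟨y, hy, rfl⟩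
    rwa [show g * ((MulAut.conj g⁻¹).toMonoidHom y) * g⁻¹ = y from
      show g * (g⁻¹ * y * g⁻¹⁻¹) * g⁻¹ = y by group]
  have hgE' : ∀ {e : G}, g * e * g⁻¹ ∈ E → e ∈ E := by
    intro e he
    let f : ↥E → ↥E := fun x => ⟨g * x * g⁻¹, hgE x x.2⟩
    have hf : Function.Injective f := fun x y h =>
      Subtype.ext (mul_left_cancel (mul_right_cancel (congrArg Subtype.val h :)))
    obtain ⟨x, hx⟩ := (Finite.injective_iff_bijective.1 hf).2 ⟨_, he⟩
    rw [← mul_left_cancel (mul_right_cancel (congrArg Subtype.val hx : g * (x : G) * g⁻¹ = g * e * g⁻¹))]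
    exact x.2
  have hY₀P : Y₀ ≤ P := by
    intro x hx
    obtain ⟨hxT, hxu⟩ := mem_inf.1 (hmem₀ hx)
    obtain ⟨p, hp, e⟩ := hmap.ge (mem_inf.2 ⟨X.T₂_le_T hxT, hxu⟩)
    rw [← mul_left_cancel (mul_right_cancel (e : g * p * g⁻¹ = g * x * g⁻¹))]
    exact hp
  -- it is large
  have hYc : 2 * q ^ 3 ≤ Nat.card Y := by
    have hbot : ∀ {H K : Subgroup G}, H ≤ K → Nat.card H * H.relIndex K = Nat.card K := fun hle => by
      rw [← relIndex_bot_left, ← relIndex_bot_left, relIndex_mul_relIndex _ _ _ bot_le hle]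
    have hYU : Y = X.T₂ ⊓ U := by rw [hY, hU, ← inf_assoc, inf_eq_left.2 X.T₂_le_T]
    have h1 : Nat.card Y * X.T₂.relIndex U = Nat.card U := by
      rw [← inf_relIndex_right X.T₂ U, hYU]; exact hbot inf_le_right
    have h2 : X.T₂.relIndex U ≤ X.T₂.relIndex X.T :=
      relIndex_le_of_le_right inf_le_left ((X.T₂.subgroupOf X.T).index_ne_zero_of_finite)
    have h3 : Nat.card X.T₂ * X.T₂.relIndex X.T = Nat.card X.T := hbot X.T₂_le_T
    have hTc : Nat.card X.T = q * Nat.card P := X.cardT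
    have hP : 0 < Nat.card P := Nat.card_pos
    have hU' : Nat.card P ≤ Nat.card U := hfull
    have key : 2 * q ^ 3 * (Nat.card P * q) ≤ Nat.card Y * (Nat.card P * q) * 1 := by
      calc 2 * q ^ 3 * (Nat.card P * q) = Nat.card P * (2 * q ^ 4) := by ring
        _ ≤ Nat.card U * (2 * q ^ 4) := Nat.mul_le_mul_right _ hU'
        _ ≤ Nat.card Y * X.T₂.relIndex X.T * (2 * q ^ 4) :=
            Nat.mul_le_mul_right _ (h1 ▸ Nat.mul_le_mul_left _ h2)
        _ = Nat.card Y * (X.T₂.relIndex X.T * (2 * q ^ 4)) := mul_assoc _ _ _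
        _ ≤ _ := ?_
      rw [mul_one]
      refine Nat.mul_le_mul_left _ ?_
      have h5 : X.T₂.relIndex X.T * (2 * q ^ 4) ≤ Nat.card X.T := by
        rw [← h3, mul_comm (Nat.card X.T₂)]
        refine Nat.mul_le_mul_left _ ?_
        rw [← X.card_K, two_mul, ← Nat.card_sum]
        refine Nat.card_le_card_of_injective
          (Sum.elim (fun k : ↥X.K => (⟨k, X.K_le_T₂ k.2⟩ : ↥X.T₂))
            (fun k : ↥X.K => (⟨(k : G) * v, mul_mem (X.K_le_T₂ k.2) X.v_mem_T₂⟩ : ↥X.T₂))) ?_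
        rintro (x | x) (y | y) h <;> have h' := congrArg Subtype.val h <;>
          simp only [Sum.elim_inl, Sum.elim_inr] at h'
        · exact congrArg Sum.inl (Subtype.ext h')
        · refine absurd ?_ X.v_not_K
          have := mul_mem (inv_mem y.2) x.2
          rwa [h', inv_mul_cancel_left] at this
        · refine absurd ?_ X.v_not_K
          have := mul_mem (inv_mem x.2) y.2
          rwa [← h', inv_mul_cancel_left] at this
        · exact congrArg Sum.inr (Subtype.ext (mul_right_cancel h'))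
      rwa [hTc, mul_comm q] at h5
    rw [mul_one] at key
    exact Nat.le_of_mul_le_mul_right key (Nat.mul_pos hP Nat.card_pos)
  have hY₀c : Nat.card Y₀ = Nat.card Y := card_map_of_injective (MulAut.conj g⁻¹).injective
  -- so it is the image of `S ∪ S v`
  have hall : ∀ x ∈ Y₀, x ∈ X.Sv := by
    have hYE : ∀ x ∈ Y₀, ∀ e ∈ E, Commute x e := fun x hx e he => by
      have h := (Commute.conj_iff g⁻¹).2 (X.T₂_E (mem_inf.1 (hmem₀ hx)).1 (hgE e he)).symm
      rwa [show g⁻¹ * (g * x * g⁻¹) * g⁻¹⁻¹ = x by group,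
        show g⁻¹ * (g * e * g⁻¹) * g⁻¹⁻¹ = e by group] at h
    have hYcomm : ∀ x ∈ Y₀, ∀ x' ∈ Y₀, x * x' * x⁻¹ * x'⁻¹ ∈ E := fun x hx x' hx' => by
      refine hgE' ?_
      rw [show g * (x * x' * x⁻¹ * x'⁻¹) * g⁻¹ =
        g * x * g⁻¹ * (g * x' * g⁻¹) * (g * x * g⁻¹)⁻¹ * (g * x' * g⁻¹)⁻¹ by group]
      exact X.comm_T₂ (mem_inf.1 (hmem₀ hx)).1 (mem_inf.1 (hmem₀ hx')).1
    rcases X.sub_P1 hY₀P hYE hYcomm with h | ⟨h, -⟩
    · exact h
    · have h4 := X.four_le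
      have : 4 * q ^ 2 < 2 * q ^ 3 := by
        rw [show 2 * q ^ 3 = 2 * q * q ^ 2 by ring]
        exact Nat.mul_lt_mul_of_pos_right (by omega) (pow_pos Nat.card_pos _)
      omega
  have heq : Y₀ = X.Sv := eq_of_le_of_card_ge hall (by rw [hY₀c, X.card_Sv]; exact hYc)
  have hvY : v ∈ Y₀ := by rw [heq]; exact Or.inr (by rw [X.vv]; exact one_mem _)
  have huT₂ : u ∈ X.T₂ := hgv ▸ (mem_inf.1 (hmem₀ hvY)).1
  refine (X.mem_T₂.1 huT₂).resolve_left fun huK => ?_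
  obtain ⟨s, hs, y, hy, hsy⟩ := X.mem_K.1 huK
  by_cases hsE : s ∈ E
  · -- then all of `S R` centralises it
    have huR : u ∈ X.R := hsy ▸ mul_mem (X.E_le_R hsE) hy
    have hKY : X.K ≤ Y := fun k hk => by
      obtain ⟨r, hr, y', hy', rfl⟩ := X.mem_K.1 hk
      exact mem_inf.2 ⟨X.K_le_T₂ hk, mem_centralizer_singleton_iff.2
        (((X.R_S u huR r hr).symm).mul_left (X.R_R y' hy' u huR)).eq⟩
    have h := Subgroup.card_le_of_le hKY
    rw [X.card_K, ← hY₀c, heq, X.card_Sv, pow_succ] at h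
    have h4 := X.four_le
    have := Nat.le_of_mul_le_mul_left (h.trans_eq (mul_comm _ _)) (pow_pos Nat.card_pos 3)
    omega
  · obtain ⟨s', hs', y', hy', hs'E, hss, h2, hc⟩ :=
      X.exists_invol_SR hs hy hsE (hsy ▸ hu2)
    set x := s' * y' with hx
    have hxY : x ∈ Y := mem_inf.2 ⟨X.K_le_T₂ (X.mem_K.2 ⟨s', hs', y', hy', rfl⟩),
      mem_centralizer_singleton_iff.2 (hsy ▸ hc.symm.eq)⟩
    set p := g⁻¹ * x * g⁻¹⁻¹ with hp
    have hpY : p ∈ Y₀ := ⟨x, hxY, rfl⟩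
    have hp2 : p * p = 1 := by
      rw [hp, show g⁻¹ * x * g⁻¹⁻¹ * (g⁻¹ * x * g⁻¹⁻¹) = g⁻¹ * (x * x) * g⁻¹⁻¹ by group, h2]; group
    have hgp : x = g * p * g⁻¹ := by rw [hp]; group
    rcases hall p hpY with h | h
    · have hxE : x ∈ E := hgp ▸ hgE p (X.typ.mem_E_of_sq h hp2)
      refine hs'E (X.mem_E_of_SR hs' ?_)
      rw [show s' = x * y'⁻¹ by rw [hx, mul_inv_cancel_right]]
      exact mul_mem (X.E_le_R hxE) (inv_mem hy')
    · have hpv : p * v ∈ E := by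
        refine X.typ.mem_E_of_sq h ?_
        rw [show p * v * (p * v) = p * (v * p) * v by group,
          ← (X.Sv_comm_v (X.mem_Sv_iff.2 (Or.inr h))).eq,
          show p * (p * v) * v = p * p * (v * v) by group, hp2, X.vv, one_mul]
      have hxu : x * u ∈ E := by
        rw [hgp, ← hgv, show g * p * g⁻¹ * (g * v * g⁻¹) = g * (p * v) * g⁻¹ by group]
        exact hgE _ hpv
      refine hss (X.mem_E_of_SR (mul_mem (inv_mem hs) hs') ?_)
      have e : s⁻¹ * s' = x * u * (y'⁻¹ * y) := by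
        have hxu' : x * u = u⁻¹ * x := by
          rw [inv_eq_of_mul_eq_one_right hu2]; exact (hsy ▸ hc).eq.symm
        have hyc : Commute y (s⁻¹ * s') := X.R_S y hy _ (mul_mem (inv_mem hs) hs')
        calc s⁻¹ * s' = y⁻¹ * (y * (s⁻¹ * s')) := (inv_mul_cancel_left _ _).symm
          _ = y⁻¹ * (s⁻¹ * s' * y) := by rw [hyc.eq]
          _ = (s * y)⁻¹ * (s' * y') * (y'⁻¹ * y) := by group
          _ = _ := by rw [hxu', hsy]
      rw [e]
      exact mul_mem (X.E_le_R hxu) (mul_mem (inv_mem hy') hy)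

/-- **The end without exception**: the translations are no Sylow subgroup. -/
theorem false_of_sylow (hgen : closure C.Z = ⊤) (S₀ : Sylow 2 G) (hS₀ : (S₀ : Subgroup G) = X.T) :
    False := by
  obtain ⟨A, hA, φ, hker, -⟩ := TypeU3.exists_hom_comm (T₂ := X.T₂) (T := (S₀ : Subgroup G)) (D := D)
    (K := X.K) (v := v) (hS₀ ▸ X.T₂_le_T) (hS₀ ▸ fun d hd => X.le (X.typ.le hd))
    (fun x hx y hy => X.D_comm hx hy)
    (fun t ht => by
      obtain ⟨s, hs, y, hy, d, hd, rfl⟩ := X.T_mul t (hS₀ ▸ ht)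
      exact ⟨s * y, X.K_le_T₂ (X.mem_K.2 ⟨s, hs, y, hy, rfl⟩), d, hd, rfl⟩)
    (fun d hd h => X.mem_D_T₂ hd h) X.typ.maxPair.mem X.K_le_T₂ X.v_not_K
    (fun x hx => by rw [inv_eq_of_mul_eq_one_right X.vv]; exact X.mem_T₂.1 hx)
    (fun t ht x hx => X.T_K (hS₀ ▸ ht) hx)
  have hvS : v ∈ (S₀ : Subgroup G) := hS₀ ▸ X.le X.typ.vP
  have hc2 : φ ⟨v, hvS⟩ * φ ⟨v, hvS⟩ = 1 := by
    rw [← map_mul, hker]
    show v * v ∈ X.K
    rw [X.vv]; exact one_mem _
  have h := C.eq_one_of_full hgen S₀ φ (v := v) (fun x hx hcen => by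
      rw [hker]
      have hxT : (x : G) ∈ X.T := hS₀ ▸ x.2
      have hxP : (x : G) ∈ P := X.typ.mem_P X.two X.le hxT (X.memT _ hxT).1
        (hcen v hvS).symm
      exact X.E_le_K (X.typ.mem_E_of_mem_Za hxP hx))
    X.vv hc2 (fun u hu hodd => by
      have huK := X.mul_v_mem_K_of_full (hS₀ ▸ u.2) hu (hS₀ ▸ hodd)
      have h1 : φ u * φ ⟨v, hvS⟩ = 1 := by rw [← map_mul, hker]; exact huK
      rw [eq_inv_of_mul_eq_one_left h1, inv_eq_of_mul_eq_one_right hc2])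
  exact X.v_not_K ((hker _).1 h)

end Ctx.Lay3

end CfsgLib.Criterion
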