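import Cfsg.Agent.Criterion.TypeUnitary

/-!
# The strong embedding criterion: the form on a kernel of order `q ^ 3`

Facts about the norm and the trace of the plane over the field of `Z`, used to count the classes of
square one above a kernel of order `q ^ 3`; the two-point stabiliser of a group generated by `Q` and
`t` consists of scalars, which semilinear maps normalise.
-/

set_option autoImplicit false
set_option linter.style.haveILetI false
set_option linter.unusedSectionVars false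

namespace CfsgLib.Recog.RankOneSuzuki

open MulAction CfsgLib.Recog.RankOne CfsgLib.Unitary CfsgLib.AutPSU CfsgLib.Forms

variable {G Ω : Type*} [Group G] [MulAction G Ω] {a : Ω} {t : G} {Q : Subgroup G}

namespace UCoord

variable {S : Data a t Q} {K : Type} [Field K] (U : UCoord S K) [Finite K] [CharP K 2]

include U

/-- A multiple of `s` whose norm is `κ` times its trace pairing with `s`. -/
theorem exists_norm_eq_pairing {s κ : K} (hs : s ≠ 0) (hκ : κ ≠ 0) (hκq : κ ^ Nat.card S.Z = κ) :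
    ∃ x : K, x ≠ 0 ∧
      x ^ (Nat.card S.Z + 1) = κ * (x ^ Nat.card S.Z * s + x * s ^ Nat.card S.Z) := by
  set q := Nat.card S.Z
  haveI := Fintype.ofFinite K
  obtain ⟨v, hv⟩ := exists_trace_eq U.card (μ := κ⁻¹) (by rw [inv_pow, hκq])
  have hv0 : v ≠ 0 := by
    rintro rfl
    rw [zero_add, zero_pow (q_ne_zero U.card)] at hv
    exact inv_ne_zero hκ hv.symm
  refine ⟨v⁻¹ * s, mul_ne_zero (inv_ne_zero hv0) hs, ?_⟩
  have h1 : κ * (v + v ^ q) = 1 := by rw [hv, mul_inv_cancel₀ hκ]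
  simp only [pow_succ, mul_pow, inv_pow]
  field_simp
  linear_combination -h1

/-- At least `q` elements are orthogonal to a given one. -/
theorem card_orth {s : K} (hs : s ≠ 0) :
    Nat.card S.Z ≤ Nat.card {x : K // x ^ Nat.card S.Z * s + x * s ^ Nat.card S.Z = 0} := by
  refine le_of_eq_of_le (CfsgLib.Invol.U3Center.card_fixed U.card).symm
    (Nat.card_le_card_of_injective (fun c => ⟨c.1 * s, by
      rw [mul_pow, c.2]
      linear_combination (c.1 * s ^ Nat.card S.Z * s) * CharTwo.two_eq_zero (R := K)⟩) ?_)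
  intro c d h
  exact Subtype.ext (mul_right_cancel₀ hs (congrArg Subtype.val h))

/-- **The norms of half of the plane generate the fixed field.** -/
theorem norm_generates (A : Set K) (hA : Nat.card S.Z ^ 2 ≤ 2 * Nat.card A) (B : AddSubgroup K)
    (hB : ∀ x ∈ A, x ^ (Nat.card S.Z + 1) ∈ B) {c : K} (hc : c ^ Nat.card S.Z = c) : c ∈ B := by
  classical
  set q := Nat.card S.Z
  haveI := Fintype.ofFinite K
  by_contra hcB
  let Fx : AddSubgroup K := AddMonoidHom.eqLocus
    (AddMonoidHom.mk' (fun x : K => x ^ q) fun x y => add_pow_q U.card x y) (AddMonoidHom.id K)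
  have hFx : ∀ x, x ∈ Fx ↔ x ^ q = x := fun x => Iff.rfl
  have hcard : Nat.card Fx = q :=
    (Nat.card_congr (Equiv.subtypeEquivRight hFx)).trans (CfsgLib.Invol.U3Center.card_fixed U.card)
  set B' := B ⊓ Fx with hB'
  have hlt : 2 * Nat.card B' ≤ q := by
    obtain ⟨k, hk⟩ := AddSubgroup.card_dvd_of_le (show B' ≤ Fx from inf_le_right)
    rw [hcard] at hk
    have hne : Nat.card B' ≠ q := fun h => hcB
      ((AddSubgroup.eq_of_le_of_card_ge (inf_le_right : B' ≤ Fx) (by rw [h, hcard])).ge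
        ((hFx c).2 hc)).1
    rcases k with _ | _ | k
    · simp [hk] at hcard
    · simp [hk] at hne
    · rw [hk]; nlinarith
  have hmem : ∀ x ∈ A, x ^ (q + 1) ∈ B' := fun x hx =>
    ⟨hB x hx, (hFx _).2 (CfsgLib.Invol.U3Center.norm_fixed U.card x)⟩
  let f : A → B' := fun x => ⟨x.1 ^ (q + 1), hmem x.1 x.2⟩
  -- the fibres
  haveI : Fintype B' := Fintype.ofFinite _
  haveI : Fintype A := Fintype.ofFinite _
  have hfib : ∀ b : B', (Finset.univ.filter fun x : A => f x = b).card ≤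
      if b = 0 then 1 else q + 1 := by
    intro b
    split
    · next hb =>
      refine Finset.card_le_one.2 fun x hx y hy => ?_
      have h0 : ∀ x : A, f x = b → (x : K) = 0 := fun x hx =>
        pow_eq_zero_iff (Nat.succ_ne_zero q) |>.1 (by
          have := congrArg Subtype.val hx
          rw [hb] at this
          exact this)
      exact Subtype.ext ((h0 x (Finset.mem_filter.1 hx).2).trans (h0 y (Finset.mem_filter.1 hy).2).symm)
    · calc (Finset.univ.filter fun x : A => f x = b).card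
          = ((Finset.univ.filter fun x : A => f x = b).image Subtype.val).card :=
            (Finset.card_image_of_injective _ Subtype.val_injective).symm
        _ ≤ (Polynomial.nthRoots (q + 1) (b : K)).toFinset.card := Finset.card_le_card (by
            intro y hy
            obtain ⟨x, hx, rfl⟩ := Finset.mem_image.1 hy
            rw [Multiset.mem_toFinset, Polynomial.mem_nthRoots (Nat.succ_pos q)]
            exact congrArg Subtype.val (Finset.mem_filter.1 hx).2)
        _ ≤ q + 1 := (Multiset.toFinset_card_le _).trans (Polynomial.card_nthRoots _ _)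
  have hsum : Fintype.card A ≤ ∑ b : B', if b = 0 then 1 else q + 1 := by
    rw [← Finset.card_univ,
      Finset.card_eq_sum_card_fiberwise (f := f) (t := Finset.univ) fun x _ => Finset.mem_univ _]
    exact Finset.sum_le_sum fun b _ => hfib b
  rw [← Finset.add_sum_erase _ _ (Finset.mem_univ (0 : B')), if_pos rfl,
    Finset.sum_congr rfl fun b hb => if_neg (Finset.mem_erase.1 hb).1, Finset.sum_const,
    Finset.card_erase_of_mem (Finset.mem_univ _), Finset.card_univ, smul_eq_mul] at hsum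
  rw [Nat.card_eq_fintype_card] at hA hlt
  have hpos : 1 ≤ Fintype.card B' := Fintype.card_pos
  obtain ⟨m, hm⟩ := Nat.exists_eq_add_of_le hpos
  rw [hm] at hlt hsum
  simp only [Nat.add_sub_cancel_left] at hsum
  nlinarith

/-- An element of the two-point stabiliser centralising `Z` is a scalar modulo `Z`. -/
theorem exists_scalar_of_centralizes [Finite G] {c : G}
    (hc : c ∈ stabilizer G a ⊓ stabilizer G (t • a)) (hcZ : ∀ z ∈ S.Z, c * z = z * c) :
    ∃ u : K, u ≠ 0 ∧ ∀ y ∈ Q, U.w (c * y * c⁻¹) = u * U.w y := by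
  set q := Nat.card S.Z
  have hconj : ∀ y ∈ Q, c * y * c⁻¹ ∈ Q := fun y hy => S.setup.conj_mem c hc.1 y hy
  obtain ⟨u, σ, hw, hz⟩ := U.exists_semilinear
    (MonoidHom.mk' (fun y : ↥Q => (⟨c * y * c⁻¹, hconj y y.2⟩ : ↥Q)) fun y y' => Subtype.ext (by simp))
    (fun y y' h => Subtype.ext (mul_left_cancel (mul_right_cancel (congrArg Subtype.val h))))
  have hwv : ∀ y ∈ Q, U.w (c * y * c⁻¹) = u * σ (U.w y) := fun y hy => hw ⟨y, hy⟩
  have hzv : ∀ e, e ^ q = e → (u : K) ^ (q + 1) * σ e = e := fun e he => by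
    obtain ⟨z, hzZ, rfl⟩ := U.z_surj e he
    have h := hz ⟨z, S.Z_le hzZ⟩ hzZ
    rw [← h]
    show U.z (c * z * c⁻¹) = U.z z
    rw [hcZ z hzZ, mul_inv_cancel_right]
  have hN : (u : K) ^ (q + 1) = 1 := by
    have := hzv 1 (one_pow q)
    rwa [map_one, mul_one] at this
  have hσfix : ∀ e, e ^ q = e → σ e = e := fun e he => by
    have := hzv e he
    rwa [hN, one_mul] at this
  have hpow : ∀ k : ℕ, ∃ d : K, ∀ y ∈ Q, U.w (c ^ k * y * (c ^ k)⁻¹) = d * (σ ^ k) (U.w y) := by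
    intro k
    induction k with
    | zero => exact ⟨1, fun y _ => by simp⟩
    | succ k ih =>
      obtain ⟨d, hd⟩ := ih
      refine ⟨u * σ d, fun y hy => ?_⟩
      have hm : c ^ k * y * (c ^ k)⁻¹ ∈ Q := S.setup.conj_mem _ (pow_mem hc.1 k) y hy
      rw [show c ^ (k + 1) * y * (c ^ (k + 1))⁻¹ = c * (c ^ k * y * (c ^ k)⁻¹) * c⁻¹ by
        rw [pow_succ']; group, hwv _ hm, hd y hy, map_mul, ← mul_assoc, pow_succ']
      rfl
  obtain ⟨d, hd⟩ := hpow (orderOf c)
  have hd1 : ∀ e, d * (σ ^ orderOf c) e = e := fun e => by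
    obtain ⟨y, hy, rfl⟩ := U.w_surj e
    rw [← hd y hy, pow_orderOf_eq_one, inv_one, mul_one, one_mul]
  have hσn : σ ^ orderOf c = 1 := RingEquiv.ext fun e => by
    have h1 := hd1 1
    rw [map_one, mul_one] at h1
    have h2 := hd1 e
    rwa [h1, one_mul] at h2
  have hσ2 : σ ^ 2 = 1 := RingEquiv.ext fun e => by
    rw [pow_two]
    show σ (σ e) = e
    rcases eq_or_eq_frob_of_fix U.card σ hσfix e with h | h
    · rw [h, h]
    rcases eq_or_eq_frob_of_fix U.card σ hσfix (σ e) with h' | h'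
    · rw [h']
      exact σ.injective h'
    · rw [h', h, pow_q_q U.card]
  obtain ⟨k, hk⟩ := S.setup.odd_card.of_dvd_nat (Subgroup.orderOf_dvd_natCard _ hc)
  rw [hk, pow_succ, pow_mul, hσ2, one_pow, one_mul] at hσn
  exact ⟨u, u.ne_zero, fun y hy => by rw [hwv y hy, hσn]; rfl⟩

end UCoord

namespace Chart

variable {S : Data a t Q} {F : Type} [Field F] [CharP F 2] (C : Chart S F) [Finite F] [Finite G]

/-- In a group generated by `Q` and `t` the two-point stabiliser is linear on the block. -/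
theorem τD_eq_one_of_gen (hθ : ∀ l, C.θ l = 1) (hgen : Subgroup.closure ((Q : Set G) ∪ {t}) = ⊤)
    {d : G} (hd : d ∈ stabilizer G a ⊓ stabilizer G (t • a)) : C.τD d = 1 := by
  let D₀ : G → Prop := fun h => h ∈ stabilizer G a ⊓ stabilizer G (t • a) ∧ C.τD h = 1
  have hmul : ∀ {x y}, D₀ x → D₀ y → D₀ (x * y) := fun {x y} hx hy =>
    ⟨mul_mem hx.1 hy.1, by
      rw [C.τD_mul (C.D_le_GB hx.1) (C.D_le_GB hy.1), hx.2, hy.2, one_mul]⟩
  have htdt : ∀ {x}, D₀ x → D₀ (t * x * t) := fun {x} hx =>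
    ⟨t_norm S.setup x hx.1, by rw [C.τD_tdt (C.D_le_GB hx.1), hx.2]⟩
  have hconj : ∀ {x y}, D₀ x → y ∈ Q → x * y * x⁻¹ ∈ Q := fun {x y} hx hy =>
    S.setup.conj_mem x hx.1.1 y hy
  have hconj' : ∀ {x y}, D₀ x → y ∈ Q → x⁻¹ * y * x ∈ Q := fun {x y} hx hy => by
    simpa using S.setup.conj_mem x⁻¹ (inv_mem hx.1.1) y hy
  have hcomp : ∀ y ∈ Q, y ≠ 1 → ∃ g ∈ Q, ∃ h, D₀ h ∧ ∃ f ∈ Q, t * y * t = g * h * t * f := by
    intro y hy hy1
    by_cases hyZ : y ∈ S.Z
    · obtain ⟨g, hg, k, hk, f, hf, he⟩ := S.inK_Z hyZ hy1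
      exact ⟨g, hg, k, ⟨S.K_le hk, C.τD_K hk⟩, f, hf, he⟩
    · exact ⟨C.gg (C.ell y), C.gg_mem _, C.hh (C.ell y), ⟨C.hh_mem _, hθ _⟩, C.ff (C.ell y),
        C.ff_mem _, by rw [← C.decomp_yy, C.yy_ell hy hyZ]⟩
  let P : G → Prop := fun x => (∃ g ∈ Q, ∃ h, D₀ h ∧ x = g * h) ∨
    ∃ g ∈ Q, ∃ h, D₀ h ∧ ∃ f ∈ Q, x = g * h * t * f
  have hPQ : ∀ {g x}, g ∈ Q → P x → P (g * x) := by
    rintro g x hg (⟨g', hg', h, hh, rfl⟩ | ⟨g', hg', h, hh, f, hf, rfl⟩)
    · exact Or.inl ⟨g * g', mul_mem hg hg', h, hh, by group⟩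
    · exact Or.inr ⟨g * g', mul_mem hg hg', h, hh, f, hf, by group⟩
  have hPt : ∀ {x}, P x → P (t * x) := by
    rintro x (⟨g, hg, h, hh, rfl⟩ | ⟨g, hg, h, hh, f, hf, rfl⟩)
    · refine Or.inr ⟨1, one_mem _, t * h * t, htdt hh, h⁻¹ * g * h, hconj' hh hg, ?_⟩
      simp only [mul_assoc, one_mul, S.tt_cancel, mul_inv_cancel_left]
    · by_cases hg1 : g = 1
      · refine Or.inl ⟨t * h * t * f * (t * h * t)⁻¹, hconj (htdt hh) hf, t * h * t, htdt hh, ?_⟩
        rw [hg1, inv_mul_cancel_right]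
        group
      obtain ⟨g', hg', h', hh', f', hf', he⟩ := hcomp g hg hg1
      refine Or.inr ⟨g', hg', h' * h, hmul hh' hh, (t * h * t)⁻¹ * f' * (t * h * t) * f,
        mul_mem (hconj' (htdt hh) hf') hf, ?_⟩
      calc t * (g * h * t * f) = t * g * t * (t * h * t) * f := by simp [mul_assoc, S.tt_cancel]
        _ = g' * h' * t * f' * (t * h * t) * f := by rw [he]
        _ = g' * h' * (h * t * (t * h * t)⁻¹) * f' * (t * h * t) * f := by
          congr 3
          simp [mul_assoc, S.ti, S.tt_cancel]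
        _ = _ := by group
  have hall : ∀ x, P x := fun x => by
    refine Subgroup.closure_induction_left (p := fun x _ => P x)
      (Or.inl ⟨1, one_mem _, 1, ⟨one_mem _, by rw [← map_one C.X.el, C.τD_el]⟩, by group⟩)
      (fun g hg y _ hy => ?_) (fun g hg y _ hy => ?_)
      (show x ∈ Subgroup.closure ((Q : Set G) ∪ {t}) by rw [hgen]; trivial)
    · rcases hg with hg | hg
      · exact hPQ hg hy
      · rw [Set.mem_singleton_iff.1 hg]; exact hPt hy
    · rcases hg with hg | hg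
      · exact hPQ (inv_mem hg) hy
      · rw [Set.mem_singleton_iff.1 hg, S.ti]; exact hPt hy
  rcases hall d with ⟨g, hg, h, hh, rfl⟩ | ⟨g, hg, h, hh, f, hf, rfl⟩
  · have hgb : g • t • a = t • a := by
      have := mem_stabilizer_iff.1 hd.2
      rw [mul_smul, show h • t • a = t • a from hh.1.2] at this
      exact this
    rw [eq_one_of_mem_D S.setup hg hgb, one_mul]
    exact hh.2
  · exfalso
    have := mem_stabilizer_iff.1 hd.1
    rw [mul_smul, fix_a S.setup hf, mul_smul, mul_smul,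
      show h • t • a = t • a from hh.1.2] at this
    exact smul_ne_a S.setup hg (b_ne S.setup) this

end Chart

namespace UCoord

variable {S : Data a t Q} {K : Type} [Field K] (U : UCoord S K) [Finite K] [CharP K 2]
  [Finite G] [FaithfulSMul G Ω]

include U

/-- **The two-point stabiliser of a group generated by `Q` and `t` consists of scalars.** -/
theorem exists_scalar (hQ : Nat.card Q = Nat.card S.Z ^ 3) (hna : ∃ x ∈ Q, ∃ y ∈ Q, x * y ≠ y * x)
    (hgen : Subgroup.closure ((Q : Set G) ∪ {t}) = ⊤) {d : G}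
    (hd : d ∈ stabilizer G a ⊓ stabilizer G (t • a)) :
    ∃ u : K, u ≠ 0 ∧ ∀ y ∈ Q, U.w (d * y * d⁻¹) = u * U.w y := by
  obtain ⟨F, _, _, _, C, qf, -, -, -, hθ⟩ := S.exists_chart_form hQ hna
  have hτ : C.τB ⟨d, C.D_le_GB hd⟩ = 1 := by
    rw [← C.τD_eq]; exact C.τD_eq_one_of_gen hθ hgen hd
  obtain ⟨m, hm, hconj⟩ := C.exists_dia (γ := ⟨d, C.D_le_GB hd⟩) hd hτ
  simp only at hconj
  have hk : C.X.el (dia m hm) ∈ S.K := (C.X.mem_K _).2 ⟨_, rfl, m, hm, rfl⟩
  set c := (C.X.el (dia m hm))⁻¹ * d with hcdef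
  have hcD : c ∈ stabilizer G a ⊓ stabilizer G (t • a) := mul_mem (inv_mem (S.K_le hk)) hd
  have hcZ : ∀ z ∈ S.Z, c * z = z * c := fun z hz => by
    rw [← mul_inv_eq_iff_eq_mul]
    conv_lhs => rw [← C.el_zc hz, hcdef, show (C.X.el (dia m hm))⁻¹ * d * C.X.el (uni (C.zc z)) *
      ((C.X.el (dia m hm))⁻¹ * d)⁻¹ = (C.X.el (dia m hm))⁻¹ * (d * C.X.el (uni (C.zc z)) * d⁻¹) *
        C.X.el (dia m hm) by group, hconj, map_mul, map_mul, map_inv]
    rw [show (C.X.el (dia m hm))⁻¹ * (C.X.el (dia m hm) * C.X.el (uni (C.zc z)) *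
      (C.X.el (dia m hm))⁻¹) * C.X.el (dia m hm) = C.X.el (uni (C.zc z)) by group, C.el_zc hz]
  obtain ⟨u, hu, hcu⟩ := U.exists_scalar_of_centralizes hcD hcZ
  obtain ⟨e, he, -, hke⟩ := U.exists_m _ hk
  refine ⟨e * u, mul_ne_zero he hu, fun y hy => ?_⟩
  rw [show d * y * d⁻¹ = C.X.el (dia m hm) * (c * y * c⁻¹) * (C.X.el (dia m hm))⁻¹ by
    rw [hcdef]; group, hke _ (S.setup.conj_mem c hcD.1 y hy), hcu y hy, mul_assoc]

/-- **Automorphisms normalise the scalars.** -/
theorem twist_scalar (hQ : Nat.card Q = Nat.card S.Z ^ 3) (hna : ∃ x ∈ Q, ∃ y ∈ Q, x * y ≠ y * x)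
    (hgen : Subgroup.closure ((Q : Set G) ∪ {t}) = ⊤) (α : MulAut ↥Q) {d : G}
    (hd : d ∈ stabilizer G a ⊓ stabilizer G (t • a)) :
    ∃ u : K, u ≠ 0 ∧ ∀ x : ↥Q,
      U.w (α ⟨d * (α.symm x : G) * d⁻¹, S.setup.conj_mem d hd.1 _ (α.symm x).2⟩) = u * U.w x := by
  obtain ⟨u, hu, hdu⟩ := U.exists_scalar hQ hna hgen hd
  obtain ⟨c, σ, hw, -⟩ := U.exists_semilinear α.toMonoidHom α.injective
  have hw' : ∀ x : ↥Q, U.w (α x) = c * σ (U.w x) := hw
  refine ⟨σ u, (map_ne_zero σ).2 hu, fun x => ?_⟩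
  conv_rhs => rw [← α.apply_symm_apply x, hw']
  rw [hw', hdu _ (α.symm x).2, map_mul, mul_left_comm]

end UCoord

namespace Data

variable (S : Data a t Q)

/-- Conjugation by a two-point element on `Q`. -/
def conjQ {d : G} (hd : d ∈ stabilizer G a ⊓ stabilizer G (t • a)) (x : ↥Q) : ↥Q :=
  ⟨d * x * d⁻¹, S.setup.conj_mem d hd.1 x x.2⟩

/-- **(F4)** A twisted two-point element commutes with the two-point elements modulo `Z`. -/
theorem twist_comm [Finite G] [FaithfulSMul G Ω] (hQ : Nat.card Q = Nat.card S.Z ^ 3)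
    (hna : ∃ x ∈ Q, ∃ y ∈ Q, x * y ≠ y * x) (hgen : Subgroup.closure ((Q : Set G) ∪ {t}) = ⊤)
    (α : MulAut ↥Q) {d d' : G} (hd : d ∈ stabilizer G a ⊓ stabilizer G (t • a))
    (hd' : d' ∈ stabilizer G a ⊓ stabilizer G (t • a)) (x : ↥Q) :
    (((α (S.conjQ hd (α.symm (S.conjQ hd' x))))⁻¹ *
      S.conjQ hd' (α (S.conjQ hd (α.symm x))) : ↥Q) : G) ∈ S.Z := by
  obtain ⟨K, _, _, _, ⟨U⟩⟩ := S.exists_ucoord hQ hna
  obtain ⟨u, -, hu⟩ := U.twist_scalar hQ hna hgen α hd
  obtain ⟨u', -, hu'⟩ := U.exists_scalar hQ hna hgen hd'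
  have h1 : ∀ y, U.w (α (S.conjQ hd (α.symm y))) = u * U.w y := hu
  have h2 : ∀ y : ↥Q, U.w (S.conjQ hd' y) = u' * U.w y := fun y => hu' y y.2
  refine (U.w_eq (α _).2 (S.conjQ hd' _).2).1 ?_
  rw [h1, h2, h2, h1, mul_left_comm]

end Data

end CfsgLib.Recog.RankOneSuzuki
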