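import Cfsg.Agent.Criterion.TypeKerS
import Cfsg.Agent.Criterion.TypeUnitaryForm

/-!
# The strong embedding criterion: the quotient local group is generated by the kernel and the swapper

The local group is generated by involutions, and in a rank one set-up every involution lies in the
group generated by the kernel and the swapper.
-/

set_option autoImplicit false
set_option linter.style.haveILetI false
set_option linter.unusedSectionVars false

namespace CfsgLib.Criterion

open Subgroup

universe u

variable {G : Type u} [Group G] [Finite G]

namespace Ctx

variable {C : Ctx G}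

/-- The quotient local group is generated by the kernel and the swapper. -/
theorem Model.closure_eq_top {v : G} {a b : C.Pt} {E P : Subgroup G} (Md : C.Model v a b E P) :
    closure ((Md.T : Set (C.LQ v)) ∪ {Md.t}) = ⊤ := by
  refine top_le_iff.1 fun x _ => ?_
  obtain ⟨⟨y, hy⟩, rfl⟩ := QuotientGroup.mk'_surjective (Cfsg.oddCore ↥(C.L v)) x
  induction hy using Subgroup.closure_induction with
  | mem w hw =>
    refine Md.S.invol_mem_closure_pair ?_
    rw [← map_mul, show (⟨w, subset_closure hw⟩ : ↥(C.L v)) * ⟨w, subset_closure hw⟩ = 1 from
      Subtype.ext (C.mul_self_Z hw.1), map_one]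
  | one =>
    rw [show (⟨1, _⟩ : ↥(C.L v)) = 1 from rfl, map_one]
    exact one_mem _
  | mul w w' hw hw' h h' =>
    have := mul_mem (h trivial) (h' trivial)
    rwa [← map_mul] at this
  | inv w hw h =>
    have := inv_mem (h trivial)
    rwa [← map_inv] at this

end Ctx

end CfsgLib.Criterion
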