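import Cfsg.Agent.Criterion.TypeU3Def
import Cfsg.Agent.Criterion.TypeUnitaryForm
import Cfsg.Agent.Criterion.TypeUnitaryGen

/-!
# The strong embedding criterion: the coordinates on `P ⊓ L_v` exist for `Q = q ^ 3`

The coordinates of the kernel of the quotient local group are carried back along the isomorphism of
`P ⊓ L_v` with that kernel.
-/

set_option autoImplicit false
set_option linter.style.haveILetI false
set_option linter.unusedSectionVars false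

namespace CfsgLib.Recog.RankOneSuzuki.UCoord

open MulAction CfsgLib.Recog.RankOne

variable {G Ω : Type*} [Group G] [MulAction G Ω] {a : Ω} {t : G} {Q : Subgroup G}
variable {S : Data a t Q} {K : Type} [Field K] (U : UCoord S K) [Finite K] [CharP K 2]

include U

/-- The coordinate of a commutator. -/
theorem z_comm {x y : G} (hx : x ∈ Q) (hy : y ∈ Q) :
    U.z (x * y * x⁻¹ * y⁻¹) =
      U.w x ^ Nat.card S.Z * U.w y + U.w x * U.w y ^ Nat.card S.Z := by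
  have hZ : x * y * x⁻¹ * y⁻¹ ∈ S.Z := by
    rw [show x * y * x⁻¹ * y⁻¹ = x * x * (x⁻¹ * y * (x⁻¹ * y)) * (y⁻¹ * y⁻¹) by group]
    exact mul_mem (mul_mem (U.sq_mem hx) (U.sq_mem (mul_mem (inv_mem hx) hy))) (U.sq_mem (inv_mem hy))
  have e : x * y * (x * y) = (x * y * x⁻¹ * y⁻¹)⁻¹ * (x * x) * (y * y) := by
    have h' : y * x = (x * y * x⁻¹ * y⁻¹)⁻¹ * (x * y) := by group
    calc x * y * (x * y) = x * (y * x) * y := by group
      _ = x * ((x * y * x⁻¹ * y⁻¹)⁻¹ * (x * y)) * y := by rw [h']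
      _ = (x * y * x⁻¹ * y⁻¹)⁻¹ * x * (x * y) * y := by
          rw [← mul_assoc x, ← S.central _ (inv_mem hZ) x hx]
      _ = _ := by group
  have h1 := U.z_sq _ (mul_mem hx hy)
  rw [U.w_mul x hx y hy, CfsgLib.Invol.U3Center.norm_add U.card, e,
    U.z_mul _ (mul_mem (inv_mem hZ) (U.sq_mem hx)) _ (U.sq_mem hy),
    U.z_mul _ (inv_mem hZ) _ (U.sq_mem hx), U.z_sq x hx, U.z_sq y hy, S.Z_inv hZ] at h1
  linear_combination h1

/-- Conjugation inside the kernel does not change the coordinate. -/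
theorem w_conj {g x : G} (hg : g ∈ Q) (hx : x ∈ Q) : U.w (g * x * g⁻¹) = U.w x := by
  rw [U.w_mul _ (mul_mem hg hx) _ (inv_mem hg), U.w_mul _ hg _ hx, U.w_inv hg]
  linear_combination U.w g * CharTwo.two_eq_zero (R := K)

/-- A scalar on the kernel acts on `Z` by its norm. -/
theorem z_of_scalar {g : G} {m : K} (hg : ∀ y ∈ Q, g * y * g⁻¹ ∈ Q)
    (hw : ∀ y ∈ Q, U.w (g * y * g⁻¹) = m * U.w y) {e : G} (he : e ∈ S.Z) :
    U.z (g * e * g⁻¹) = m ^ (Nat.card S.Z + 1) * U.z e := by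
  obtain ⟨y, hy, rfl⟩ := U.exists_sq he
  rw [show g * (y * y) * g⁻¹ = g * y * g⁻¹ * (g * y * g⁻¹) by group, U.z_sq _ (hg y hy), U.z_sq y hy,
    hw y hy, mul_pow]

end CfsgLib.Recog.RankOneSuzuki.UCoord

namespace CfsgLib.Criterion

open Subgroup CfsgLib.Invol CfsgLib.Bender

universe u

variable {G : Type u} [Group G] [Finite G]

namespace Ctx

variable {C : Ctx G} {v : G} {a b : C.Pt} {D E P : Subgroup G}

open MulAction in
/-- An element of the local group normalising `P ⊓ L_v` lies in the point stabiliser of the model. -/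
theorem Model.exists_mul_of_tor (Md : C.Model v a b E P) {g : G} (hg : g ∈ C.L v)
    (hgS : ∀ s ∈ P ⊓ C.L v, g * s * g⁻¹ ∈ P ⊓ C.L v) :
    ∃ q ∈ Md.T, ∃ k ∈ stabilizer (C.LQ v) ((1 : C.LQ v) : C.LQ v ⧸ Md.K) ⊓
      stabilizer (C.LQ v) (Md.t • ((1 : C.LQ v) : C.LQ v ⧸ Md.K)), C.toLQ v ⟨g, hg⟩ = q * k := by
  set π := C.toLQ v ⟨g, hg⟩
  set ι : C.LQ v ⧸ Md.K := ((1 : C.LQ v) : C.LQ v ⧸ Md.K)
  refine Recog.RankOne.exists_mul Md.S.setup ?_
  by_contra hne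
  haveI : Nontrivial ↥Md.S.Z := Finite.one_lt_card_iff_nontrivial.1 (by
    have := Md.S.four_le; omega)
  obtain ⟨⟨z, hz⟩, hz1⟩ := exists_ne (1 : ↥Md.S.Z)
  obtain ⟨s, hs⟩ := Md.pr.surjective ⟨z, Md.S.Z_le hz⟩
  have hz' : π * z * π⁻¹ ∈ Md.T := by
    rw [show z = (Md.pr s : C.LQ v) by rw [hs], Md.pr_eq, ← map_mul, ← map_inv, ← map_mul,
      show (⟨g, hg⟩ : ↥(C.L v)) * ⟨s, s.2.2⟩ * ⟨g, hg⟩⁻¹ =
        ⟨((⟨g * s * g⁻¹, hgS s s.2⟩ : ↥(P ⊓ C.L v)) : G), (hgS s s.2).2⟩ from rfl, ← Md.pr_eq]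
    exact (Md.pr _).2
  obtain ⟨q, hq, hqe⟩ := Recog.RankOne.exists_mem_smul Md.S.setup hne
  have hfix : (q⁻¹ * (π * z * π⁻¹) * q) • Md.t • ι = Md.t • ι := by
    rw [mul_smul, hqe, mul_smul, mul_smul, inv_smul_smul, mul_smul,
      Md.S.setup.le (Md.S.Z_le hz), ← hqe, inv_smul_smul]
  have h1 := Recog.RankOne.eq_one_of_mem_D Md.S.setup (mul_mem (mul_mem (inv_mem hq) hz') hq) hfix
  refine hz1 (Subtype.ext ?_)
  calc z = π⁻¹ * (q * (q⁻¹ * (π * z * π⁻¹) * q) * q⁻¹) * π := by group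
    _ = 1 := by rw [h1]; group

namespace Typ

variable (H : C.Typ v a b D E P)
include H

/-- **Coordinates exist.** -/
theorem exists_coord3 (hQ : C.qn v a = Nat.card E ^ 3) :
    Nonempty (C.Coord3 v a b E (P ⊓ C.L v)) := by
  classical
  obtain ⟨Md⟩ := H.exists_model
  haveI := Md.faithful
  have hcard : Nat.card Md.T = Nat.card Md.S.Z ^ 3 := by rw [Md.card_T, Md.card_Z, hQ]
  have hna := Md.S.not_comm_of_lt (by
    have h4 := Md.S.four_le
    rw [hcard]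
    exact lt_self_pow₀ (by omega) (by omega))
  have hgen := Md.closure_eq_top
  obtain ⟨K, _, _, _, ⟨U⟩⟩ := Md.S.exists_ucoord hcard hna
  have hq : Nat.card Md.S.Z = Nat.card E := Md.card_Z
  let p : G → C.LQ v := fun x => if hx : x ∈ P ⊓ C.L v then (Md.pr ⟨x, hx⟩ : C.LQ v) else 1
  have hp : ∀ s : ↥(P ⊓ C.L v), p s = Md.pr s := fun s => dif_pos s.2
  have hpT : ∀ {x}, x ∈ P ⊓ C.L v → p x ∈ Md.T := fun {x} hx => by
    rw [hp ⟨x, hx⟩]; exact (Md.pr _).2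
  have hpmul : ∀ {x y}, x ∈ P ⊓ C.L v → y ∈ P ⊓ C.L v → p (x * y) = p x * p y := fun {x y} hx hy => by
    rw [hp ⟨x, hx⟩, hp ⟨y, hy⟩, hp ⟨x * y, mul_mem hx hy⟩, ← Subgroup.coe_mul, ← map_mul]; rfl
  have hpZ : ∀ {x}, x ∈ P ⊓ C.L v → (p x ∈ Md.S.Z ↔ x ∈ E) := fun {x} hx => by
    rw [hp ⟨x, hx⟩]; exact Md.mem_Z _
  have hpinj : ∀ {x y}, x ∈ P ⊓ C.L v → y ∈ P ⊓ C.L v → p x = p y → x = y := fun {x y} hx hy h => by
    rw [hp ⟨x, hx⟩, hp ⟨y, hy⟩] at h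
    exact congrArg Subtype.val (Md.pr.injective (Subtype.ext h))
  have hpsurj : ∀ c ∈ Md.T, ∃ x ∈ P ⊓ C.L v, p x = c := fun c hc => by
    obtain ⟨s, hs⟩ := Md.pr.surjective ⟨c, hc⟩
    exact ⟨s, s.2, by rw [hp, hs]⟩
  have hpE : ∀ {e}, e ∈ E → p e ∈ Md.S.Z := fun {e} he => (hpZ (H.E_le_S he)).2 he
  -- elements of the local group normalising `P ⊓ L_v`
  have hconj : ∀ {y : G} (hy : y ∈ C.L v), (∀ s ∈ P ⊓ C.L v, y * s * y⁻¹ ∈ P ⊓ C.L v) →
      ∀ {x}, x ∈ P ⊓ C.L v → p (y * x * y⁻¹) = C.toLQ v ⟨y, hy⟩ * p x * (C.toLQ v ⟨y, hy⟩)⁻¹ := by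
    intro y hy hyS x hx
    rw [hp ⟨_, hyS x hx⟩, hp ⟨x, hx⟩, Md.pr_eq, Md.pr_eq, ← map_mul, ← map_inv, ← map_mul]
    rfl
  have hEconj : ∀ {y e : G}, (∀ s ∈ P ⊓ C.L v, y * s * y⁻¹ ∈ P ⊓ C.L v) → e ∈ E →
      y * e * y⁻¹ ∈ E := fun {y e} hy he => H.mem_E_of_sq (hy e (H.E_le_S he)) (by
    rw [show y * e * y⁻¹ * (y * e * y⁻¹) = y * (e * e) * y⁻¹ by group, H.isE.mul_self C he]; group)
  -- a scalar of the model, conjugated, is a scalar
  have hscalar : ∀ {q k : C.LQ v} {m : K}, q ∈ Md.T →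
      (∀ c ∈ Md.T, k * c * k⁻¹ ∈ Md.T) → (∀ c ∈ Md.T, U.w (k * c * k⁻¹) = m * U.w c) →
      ∀ c ∈ Md.T, q * k * c * (q * k)⁻¹ ∈ Md.T ∧ U.w (q * k * c * (q * k)⁻¹) = m * U.w c := by
    intro q k m hq hk hm c hc
    rw [show q * k * c * (q * k)⁻¹ = q * (k * c * k⁻¹) * q⁻¹ by group]
    exact ⟨mul_mem (mul_mem hq (hk c hc)) (inv_mem hq), by rw [U.w_conj hq (hk c hc), hm c hc]⟩
  have hlift : ∀ (k : C.LQ v) (m : K), k ∈ MulAction.stabilizer (C.LQ v) ((1 : C.LQ v) : C.LQ v ⧸ Md.K) ⊓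
      MulAction.stabilizer (C.LQ v) (Md.t • ((1 : C.LQ v) : C.LQ v ⧸ Md.K)) →
      (∀ c ∈ Md.T, U.w (k * c * k⁻¹) = m * U.w c) →
      ∃ y ∈ C.Tor v a b (P ⊓ C.L v), (∀ x ∈ P ⊓ C.L v, U.w (p (y * x * y⁻¹)) = m * U.w (p x)) ∧
        ((∀ z ∈ Md.S.Z, k * z = z * k) → ∀ e ∈ E, y * e * y⁻¹ = e) := by
    intro k m hk hm
    obtain ⟨y, hy, hya, hyb, hyS, q, hq, hyq⟩ := Md.lift k hk
    refine ⟨y, ⟨hy, hya, hyb, hyS⟩, fun x hx => ?_, fun hkZ e he => ?_⟩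
    · have hin : q⁻¹ * p x * q⁻¹⁻¹ ∈ Md.T := mul_mem (mul_mem (inv_mem hq) (hpT hx)) (inv_mem (inv_mem hq))
      rw [hconj hy hyS hx, hyq, show q * k * q⁻¹ * p x * (q * k * q⁻¹)⁻¹ =
        q * (k * (q⁻¹ * p x * q⁻¹⁻¹) * k⁻¹) * q⁻¹ by group,
        U.w_conj hq (Md.S.setup.conj_mem k hk.1 _ hin), hm _ hin, U.w_conj (inv_mem hq) (hpT hx)]
    · refine hpinj (hyS e (H.E_le_S he)) (H.E_le_S he) ?_
      have hz := hpE he
      rw [hconj hy hyS (H.E_le_S he), hyq, show q * k * q⁻¹ * p e * (q * k * q⁻¹)⁻¹ =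
        q * (k * (q⁻¹ * p e * q) * k⁻¹) * q⁻¹ by group,
        show q⁻¹ * p e * q = p e by rw [mul_assoc, Md.S.central _ hz q hq, inv_mul_cancel_left],
        hkZ _ hz, mul_inv_cancel_right, ← Md.S.central _ hz q hq, mul_inv_cancel_right]
  -- automorphisms
  let tr : MulAut ↥(P ⊓ C.L v) → MulAut ↥Md.T := fun α => (Md.pr.symm.trans α).trans Md.pr
  have htr : ∀ α (x : ↥(P ⊓ C.L v)), tr α (Md.pr x) = Md.pr (α x) := fun α x => by
    simp [tr]
  refine ⟨{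
    K := K
    w := fun x => U.w (p x)
    z := fun x => U.z (p x)
    card := by rw [U.card, hq]
    w_mul := fun x hx y hy => by rw [hpmul hx hy, U.w_mul _ (hpT hx) _ (hpT hy)]
    w_E := fun x hx => by rw [U.w_Z _ (hpT hx), hpZ hx]
    w_surj := fun c => by
      obtain ⟨x, hx, rfl⟩ := U.w_surj c
      obtain ⟨y, hy, rfl⟩ := hpsurj x hx
      exact ⟨y, hy, rfl⟩
    z_mul := fun x hx y hy => by
      rw [hpmul (H.E_le_S hx) (H.E_le_S hy), U.z_mul _ (hpE hx) _ (hpE hy)]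
    z_inj := fun x hx y hy h =>
      hpinj (H.E_le_S hx) (H.E_le_S hy) (U.z_inj (hpE hx) (hpE hy) h)
    z_fix := fun x hx => by
      have := U.z_fix _ (hpE hx)
      rwa [hq] at this
    z_surj := fun c hc => by
      obtain ⟨x, hx, rfl⟩ := U.z_surj c (by rwa [hq])
      obtain ⟨y, hy, rfl⟩ := hpsurj x (Md.S.Z_le hx)
      exact ⟨y, (hpZ hy).1 hx, rfl⟩
    z_sq := fun x hx => by rw [hpmul hx hx, U.z_sq _ (hpT hx), hq]
    z_comm := fun x hx y hy => by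
      have h := U.z_comm (hpT hx) (hpT hy)
      rw [hq] at h
      rw [← h, hp ⟨x, hx⟩, hp ⟨y, hy⟩,
        hp ⟨x * y * x⁻¹ * y⁻¹, mul_mem (mul_mem (mul_mem hx hy) (inv_mem hx)) (inv_mem hy)⟩,
        ← Subgroup.coe_inv, ← Subgroup.coe_inv, ← Subgroup.coe_mul, ← Subgroup.coe_mul,
        ← Subgroup.coe_mul, ← map_inv, ← map_inv, ← map_mul, ← map_mul, ← map_mul]
      rfl
    scalar := fun g hg => by
      obtain ⟨q, hqT, k, hk, hgqk⟩ := Md.exists_mul_of_tor hg.1 hg.2.2.2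
      obtain ⟨m, hm0, hm⟩ := U.exists_scalar hcard hna hgen hk
      have hqk := hscalar hqT (Md.S.setup.conj_mem k hk.1) hm
      refine ⟨m, hm0, fun x hx => ?_, fun e he => ?_⟩
      · rw [hconj hg.1 hg.2.2.2 hx, hgqk]
        exact (hqk _ (hpT hx)).2
      · rw [hconj hg.1 hg.2.2.2 (H.E_le_S he), hgqk, ← hq]
        exact U.z_of_scalar (fun c hc => (hqk c hc).1) (fun c hc => (hqk c hc).2) (hpE he)
    torus := fun m hm0 hm => by
      obtain ⟨k, hk, hkm⟩ := U.exists_k m hm0 (by rwa [hq])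
      obtain ⟨y, hy, hym, -⟩ := hlift k m (Md.S.K_le hk) hkm
      exact ⟨y, hy, hym⟩
    circle := by
      obtain ⟨c, hc, hc1, hcZ⟩ := Md.S.exists_centralizes_Z hcard hna
      obtain ⟨m, -, hcm⟩ := U.exists_scalar_of_centralizes hc hcZ
      obtain ⟨y, hy, hym, hyE⟩ := hlift c m hc hcm
      refine ⟨y, hy, m, ?_, ?_, hym, hyE hcZ⟩
      · intro h1
        obtain ⟨x, hx, hx1⟩ := U.w_surj 1
        have hxZ := Md.S.fpf_of_centralizes_Z hcard hna hc hcZ hc1 hx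
          ((U.w_eq (Md.S.setup.conj_mem c hc.1 x hx) hx).1 (by rw [hcm x hx, h1, one_mul]))
        rw [(U.w_Z x hx).2 hxZ] at hx1
        exact zero_ne_one hx1
      · obtain ⟨x, hx, hx1⟩ := U.w_surj 1
        have h := U.z_of_scalar (Md.S.setup.conj_mem c hc.1) hcm (U.sq_mem hx)
        rw [hcZ _ (U.sq_mem hx), mul_inv_cancel_right, U.z_sq x hx, hx1, one_pow, mul_one, hq] at h
        exact h.symm
    semi := fun α => by
      obtain ⟨c, σ, hw, hz⟩ := U.exists_semilinear (tr α).toMonoidHom (tr α).injective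
      refine ⟨c, σ, c.ne_zero, fun x => ?_, fun x hx => ?_⟩
      · have h := hw (Md.pr x)
        rw [MulEquiv.coe_toMonoidHom, htr] at h
        rw [hp, hp]; exact h
      · have h := hz (Md.pr x) ((Md.mem_Z x).2 hx)
        rw [MulEquiv.coe_toMonoidHom, htr, hq] at h
        rw [hp, hp]; exact h
    semi_two := fun W _ hW al hal => by
      have hal' : ∀ g h x, (((tr (al (g * h)) x)⁻¹ * tr (al g) (tr (al h) x) : ↥Md.T) : C.LQ v) ∈
          Md.S.Z := fun g h x => by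
        obtain ⟨x, rfl⟩ := Md.pr.surjective x
        rw [htr, htr, htr, ← map_inv, ← map_mul]
        exact (Md.mem_Z _).2 (hal g h x)
      obtain ⟨c, σ, hc0, hw, hz, hc, hinj⟩ := U.exists_aut_hom hW (fun g => tr (al g)) hal'
      refine ⟨c, σ, hc0, fun g x => ?_, fun g x hx => ?_, hc, hinj, fun g h => ?_, fun hE => ?_⟩
      · have := hw g (Md.pr x)
        rw [htr] at this
        rw [hp, hp]; exact this
      · have := hz g (Md.pr x) ((Md.mem_Z x).2 hx)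
        rw [htr, hq] at this
        rw [hp, hp]; exact this
      · exact Recog.RankOneSuzuki.ringAut_comm _ _
      · have hlt := Md.S.aut_two_card_range hcard hna hW (fun g => tr (al g)) hal'
        rw [hq] at hlt
        refine lt_of_le_of_lt ?_ hlt
        let f : (↥Md.S.Z → C.LQ v) → (↥E → C.LQ v) := fun φ e => φ ⟨p e, hpE e.2⟩
        refine le_trans (le_of_eq ?_) (Finite.card_image_le (f := f)
          (s := Set.range fun g => fun z : Md.S.Z => ((tr (al g) ⟨z, Md.S.Z_le z.2⟩ : ↥Md.T) : C.LQ v)))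
        rw [← Set.range_comp]
        have hf : (f ∘ fun g => fun z : Md.S.Z => ((tr (al g) ⟨z, Md.S.Z_le z.2⟩ : ↥Md.T) : C.LQ v)) =
            (fun φ : ↥E → G => fun e => p (φ e)) ∘
              fun g => fun e : ↥E => ((al g ⟨e, hE e e.2⟩ : ↥(P ⊓ C.L v)) : G) := by
          funext g e
          show ((tr (al g) ⟨p e, _⟩ : ↥Md.T) : C.LQ v) = p _
          rw [hp, ← htr]
          exact congrArg (fun u => ((tr (al g) u : ↥Md.T) : C.LQ v)) (Subtype.ext (hp ⟨e, hE e e.2⟩))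
        rw [hf, Set.range_comp]
        refine (Nat.card_image_of_injOn ?_).symm
        rintro _ ⟨g, rfl⟩ _ ⟨g', rfl⟩ h
        funext e
        exact hpinj (al g ⟨e, hE e e.2⟩).2 (al g' ⟨e, hE e e.2⟩).2 (congrFun h e) }⟩

end Typ

end Ctx

end CfsgLib.Criterion
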