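import Cfsg.Agent.Criterion.TypeU3Act

/-!
# The strong embedding criterion: the decomposition of the translations for `Q = q ^ 3`

`T₂ = K ⟨v⟩` with `K = S Y`, `Y` abelian, centralising `S`, meeting it in `E` and mapping onto the
shifts of `v`; the squares of `Y` are a fixed multiple of the shifts; the torus keeps all this.
-/

set_option autoImplicit false
set_option linter.style.haveILetI false
set_option linter.unusedSectionVars false

namespace CfsgLib.Criterion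

open Subgroup CfsgLib.Invol CfsgLib.Bender

universe u

variable {G : Type u} [Group G] [Finite G]

namespace Ctx

variable {C : Ctx G}

namespace Cfg3

variable {v : G} {a b : C.Pt} {D E P : Subgroup G} (X : C.Cfg3 v a b D E P)

local notation "S" => P ⊓ C.L v
local notation "q" => Nat.card E

/-- An element acting as the scalar `m` on `S / E` and keeping the decomposition `T₂ = K ⟨v⟩`,
`K = S Y`: an element of the two-point group times one trivial on `S / E`. -/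
structure Scal (K Y : Subgroup G) (m : X.co.K) (j : G) : Prop where
  fix : j • a = a
  comm : Commute j v
  conj_E : ∀ e ∈ E, j * e * j⁻¹ ∈ E
  conj_S : ∀ s ∈ S, j * s * j⁻¹ ∈ S
  conj_T₂ : ∀ x ∈ X.T₂, j * x * j⁻¹ ∈ X.T₂
  conj_K : ∀ x ∈ K, j * x * j⁻¹ ∈ K
  conj_Y : ∀ y ∈ Y, j * y * j⁻¹ ∈ Y
  w_conj : ∀ s ∈ S, X.co.w (j * s * j⁻¹) = m * X.co.w s
  z_conj : ∀ e ∈ E, X.co.z (j * e * j⁻¹) = m ^ (q + 1) * X.co.z e
  tor : ∃ k ∈ C.Tor v a b S, k⁻¹ * j ∈ X.M₂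

/-- The shift of `v` under an element, in coordinates. -/
def sh (g : G) : X.co.K := X.co.z (g * v * g⁻¹ * v)

/-- **The decomposition**: `T₂ = K ⟨v⟩`, `K = S Y`. -/
structure Dec where
  /-- The complement of `v`. -/
  K : Subgroup G
  /-- The part centralising `S`. -/
  Y : Subgroup G
  K_le : K ≤ X.T₂
  S_le : ∀ s ∈ S, s ∈ K
  v_not : v ∉ K
  cover : ∀ x ∈ X.T₂, x ∈ K ∨ x * v ∈ K
  normal : ∀ t ∈ X.T, ∀ x ∈ K, t * x * t⁻¹ ∈ K
  card_K : Nat.card K = q ^ 4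
  Y_le : Y ≤ K
  E_le : E ≤ Y
  mul : ∀ x ∈ K, ∃ s ∈ S, ∃ y ∈ Y, s * y = x
  Y_S : ∀ y ∈ Y, ∀ s ∈ S, Commute y s
  Y_comm : ∀ y ∈ Y, ∀ y' ∈ Y, Commute y y'
  Y_inf : ∀ y ∈ Y, y ∈ S → y ∈ E
  Y_fix : ∀ y ∈ Y, Commute y v → y ∈ E
  Y_surj : ∀ e ∈ E, ∃ y ∈ Y, y * v * y⁻¹ * v = e
  /-- The squares of `Y` over the shifts. -/
  κ : X.co.K
  κ_fix : κ ^ q = κ
  Y_sq : ∀ y ∈ Y, X.co.z (y * y) = κ * X.sh y
  scalar : ∀ m : X.co.K, m ≠ 0 → m ^ q = m → ∃ j, X.Scal K Y m j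
  circle : ∃ j, ∃ m : X.co.K, m ≠ 1 ∧ m ^ (q + 1) = 1 ∧ X.Scal K Y m j ∧ ∀ e ∈ E, j * e * j⁻¹ = e

end Cfg3

end Ctx

end CfsgLib.Criterion
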