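import Cfsg.Agent.Criterion.TypeU3Lay
import Cfsg.Agent.Criterion.TypeU3Dec
import Cfsg.Agent.Criterion.TypeU3Coord

/-!
# The strong embedding criterion: the first layer from the decomposition

`Y` is the centraliser of `S` in `K`, so `T` normalises it: it is the first layer of translations.
-/

set_option autoImplicit false
set_option linter.style.haveILetI false
set_option linter.unusedSectionVars false

namespace CfsgLib.Criterion

open Subgroup CfsgLib.Invol CfsgLib.Bender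

universe u

variable {G : Type u} [Group G] [Finite G]

namespace Ctx

variable {C : Ctx G}

/-- The configuration exists. -/
theorem exists_cfg3 {v : G} {a b : C.Pt} {D E : Subgroup G} (hv : C.Bad v)
    (hfaith : ∀ g : G, (∀ c : C.Pt, g • c = c) → g = 1)
    (hp : ∀ u : G, C.Bad u → PairRank ↥(C.L u)) (hM : C.MaxPair v a b D) (hE : C.IsE v a E)
    (hQ : C.qn v a = Nat.card E ^ 3)
    (hsmall : ∀ g ∈ D, (∀ c : C.Pt, v • c = c → g • c = c) → g = 1 ∨ g = v) :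
    ∃ E' P : Subgroup G, Nat.card E' = Nat.card E ∧ Nonempty (C.Cfg3 v a b D E' P) := by
  obtain ⟨E', P, H, hcard⟩ := C.exists_typ hv hfaith hp hM hE
  have hQ' : C.qn v a = Nat.card E' ^ 3 := by rw [hcard, hQ]
  obtain ⟨co⟩ := H.exists_coord3 hQ'
  obtain ⟨T, hT, hPT, hTfix, htr, hTc⟩ := H.exists_shift_group
  exact ⟨E', P, hcard, ⟨⟨H, hQ', hsmall, co, T, hT, hPT, hTfix, htr, hTc⟩⟩⟩

namespace Cfg3

variable {v : G} {a b : C.Pt} {D E P : Subgroup G} (X : C.Cfg3 v a b D E P)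

local notation "S" => P ⊓ C.L v
local notation "q" => Nat.card E

include X

/-- `S` has centre `E`. -/
theorem mem_E_of_comm {s : G} (hs : s ∈ S) (h : ∀ s' ∈ S, Commute s s') : s ∈ E := by
  by_contra hsE
  have hw0 : X.co.w s ≠ 0 := fun h0 => hsE ((X.co.w_E s hs).1 h0)
  obtain ⟨x, hx⟩ := X.exists_trace (one_pow q : (1 : X.co.K) ^ q = 1) hw0
  obtain ⟨s', hs', rfl⟩ := X.co.w_surj x
  rw [← X.co.z_comm s hs s' hs', (h s' hs').eq, mul_inv_cancel_right, mul_inv_cancel, X.z_one] at hx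
  exact zero_ne_one hx

namespace Dec

variable {X} (Dc : X.Dec)

include Dc

/-- `Y` is the centraliser of `S` in `K`. -/
theorem mem_Y_of_comm {x : G} (hx : x ∈ Dc.K) (h : ∀ s ∈ S, Commute x s) : x ∈ Dc.Y := by
  obtain ⟨s, hs, y, hy, rfl⟩ := Dc.mul x hx
  refine mul_mem (Dc.E_le (X.mem_E_of_comm hs fun r hr => ?_)) hy
  have := (h r hr).mul_left (Dc.Y_S y hy r hr).inv_left
  rwa [mul_inv_cancel_right] at this

/-- `T` normalises `Y`. -/
theorem conj_Y {t : G} (ht : t ∈ X.T) {y : G} (hy : y ∈ Dc.Y) : t * y * t⁻¹ ∈ Dc.Y := by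
  refine Dc.mem_Y_of_comm (Dc.normal t ht y (Dc.Y_le hy)) fun s hs => ?_
  have h := (Commute.conj_iff t).2 (Dc.Y_S y hy _ (X.conj_S_T (inv_mem ht) hs))
  rwa [show t * (t⁻¹ * s * t⁻¹⁻¹) * t⁻¹ = s by group] at h

theorem del_eq {y : G} (hy : y ∈ Dc.Y) : Ctx.del v y = y * v * y⁻¹ * v := by
  have he : y * v * y⁻¹ * v ∈ E := (X.memT y (X.T₂_le (Dc.K_le (Dc.Y_le hy)))).2.2
  have hvi : v⁻¹ = v := inv_eq_of_mul_eq_one_right X.vv
  calc Ctx.del v y = v * (y * v * y⁻¹ * v) * v⁻¹ := by unfold Ctx.del; rw [hvi]; simp [mul_assoc, X.vv]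
    _ = y * v * y⁻¹ * v := by rw [← (X.typ.Ev he).eq, mul_inv_cancel_right]

end Dec

/-- **The first layer.** -/
theorem exists_lay3 (Dc : X.Dec) : ∃ L : C.Lay3 v a b D E P, L.toCfg3 = X := by
  refine ⟨{ X with
    R := Dc.Y
    κ := Dc.κ
    E_le_R := Dc.E_le
    R_le_T := fun y hy => X.T₂_le (Dc.K_le (Dc.Y_le hy))
    v_not_R := fun h => Dc.v_not (Dc.Y_le h)
    R_S := Dc.Y_S
    R_R := Dc.Y_comm
    del_mem := fun y hy => by
      rw [Dc.del_eq hy]; exact (X.memT y (X.T₂_le (Dc.K_le (Dc.Y_le hy)))).2.2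
    del_surj := fun e he => by
      obtain ⟨y, hy, h⟩ := Dc.Y_surj e he
      exact ⟨y, hy, by rw [Dc.del_eq hy, h]⟩
    del_ker := fun y hy h => Dc.Y_fix y hy h.symm
    sq_mem_E := fun y hy => X.sq_T₂ (Dc.K_le (Dc.Y_le hy))
    sq_R := fun y hy => by rw [Dc.del_eq hy]; exact Dc.Y_sq y hy
    κ_fix := Dc.κ_fix
    T_S := fun g hg s hs => X.conj_S_T hg hs
    T_R := fun g hg y hy => Dc.conj_Y hg hy
    T_mul := fun g hg => ?_
    tor := fun ν hν hνq => ?_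
    circ := ?_ }, rfl⟩
  · obtain ⟨x, hx, d, hd, rfl⟩ := X.exists_mul_T hg
    rcases Dc.cover x hx with h | h
    · obtain ⟨s, hs, y, hy, rfl⟩ := Dc.mul x h
      exact ⟨s, hs, y, hy, d, hd, rfl⟩
    · obtain ⟨s, hs, y, hy, e⟩ := Dc.mul _ h
      refine ⟨s, hs, y, hy, v * d, mul_mem X.typ.maxPair.mem hd, ?_⟩
      rw [← mul_assoc, e, X.mul_v_mul_v]
  · obtain ⟨j, hj⟩ := Dc.scalar ν hν hνq
    refine ⟨j, hj.fix, hj.comm, fun s hs => ⟨hj.conj_S s hs, hj.w_conj s hs⟩, hj.conj_Y,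
      fun e he => ⟨hj.conj_E e he, ?_⟩⟩
    rw [hj.z_conj e he, pow_succ, hνq, ← pow_two]
  · obtain ⟨j, m, hm1, hm, hj, hjE⟩ := Dc.circle
    exact ⟨j, m, hm1, hm, hj.fix, hj.comm, fun s hs => ⟨hj.conj_S s hs, hj.w_conj s hs⟩, hj.conj_Y,
      hjE⟩

end Cfg3

end Ctx

end CfsgLib.Criterion
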