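import Cfsg.Agent.Criterion.Count

/-!
# The strong embedding criterion: two-point stabilisers of largest order

If the Sylow 2-group of the stabiliser of two points fixed by the bad involution `v` is as large as
possible and some member crosses `v`, then `q Q` divides `n - 1`; if moreover `Q = q`, then
`n = q ^ 2 + 1` and the local group of `v` has no odd core acting.
-/

set_option autoImplicit false
set_option linter.style.haveILetI false
set_option linter.unusedSectionVars false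

namespace CfsgLib.Criterion

open Subgroup CfsgLib.Invol CfsgLib.Bender

universe u

variable {G : Type u} [Group G] [Finite G]

/-- If all orbit lengths are multiples of `N`, so is the size of the set. -/
theorem dvd_card_of_orbits {K : Type*} [Group K] {X : Type*} [Finite X] [MulAction K X] {N : ℕ}
    (h : ∀ x : X, N ∣ Nat.card (MulAction.orbit K x)) : N ∣ Nat.card X := by
  classical
  haveI := Fintype.ofFinite (MulAction.orbitRel.Quotient K X)
  rw [Nat.card_congr (MulAction.selfEquivSigmaOrbits K X), Nat.card_sigma]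
  exact Finset.dvd_sum fun o _ => h _

namespace Ctx

variable (C : Ctx G)

/-- Two points and a bad involution central in a 2-group fixing both, of largest possible order. -/
structure MaxPair (v : G) (a b : C.Pt) (D : Subgroup G) : Prop where
  ne : a ≠ b
  two : IsPGroup 2 D
  mem : v ∈ D
  fix : ∀ g ∈ D, g • a = a ∧ g • b = b ∧ Commute g v
  max : ∀ c d : C.Pt, c ≠ d → ∀ P : Subgroup G, IsPGroup 2 P →
    (∀ g ∈ P, g • c = c ∧ g • d = d) → Nat.card P ≤ Nat.card D

/-- If some involution fixes two points such pairs exist. -/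
theorem exists_maxPair {u : G} (hu : C.Bad u) :
    ∃ (v : G) (a b : C.Pt) (D : Subgroup G), C.Bad v ∧ v • a = a ∧ v • b = b ∧ C.MaxPair v a b D := by
  classical
  haveI : Fact (Nat.Prime 2) := ⟨Nat.prime_two⟩
  let S : Type u := {t : C.Pt × C.Pt × Subgroup G // t.1 ≠ t.2.1 ∧ IsPGroup 2 t.2.2 ∧
    ∀ g ∈ t.2.2, g • t.1 = t.1 ∧ g • t.2.1 = t.2.1}
  obtain ⟨hu2, a₀, b₀, hne₀, ha₀, hb₀⟩ := hu
  let t₀ : S := ⟨(a₀, b₀, zpowers u), hne₀, IsPGroup.of_card (n := 1) (by
    rw [Nat.card_zpowers, hu2, pow_one]), fun g hg => ⟨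
      MulAction.mem_stabilizer_iff.1 (zpowers_le.2 (MulAction.mem_stabilizer_iff.2 ha₀) hg),
      MulAction.mem_stabilizer_iff.1 (zpowers_le.2 (MulAction.mem_stabilizer_iff.2 hb₀) hg)⟩⟩
  haveI : Finite (Subgroup G) := Finite.of_injective (fun H : Subgroup G => (H : Set G)) SetLike.coe_injective
  haveI : Nonempty S := ⟨t₀⟩
  obtain ⟨⟨⟨a, b, D⟩, hab, hD, hfix⟩, hmax⟩ := Finite.exists_max (fun t : S => Nat.card t.1.2.2)
  have h2 : 2 ≤ Nat.card D := by
    refine le_trans ?_ (hmax t₀)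
    show 2 ≤ Nat.card (zpowers u)
    rw [Nat.card_zpowers, hu2]
  haveI : Nontrivial ↥D := Finite.one_lt_card_iff_nontrivial.1 h2
  haveI := hD.center_nontrivial
  obtain ⟨i, hi⟩ := exists_prime_orderOf_dvd_card' (G := ↥(Subgroup.center ↥D)) 2
    (by
      obtain ⟨n, hn⟩ := IsPGroup.iff_card.1 (hD.to_subgroup (Subgroup.center ↥D))
      rcases Nat.eq_zero_or_pos n with rfl | h
      · exact absurd hn (by rw [pow_zero]; exact (Finite.one_lt_card_iff_nontrivial.2 inferInstance).ne')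
      · rw [hn]; exact dvd_pow_self 2 h.ne')
  have hv : orderOf ((i : ↥D) : G) = 2 := by rw [Subgroup.orderOf_coe, Subgroup.orderOf_coe, hi]
  obtain ⟨hva, hvb⟩ := hfix _ (i : ↥D).2
  refine ⟨_, a, b, D, ⟨hv, a, b, hab, hva, hvb⟩, hva, hvb,
    ⟨hab, hD, (i : ↥D).2, fun g hg => ⟨(hfix g hg).1, (hfix g hg).2, ?_⟩,
      fun c d hcd P hP hPf => hmax ⟨(c, d, P), hcd, hP, hPf⟩⟩⟩
  exact congrArg Subtype.val (mem_center_iff.1 i.2 ⟨g, hg⟩)

/-- With a crossing member `v` is conjugate at `a` to its products with the members there. -/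
theorem Bad.exists_conj_mul {v : G} (hv : C.Bad v) (hf : ∀ v : G, orderOf v = 2 → ∃ c : C.Pt, v • c ≠ c)
    {a : C.Pt} (ha : v • a = a) {s : G} (hs : s ∈ C.Cross v a) {x : G} (hx : x ∈ C.Ea v a) :
    ∃ h : G, h • a = a ∧ h * v * h⁻¹ = v * x := by
  obtain ⟨hsa, hiZ⟩ := hs
  have hs2 := C.orderOf_Z hsa.1
  have hev : Even (orderOf (s * v)) := even_orderOf_mul_of_not_isConj hs2 hv.1
    fun h => hv.not_mem_Z C (IsConj.trans hsa.1 h)
  obtain ⟨hi, his, hiv⟩ := half_props hs2 hv.1 hev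
  set l := orderOf (s * v) / 2
  set i := (s * v) ^ l with hidef
  have hia : i • a = a := C.smul_eq_of_commute_Z hsa.1 his.symm hsa.2
  have hiE : i ∈ C.Ea v a := ⟨⟨hiZ, hia⟩, hiv⟩
  have hli : (v * s) ^ l = i := by
    rw [← mul_inv_rev_invol hs2 hv.1, inv_pow, ← hidef, inv_eq_self hi]
  obtain ⟨g, hg, hga, hgi, hgvi⟩ := hv.exists_carry C ⟨hiZ, hiv⟩ hia hx
  rcases Nat.even_or_odd l with ⟨t, ht⟩ | ⟨t, ht⟩
  · have hh : (v * s) ^ (-(t : ℤ)) * v * ((v * s) ^ (-(t : ℤ)))⁻¹ = v * i := by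
      rw [zpow_conj_invol (mul_self_eq_one hv.1) (conj_mul_inv hv.1 hs2), ← hli, ht, ← zpow_natCast]
      congr 2
      push_cast
      ring
    refine ⟨g * (v * s) ^ (-(t : ℤ)), ?_, ?_⟩
    · rw [mul_smul, MulAction.mem_stabilizer_iff.1 (zpow_mem (show v * s ∈ MulAction.stabilizer G a by
        rw [MulAction.mem_stabilizer_iff, mul_smul, hsa.2, ha]) _), hga]
    · rw [← hgvi, ← hh]
      group
  · refine absurd ?_ ((hv.mul_bad C (hf v hv.1) ⟨hiZ, hiv⟩).not_mem_Z C)
    rw [← hli, ht, ← zpow_natCast, show ((2 * t + 1 : ℕ) : ℤ) = 2 * (t : ℤ) + 1 by push_cast; ring,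
      mul_zpow_odd hv.1 hs2]
    exact C.conj_mem_Z hsa.1 _

/-- The group generated by the members at `a` centralising `v` lies in the local group and fixes `a`. -/
theorem closure_Ea {v : G} {a : C.Pt} {k : G} (hk : k ∈ closure (C.Ea v a)) :
    k ∈ C.L v ∧ k • a = a := by
  induction hk using closure_induction with
  | mem k hk => exact ⟨C.mem_L_of_Ea hk, hk.1.2⟩
  | one => exact ⟨one_mem _, one_smul _ a⟩
  | mul k l _ _ h h' => exact ⟨mul_mem h.1 h'.1, by rw [mul_smul, h'.2, h.2]⟩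
  | inv k _ h => exact ⟨inv_mem h.1, by rw [inv_smul_eq_iff, h.2]⟩

/-- A 2-group generated by members at `a` is no larger than the elementary group. -/
theorem IsE.card_two_le {v : G} {a : C.Pt} {E : Subgroup G} (hE : C.IsE v a E) (hv : C.Bad v)
    (hp : PairRank ↥(C.L v)) (ha : v • a = a) {P : Subgroup G} (hP : IsPGroup 2 P)
    (hPK : P ≤ closure (C.Ea v a)) : Nat.card P ≤ Nat.card E := by
  have hnor : ∀ k ∈ closure (C.Ea v a), ∀ o ∈ C.Om v, k * o * k⁻¹ ∈ C.Om v := fun k hk o ho =>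
    C.conj_mem_Om (C.commute_of_mem_L (C.closure_Ea hk).1) ho (C.closure_Ea hk).1
  have key : ∀ k ∈ closure (C.Ea v a), ∃ e ∈ E, k * e ∈ C.Om v := by
    intro k hk
    induction hk using closure_induction with
    | mem k hk =>
      obtain ⟨e, he, hne, hodd⟩ := hE.cover k hk
      exact ⟨e, he, (hv.odd_iff C hp ha hk (hE.mem e he hne)).1 hodd⟩
    | one => exact ⟨1, one_mem _, by rw [one_mul]; exact one_mem _⟩
    | mul k k' hk hk' h h' =>
      obtain ⟨e, he, h⟩ := h
      obtain ⟨e', he', h'⟩ := h'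
      refine ⟨e' * e, mul_mem he' he, ?_⟩
      have := mul_mem (hnor k hk _ h') h
      rwa [show k * (k' * e') * k⁻¹ * (k * e) = k * k' * (e' * e) by group] at this
    | inv k hk h =>
      obtain ⟨e, he, h⟩ := h
      refine ⟨e, he, ?_⟩
      have := hnor k⁻¹ (inv_mem hk) _ (inv_mem h)
      rwa [mul_inv_rev, inv_eq_of_mul_eq_one_right (hE.mul_self C he), inv_inv,
        show k⁻¹ * (e * k⁻¹) * k = k⁻¹ * e by group] at this
  choose f hfE hfO using fun p : P => key p.1 (hPK p.2)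
  refine Nat.card_le_card_of_injective (fun p => (⟨f p, hfE p⟩ : E)) fun p q h => Subtype.ext ?_
  have h1 : f p = f q := congrArg Subtype.val h
  have hm : (p : G) * (q : G)⁻¹ ∈ C.Om v := by
    have := mul_mem (hfO p) (inv_mem (hfO q))
    rwa [h1, mul_inv_rev, ← mul_assoc, mul_inv_cancel_right] at this
  obtain ⟨i, hi⟩ := hP (p * q⁻¹)
  exact mul_inv_eq_one.1 (Consumers.eq_one_of_two_of_odd
    ((hv.odd_Om C).of_dvd_nat (orderOf_dvd_natCard _ hm)) (congrArg Subtype.val hi))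

/-- The 2-groups of largest order generated by members at `a` are conjugate. -/
theorem IsE.exists_conj_max {v : G} {a : C.Pt} {E : Subgroup G} (hE : C.IsE v a E) (hv : C.Bad v)
    (hp : PairRank ↥(C.L v)) (ha : v • a = a) {P P' : Subgroup G} (hP : IsPGroup 2 P)
    (hPK : P ≤ closure (C.Ea v a)) (hP' : IsPGroup 2 P') (hP'K : P' ≤ closure (C.Ea v a))
    (hc : Nat.card P = Nat.card E) (hc' : Nat.card P' = Nat.card E) :
    ∃ k ∈ closure (C.Ea v a), ∀ g : G, g ∈ P → k * g * k⁻¹ ∈ P' := by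
  haveI : Fact (Nat.Prime 2) := ⟨Nat.prime_two⟩
  set K := closure (C.Ea v a)
  have hmax : ∀ {P : Subgroup G}, IsPGroup 2 P → P ≤ K → Nat.card P = Nat.card E →
      ∃ S : Sylow 2 ↥K, (S : Subgroup ↥K) = P.subgroupOf K := by
    intro P hP hPK hc
    obtain ⟨S, hS⟩ := IsPGroup.exists_le_sylow (p := 2) (hP.of_equiv (subgroupOfEquivOfLe hPK).symm)
    refine ⟨S, (eq_of_le_of_card_ge hS ?_).symm⟩
    rw [Nat.card_congr (subgroupOfEquivOfLe hPK).toEquiv, hc,
      ← card_map_of_injective K.subtype_injective (K := (S : Subgroup ↥K))]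
    exact hE.card_two_le C hv hp ha (S.2.map _) (map_subtype_le _)
  obtain ⟨S, hS⟩ := hmax hP hPK hc
  obtain ⟨S', hS'⟩ := hmax hP' hP'K hc'
  obtain ⟨k, hk⟩ := MulAction.exists_smul_eq ↥K S S'
  refine ⟨k, k.2, fun g hg => ?_⟩
  have h1 : k * ⟨g, hPK hg⟩ * k⁻¹ ∈ (S' : Subgroup ↥K) := by
    rw [← hk, Sylow.coe_subgroup_smul]
    exact Subgroup.smul_mem_pointwise_smul _ (MulAut.conj k) _ (by rw [hS]; exact hg)
  rw [hS', mem_subgroupOf] at h1
  exact h1

/-- **The congruence**: `q Q` divides `n - 1`. -/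
theorem Bad.dvd_of_cross {v : G} (hv : C.Bad v) (hf : ∀ v : G, orderOf v = 2 → ∃ c : C.Pt, v • c ≠ c)
    (hp : PairRank ↥(C.L v)) {a b : C.Pt} {D : Subgroup G} (hM : C.MaxPair v a b D)
    {E : Subgroup G} (hE : C.IsE v a E) (hne : (C.Cross v a).Nonempty) :
    Nat.card E * C.qn v a ∣ Nat.card C.Pt - 1 := by
  haveI : Fact (Nat.Prime 2) := ⟨Nat.prime_two⟩
  obtain ⟨hva, hvb, -⟩ := hM.fix v hM.mem
  obtain ⟨s, hs⟩ := hne
  obtain ⟨S, hS⟩ := hv.exists_reg C hp hva
  set K := closure (C.Ea v a) with hK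
  have hEK : E ≤ K := fun e he => by
    by_cases h : e = 1
    · rw [h]; exact one_mem _
    · exact subset_closure (hE.mem e he h)
  have hEv : ∀ e ∈ E, Commute e v := fun e he => C.commute_of_mem_L (C.closure_Ea (hEK he)).1
  set Cv := centralizer ({v} : Set G) ⊓ MulAction.stabilizer G a with hCv
  -- a Sylow 2-group of the centraliser through `E` normalises it
  have hECv : E ≤ Cv := fun e he => ⟨mem_centralizer_singleton_iff.2 (hEv e he).eq, hE.le_stab C he⟩
  obtain ⟨R, hR⟩ := IsPGroup.exists_le_sylow (p := 2) ((hE.isPGroup C).of_equiv (subgroupOfEquivOfLe hECv).symm)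
  set R' := (R : Subgroup ↥Cv).map Cv.subtype with hR'
  have hR'C : R' ≤ Cv := map_subtype_le _
  have hER : E ≤ R' := fun e he => ⟨⟨e, hECv he⟩, hR (show (⟨e, hECv he⟩ : ↥Cv) ∈ E.subgroupOf Cv from he), rfl⟩
  have hCK : ∀ g ∈ Cv, ∀ k ∈ K, g * k * g⁻¹ ∈ K := fun g hg k hk => by
    induction hk using closure_induction with
    | mem k hk =>
      refine subset_closure ?_
      have := C.conj_mem_Ea (g := g) hk
      rwa [show g • a = a from hg.2,
        show g * v * g⁻¹ = v from mul_inv_eq_iff_eq_mul.2 (mem_centralizer_singleton_iff.1 hg.1)] at this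
    | one => rw [mul_one, mul_inv_cancel]; exact one_mem _
    | mul k l _ _ h h' =>
      rw [show g * (k * l) * g⁻¹ = g * k * g⁻¹ * (g * l * g⁻¹) by group]; exact mul_mem h h'
    | inv k _ h => rw [show g * k⁻¹ * g⁻¹ = (g * k * g⁻¹)⁻¹ by group]; exact inv_mem h
  have hRK : R' ⊓ K = E := (eq_of_le_of_card_ge (le_inf hER hEK)
    (hE.card_two_le C hv hp hva ((R.2.map _).to_le inf_le_left) inf_le_right)).symm
  have hRE : ∀ r ∈ R', ∀ e ∈ E, r * e * r⁻¹ ∈ E := fun r hr e he => by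
    rw [← hRK]
    exact mem_inf.2 ⟨mul_mem (mul_mem hr (hER he)) (inv_mem hr), hCK r (hR'C hr) e (hEK he)⟩
  -- `Q |D|` divides the order of that Sylow group
  have hdiv : C.qn v a * Nat.card D ∣ Nat.card R' := by
    obtain ⟨l, hl⟩ := IsPGroup.iff_card.1 hS.two
    obtain ⟨k, hk⟩ := IsPGroup.iff_card.1 hM.two
    have h1 : C.qn v a * Nat.card D ∣ Nat.card Cv := by
      rw [← card_orbit_sub Cv b]
      refine mul_dvd_mul (dvd_of_eq ?_) (card_dvd_of_le fun g hg =>
        ⟨⟨mem_centralizer_singleton_iff.2 (hM.fix g hg).2.2.eq, (hM.fix g hg).1⟩, (hM.fix g hg).2.1⟩)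
      refine Nat.card_congr (Equiv.subtypeEquivRight fun c => ⟨fun ⟨hc, hca⟩ => ?_, ?_⟩)
      · obtain ⟨t, ht, e⟩ := hS.trans b c hvb hM.ne.symm hc hca
        exact ⟨t, ⟨mem_centralizer_singleton_iff.2 (C.commute_of_mem_L (hS.le ht)).eq, hS.fix t ht⟩, e⟩
      · rintro ⟨g, ⟨hg, hga⟩, rfl⟩
        exact ⟨by rw [smul_smul, ← mem_centralizer_singleton_iff.1 hg, mul_smul, hvb],
          fun h => hM.ne (smul_left_cancel g (h.trans hga.symm)).symm⟩
    rw [← hv.card_reg C hva hS, hl, hk, ← pow_add] at h1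
    rw [hR', card_map_of_injective Cv.subtype_injective, ← hv.card_reg C hva hS, hl, hk, ← pow_add,
      R.card_eq_multiplicity]
    exact Nat.pow_dvd_pow 2 ((Nat.prime_two.pow_dvd_iff_le_factorization Nat.card_pos.ne').1 h1)
  -- the group moving `v` over the coset `v E`
  let M : Subgroup G :=
    { carrier := {g | g • a = a ∧ (∀ e : G, e ∈ E ↔ g * e * g⁻¹ ∈ E) ∧ v⁻¹ * (g * v * g⁻¹) ∈ E}
      one_mem' := ⟨one_smul _ a, fun e => by simp, by simp⟩
      mul_mem' := by
        rintro g h ⟨hga, hgE, hgv⟩ ⟨hha, hhE, hhv⟩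
        refine ⟨by rw [mul_smul, hha, hga], fun e => ?_, ?_⟩
        · rw [hhE e, hgE]
          simp [mul_assoc]
        · have := mul_mem hgv ((hgE _).1 hhv)
          rwa [show v⁻¹ * (g * v * g⁻¹) * (g * (v⁻¹ * (h * v * h⁻¹)) * g⁻¹) =
            v⁻¹ * (g * h * v * (g * h)⁻¹) by group] at this
      inv_mem' := by
        rintro g ⟨hga, hgE, hgv⟩
        refine ⟨by rw [inv_smul_eq_iff, hga], fun e => ?_, ?_⟩
        · rw [hgE (g⁻¹ * e * g⁻¹⁻¹)]
          simp [mul_assoc]
        · rw [hgE]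
          have := inv_mem hgv
          rwa [show (v⁻¹ * (g * v * g⁻¹))⁻¹ = g * (v⁻¹ * (g⁻¹ * v * g⁻¹⁻¹)) * g⁻¹ by group] at this }
  have hRM : R' ≤ M ⊓ centralizer {v} := fun r hr => by
    refine ⟨⟨(hR'C hr).2, fun e => ⟨fun he => hRE r hr e he, fun he => ?_⟩, ?_⟩, (hR'C hr).1⟩
    · simpa [mul_assoc] using hRE r⁻¹ (inv_mem hr) _ he
    · rw [mul_inv_eq_iff_eq_mul.2 (mem_centralizer_singleton_iff.1 (hR'C hr).1), inv_mul_cancel]
      exact one_mem _
  have hvi : v⁻¹ = v := inv_eq_self hv.1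
  have horb : Nat.card {y : G // ∃ m ∈ M, m * v * m⁻¹ = y} = Nat.card E := by
    refine Nat.card_congr
      { toFun := fun y => ⟨v⁻¹ * y.1, by obtain ⟨m, hm, e⟩ := y.2; rw [← e]; exact hm.2.2⟩
        invFun := fun e => ⟨v * e.1, ?_⟩
        left_inv := fun y => Subtype.ext (mul_inv_cancel_left v y.1)
        right_inv := fun e => Subtype.ext (inv_mul_cancel_left v e.1) }
    by_cases he : (e : G) = 1
    · exact ⟨1, one_mem _, by simp [he]⟩
    have hx := hE.mem e e.2 he
    obtain ⟨h, hha, hhv⟩ := hv.exists_conj_mul C hf hva hs hx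
    obtain ⟨hv', ha', hx', hp'⟩ := hv.mul_Ea C hf hp hva hx
    obtain ⟨E', hE', -⟩ := hv'.exists_E C hp' ha' hx'
    have hK' : ∀ t ∈ E, t ∈ closure (C.Ea (v * e) a) := fun t ht => by
      by_cases h : t = 1
      · rw [h]; exact one_mem _
      · exact subset_closure ⟨(hE.mem t ht h).1, (hE.mem t ht h).2.mul_right (hE.commute C ht e.2)⟩
    have hconjK : E.map (MulAut.conj h).toMonoidHom ≤ closure (C.Ea (v * e) a) := by
      rintro _ ⟨t, ht, rfl⟩
      by_cases h1 : t = 1
      · rw [h1, map_one]; exact one_mem _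
      · refine subset_closure ?_
        show h * t * h⁻¹ ∈ _
        have := C.conj_mem_Ea (g := h) (hE.mem t ht h1)
        rwa [hha, hhv] at this
    have hcE : Nat.card E' = Nat.card E := hv.card_E_mul C hf hp hva hx hE hE'
    obtain ⟨k, hk, hkE⟩ := hE'.exists_conj_max C hv' hp' ha' ((hE.isPGroup C).map _) hconjK
      (hE.isPGroup C) hK' (by rw [card_map_of_injective (MulAut.conj h).injective, hcE]) hcE.symm
    obtain ⟨hkL, hka⟩ := C.closure_Ea hk
    have hkv : k * (v * e) * k⁻¹ = v * e := C.L_conj_eq hkL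
    refine ⟨k * h, ⟨by rw [mul_smul, hha, hka], ?_, ?_⟩, ?_⟩
    · have hsub : E.map (MulAut.conj (k * h)).toMonoidHom = E := by
        refine eq_of_le_of_card_ge ?_ (card_map_of_injective (MulAut.conj (k * h)).injective).ge
        rintro _ ⟨t, ht, rfl⟩
        show k * h * t * (k * h)⁻¹ ∈ E
        have := hkE _ ⟨t, ht, rfl⟩
        simpa [mul_assoc] using this
      intro t
      constructor
      · intro ht
        rw [← hsub]
        exact ⟨t, ht, rfl⟩
      · intro ht
        rw [← hsub] at ht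
        obtain ⟨t', ht', e'⟩ := ht
        rwa [show t' = t from mul_left_cancel (mul_right_cancel e')] at ht'
    · rw [show k * h * v * (k * h)⁻¹ = k * (h * v * h⁻¹) * k⁻¹ by group, hhv, hkv, inv_mul_cancel_left]
      exact e.2
    · rw [show k * h * v * (k * h)⁻¹ = k * (h * v * h⁻¹) * k⁻¹ by group, hhv, hkv]
  have hMdiv : Nat.card E * (C.qn v a * Nat.card D) ∣ Nat.card M := by
    rw [← card_conj_sub M v, horb]
    exact mul_dvd_mul_left _ (hdiv.trans (card_dvd_of_le hRM))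
  obtain ⟨l, hl⟩ := IsPGroup.iff_card.1 hS.two
  obtain ⟨k, hk⟩ := IsPGroup.iff_card.1 hM.two
  obtain ⟨m, hm⟩ := IsPGroup.iff_card.1 (hE.isPGroup C)
  rw [← hv.card_reg C hva hS] at hMdiv ⊢
  rw [hl, hk, hm, ← pow_add, ← pow_add] at hMdiv
  obtain ⟨P, hP⟩ := Sylow.exists_subgroup_card_pow_prime 2 hMdiv
  rw [hl, hm, ← pow_add]
  let P' := P.map M.subtype
  have hP' : Nat.card P' = 2 ^ (m + (l + k)) := by rw [card_map_of_injective M.subtype_injective, hP]
  have hPM : P' ≤ M := map_subtype_le _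
  letI : MulAction ↥P' {c : C.Pt // c ≠ a} :=
    { smul := fun g c => ⟨(g : G) • c.1, fun h =>
        c.2 (smul_left_cancel (g : G) (h.trans (hPM g.2).1.symm))⟩
      one_smul := fun c => Subtype.ext (one_smul G c.1)
      mul_smul := fun g h c => Subtype.ext (mul_smul (g : G) (h : G) c.1) }
  have hsum : 2 ^ (m + l) ∣ Nat.card {c : C.Pt // c ≠ a} := by
    refine dvd_card_of_orbits (K := ↥P') fun c => ?_
    have hPp : IsPGroup 2 P' := IsPGroup.of_card hP'
    obtain ⟨o, ho⟩ := IsPGroup.iff_card.1 (hPp.to_le (inf_le_left : P' ⊓ MulAction.stabilizer G c.1 ≤ P'))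
    have h1 := card_orbit_sub P' c.1
    have h2 : Nat.card {q : C.Pt // ∃ g ∈ P', g • c.1 = q} = Nat.card (MulAction.orbit ↥P' c) :=
      Nat.card_congr
        { toFun := fun q => ⟨⟨q.1, by
              obtain ⟨g, hg, e⟩ := q.2
              exact e ▸ fun h => c.2 (smul_left_cancel g (h.trans (hPM hg).1.symm))⟩,
            let ⟨g, hg, e⟩ := q.2; ⟨⟨g, hg⟩, Subtype.ext e⟩⟩
          invFun := fun q => ⟨q.1.1, let ⟨g, e⟩ := q.2; ⟨g.1, g.2, congrArg Subtype.val e⟩⟩
          left_inv := fun _ => rfl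
          right_inv := fun _ => rfl }
    have h3 : 2 ^ o ≤ 2 ^ k := by
      rw [← ho, ← hk]
      exact hM.max c.1 a c.2 _ (hPp.to_le inf_le_left) fun g hg => ⟨hg.2, (hPM hg.1).1⟩
    have h4 : o ≤ k := (Nat.pow_le_pow_iff_right (by norm_num)).1 h3
    rw [h2, ho, hP', show m + (l + k) = m + l + (k - o) + o by omega, pow_add 2 _ o] at h1
    rw [Nat.eq_of_mul_eq_mul_right (pow_pos two_pos o) h1, pow_add 2 (m + l)]
    exact dvd_mul_right _ _
  haveI := Fintype.ofFinite C.Pt
  classical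
  have e : Nat.card {c : C.Pt // c ≠ a} = Nat.card C.Pt - 1 := by
    rw [Nat.card_eq_fintype_card, Nat.card_eq_fintype_card, Fintype.card_subtype_compl,
      Fintype.card_subtype_eq]
  rwa [e] at hsum

/-- With a crossing member and `Q = q` the number of points is `q ^ 2 + 1` and the elements fixing all
fixed points of `v` fix all points. -/
theorem Bad.regular_of_cross {v : G} (hv : C.Bad v) (hf : ∀ v : G, orderOf v = 2 → ∃ c : C.Pt, v • c ≠ c)
    (hp : PairRank ↥(C.L v)) {a b : C.Pt} {D : Subgroup G} (hM : C.MaxPair v a b D)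
    {E : Subgroup G} (hE : C.IsE v a E) (hne : (C.Cross v a).Nonempty) (hQ : C.qn v a = Nat.card E) :
    Nat.card C.Pt = Nat.card E ^ 2 + 1 ∧ ∀ o ∈ C.Om v, ∀ c : C.Pt, o • c = c := by
  have ha := (hM.fix v hM.mem).1
  obtain ⟨x, hx, hxv⟩ := C.exists_commute_at (mul_self_eq_one hv.1) ha
  have hxE : x ∈ C.Ea v a := ⟨hx, hxv⟩
  have hq := Bad.one_lt_E C hxE hE
  have hj := Bad.card_cls_pos C hxE
  have hf' : C.fn v ≤ Nat.card C.Pt := Finite.card_subtype_le _
  have hdvd := hv.dvd_of_cross C hf hp hM hE hne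
  have key : ∀ c : C.Pt, v • c ≠ c → Nat.card C.Pt = Nat.card E ^ 2 + 1 ∧ ∀ o ∈ C.Om v, o • c = c := by
    intro c hc
    obtain ⟨h1, h2⟩ := hv.count C hf hp ha hxE hE hc
    obtain ⟨d, i, hi, hd, hri, hi1⟩ := hv.orbit_data C hf hp ha hxE hc
    have hA : 0 < Nat.card (C.Cross v a) := by
      haveI := hne.to_subtype
      exact Nat.card_pos
    rw [C.fn_eq ha, hQ] at h1 hd hf'
    rw [hQ] at hdvd
    obtain ⟨t, ht⟩ := hdvd
    generalize Nat.card E = q at *
    generalize Nat.card (C.CX v c) = r at *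
    generalize Nat.card (C.cls v a x) = j at *
    generalize Nat.card (C.cls (v * x) a x) = j' at *
    generalize Nat.card C.Pt = n at *
    have hrj : j < r := by
      by_contra hle
      have h3 : r * ((q - 1) * j') ≤ j * ((q - 1) * j') := Nat.mul_le_mul_right _ (not_lt.1 hle)
      have h4 : (q - 1) * j * j' = j * ((q - 1) * j') := by ring
      omega
    have hdi : i < d := by
      by_contra hle
      have h3 : j * d ≤ j * i := Nat.mul_le_mul_left _ (not_lt.1 hle)
      have h4 : j * i < r * i := Nat.mul_lt_mul_of_pos_right hrj hi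
      omega
    -- arithmetic over the integers
    have hn : (n : ℤ) = 1 + q * q * t := by
      have h3 : n = 1 + q * q * t := by omega
      exact_mod_cast h3
    have h1' : ((n : ℤ) - (q + 1)) * r = (q + 1) * (((q : ℤ) - 1) * j) * q := by
      have h3 := congrArg (Nat.cast : ℕ → ℤ) h1
      push_cast [Nat.cast_sub hf', Nat.cast_sub hq.le] at h3
      linarith
    have h5 : ((q : ℤ) * t - 1) * d = ((q : ℤ) + 1) * ((q : ℤ) - 1) * i := by
      have hri' : (r : ℤ) * i = j * d := by exact_mod_cast hri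
      have hqj : (q : ℤ) * j ≠ 0 := by positivity
      refine mul_right_cancel₀ hqj ?_
      calc ((q : ℤ) * t - 1) * d * (q * j) = ((n : ℤ) - (q + 1)) * (j * d) := by rw [hn]; ring
        _ = ((n : ℤ) - (q + 1)) * r * i := by rw [← hri']; ring
        _ = _ := by rw [h1']; ring
    have h6 : (d : ℤ) - i = q * (t * d - q * i) := by linear_combination (-1 : ℤ) * h5
    set u := (t : ℤ) * d - q * i
    have hd' : (d : ℤ) ≤ q + 1 := by exact_mod_cast hd
    have hdi' : (i : ℤ) < d := by exact_mod_cast hdi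
    have hi' : (1 : ℤ) ≤ i := by exact_mod_cast hi
    have hq' : (1 : ℤ) < q := by exact_mod_cast hq
    have hu : u = 1 := by
      have h10 : 0 < u := pos_of_mul_pos_right (show (0 : ℤ) < q * u by linarith) (by positivity)
      have h11 : u ≤ 1 := le_of_mul_le_mul_left (show (q : ℤ) * u ≤ q * 1 by linarith) (by linarith)
      omega
    rw [hu, mul_one] at h6
    have hi0 : (i : ℤ) = 1 := by linarith
    refine ⟨?_, hi1 (by exact_mod_cast hi0)⟩
    have hd0 : (d : ℤ) = q + 1 := by linarith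
    rw [hd0, hi0, mul_one, mul_comm ((q : ℤ) + 1)] at h5
    have h7 := mul_right_cancel₀ (by positivity) h5
    have h8 : (t : ℤ) = 1 := mul_left_cancel₀ (show (q : ℤ) ≠ 0 by positivity) (by linarith)
    have h9 : (n : ℤ) = (q : ℤ) ^ 2 + 1 := by rw [hn, h8]; ring
    exact_mod_cast h9
  obtain ⟨c₀, hc₀⟩ := hf v hv.1
  refine ⟨(key c₀ hc₀).1, fun o ho c => ?_⟩
  by_cases hc : v • c = c
  · exact (C.mem_Om.1 ho).2 c hc
  · exact (key c hc).2 o ho

/-- With no odd core acting the members at a fixed point centralising `v` commute: there are `|E| - 1`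
of them. -/
theorem Bad.commute_of_Om_trivial {v : G} (hv : C.Bad v) (hp : PairRank ↥(C.L v)) {a : C.Pt}
    (ha : v • a = a) (hfaith : ∀ g : G, (∀ c : C.Pt, g • c = c) → g = 1)
    (hO : ∀ o ∈ C.Om v, ∀ c : C.Pt, o • c = c) {x y : G} (hx : x ∈ C.Ea v a) (hy : y ∈ C.Ea v a) :
    Commute x y := by
  obtain ⟨E, hE, hxE⟩ := hv.exists_E C hp ha hx
  obtain ⟨e, he, hne, hodd⟩ := hE.cover y hy
  have h := hfaith _ (hO _ ((hv.odd_iff C hp ha hy (hE.mem e he hne)).1 hodd))
  rw [eq_inv_of_mul_eq_one_left h, C.inv_Z (hE.mem e he hne).1.1]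
  exact hE.commute C hxE he

end Ctx

end CfsgLib.Criterion
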