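import Cfsg.Agent.Criterion.TypeLocal
import Cfsg.Agent.Criterion.Orbit

/-!
# The strong embedding criterion: the largest 2-group at a bad involution and its shifts

`P` is a largest 2-group at `a` centralising the bad involution `v`, above a largest two-point
stabiliser `D`, with an elementary group `E` normalised by it.  It is `(P ⊓ L_v) D`; a 2-group `T`
above it moves `v` over the whole coset `v E`, so `q Q` divides `n - 1`, and `T` is a Sylow subgroup
of `G` when that is the whole 2-part.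
-/

set_option autoImplicit false
set_option linter.style.haveILetI false
set_option linter.unusedSectionVars false

namespace CfsgLib.Criterion

open Subgroup CfsgLib.Invol CfsgLib.Bender

universe u

variable {G : Type u} [Group G] [Finite G]

namespace Ctx

variable (C : Ctx G)

/-- A largest 2-group `P` at `a` centralising `v`, above a largest two-point stabiliser `D`,
normalising the elementary group `E` inside it. -/
structure Typ (v : G) (a b : C.Pt) (D E P : Subgroup G) : Prop where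
  bad : C.Bad v
  faith : ∀ g : G, (∀ c : C.Pt, g • c = c) → g = 1
  pair : ∀ u : G, C.Bad u → PairRank ↥(C.L u)
  maxPair : C.MaxPair v a b D
  isE : C.IsE v a E
  two : IsPGroup 2 P
  le : D ≤ P
  fix : ∀ g ∈ P, g • a = a ∧ Commute g v
  max : ∀ P' : Subgroup G, IsPGroup 2 P' → (∀ g ∈ P', g • a = a ∧ Commute g v) →
    Nat.card P' ≤ Nat.card P
  eP : E ≤ P
  norm : ∀ g ∈ P, ∀ e ∈ E, g * e * g⁻¹ ∈ E

/-- Such groups exist. -/
theorem exists_typ {v : G} {a b : C.Pt} {D E : Subgroup G} (hv : C.Bad v)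
    (hfaith : ∀ g : G, (∀ c : C.Pt, g • c = c) → g = 1)
    (hp : ∀ u : G, C.Bad u → PairRank ↥(C.L u)) (hM : C.MaxPair v a b D) (hE : C.IsE v a E) :
    ∃ E' P : Subgroup G, C.Typ v a b D E' P ∧ Nat.card E' = Nat.card E := by
  have ha := (hM.fix v hM.mem).1
  obtain ⟨x, hx, hxv⟩ := C.exists_commute_at (mul_self_eq_one hv.1) ha
  obtain ⟨P, E', y, hP, hDP, hPa, hmax, hE', hcard, hEP, hn, -⟩ :=
    hv.exists_big_two C ha hE (Bad.one_lt_E C (⟨hx, hxv⟩ : x ∈ C.Ea v a) hE) hM.two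
      fun g hg => ⟨(hM.fix g hg).1, (hM.fix g hg).2.2⟩
  exact ⟨E', P, ⟨hv, hfaith, hp, hM, hE', hP, hDP, hPa, hmax, hEP,
    fun g hg e he => (mem_normalizer_iff.1 (hn hg) e).1 he⟩, hcard⟩

namespace Typ

variable {C} {v : G} {a b : C.Pt} {D E P : Subgroup G} (K : C.Typ v a b D E P)
include K

theorem hf : ∀ u : G, orderOf u = 2 → ∃ c : C.Pt, u • c ≠ c := fun u hu => by
  by_contra h
  push Not at h
  rw [K.faith u h, orderOf_one] at hu
  omega

theorem va : v • a = a := (K.maxPair.fix v K.maxPair.mem).1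

theorem vb : v • b = b := (K.maxPair.fix v K.maxPair.mem).2.1

theorem ne : b ≠ a := K.maxPair.ne.symm

theorem hp : PairRank ↥(C.L v) := K.pair v K.bad

theorem vv : v * v = 1 := mul_self_eq_one K.bad.1

theorem vP : v ∈ P := K.le K.maxPair.mem

theorem Ea {e : G} (he : e ∈ E) : e • a = a := K.isE.le_stab C he

theorem Ev {e : G} (he : e ∈ E) : Commute e v := (K.fix e (K.eP he)).2

theorem EL {e : G} (he : e ∈ E) : e ∈ C.L v := by
  by_cases h : e = 1
  · rw [h]; exact one_mem _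
  · exact C.mem_L_of_Ea (K.isE.mem e he h)

theorem v_not_E : v ∉ E := fun h =>
  K.bad.not_mem_Z C (K.isE.mem v h (ne_one K.bad.1)).1.1

theorem smul_fix {g : G} (hg : g ∈ P) {c : C.Pt} (hc : v • c = c) : v • (g • c) = g • c := by
  rw [smul_smul, ← (K.fix g hg).2.eq, mul_smul, hc]

/-- `P ⊓ L_v` is transitive on the fixed points other than `a`. -/
theorem trans {c d : C.Pt} (hc : v • c = c) (hd : v • d = d) (hca : c ≠ a) (hda : d ≠ a) :
    ∃ s ∈ P, s ∈ C.L v ∧ s • c = d :=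
  K.bad.exists_two_move C K.hp K.va K.isE K.two K.fix K.max hc hd hca hda

theorem reg : C.Reg v a (P ⊓ C.L v) where
  le := inf_le_right
  fix s hs := (K.fix s hs.1).1
  two := K.two.to_le inf_le_left
  trans c d hc hca hd hda := by
    obtain ⟨s, hs, hsL, e⟩ := K.trans hc hd hca hda
    exact ⟨s, ⟨hs, hsL⟩, e⟩

theorem card_S : Nat.card ↥(P ⊓ C.L v) = C.qn v a := K.bad.card_reg C K.va K.reg

theorem E_le_S {e : G} (he : e ∈ E) : e ∈ P ⊓ C.L v := ⟨K.eP he, K.EL he⟩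

/-- Members at `a` in `P` lie in `E`. -/
theorem mem_E_of_mem_Za {x : G} (hx : x ∈ P) (hxZ : x ∈ C.Z) : x ∈ E :=
  K.isE.mem_of_two C ⟨⟨hxZ, (K.fix x hx).1⟩, (K.fix x hx).2⟩ K.two K.eP hx

/-- The elements of `P ⊓ L_v` with square one are those of `E`. -/
theorem mem_E_of_sq {x : G} (hx : x ∈ P ⊓ C.L v) (h : x * x = 1) : x ∈ E := by
  by_cases h1 : x = 1
  · rw [h1]; exact one_mem _
  · exact K.mem_E_of_mem_Za hx.1 (K.bad.mem_Z_of_mem_L C hx.2 (orderOf_eq_two h h1))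

theorem fix_b {g : G} (hg : g ∈ D) : g • b = b := (K.maxPair.fix g hg).2.1

/-- The elements of `P` fixing `b` are those of `D`. -/
theorem mem_D {g : G} (hg : g ∈ P) (hgb : g • b = b) : g ∈ D := by
  have hle : D ≤ P ⊓ MulAction.stabilizer G b := fun x hx => ⟨K.le hx, K.fix_b hx⟩
  have hcard : Nat.card ↥(P ⊓ MulAction.stabilizer G b) ≤ Nat.card D :=
    K.maxPair.max a b K.maxPair.ne _ (K.two.to_le inf_le_left) fun x hx =>
      ⟨(K.fix x hx.1).1, hx.2⟩
  have h : P ⊓ MulAction.stabilizer G b = D := (eq_of_le_of_card_ge hle hcard).symm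
  exact h.le ⟨hg, hgb⟩

/-- Every element of `P` is an element of `P ⊓ L_v` times one of `D`. -/
theorem exists_mul {g : G} (hg : g ∈ P) : ∃ s ∈ P ⊓ C.L v, s⁻¹ * g ∈ D := by
  obtain ⟨s, hs, hsL, e⟩ := K.trans K.vb (K.smul_fix hg K.vb) K.ne
    fun h => K.ne (smul_left_cancel g (h.trans (K.fix g hg).1.symm))
  exact ⟨s, ⟨hs, hsL⟩, K.mem_D (mul_mem (inv_mem hs) hg) (by rw [mul_smul, ← e, inv_smul_smul])⟩

theorem card_P : Nat.card P = C.qn v a * Nat.card D := by
  rw [← card_orbit_sub P b]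
  congr 1
  · refine Nat.card_congr (Equiv.subtypeEquivRight fun q => ⟨?_, fun hq => ?_⟩)
    · rintro ⟨g, hg, rfl⟩
      exact ⟨K.smul_fix hg K.vb, fun h => K.ne (smul_left_cancel g (h.trans (K.fix g hg).1.symm))⟩
    · obtain ⟨s, hs, -, e⟩ := K.trans K.vb hq.1 K.ne hq.2
      exact ⟨s, hs, e⟩
  · exact congrArg (fun H : Subgroup G => Nat.card H)
      (le_antisymm (fun x hx => K.mem_D hx.1 hx.2) fun x hx => ⟨K.le hx, K.fix_b hx⟩)

/-- In a 2-group above `P` the elements at `a` centralising `v` are those of `P`. -/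
theorem mem_P {W : Subgroup G} (hW : IsPGroup 2 W) (hPW : P ≤ W) {g : G} (hg : g ∈ W)
    (hga : g • a = a) (hgv : Commute g v) : g ∈ P := by
  have hle : P ≤ W ⊓ (MulAction.stabilizer G a ⊓ centralizer {v}) := fun x hx =>
    ⟨hPW hx, (K.fix x hx).1, mem_centralizer_singleton_iff.2 (K.fix x hx).2.eq⟩
  have hcard : Nat.card ↥(W ⊓ (MulAction.stabilizer G a ⊓ centralizer {v})) ≤ Nat.card P :=
    K.max _ (hW.to_le inf_le_left) fun x hx => ⟨hx.2.1, mem_centralizer_singleton_iff.1 hx.2.2⟩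
  have h : W ⊓ (MulAction.stabilizer G a ⊓ centralizer {v}) = P :=
    (eq_of_le_of_card_ge hle hcard).symm
  exact h.le ⟨hg, hga, mem_centralizer_singleton_iff.2 hgv.eq⟩

/-- An element of the coset `v E` equals `v` times an element of `E`. -/
theorem shift_eq {g : G} (h : g * v * g⁻¹ * v ∈ E) :
    ∃ y ∈ E, g * v * g⁻¹ = v * y := by
  refine ⟨g * v * g⁻¹ * v, h, ?_⟩
  rw [← (K.Ev h).eq, mul_assoc (g * v * g⁻¹), K.vv, mul_one]

/-- `v` is carried to `v y` by elements at `a` normalising `E`. -/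
theorem exists_shift_norm {y : G} (hy : y ∈ E) :
    ∃ g : G, g • a = a ∧ (∀ e ∈ E, g * e * g⁻¹ ∈ E) ∧ g * v * g⁻¹ = v * y := by
  obtain ⟨h, hha, hhv⟩ := K.bad.exists_shift C K.hf K.hp K.va K.isE hy
  by_cases hy1 : y = 1
  · exact ⟨1, one_smul _ _, fun e he => by simpa using he, by rw [hy1]; group⟩
  have hx := K.isE.mem y hy hy1
  obtain ⟨hv', ha', hx', hp'⟩ := K.bad.mul_Ea C K.hf K.hp K.va hx
  obtain ⟨E', hE', -⟩ := hv'.exists_E C hp' ha' hx'
  have hK' : ∀ t ∈ E, t ∈ closure (C.Ea (v * y) a) := fun t ht => by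
    by_cases h1 : t = 1
    · rw [h1]; exact one_mem _
    · exact subset_closure ⟨(K.isE.mem t ht h1).1,
        (K.isE.mem t ht h1).2.mul_right (K.isE.commute C ht hy)⟩
  have hconjK : E.map (MulAut.conj h).toMonoidHom ≤ closure (C.Ea (v * y) a) := by
    rintro _ ⟨t, ht, rfl⟩
    by_cases h1 : t = 1
    · rw [h1, map_one]; exact one_mem _
    · refine subset_closure ?_
      show h * t * h⁻¹ ∈ _
      have := C.conj_mem_Ea (g := h) (K.isE.mem t ht h1)
      rwa [hha, hhv] at this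
  have hcE : Nat.card E' = Nat.card E := K.bad.card_E_mul C K.hf K.hp K.va hx K.isE hE'
  obtain ⟨k, hk, hkE⟩ := hE'.exists_conj_max C hv' hp' ha' ((K.isE.isPGroup C).map _) hconjK
    (K.isE.isPGroup C) hK' (by rw [card_map_of_injective (MulAut.conj h).injective, hcE]) hcE.symm
  obtain ⟨hkL, hka⟩ := C.closure_Ea hk
  refine ⟨k * h, by rw [mul_smul, hha, hka], fun e he => ?_, ?_⟩
  · have := hkE _ ⟨e, he, rfl⟩
    simpa [mul_assoc] using this
  · rw [show k * h * v * (k * h)⁻¹ = k * (h * v * h⁻¹) * k⁻¹ by group, hhv, C.L_conj_eq hkL]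

/-- **The translations**: a 2-group above `P` normalising `E` that moves `v` over the coset `v E`. -/
theorem exists_shift_group : ∃ T : Subgroup G, IsPGroup 2 T ∧ P ≤ T ∧
    (∀ g ∈ T, g • a = a ∧ (∀ e ∈ E, g * e * g⁻¹ ∈ E) ∧ g * v * g⁻¹ * v ∈ E) ∧
    (∀ y ∈ E, ∃ g ∈ T, g * v * g⁻¹ = v * y) ∧ Nat.card T = Nat.card E * Nat.card P := by
  haveI : Fact (Nat.Prime 2) := ⟨Nat.prime_two⟩
  have hvi : v⁻¹ = v := inv_eq_self K.bad.1
  let M₀ : Submonoid G :=
    { carrier := {g | g • a = a ∧ (∀ e ∈ E, g * e * g⁻¹ ∈ E) ∧ g * v * g⁻¹ * v ∈ E}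
      one_mem' := ⟨one_smul _ a, fun e he => by simpa using he, by
        rw [one_mul, inv_one, mul_one, K.vv]; exact one_mem _⟩
      mul_mem' := by
        rintro g h ⟨hga, hgE, hgv⟩ ⟨hha, hhE, hhv⟩
        refine ⟨by rw [mul_smul, hha, hga], fun e he => ?_, ?_⟩
        · have := hgE _ (hhE e he)
          simpa [mul_assoc] using this
        · have := mul_mem (hgE _ hhv) hgv
          rwa [show g * (h * v * h⁻¹ * v) * g⁻¹ * (g * v * g⁻¹ * v) =
            g * h * v * (g * h)⁻¹ * (g * (v * v) * g⁻¹ * v) by group, K.vv,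
            mul_one, mul_inv_cancel, one_mul] at this }
  let M : Subgroup G :=
    { M₀ with
      inv_mem' := fun {g} hg => by
        show g⁻¹ ∈ M₀
        have h1 : g⁻¹ ∈ Submonoid.powers g :=
          (mem_powers_iff_mem_zpowers.2 (inv_mem (mem_zpowers g)))
        exact (Submonoid.powers_le.2 hg) h1 }
  have hMmem : ∀ g : G, g ∈ M ↔ g • a = a ∧ (∀ e ∈ E, g * e * g⁻¹ ∈ E) ∧ g * v * g⁻¹ * v ∈ E :=
    fun g => Iff.rfl
  have hPM : P ≤ M := fun g hg => (hMmem g).2 ⟨(K.fix g hg).1, K.norm g hg, by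
    rw [mul_inv_eq_iff_eq_mul.2 (K.fix g hg).2.eq, K.vv]; exact one_mem _⟩
  have hMorb : Nat.card {y : G // ∃ m ∈ M, m * v * m⁻¹ = y} = Nat.card E := by
    refine Nat.card_congr
      { toFun := fun y => ⟨y.1 * v, by obtain ⟨m, hm, e⟩ := y.2; rw [← e]; exact hm.2.2⟩
        invFun := fun e => ⟨v * e.1, ?_⟩
        left_inv := fun y => Subtype.ext ?_
        right_inv := fun e => Subtype.ext ?_ }
    · obtain ⟨g, hga, hgE, hgv⟩ := K.exists_shift_norm e.2
      exact ⟨g, ⟨hga, hgE, by rw [hgv, ← (K.Ev e.2).eq, mul_assoc, K.vv, mul_one]; exact e.2⟩, hgv⟩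
    · obtain ⟨m, hm, e⟩ := y.2
      show v * (y.1 * v) = y.1
      rw [← e, ← mul_assoc, ← (show Commute (m * v * m⁻¹) v from ?_).eq, mul_assoc, K.vv, mul_one]
      obtain ⟨z, hz, ez⟩ := K.shift_eq hm.2.2
      rw [ez]
      exact (Commute.refl v).mul_left (K.Ev hz)
    · show v * e.1 * v = e.1
      rw [← (K.Ev e.2).eq, mul_assoc, K.vv, mul_one]
  obtain ⟨R, hR⟩ := (K.two.of_equiv (subgroupOfEquivOfLe hPM).symm).exists_le_sylow
  set T := (R : Subgroup ↥M).map M.subtype with hTdef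
  have hTM : T ≤ M := map_subtype_le _
  have hPT : P ≤ T := fun g hg =>
    ⟨⟨g, hPM hg⟩, hR (show (⟨g, hPM hg⟩ : ↥M) ∈ P.subgroupOf M from hg), rfl⟩
  have hT2 : IsPGroup 2 T := R.isPGroup'.map _
  have hTv : Nat.card ↥(T ⊓ centralizer {v}) = Nat.card P :=
    congrArg (fun H : Subgroup G => Nat.card H) (le_antisymm
      (fun g hg => K.mem_P hT2 hPT hg.1 (hTM hg.1).1 (mem_centralizer_singleton_iff.1 hg.2))
      fun g hg => ⟨hPT hg, mem_centralizer_singleton_iff.2 (K.fix g hg).2.eq⟩)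
  have hsub : ∀ y : G, (∃ d ∈ T, d * v * d⁻¹ = y) → ∃ m ∈ M, m * v * m⁻¹ = y :=
    fun y ⟨d, hd, e⟩ => ⟨d, hTM hd, e⟩
  have horb := card_conj_sub T v
  rw [hTv] at horb
  have hdvd : Nat.card E * Nat.card P ∣ Nat.card M := by
    rw [← card_conj_sub M v, hMorb]
    exact mul_dvd_mul_left _ (card_dvd_of_le fun g hg =>
      ⟨hPM hg, mem_centralizer_singleton_iff.2 (K.fix g hg).2.eq⟩)
  obtain ⟨m, hm⟩ := IsPGroup.iff_card.1 (K.isE.isPGroup C)
  obtain ⟨k, hk⟩ := IsPGroup.iff_card.1 K.two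
  have hle : Nat.card E * Nat.card P ≤ Nat.card T := by
    rw [hTdef, card_map_of_injective M.subtype_injective, Sylow.card_eq_multiplicity, hm, hk, ← pow_add]
    refine Nat.pow_le_pow_right two_pos ((Nat.prime_two.pow_dvd_iff_le_factorization Nat.card_pos.ne').1 ?_)
    rwa [hm, hk, ← pow_add] at hdvd
  have hge : Nat.card {y : G // ∃ d ∈ T, d * v * d⁻¹ = y} ≤ Nat.card E :=
    hMorb ▸ Nat.card_le_card_of_injective (fun y => ⟨y.1, hsub _ y.2⟩)
      fun x y h => Subtype.ext (congrArg Subtype.val h :)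
  have heq : Nat.card T = Nat.card E * Nat.card P := by
    refine le_antisymm ?_ hle
    rw [← horb]
    exact Nat.mul_le_mul_right _ hge
  refine ⟨T, hT2, hPT, fun g hg => hTM hg, fun y hy => ?_, heq⟩
  rw [heq] at horb
  have h1 := Nat.eq_of_mul_eq_mul_right Nat.card_pos horb
  rw [← hMorb] at h1
  let j : {y : G // ∃ d ∈ T, d * v * d⁻¹ = y} → {y : G // ∃ m ∈ M, m * v * m⁻¹ = y} :=
    fun y => ⟨y.1, hsub _ y.2⟩
  have hj : Function.Injective j := fun x z h => Subtype.ext (congrArg Subtype.val h :)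
  obtain ⟨⟨z, hz⟩, hzy⟩ := (hj.bijective_of_nat_card_le h1.ge).2 ⟨v * y, by
        obtain ⟨g, hga, hgE, hgv⟩ := K.exists_shift_norm hy
        exact ⟨g, ⟨hga, hgE, by rw [hgv, ← (K.Ev hy).eq, mul_assoc, K.vv, mul_one]; exact hy⟩, hgv⟩⟩
  obtain ⟨d, hd, e⟩ := hz
  exact ⟨d, hd, e.trans (congrArg Subtype.val hzy)⟩

/-- A 2-group at `a` has orbits of size at least its order over that of `D`. -/
theorem dvd_pred {W : Subgroup G} (hW : IsPGroup 2 W) (hWa : ∀ g ∈ W, g • a = a) {N : ℕ}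
    (hN : Nat.card W = N * Nat.card D) : N ∣ Nat.card C.Pt - 1 := by
  haveI : Fact (Nat.Prime 2) := ⟨Nat.prime_two⟩
  letI : MulAction ↥W {c : C.Pt // c ≠ a} :=
    { smul := fun g c => ⟨(g : G) • c.1, fun h =>
        c.2 (smul_left_cancel (g : G) (h.trans (hWa g g.2).symm))⟩
      one_smul := fun c => Subtype.ext (one_smul G c.1)
      mul_smul := fun g h c => Subtype.ext (mul_smul (g : G) (h : G) c.1) }
  obtain ⟨w, hw⟩ := IsPGroup.iff_card.1 hW
  obtain ⟨k, hk⟩ := IsPGroup.iff_card.1 K.maxPair.two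
  have hsum : N ∣ Nat.card {c : C.Pt // c ≠ a} := by
    refine dvd_card_of_orbits (K := ↥W) fun c => ?_
    obtain ⟨o, ho⟩ := IsPGroup.iff_card.1 (hW.to_le (inf_le_left : W ⊓ MulAction.stabilizer G c.1 ≤ W))
    have h1 := card_orbit_sub W c.1
    have h2 : Nat.card {q : C.Pt // ∃ g ∈ W, g • c.1 = q} = Nat.card (MulAction.orbit ↥W c) :=
      Nat.card_congr
        { toFun := fun q => ⟨⟨q.1, by
              obtain ⟨g, hg, e⟩ := q.2
              exact e ▸ fun h => c.2 (smul_left_cancel g (h.trans (hWa g hg).symm))⟩,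
            let ⟨g, hg, e⟩ := q.2; ⟨⟨g, hg⟩, Subtype.ext e⟩⟩
          invFun := fun q => ⟨q.1.1, let ⟨g, e⟩ := q.2; ⟨g.1, g.2, congrArg Subtype.val e⟩⟩
          left_inv := fun _ => rfl
          right_inv := fun _ => rfl }
    have h3 : 2 ^ o ≤ 2 ^ k := by
      rw [← ho, ← hk]
      exact K.maxPair.max c.1 a c.2 _ (hW.to_le inf_le_left) fun g hg => ⟨hg.2, hWa g hg.1⟩
    have h4 : o ≤ k := (Nat.pow_le_pow_iff_right (by norm_num)).1 h3
    rw [h2, ho, hN, hk, show k = (k - o) + o by omega, pow_add 2 _ o, ← mul_assoc] at h1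
    rw [Nat.eq_of_mul_eq_mul_right (pow_pos two_pos o) h1]
    exact dvd_mul_right _ _
  haveI := Fintype.ofFinite C.Pt
  classical
  have e : Nat.card {c : C.Pt // c ≠ a} = Nat.card C.Pt - 1 := by
    rw [Nat.card_eq_fintype_card, Nat.card_eq_fintype_card, Fintype.card_subtype_compl,
      Fintype.card_subtype_eq]
  rwa [e] at hsum

/-- `a` is the only point fixed by `P`. -/
theorem eq_a_of_fixed {c : C.Pt} (h : ∀ g ∈ P, g • c = c) : c = a := by
  by_contra hca
  obtain ⟨e, he, he1, -⟩ := K.isE.cover _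
    (show (C.exists_commute_at K.vv K.va).choose ∈ C.Ea v a from
      ⟨(C.exists_commute_at K.vv K.va).choose_spec.1, (C.exists_commute_at K.vv K.va).choose_spec.2⟩)
  exact hca (C.fix_unique (K.isE.mem e he he1).1.1 (h e (K.eP he)) (K.Ea he))

/-- If `q Q` is the 2-part of `n - 1`, the translations form a Sylow subgroup. -/
theorem exists_sylow {T : Subgroup G} (hT : IsPGroup 2 T) (hPT : P ≤ T)
    (hcard : Nat.card T = Nat.card E * Nat.card P)
    (hodd : ¬ 2 * (Nat.card E * C.qn v a) ∣ Nat.card C.Pt - 1) :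
    ∃ S : Sylow 2 G, (S : Subgroup G) = T := by
  haveI : Fact (Nat.Prime 2) := ⟨Nat.prime_two⟩
  obtain ⟨S, hS⟩ := hT.exists_le_sylow
  letI : MulAction ↥(S : Subgroup G) C.Pt := inferInstance
  obtain ⟨c, hc⟩ := S.isPGroup'.nonempty_fixed_point_of_prime_not_dvd_card C.Pt
    (fun h => Nat.not_even_iff_odd.2 C.odd_Pt (even_iff_two_dvd.2 h))
  have hc' : ∀ g ∈ (S : Subgroup G), g • c = c := fun g hg => hc ⟨g, hg⟩
  obtain rfl : c = a := K.eq_a_of_fixed fun g hg => hc' g (hS (hPT hg))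
  refine ⟨S, (eq_of_le_of_card_ge hS ?_).symm⟩
  obtain ⟨s, hs⟩ := IsPGroup.iff_card.1 S.isPGroup'
  obtain ⟨l, hl⟩ := IsPGroup.iff_card.1 K.reg.two
  rw [K.card_S] at hl
  obtain ⟨k, hk⟩ := IsPGroup.iff_card.1 K.maxPair.two
  obtain ⟨m, hm⟩ := IsPGroup.iff_card.1 (K.isE.isPGroup C)
  rw [K.card_P, hl, hm, hk, ← pow_add, ← pow_add] at hcard
  by_contra hlt
  rw [not_le, hcard, hs] at hlt
  have hlt' := (Nat.pow_lt_pow_iff_right (by norm_num)).1 hlt
  refine hodd (dvd_trans ?_ (K.dvd_pred S.isPGroup' hc' (N := 2 ^ (s - k)) ?_))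
  · rw [hm, hl, ← pow_add, ← pow_succ']
    exact pow_dvd_pow 2 (by omega)
  · rw [hs, hk, ← pow_add]
    congr 1
    omega

omit K in
/-- Without crossing members the 2-part of `n - 1` is `q Q`, if `2 q` divides `Q`. -/
theorem not_two_dvd (K : C.Typ v a b D E P) (hQ : 2 * Nat.card E ∣ C.qn v a)
    (h0 : C.Cross v a = ∅) : ¬ 2 * (Nat.card E * C.qn v a) ∣ Nat.card C.Pt - 1 := by
  obtain ⟨x, hx, hxv⟩ := C.exists_commute_at K.vv K.va
  have hn := K.bad.count_of_cross_empty C K.hf K.hp K.va (⟨hx, hxv⟩ : x ∈ C.Ea v a) K.isE h0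
  have hQ0 : 0 < C.qn v a := K.card_S ▸ Nat.card_pos
  have hq0 : 0 < Nat.card E := Nat.card_pos
  obtain ⟨d, hd⟩ := hQ
  generalize C.qn v a = Q at *
  generalize Nat.card E = q at *
  generalize Nat.card C.Pt = n at *
  intro h
  have h1 : 2 * (q * Q) ∣ (q + 2 * q * (d * q) - 2 * q * d) * Q := by
    convert h using 1
    subst hd hn
    obtain ⟨r, rfl⟩ : ∃ r, q = r + 1 := ⟨q - 1, by omega⟩
    have hsub : r + 1 + 2 * (r + 1) * (d * (r + 1)) - 2 * (r + 1) * d = r + 1 + 2 * (r + 1) * (d * r) := by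
      rw [Nat.sub_eq_iff_eq_add]
      · ring
      · nlinarith
    rw [hsub, Nat.add_sub_cancel]
    symm
    rw [Nat.sub_eq_iff_eq_add (by nlinarith)]
    ring
  rw [← mul_assoc] at h1
  have h2 := Nat.dvd_of_mul_dvd_mul_right hQ0 h1
  have h3 : 2 * q ∣ 2 * q * (d * q) - 2 * q * d := Nat.dvd_sub (dvd_mul_right _ _) (dvd_mul_right _ _)
  have h4 : 2 * q * d ≤ 2 * q * (d * q) := by
    rw [← mul_assoc (2 * q) d q]; exact Nat.le_mul_of_pos_right _ hq0
  rw [show q + 2 * q * (d * q) - 2 * q * d = (2 * q * (d * q) - 2 * q * d) + q by omega] at h2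
  have h5 := Nat.le_of_dvd hq0 ((Nat.dvd_add_right h3).1 h2)
  omega

end Typ

end Ctx

end CfsgLib.Criterion
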