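import Cfsg.Agent.Criterion.TypeU3Ext

/-!
# The strong embedding criterion: the second layer exists

`Cn` is the product of `R ⟨v⟩` with the image `W` of the commutator with a generating scalar; `W` is
stable under all symmetries and its commutators lie in `E`.
-/

set_option autoImplicit false
set_option linter.style.haveILetI false
set_option linter.unusedSectionVars false

namespace CfsgLib.Criterion

open Subgroup CfsgLib.Invol CfsgLib.Bender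

universe u

variable {G : Type u} [Group G] [Finite G]

namespace Ctx

variable {C : Ctx G}

namespace Lay3

namespace Top

variable {v : G} {a b : C.Pt} {D E P : Subgroup G} {X : C.Lay3 v a b D E P} (Y : X.Top)

local notation "S" => P ⊓ C.L v
local notation "q" => Nat.card E

include Y

/-- A scalar acting on `Cn`. -/
structure Scal (ν : X.co.K) (d : G) : Prop where
  mem : d ∈ X.H
  comm : Commute d v
  conjCn : ∀ g ∈ Y.Cn, d * g * d⁻¹ ∈ Y.Cn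
  conjE : ∀ e ∈ E, X.co.z (d * e * d⁻¹) = ν ^ 2 * X.co.z e

theorem exists_scal {ν : X.co.K} (hν0 : ν ≠ 0) (hν : ν ^ q = ν) : ∃ d, Y.Scal ν d := by
  obtain ⟨m, hma, hmv, hmS, hmR, hmE⟩ := X.tor ν hν0 hν
  have hmH : m ∈ X.H := ⟨hma, fun e he => (hmE e he).1, hmR, fun s hs => (hmS s hs).1,
    by rw [X.ye_of_commute hmv]; exact one_mem _⟩
  obtain ⟨n, hn, hdv, hdW⟩ := Y.exists_norm hmH hmv
  have hd : n * m ∈ X.H := mul_mem hn.1 hmH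
  refine ⟨n * m, hd, hdv, fun g hg => Y.conj_Cn (fun s hs => (inv_mem hd :
    (n * m)⁻¹ ∈ X.H).2.2.2.1 s hs) hdW hg, fun e he => ?_⟩
  rw [show n * m * e * (n * m)⁻¹ = n * (m * e * m⁻¹) * n⁻¹ by group,
    (X.N₃_commute_E hn (hmE e he).1).eq, mul_inv_cancel_right, (hmE e he).2]

theorem ye_Cn {g : G} (hg : g ∈ Y.Cn) : X.ye g ∈ X.R := (Y.Cn_H hg).2.2.2.2

theorem conj_R {g r : G} (hg : g ∈ X.H) (hr : r ∈ X.R) : g * r * g⁻¹ ∈ X.R := hg.2.2.1 r hr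

theorem τ_scal {ν : X.co.K} {d g : G} (hd : Y.Scal ν d) (hg : g ∈ X.H) :
    X.τ (d * g * d⁻¹) = ν ^ 2 * X.τ g := by
  have h2 : X.ye d⁻¹ = 1 := X.ye_of_commute hd.comm.inv_left
  have h3 : X.τ (d * g * d⁻¹) = X.τ (d * g) := by
    rw [Lay3.τ, Lay3.τ, X.ye_mul, h2, mul_one, mul_inv_cancel, one_mul]
  rw [h3, X.τ_mul hd.mem hg, hd.conjE _ (X.del_mem _ hg.2.2.2.2),
    X.τ_of_ye (g := d) (by rw [X.ye_of_commute hd.comm]; exact one_mem E), add_zero]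
  rfl

theorem del_v {g : G} : del v g = (X.ye g)⁻¹ := by
  rw [del, Lay3.ye, mul_inv_rev, mul_inv_rev, mul_inv_rev, inv_inv, inv_eq_of_mul_eq_one_right X.vv]
  group

theorem z_del_del {g : G} (hg : g ∈ Y.Cn) : X.co.z (del v (del v g)) = X.τ g := by
  rw [Y.del_v (g := g), X.del_inv (Y.ye_Cn hg)]; rfl

/-- The image of the commutator with `m`, over `R`. -/
def layer (m : G) : Subgroup G :=
  subgroupOfClosed {x | x ∈ Y.Cn ∧ ∃ g ∈ Y.Cn, x⁻¹ * (m * g * m⁻¹ * g⁻¹) ∈ X.R}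
    ⟨one_mem _, 1, one_mem _, by simp⟩
    (by
      rintro x y ⟨hx, g, hg, hxg⟩ ⟨hy, h, hh, hyh⟩
      refine ⟨mul_mem hx hy, g * h, mul_mem hg hh, ?_⟩
      rw [show (x * y)⁻¹ * (m * (g * h) * m⁻¹ * (g * h)⁻¹) =
        y⁻¹ * (x⁻¹ * (m * g * m⁻¹ * g⁻¹)) * y⁻¹⁻¹ * (y⁻¹ * g * y⁻¹⁻¹ * g⁻¹) *
          (g * (y⁻¹ * (m * h * m⁻¹ * h⁻¹)) * g⁻¹) by group]
      exact mul_mem (mul_mem (Y.conj_R (inv_mem (Y.Cn_H hy)) hxg)
        (Y.comm_mem_R (inv_mem hy) hg)) (Y.conj_R (Y.Cn_H hg) hyh))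

theorem mem_layer {m x : G} : x ∈ Y.layer m ↔
    x ∈ Y.Cn ∧ ∃ g ∈ Y.Cn, x⁻¹ * (m * g * m⁻¹ * g⁻¹) ∈ X.R := Iff.rfl

theorem layer_le {m : G} : Y.layer m ≤ Y.Cn := fun _ hx => hx.1

theorem R_le_layer {m : G} : X.R ≤ Y.layer m := fun r hr =>
  Y.mem_layer.2 ⟨Y.R_le_Cn hr, 1, one_mem _, by simpa using inv_mem hr⟩

/-- A scalar other than one, fixed under the Frobenius of order `q`, generating them. -/
theorem exists_gen : ∃ u₀ : X.co.K, u₀ ≠ 0 ∧ u₀ ≠ 1 ∧ u₀ ^ q = u₀ ∧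
    ∀ r : X.co.K, r ≠ 0 → r ^ q = r → ∃ k : ℕ, u₀ ^ k = r := by
  classical
  have h4 := X.four_le
  haveI : NeZero (q - 1) := ⟨by omega⟩
  obtain ⟨g, hg⟩ := IsCyclic.exists_monoid_generator (α := ↥(rootsOfUnity (q - 1) X.co.K))
  have hgen : ∀ r : X.co.K, r ≠ 0 → r ^ q = r → ∃ k : ℕ, ((g : X.co.Kˣ) : X.co.K) ^ k = r := by
    intro r hr0 hr
    have hmem : Units.mk0 r hr0 ∈ rootsOfUnity (q - 1) X.co.K := by
      rw [mem_rootsOfUnity']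
      refine mul_right_cancel₀ hr0 ?_
      rw [one_mul, Units.val_mk0, ← pow_succ, show q - 1 + 1 = q by omega, hr]
    obtain ⟨k, hk⟩ := hg ⟨_, hmem⟩
    exact ⟨k, by simpa using congrArg (fun x : ↥(rootsOfUnity (q - 1) X.co.K) =>
      ((x : X.co.Kˣ) : X.co.K)) hk⟩
  have hq : ((g : X.co.Kˣ) : X.co.K) ^ q = ((g : X.co.Kˣ) : X.co.K) := by
    have h := (mem_rootsOfUnity' _ _).1 g.2
    have h' : ((g : X.co.Kˣ) : X.co.K) ^ (q - 1 + 1) = ((g : X.co.Kˣ) : X.co.K) := by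
      rw [pow_succ, h, one_mul]
    rwa [Nat.sub_add_cancel (le_trans (by norm_num) h4)] at h'
  refine ⟨_, Units.ne_zero _, fun h1 => ?_, hq, hgen⟩
  obtain ⟨e, he, hne⟩ : ∃ e ∈ E, X.co.z e ≠ 0 ∧ X.co.z e ≠ 1 := by
    by_contra hall
    push Not at hall
    have hle : q ≤ Nat.card (({0, 1} : Finset X.co.K)) := by
      refine Nat.card_le_card_of_injective
        (fun e : ↥E => (⟨X.co.z e, ?_⟩ : ({0, 1} : Finset X.co.K)))
        fun e e' he => Subtype.ext (X.co.z_inj e.2 e'.2 (congrArg Subtype.val he :))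
      simp only [Finset.mem_insert, Finset.mem_singleton]
      exact (em (X.co.z e = 0)).imp id (hall _ e.2)
    rw [Nat.card_eq_finsetCard] at hle
    have := Finset.card_le_two (a := (0 : X.co.K)) (b := 1)
    omega
  obtain ⟨k, hk⟩ := hgen _ hne.1 (X.co.z_fix _ he)
  rw [h1, one_pow] at hk
  exact hne.2 hk.symm

variable {u₀ : X.co.K} {m : G}

theorem τ_comm (hm : Y.Scal u₀ m) {g : G} (hg : g ∈ Y.Cn) :
    X.τ (m * g * m⁻¹ * g⁻¹) = (u₀ ^ 2 + 1) * X.τ g := by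
  rw [X.τ_add (Y.Cn_N (hm.conjCn g hg)) (Y.Cn_H (inv_mem hg)), Y.τ_scal hm (Y.Cn_H hg),
    X.τ_inv (Y.Cn_N hg)]
  ring

theorem τ_of_eq {x y : G} (hx : x ∈ Y.Cn) (hy : y ∈ Y.Cn) (h : x⁻¹ * y ∈ X.R) :
    X.τ y = X.τ x := by
  rw [← mul_inv_cancel_left x y, X.τ_add (Y.Cn_N hx) (Y.Cn_H (Y.R_le_Cn h)), Y.τ_R h, zero_add]

theorem scalar_add_ne (hu1 : u₀ ≠ 1) : u₀ ^ 2 + 1 ≠ 0 := fun h =>
  hu1 (CharTwo.sq_injective (by rw [CharTwo.add_eq_zero.1 h, one_pow] : u₀ ^ 2 = 1 ^ 2))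

theorem v_not_layer (hm : Y.Scal u₀ m) (hu1 : u₀ ≠ 1) : v ∉ Y.layer m := fun hv => by
  obtain ⟨-, g, hg, hvg⟩ := Y.mem_layer.1 hv
  have hc : m * g * m⁻¹ * g⁻¹ ∈ Y.Cn := mul_mem (hm.conjCn g hg) (inv_mem hg)
  have h0 := Y.τ_of_eq Y.v_mem_Cn hc hvg
  rw [Y.τ_comm hm hg, Y.τ_v] at h0
  have hmH := hm.mem
  have key : m * g * m⁻¹ * g⁻¹ ∈ X.R := by
    rcases Y.Cn_zero hg ((mul_eq_zero.1 h0).resolve_left (Y.scalar_add_ne hu1)) with h | h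
    · exact mul_mem (Y.conj_R hmH h) (inv_mem h)
    · have e : m * g * m⁻¹ * g⁻¹ = m * (g * v) * m⁻¹ * (g * v)⁻¹ := by
        rw [show m * (g * v) * m⁻¹ * (g * v)⁻¹ = m * g * (v * m⁻¹ * v⁻¹) * g⁻¹ by group,
          (hm.comm.inv_left.symm).eq, mul_inv_cancel_right]
      rw [e]
      exact mul_mem (Y.conj_R hmH h) (inv_mem h)
  have hvR := mul_mem hvg (inv_mem key)
  rw [mul_inv_cancel_right] at hvR
  exact X.v_not_R (inv_mem_iff.1 hvR)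

theorem layer_ker (hm : Y.Scal u₀ m) (hu1 : u₀ ≠ 1) {x : G} (hx : x ∈ Y.layer m)
    (h : X.τ x = 0) : x ∈ X.R := by
  refine (Y.Cn_zero (Y.layer_le hx) h).elim id fun hxv => ?_
  exfalso
  have := mul_mem (inv_mem hx) (Y.R_le_layer (m := m) hxv)
  rw [inv_mul_cancel_left] at this
  exact Y.v_not_layer hm hu1 this

theorem layer_surj (hm : Y.Scal u₀ m) (hu1 : u₀ ≠ 1) (huq : u₀ ^ q = u₀) {r : X.co.K}
    (hr : r ^ q = r) : ∃ x ∈ Y.layer m, X.τ x = r := by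
  have hfix : (r / (u₀ ^ 2 + 1)) ^ q = r / (u₀ ^ 2 + 1) := by
    obtain ⟨k, hk⟩ := IsPGroup.iff_card.1 (X.typ.isE.isPGroup C)
    rw [div_pow, hr, hk, add_pow_char_pow, one_pow, ← hk, ← pow_mul, mul_comm 2, pow_mul, huq]
  obtain ⟨g, hg, hgr⟩ := Y.exists_τ_Cn hfix
  have hc : m * g * m⁻¹ * g⁻¹ ∈ Y.Cn := mul_mem (hm.conjCn g hg) (inv_mem hg)
  refine ⟨_, Y.mem_layer.2 ⟨hc, g, hg, by rw [inv_mul_cancel]; exact one_mem _⟩, ?_⟩
  rw [Y.τ_comm hm hg, hgr, mul_div_cancel₀ _ (Y.scalar_add_ne hu1)]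

theorem layer_cover (hm : Y.Scal u₀ m) (hu1 : u₀ ≠ 1) (huq : u₀ ^ q = u₀) {c : G}
    (hc : c ∈ Y.Cn) : c ∈ Y.layer m ∨ c * v ∈ Y.layer m := by
  obtain ⟨x, hx, hxτ⟩ := Y.layer_surj hm hu1 huq (X.τ_fix (Y.Cn_H hc))
  have hxC := Y.layer_le hx
  have h0 : X.τ (x⁻¹ * c) = 0 := by
    rw [X.τ_add (Y.Cn_N (inv_mem hxC)) (Y.Cn_H hc), X.τ_inv (Y.Cn_N hxC), hxτ,
      CharTwo.add_self_eq_zero]
  refine (Y.Cn_zero (mul_mem (inv_mem hxC) hc) h0).imp (fun h => ?_) fun h => ?_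
  · have := mul_mem hx (Y.R_le_layer (m := m) h)
    rwa [mul_inv_cancel_left] at this
  · have := mul_mem hx (Y.R_le_layer (m := m) h)
    rwa [mul_assoc, mul_inv_cancel_left] at this

theorem layer_m (hm : Y.Scal u₀ m) {x : G} (hx : x ∈ Y.layer m) : m * x * m⁻¹ ∈ Y.layer m := by
  obtain ⟨hxC, g, hg, hxg⟩ := Y.mem_layer.1 hx
  refine Y.mem_layer.2 ⟨hm.conjCn x hxC, m * g * m⁻¹, hm.conjCn g hg, ?_⟩
  rw [show (m * x * m⁻¹)⁻¹ * (m * (m * g * m⁻¹) * m⁻¹ * (m * g * m⁻¹)⁻¹) =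
    m * (x⁻¹ * (m * g * m⁻¹ * g⁻¹)) * m⁻¹ by group]
  exact Y.conj_R hm.mem hxg

/-- The shift of a square. -/
def sqShift (_Y : X.Top) (g : G) : X.co.K := X.co.z (del v (g * g))

theorem sqShift_mul {g h : G} (hg : g ∈ Y.Cn) (hh : h ∈ Y.Cn) :
    Y.sqShift (g * h) =
      Y.sqShift g + X.co.z (del v (g⁻¹ * h * g⁻¹⁻¹ * h⁻¹)) + Y.sqShift h := by
  have h1 := Y.sq_mem_R hg
  have h2 := Y.comm_mem_R (inv_mem hg) hh
  have h3 := Y.sq_mem_R hh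
  rw [sqShift, show g * h * (g * h) = g * g * (g⁻¹ * h * g⁻¹⁻¹ * h⁻¹) * (h * h) by group,
    X.del_hom (mul_mem h1 h2) h3, X.del_hom h1 h2,
    X.co.z_mul _ (mul_mem (X.del_mem _ h1) (X.del_mem _ h2)) _ (X.del_mem _ h3),
    X.co.z_mul _ (X.del_mem _ h1) _ (X.del_mem _ h2)]
  rfl

theorem sqShift_R {g r : G} (hg : g ∈ Y.Cn) (hr : r ∈ X.R) :
    Y.sqShift (g * r) = Y.sqShift g := by
  have hc : g⁻¹ * r * g⁻¹⁻¹ ∈ X.R := Y.conj_R (inv_mem (Y.Cn_H hg)) hr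
  have hz : Y.sqShift r = 0 := by rw [sqShift, X.del_E (X.sq_mem_E r hr), X.z_one]
  rw [Y.sqShift_mul hg (Y.R_le_Cn hr), hz, add_zero, X.del_hom hc (inv_mem hr), X.del_inv hr,
    X.del_conj (inv_mem (Y.Cn_H hg)) hr,
    (X.N₃_commute_E (inv_mem (Y.Cn_N hg)) (X.del_mem r hr)).eq, mul_inv_cancel_right,
    X.E2 (X.del_mem r hr), X.z_one, add_zero]

/-- **The square on the layer is linear in the shift.** -/
theorem exists_lam (hm : Y.Scal u₀ m) (hu1 : u₀ ≠ 1) (huq : u₀ ^ q = u₀)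
    (hgen : ∀ r : X.co.K, r ≠ 0 → r ^ q = r → ∃ k : ℕ, u₀ ^ k = r) :
    ∃ lam : X.co.K, ∀ g ∈ Y.layer m, Y.sqShift g = lam * X.τ g := by
  obtain ⟨g₁, hg₁, hτ₁⟩ := Y.layer_surj hm hu1 huq (one_pow q)
  refine ⟨Y.sqShift g₁, fun g hg => ?_⟩
  have hind : ∀ k : ℕ, ∃ h ∈ Y.layer m,
      X.τ h = (u₀ ^ k) ^ 2 ∧ Y.sqShift h = (u₀ ^ k) ^ 2 * Y.sqShift g₁ := by
    intro k
    induction k with
    | zero => exact ⟨g₁, hg₁, by rw [hτ₁]; ring, by ring⟩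
    | succ k ih =>
      obtain ⟨h, hh, hτ, hs⟩ := ih
      have hhC := Y.layer_le hh
      refine ⟨_, Y.layer_m hm hh, by rw [Y.τ_scal hm (Y.Cn_H hhC), hτ]; ring, ?_⟩
      rw [sqShift, show m * h * m⁻¹ * (m * h * m⁻¹) = m * (h * h) * m⁻¹ by group,
        X.del_conj hm.mem (Y.sq_mem_R hhC), hm.conjE _ (X.del_mem _ (Y.sq_mem_R hhC))]
      show _ * Y.sqShift h = _
      rw [hs]; ring
  have hgC := Y.layer_le hg
  by_cases h0 : X.τ g = 0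
  · rw [h0, mul_zero, sqShift, X.del_E (X.sq_mem_E g (Y.layer_ker hm hu1 hg h0)), X.z_one]
  obtain ⟨hμq, hμ⟩ := X.sqrt_fixed (X.τ_fix (Y.Cn_H hgC))
  obtain ⟨k, hk⟩ := hgen _ (pow_ne_zero _ h0) hμq
  obtain ⟨h, hh, hτ, hs⟩ := hind k
  rw [hk, sq] at hτ hs
  rw [pow_succ, hμq] at hμ
  rw [hμ] at hτ hs
  have hd : h⁻¹ * g ∈ X.R := Y.layer_ker hm hu1 (mul_mem (inv_mem hh) hg) (by
    rw [X.τ_add (Y.Cn_N (inv_mem (Y.layer_le hh))) (Y.Cn_H hgC), X.τ_inv (Y.Cn_N (Y.layer_le hh)),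
      hτ, CharTwo.add_self_eq_zero])
  rw [show g = h * (h⁻¹ * g) by group, Y.sqShift_R (Y.layer_le hh) hd, hs,
    show h * (h⁻¹ * g) = g by group, mul_comm]

theorem layer_comm {lam : X.co.K} (hlam : ∀ g ∈ Y.layer m, Y.sqShift g = lam * X.τ g) {g h : G}
    (hg : g ∈ Y.layer m) (hh : h ∈ Y.layer m) : g * h * g⁻¹ * h⁻¹ ∈ E := by
  have hg' := inv_mem hg
  have hgC := Y.layer_le hg'
  have hhC := Y.layer_le hh
  have h0 := Y.sqShift_mul hgC hhC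
  rw [hlam _ (mul_mem hg' hh), hlam _ hg', hlam _ hh, X.τ_add (Y.Cn_N hgC) (Y.Cn_H hhC),
    inv_inv] at h0
  have hc := Y.comm_mem_R (Y.layer_le hg) hhC
  refine X.del_ker _ hc (commute_of_del ?_)
  refine (X.z_eq_zero (X.del_mem _ hc)).1 ?_
  linear_combination -h0

/-- **Symmetries of `Cn` preserve the layer.** -/
theorem layer_conj (hm : Y.Scal u₀ m) (hu1 : u₀ ≠ 1) (huq : u₀ ^ q = u₀)
    (hcomm : ∀ g ∈ Y.layer m, ∀ h ∈ Y.layer m, g * h * g⁻¹ * h⁻¹ ∈ E) {x w : G} (hx : x ∈ X.H)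
    (hxC : ∀ g ∈ Y.Cn, x * g * x⁻¹ ∈ Y.Cn) (hw : w ∈ Y.layer m) :
    x * w * x⁻¹ ∈ Y.layer m := by
  by_contra hxw
  have hout : ∀ h ∈ Y.layer m, h ∉ X.R → x * h * x⁻¹ ∉ Y.layer m := by
    intro h hh hhR hhW
    refine hhR ?_
    set w₁ := x * w * x⁻¹ * v with hw₁def
    have hw₁ : w₁ ∈ Y.layer m :=
      (Y.layer_cover hm hu1 huq (hxC w (Y.layer_le hw))).resolve_left hxw
    have e : x * w * x⁻¹ = w₁ * v⁻¹ := (eq_mul_inv_iff_mul_eq.2 rfl)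
    have h1 := hx.2.1 _ (hcomm w hw h hh)
    set h' := x * h * x⁻¹ with hh'def
    rw [show x * (w * h * w⁻¹ * h⁻¹) * x⁻¹ =
      (x * w * x⁻¹) * h' * (x * w * x⁻¹)⁻¹ * h'⁻¹ by rw [hh'def]; group, e,
      inv_eq_of_mul_eq_one_right X.vv,
      show w₁ * v * h' * (w₁ * v)⁻¹ * h'⁻¹ =
        w₁ * del v h' * w₁⁻¹ * (w₁ * h' * w₁⁻¹ * h'⁻¹) by rw [del]; group] at h1
    have h2 := mul_mem h1 (inv_mem (hcomm _ hw₁ _ hhW))
    rw [mul_inv_cancel_right] at h2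
    have h3 := (inv_mem (Y.Cn_H (Y.layer_le hw₁)) : w₁⁻¹ ∈ X.H).2.1 _ h2
    rw [show w₁⁻¹ * (w₁ * del v h' * w₁⁻¹) * w₁⁻¹⁻¹ = del v h' by group] at h3
    have h4 : h' ∈ X.R := Y.layer_ker hm hu1 hhW (by
      rw [← Y.z_del_del (Y.layer_le hhW), X.del_E h3, X.z_one])
    have h5 := Y.conj_R (inv_mem hx) h4
    rwa [show x⁻¹ * h' * x⁻¹⁻¹ = h by rw [hh'def]; group] at h5
  -- two classes of the layer with their product
  obtain ⟨r, hr0, hr1, hrq⟩ : ∃ r : X.co.K, r ≠ 0 ∧ r ≠ 1 ∧ r ^ q = r := by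
    obtain ⟨r, hr0, hr1, hrq, -⟩ := Y.exists_gen
    exact ⟨r, hr0, hr1, hrq⟩
  obtain ⟨h₁, hh₁, hτ₁⟩ := Y.layer_surj hm hu1 huq (one_pow q)
  obtain ⟨h₂, hh₂, hτ₂⟩ := Y.layer_surj hm hu1 huq hrq
  have hnR : ∀ h : G, X.τ h ≠ 0 → h ∉ X.R := fun h h0 hR => h0 (Y.τ_R hR)
  have hp : X.τ (h₁ * h₂) ≠ 0 := by
    rw [X.τ_add (Y.Cn_N (Y.layer_le hh₁)) (Y.Cn_H (Y.layer_le hh₂)), hτ₁, hτ₂]
    exact fun h => hr1 (CharTwo.add_eq_zero.1 h)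
  have o₁ := hout h₁ hh₁ (hnR _ (by rw [hτ₁]; exact one_ne_zero))
  have o₂ := hout h₂ hh₂ (hnR _ (by rw [hτ₂]; exact hr0))
  refine hout _ (mul_mem hh₁ hh₂) (hnR _ hp) ?_
  set a₁ := x * h₁ * x⁻¹
  set a₂ := x * h₂ * x⁻¹
  have k₁ := (Y.layer_cover hm hu1 huq (hxC _ (Y.layer_le hh₁))).resolve_left o₁
  have k₂ := (Y.layer_cover hm hu1 huq (hxC _ (Y.layer_le hh₂))).resolve_left o₂
  have k₃ : v * (a₂ * v) * v⁻¹ ∈ Y.layer m := by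
    have hd : del v (a₂ * v) ∈ X.R := by
      rw [Y.del_v]; exact inv_mem (Y.ye_Cn (Y.layer_le k₂))
    have := mul_mem (Y.R_le_layer (m := m) hd) k₂
    rwa [del, inv_mul_cancel_right] at this
  rw [show x * (h₁ * h₂) * x⁻¹ = a₁ * v * (v⁻¹ * a₂) by simp only [a₁, a₂]; group]
  rw [mul_assoc v, mul_inv_cancel_right] at k₃
  rw [inv_eq_of_mul_eq_one_right X.vv]
  exact mul_mem k₁ k₃

end Top

/-- **The second layer.** -/
theorem exists_ext {v : G} {a b : C.Pt} {D E P : Subgroup G} (X : C.Lay3 v a b D E P) (hκ : X.κ = 1)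
    {h y : G} (hha : h • a = a) (hhE : ∀ e ∈ E, h * e * h⁻¹ ∈ E)
    (hhR : ∀ r ∈ X.R, h * r * h⁻¹ ∈ X.R)
    (hhS : ∀ s ∈ P ⊓ C.L v, h * s * h⁻¹ ∈ P ⊓ C.L v) (hy : y ∈ X.R) (hyE : y ∉ E)
    (hv : h * v * h⁻¹ = v * y) : ∃ X' : C.Ext3 v a b D E P, X'.toLay3 = X := by
  classical
  have hh : h ∈ X.H := by
    refine X.mem_H.2 ⟨hha, hhE, hhR, hhS, ?_⟩
    rw [Lay3.ye, hv]
    exact X.v_norm hy
  obtain ⟨Y⟩ := X.exists_top hh hy hyE hv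
  obtain ⟨u₀, hu0, hu1, huq, hgen⟩ := Y.exists_gen
  obtain ⟨m, hm⟩ := Y.exists_scal hu0 huq
  obtain ⟨lam, hlam⟩ := Y.exists_lam hm hu1 huq hgen
  have hWW : ∀ g ∈ Y.layer m, ∀ k ∈ Y.layer m, g * k * g⁻¹ * k⁻¹ ∈ E :=
    fun g hg k hk => Y.layer_comm hlam hg hk
  have hWT : ∀ g, g ∈ Y.layer m → g ∈ Y.T₁ := fun g hg => (mem_inf.1 (mem_inf.1 (Y.layer_le hg)).1).1
  have hconj : ∀ g ∈ Y.T₁, ∀ c ∈ Y.Cn, g * c * g⁻¹ ∈ Y.Cn := fun g hg c hc =>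
    Y.conj_Cn (fun s hs => (inv_mem (Y.le_H hg) : g⁻¹ ∈ X.H).2.2.2.1 s hs) (fun x hx =>
      mem_inf.2 ⟨mul_mem (mul_mem hg (mem_inf.1 hx).1) (inv_mem hg),
        X.N₃_normal (Y.le_H hg) (mem_inf.1 hx).2⟩) hc
  have hsplit : ∀ g ∈ Y.T₁, ∀ x ∈ Y.layer m, X.τ x = X.τ g → x⁻¹ * g ∈ X.T := fun g hg x hx hxτ => by
    have hxC := Y.layer_le hx
    refine X.mem_T Y.two Y.le Y.le_H (mul_mem (inv_mem (hWT x hx)) hg) (X.ye_of_τ
      (mul_mem (inv_mem (Y.Cn_H hxC)) (Y.le_H hg)) ?_)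
    rw [X.τ_add (Y.Cn_N (inv_mem hxC)) (Y.le_H hg), X.τ_inv (Y.Cn_N hxC), hxτ,
      CharTwo.add_self_eq_zero]
  have hcard : Nat.card Y.T₁ = Nat.card E * Nat.card X.T := by
    choose g hg hgτ using fun e : ↥E => Y.layer_surj hm hu1 huq (X.co.z_fix _ e.2)
    rw [← Nat.card_prod]
    refine (Nat.card_congr (Equiv.ofBijective (fun p : ↥E × ↥X.T =>
      (⟨g p.1 * p.2, mul_mem (hWT _ (hg p.1)) (Y.le p.2.2)⟩ : ↥Y.T₁)) ⟨fun p p' e => ?_,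
        fun t => ?_⟩)).symm
    · have e' : g p.1 * (p.2 : G) = g p'.1 * p'.2 := congrArg Subtype.val e
      have h0 : ∀ t : ↥X.T, X.τ (t : G) = 0 := fun t => X.τ_of_ye (X.memT _ t.2).2.2
      have hτ := congrArg X.τ e'
      rw [X.τ_add (Y.Cn_N (Y.layer_le (hg _))) (X.T_le_H p.2.2),
        X.τ_add (Y.Cn_N (Y.layer_le (hg _))) (X.T_le_H p'.2.2), h0, h0, zero_add, zero_add, hgτ,
        hgτ] at hτ
      have he : p.1 = p'.1 := Subtype.ext (X.co.z_inj p.1.2 p'.1.2 hτ)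
      rw [he] at e'
      exact Prod.ext he (Subtype.ext (mul_left_cancel e'))
    · obtain ⟨d, hd, hdz⟩ := X.co.z_surj _ (X.τ_fix (Y.le_H t.2))
      exact ⟨(⟨d, hd⟩, ⟨_, hsplit t t.2 _ (hg ⟨d, hd⟩) ((hgτ ⟨d, hd⟩).trans hdz)⟩),
        Subtype.ext (mul_inv_cancel_left _ _)⟩
  refine ⟨{ toLay3 := X
            W := Y.layer m
            T₁ := Y.T₁
            lam := lam
            κ_one := hκ
            T₁_two := Y.two
            T_le := Y.le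
            T₁_fix := fun g hg => (Y.le_H hg).1
            card_T₁ := hcard
            R_le_W := Y.R_le_layer
            W_le := fun g hg => hWT g hg
            v_not_W := Y.v_not_layer hm hu1
            W_S := fun g hg s hs => Y.Cn_S (Y.layer_le hg) hs
            W_E := fun g hg e he => X.N₃_commute_E (Y.Cn_N (Y.layer_le hg)) he
            W_W := hWW
            W_del := fun g hg => by rw [Y.del_v]; exact inv_mem (Y.ye_Cn (Y.layer_le hg))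
            W_surj := ?_
            W_ker := ?_
            W_sq := ?_
            T₁_S := fun g hg => (Y.le_H hg).2.2.2.1
            T₁_R := fun g hg => (Y.le_H hg).2.2.1
            T₁_W := fun g hg x hx => Y.layer_conj hm hu1 huq hWW (Y.le_H hg) (hconj g hg) hx
            T₁_mul := ?_
            torW := ?_ }, rfl⟩
  · intro r hr
    obtain ⟨g, hg, hgτ⟩ := Y.layer_surj hm hu1 huq (X.co.z_fix _ (X.del_mem r hr))
    have hgd : del v g ∈ X.R := by rw [Y.del_v]; exact inv_mem (Y.ye_Cn (Y.layer_le hg))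
    exact ⟨g, hg, (X.del_eq_iff hgd hr).1 (X.co.z_inj (X.del_mem _ hgd) (X.del_mem _ hr)
      ((Y.z_del_del (Y.layer_le hg)).trans hgτ))⟩
  · intro g hg hgE
    refine Y.layer_ker hm hu1 hg ?_
    rw [← Y.z_del_del (Y.layer_le hg), X.del_E hgE, X.z_one]
  · intro g hg
    refine ⟨Y.sq_mem_R (Y.layer_le hg), ?_⟩
    rw [Y.z_del_del (Y.layer_le hg)]
    exact hlam g hg
  · intro g hg
    obtain ⟨x, hx, hxτ⟩ := Y.layer_surj hm hu1 huq (X.τ_fix (Y.le_H hg))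
    obtain ⟨s, hs, r, hr, d, hd, he⟩ := X.T_mul _ (hsplit g hg x hx hxτ)
    refine ⟨s, hs, x * r, mul_mem hx (Y.R_le_layer hr), d, hd, ?_⟩
    rw [← mul_assoc s x r, ← (Y.Cn_S (Y.layer_le hx) hs).eq, mul_assoc x, mul_assoc x, ← he,
      mul_inv_cancel_left]
  · intro ν hν0 hν
    obtain ⟨d, hd⟩ := Y.exists_scal hν0 hν
    exact ⟨d, hd.mem.1, hd.comm, hd.mem.2.2.2.1, hd.mem.2.2.1,
      fun g hg => Y.layer_conj hm hu1 huq hWW hd.mem hd.conjCn hg,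
      fun e he => ⟨hd.mem.2.1 e he, hd.conjE e he⟩⟩

/-- **The second layer**, from an element of `H` moving `v` out of `v E`. -/
theorem exists_ext_of_mem_H {v : G} {a b : C.Pt} {D E P : Subgroup G} (X : C.Lay3 v a b D E P)
    (hκ : X.κ = 1) {x : G} (hx : x ∈ X.H) (hxE : X.ye x ∉ E) :
    ∃ X' : C.Ext3 v a b D E P, X'.toLay3 = X := by
  refine X.exists_ext hκ (h := x) (y := v * X.ye x * v) hx.1 hx.2.1 hx.2.2.1 hx.2.2.2.1
    (X.v_norm hx.2.2.2.2) (fun hE => hxE ?_) ?_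
  · have he := (X.Ev hE).eq
    have h2 : X.ye x = v * (v * X.ye x * v) * v := by
      rw [show v * (v * X.ye x * v) * v = (v * v) * X.ye x * (v * v) by group, X.vv, one_mul, mul_one]
    rw [h2, mul_assoc, he, ← mul_assoc, X.vv, one_mul]
    exact hE
  · rw [← X.ye_mul_v x, show v * (v * X.ye x * v) = (v * v) * (X.ye x * v) by group, X.vv, one_mul]

end Lay3

end Ctx

end CfsgLib.Criterion
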