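import Cfsg.Agent.Criterion.TypeU3OrbitZero
import Cfsg.Agent.Criterion.TypeU3ExtW
import Cfsg.Agent.Criterion.TypeShift

/-!
# The strong embedding criterion: the translations are a Sylow subgroup, or the second layer exists

The Sylow subgroup over the translations fixes `a`, so an element of it normalising them is among them
or moves `v` inside `v R` off `v E` with square constant `1`.
-/

set_option autoImplicit false
set_option linter.style.haveILetI false
set_option linter.unusedSectionVars false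

namespace CfsgLib.Criterion

open Subgroup CfsgLib.Invol CfsgLib.Bender

universe u

variable {G : Type u} [Group G] [Finite G]

namespace Ctx

variable {C : Ctx G}

namespace Lay3

variable {v : G} {a b : C.Pt} {D E P : Subgroup G}

/-- **The translations are a Sylow subgroup, or the second layer exists.** -/
theorem sylow_or_ext (X : C.Lay3 v a b D E P) :
    (∃ S₀ : Sylow 2 G, (S₀ : Subgroup G) = X.T) ∨ Nonempty (C.Ext3 v a b D E P) := by
  haveI : Fact (Nat.Prime 2) := ⟨Nat.prime_two⟩
  obtain ⟨S₀, hS⟩ := X.two.exists_le_sylow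
  by_cases hne : (S₀ : Subgroup G) = X.T
  · exact Or.inl ⟨S₀, hne⟩
  letI : MulAction ↥(S₀ : Subgroup G) C.Pt := inferInstance
  obtain ⟨c, hc⟩ := S₀.isPGroup'.nonempty_fixed_point_of_prime_not_dvd_card C.Pt
    (fun h => Nat.not_even_iff_odd.2 C.odd_Pt (even_iff_two_dvd.2 h))
  have hc' : ∀ g ∈ (S₀ : Subgroup G), g • c = c := fun g hg => hc ⟨g, hg⟩
  obtain rfl : c = a := X.typ.eq_a_of_fixed fun g hg => hc' g (hS (X.le hg))
  haveI : Group.IsNilpotent ↥(S₀ : Subgroup G) := S₀.isPGroup'.isNilpotent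
  set T₀ := X.T.subgroupOf (S₀ : Subgroup G)
  have hlt : T₀ < ⊤ := lt_top_iff_ne_top.2 fun h => hne (le_antisymm (subgroupOf_eq_top.1 h) hS)
  obtain ⟨x, hx, hxT⟩ := SetLike.exists_of_lt (Group.normalizerCondition_of_isNilpotent T₀ hlt)
  rcases X.mem_T_or S₀.isPGroup' hc' hS x.2
    (fun t ht => (mem_normalizer_iff.1 hx ⟨t, hS ht⟩).1 ht) with h | ⟨hκ, hH, hE⟩
  · exact absurd h hxT
  · obtain ⟨X', -⟩ := X.exists_ext_of_mem_H hκ hH hE
    exact Or.inr ⟨X'⟩

end Lay3

end Ctx

end CfsgLib.Criterion
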