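import Cfsg.Agent.Criterion.TypeU3Carrier
import Cfsg.Agent.Criterion.TypeU3Xi

/-!
# The strong embedding criterion: a moved `v` in `S W ⟨v⟩`

An element normalising the second layer that moves `v` to `v m` with `m` outside `R` forces `m ∈ W`;
the orbit of `v` modulo `R` then has `q` classes under the elements normalising `E` and `S W ⟨v⟩`, so
there would be a 2-group of order `q ^ 2 |T|` at `a`.
-/

set_option autoImplicit false
set_option linter.style.haveILetI false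
set_option linter.unusedSectionVars false

namespace CfsgLib.Criterion

open Subgroup CfsgLib.Invol CfsgLib.Bender

universe u

variable {G : Type u} [Group G] [Finite G]

namespace Ctx.Ext3

variable {C : Ctx G} {v : G} {a b : C.Pt} {D E P : Subgroup G} (X : C.Ext3 v a b D E P)

local notation "S" => P ⊓ C.L v
local notation "q" => Nat.card E

include X

/-- An involution `v m` whose centralising involutions in `M` lie in `E` has `m` in `R`, or in `W`
with `lam = 1`. -/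
theorem shift_cases {m : G} (hm : m ∈ X.M) (hvm : v * m * (v * m) = 1)
    (hinv : ∀ k ∈ X.M, k * k = 1 → Commute k (v * m) → k ∈ E) :
    m ∈ X.R ∨ (X.lam = 1 ∧ m ∈ X.W) := by
  obtain ⟨s, hs, x, hx, rfl⟩ := hm
  by_cases htt : X.tt x = 0
  · exact Or.inl (X.invol_vR hs (X.mem_R_of_tt hx htt) hvm)
  have hlam := (X.invol_vM hs hx hvm).resolve_left htt
  refine Or.inr ⟨hlam, mul_mem (X.E_le_W ?_) hx⟩
  by_contra hsE
  obtain ⟨s', hs', y', hy', hs'E, h2, hc⟩ := X.exists_invol_vSR X.κ_ne hs (one_mem X.R) hsE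
  rw [mul_one] at hc
  have hxk : Commute x (s' * y') :=
    (X.W_S x hx s' hs').mul_right (X.comm_R_of_lam hlam hx hy')
  have hkE := hinv (s' * y') (mul_mem (X.S_le_M hs') (X.R_le_M hy')) h2
    (by rw [← mul_assoc v s x]; exact (hc.mul_left hxk).symm)
  refine hs'E (X.mem_E_of_SR hs' ?_)
  have := mul_mem (X.E_le_R hkE) (inv_mem hy')
  rwa [mul_inv_cancel_right] at this

/-- The hypothesis of the case division, for a conjugate of `v`. -/
theorem invol_comm {g u k : G} (hgv : g * v * g⁻¹ = u) (hgE : ∀ e ∈ E, g * e * g⁻¹ ∈ E)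
    (hback : g⁻¹ * k * g ∈ S ∨ g⁻¹ * k * g * v ∈ S) (hk : k ∈ X.M) (h2 : k * k = 1) : k ∈ E := by
  set p := g⁻¹ * k * g with hp
  have hk' : k = g * p * g⁻¹ := by rw [hp]; group
  have hp2 : p * p = 1 := by
    rw [hp, show g⁻¹ * k * g * (g⁻¹ * k * g) = g⁻¹ * (k * k) * g by group, h2, mul_one, inv_mul_cancel]
  rcases hback with h | h
  · rw [hk']; exact hgE p (X.typ.mem_E_of_sq h hp2)
  exfalso
  have hc : Commute p v := by
    have := (X.sv h).mul_left (Commute.refl v)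
    rwa [mul_assoc, X.vv, mul_one] at this
  have hpE : p * v ∈ E := X.typ.mem_E_of_sq h (by rw [hc.symm.mul_mul_mul_comm, hp2, X.vv, one_mul])
  refine X.conj_not_M g ?_
  have e : g * v * g⁻¹ = k⁻¹ * (g * (p * v) * g⁻¹) := by rw [hk']; group
  rw [e]
  exact mul_mem (inv_mem hk) (X.E_le_M (hgE _ hpE))

/-- The elements at `a` normalising `E` and `S W ⟨v⟩`. -/
def NW₃ (X : C.Ext3 v a b D E P) : Subgroup G :=
  subgroupOfClosed {h | h • a = a ∧ (∀ e ∈ E, h * e * h⁻¹ ∈ E) ∧ ∀ g ∈ X.W₃, h * g * h⁻¹ ∈ X.W₃}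
    ⟨one_smul _ a, fun e he => by simpa using he, fun g hg => by simpa using hg⟩
    (by
      rintro g h ⟨hga, hgE, hgW⟩ ⟨hha, hhE, hhW⟩
      refine ⟨by rw [mul_smul, hha, hga], fun e he => ?_, fun x hx => ?_⟩
      · simpa [mul_assoc] using hgE _ (hhE e he)
      · simpa [mul_assoc] using hgW _ (hhW x hx))

theorem mem_NW₃ {h : G} : h ∈ X.NW₃ ↔
    h • a = a ∧ (∀ e ∈ E, h * e * h⁻¹ ∈ E) ∧ ∀ g ∈ X.W₃, h * g * h⁻¹ ∈ X.W₃ := Iff.rfl

/-- `R` is the group of commutators of `S W ⟨v⟩`, hence invariant. -/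
theorem NW₃_R {h y : G} (hh : h ∈ X.NW₃) (hy : y ∈ X.R) : h * y * h⁻¹ ∈ X.R := by
  obtain ⟨g, hg, hgE⟩ := X.W_surj y hy
  rw [show h * y * h⁻¹ =
    (h * v * h⁻¹) * (h * g * h⁻¹) * (h * v * h⁻¹)⁻¹ * (h * g * h⁻¹)⁻¹ *
      (h * ((del v g)⁻¹ * y) * h⁻¹) by rw [del]; group]
  exact mul_mem (X.W₃_W₃ (hh.2.2 _ X.v_mem_W₃) (hh.2.2 _ (X.M_le_W₃ (X.W_le_M hg))))
    (X.E_le_R (hh.2.1 _ hgE))

/-- The classes of the conjugates of `v`. -/
theorem NW₃_shift {h : G} (hh : h ∈ X.NW₃) : v * (h * v * h⁻¹) ∈ X.W := by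
  set u := h * v * h⁻¹ with hu
  have huW : u ∈ X.W₃ := hh.2.2 v X.v_mem_W₃
  have hm : v * u ∈ X.M := by
    rcases X.mem_W₃.1 huW with h1 | h1
    · exact absurd h1 (X.conj_not_M h)
    · have := X.vMv h1
      rwa [mul_assoc v (u * v), mul_assoc u v v, X.vv, mul_one] at this
  have hvu : v * (v * u) = u := by rw [← mul_assoc, X.vv, one_mul]
  have huu : u * u = 1 := by
    rw [hu, show h * v * h⁻¹ * (h * v * h⁻¹) = h * (v * v) * h⁻¹ by group, X.vv, mul_one, mul_inv_cancel]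
  rcases X.shift_cases hm (by rw [hvu, huu]) (fun k hk h2 hc => by
      rw [hvu] at hc
      refine X.invol_comm (g := h) hu.symm hh.2.1 ?_ hk h2
      have hk' := (inv_mem hh : h⁻¹ ∈ X.NW₃).2.2 k (X.M_le_W₃ hk)
      rw [inv_inv] at hk'
      refine X.W₃_comm hk' ?_
      have := (Commute.conj_iff h⁻¹).2 hc
      rwa [inv_inv, show h⁻¹ * u * h = v by rw [hu]; group] at this) with h1 | ⟨-, h1⟩
  · exact X.R_le_W h1
  · exact h1

theorem T₁_le_NW₃ {g : G} (hg : g ∈ X.T₁) : g ∈ X.NW₃ := by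
  obtain ⟨m, hm, d, hd, rfl⟩ := X.exists_md hg
  refine ⟨X.T₁_fix _ hg, fun e he => ?_, fun x hx => ?_⟩
  · have h1 := X.typ.norm d (X.typ.le hd) e he
    rw [show m * d * e * (m * d)⁻¹ = m * (d * e * d⁻¹) * m⁻¹ by group, (X.M_E hm h1).eq,
      mul_inv_cancel_right]
    exact h1
  · have hv : m * d * v * (m * d)⁻¹ ∈ X.W₃ := by
      rw [show m * d * v * (m * d)⁻¹ = m * (d * v * d⁻¹) * m⁻¹ by group,
        (X.typ.maxPair.fix d hd).2.2.eq, mul_inv_cancel_right]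
      exact mul_mem (mul_mem (X.M_le_W₃ hm) X.v_mem_W₃) (inv_mem (X.M_le_W₃ hm))
    rcases X.mem_W₃.1 hx with h | h
    · exact X.M_le_W₃ (X.conj_M hg h)
    · have := mul_mem (X.M_le_W₃ (X.conj_M hg h)) hv
      rwa [show m * d * (x * v) * (m * d)⁻¹ * (m * d * v * (m * d)⁻¹) =
        m * d * (x * (v * v)) * (m * d)⁻¹ by group, X.vv, mul_one] at this

/-- **No element of `N(E) ∩ N(W₃)` at `a` moves `v` out of `v R`.** -/
theorem shift_mem_R {x : G} (hx : x ∈ X.NW₃) : v * (x * v * x⁻¹) ∈ X.R := by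
  classical
  haveI : Fact (Nat.Prime 2) := ⟨Nat.prime_two⟩
  by_contra hxR
  have hw := X.NW₃_shift hx
  have ht0 : X.tt (v * (x * v * x⁻¹)) ≠ 0 := fun h => hxR (X.mem_R_of_tt hw h)
  have hback : ∀ {h : G}, h * v * h⁻¹ = v * (v * (h * v * h⁻¹)) := fun {h} => by
    rw [← mul_assoc v v, X.vv, one_mul]
  -- the stabiliser of the class `v R`
  let J : Subgroup G := subgroupOfClosed {h | h ∈ X.NW₃ ∧ v * (h * v * h⁻¹) ∈ X.R}
    ⟨one_mem _, by rw [one_mul, inv_one, mul_one, X.vv]; exact one_mem _⟩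
    (by
      rintro g h ⟨hg, hgR⟩ ⟨hh, hhR⟩
      refine ⟨mul_mem hg hh, ?_⟩
      rw [show v * (g * h * v * (g * h)⁻¹) =
        v * (g * v * g⁻¹) * (g * (v⁻¹ * (h * v * h⁻¹)) * g⁻¹) by group,
        inv_eq_of_mul_eq_one_right X.vv]
      exact mul_mem hgR (X.NW₃_R hg hhR))
  have hT₁J : X.T₁ ≤ J := fun g hg => ⟨X.T₁_le_NW₃ hg, by
    obtain ⟨m, hm, d, hd, rfl⟩ := X.exists_md hg
    rw [show m * d * v * (m * d)⁻¹ = m * (d * v * d⁻¹) * m⁻¹ by group,
      (X.typ.maxPair.fix d hd).2.2.eq, mul_inv_cancel_right, ← mul_assoc v, ← mul_assoc v]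
    have := X.del_M hm
    rwa [del, inv_eq_of_mul_eq_one_right X.vv] at this⟩
  -- every class occurs
  have hcls : ∀ e : ↥E, ∃ h ∈ X.NW₃, X.tt (v * (h * v * h⁻¹)) = X.co.z (e : G) := by
    intro e
    by_cases he0 : X.co.z (e : G) = 0
    · exact ⟨1, one_mem _, by rw [one_mul, inv_one, mul_one, X.vv, X.tt_R (one_mem _), he0]⟩
    obtain ⟨ν, hνq, hνν⟩ := X.exists_sqrt_fix (r := X.co.z (e : G) / X.tt (v * (x * v * x⁻¹)))
      (by rw [div_pow, X.co.z_fix _ e.2, X.tt_fix hw])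
    have hν : ν ≠ 0 := fun h => by
      rw [h, mul_zero] at hνν
      exact div_ne_zero he0 ht0 hνν.symm
    obtain ⟨m, hmv, hmR, hmW, hmt, -, hmE, hma, hmS⟩ := X.exists_scale hν hνq
    have hmM : ∀ g ∈ X.M, m * g * m⁻¹ ∈ X.M := by
      rintro _ ⟨s, hs, w, hw', rfl⟩
      exact ⟨_, hmS s hs, _, hmW w hw', by group⟩
    have hvm : m * v * m⁻¹ = v := by rw [hmv.eq, mul_inv_cancel_right]
    have hmN : m ∈ X.NW₃ := by
      refine ⟨hma, fun e he => (hmE e he).1, fun g hg => ?_⟩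
      rcases X.mem_W₃.1 hg with h | h
      · exact X.M_le_W₃ (hmM g h)
      · refine X.mem_W₃.2 (Or.inr ?_)
        have := hmM _ h
        rwa [show m * (g * v) * m⁻¹ = m * g * m⁻¹ * (m * v * m⁻¹) by group, hvm] at this
    refine ⟨m * x, mul_mem hmN hx, ?_⟩
    rw [show m * x * v * (m * x)⁻¹ = m * (x * v * x⁻¹) * m⁻¹ by group,
      show v * (m * (x * v * x⁻¹) * m⁻¹) = v * m * (x * v * x⁻¹) * m⁻¹ by group, ← hmv.eq,
      show m * v * (x * v * x⁻¹) * m⁻¹ = m * (v * (x * v * x⁻¹)) * m⁻¹ by group, hmt _ hw, pow_two, hνν,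
      div_mul_cancel₀ _ ht0]
  choose he hheN hhet using hcls
  have hclass : ∀ g ∈ X.NW₃, ∀ h ∈ X.NW₃,
      X.tt (v * (g * v * g⁻¹)) = X.tt (v * (h * v * h⁻¹)) → g⁻¹ * h ∈ J := by
    intro g hg h hh hgh
    refine ⟨mul_mem (inv_mem hg) hh, ?_⟩
    have hr : (v * (g * v * g⁻¹))⁻¹ * (v * (h * v * h⁻¹)) ∈ X.R :=
      X.mem_R_of_tt (mul_mem (inv_mem (X.NW₃_shift hg)) (X.NW₃_shift hh)) (by
        rw [X.tt_mul (inv_mem (X.NW₃_shift hg)) (X.NW₃_shift hh), X.tt_inv (X.NW₃_shift hg), hgh,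
          CharTwo.add_self_eq_zero])
    have h1 := X.NW₃_R (inv_mem hg) hr
    rwa [show g⁻¹ * ((v * (g * v * g⁻¹))⁻¹ * (v * (h * v * h⁻¹))) * g⁻¹⁻¹ =
      v⁻¹ * (g⁻¹ * h * v * (g⁻¹ * h)⁻¹) by group, inv_eq_of_mul_eq_one_right X.vv] at h1
  have hcard : Nat.card X.NW₃ = q * Nat.card J := by
    rw [← Nat.card_prod]
    refine (Nat.card_congr (Equiv.ofBijective (fun p : ↥E × ↥J =>
      (⟨he p.1 * p.2, mul_mem (hheN p.1) p.2.2.1⟩ : ↥X.NW₃)) ⟨fun p p' e => ?_, fun h => ?_⟩)).symm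
    · have e' : he p.1 * (p.2 : G) = he p'.1 * p'.2 := congrArg Subtype.val e
      have key : ∀ (c : ↥E) (j : ↥J),
          X.tt (v * (he c * (j : G) * v * (he c * (j : G))⁻¹)) = X.co.z (c : G) := by
        intro c j
        have hr := X.NW₃_R (hheN c) j.2.2
        rw [show v * (he c * (j : G) * v * (he c * (j : G))⁻¹) =
          v * (he c * v * (he c)⁻¹) * (he c * (v⁻¹ * ((j : G) * v * (j : G)⁻¹)) * (he c)⁻¹) by group,
          inv_eq_of_mul_eq_one_right X.vv, X.tt_mul (X.NW₃_shift (hheN c)) (X.R_le_W hr),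
          X.tt_R hr, add_zero, hhet]
      have hz : X.co.z (p.1 : G) = X.co.z (p'.1 : G) := by rw [← key p.1 p.2, ← key p'.1 p'.2, e']
      have h1 : p.1 = p'.1 := Subtype.ext (X.co.z_inj p.1.2 p'.1.2 hz)
      rw [h1] at e'
      exact Prod.ext h1 (Subtype.ext (mul_left_cancel e'))
    · obtain ⟨d, hd, hdz⟩ := X.co.z_surj _ (X.tt_fix (X.NW₃_shift h.2))
      exact ⟨(⟨d, hd⟩, ⟨_, hclass _ (hheN ⟨d, hd⟩) _ h.2 ((hhet ⟨d, hd⟩).trans hdz)⟩),
        Subtype.ext (mul_inv_cancel_left _ _)⟩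
  obtain ⟨k, hk⟩ := IsPGroup.iff_card.1 X.T₁_two
  obtain ⟨e, he'⟩ := IsPGroup.iff_card.1 (X.typ.isE.isPGroup C)
  obtain ⟨Q, hQ⟩ := Sylow.exists_subgroup_card_pow_prime (G := ↥X.NW₃) 2 (n := e + k) (by
    rw [hcard, pow_add, ← he', ← hk]
    exact Nat.mul_dvd_mul_left _ (card_dvd_of_le hT₁J))
  refine X.no_big ((IsPGroup.of_card hQ).map X.NW₃.subtype)
    (fun g hg => ((map_subtype_le _) hg : g ∈ X.NW₃).1) ?_
  rw [card_map_of_injective X.NW₃.subtype_injective, hQ, pow_add, ← he', ← hk, X.card_T₁,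
    ← mul_assoc, pow_two]

/-- **A moved `v` in `S W ⟨v⟩`.** -/
theorem false_of_shift {S0 : Subgroup G} (_hS : IsPGroup 2 S0) (hSa : ∀ g ∈ S0, g • a = a)
    (_hle : X.T₁ ≤ S0) {x : G} (hx : x ∈ S0) (hxT : ∀ t ∈ X.T₁, x * t * x⁻¹ ∈ X.T₁)
    (hxE : ∀ e ∈ E, x * e * x⁻¹ ∈ E) (hxE2 : ∀ e ∈ E, x⁻¹ * e * x ∈ E) {m : G} (hm : m ∈ X.M)
    (hu : x * v * x⁻¹ = v * m) (hmR : m ∉ X.R) : False := by
  classical
  have hmap : X.T₁.map (MulAut.conj x).toMonoidHom = X.T₁ :=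
    eq_of_le_of_card_ge (by rintro _ ⟨t, ht, rfl⟩; exact hxT t ht)
      (card_map_of_injective (MulAut.conj x).injective).ge
  have hCar : X.Car x (v * m) :=
    { ga := hSa x hx
      gv := hu
      to_T₁ := fun p hp => hxT p (X.P_le hp)
      back := fun t ht htu => by
        obtain ⟨t₀, ht₀, e⟩ := hmap.ge ht
        have h1 : x⁻¹ * t * x = t₀ := by
          rw [← e]; show x⁻¹ * (x * t₀ * x⁻¹) * x = t₀; group
        have hc := (Commute.conj_iff x⁻¹).2 htu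
        rw [inv_inv, h1, ← hu, show x⁻¹ * (x * v * x⁻¹) * x = v by group] at hc
        rw [h1, ← X.P_eq]
        exact mem_inf.2 ⟨ht₀, mem_centralizer_singleton_iff.2 hc.eq⟩
      gE := hxE
      gE' := hxE2 }
  obtain ⟨hback, hlift, hcard, -⟩ := Car.structure_M X hCar
  obtain ⟨hlam, hmW⟩ := (X.shift_cases hm (Car.sq X hCar) fun k hk h2 hc =>
    X.invol_comm hu hxE (hback k hk hc) hk h2).resolve_left hmR
  have hSu : ∀ s ∈ S, Commute s (v * m) := fun s hs => (X.sv hs).mul_right (X.W_S m hmW s hs).symm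
  have hCS : ∀ k ∈ X.M, Commute k (v * m) → k ∈ S := by
    have heq : S = X.M ⊓ centralizer ({v * m} : Set G) := by
      refine eq_of_le_of_card_ge (fun s hs => mem_inf.2 ⟨X.S_le_M hs,
        mem_centralizer_singleton_iff.2 (hSu s hs).eq⟩) ?_
      rw [hcard, X.typ.card_S, X.qn]
    exact fun k hk hc => heq.ge (mem_inf.2 ⟨hk, mem_centralizer_singleton_iff.2 hc.eq⟩)
  have huu : v * m * (v * m) = 1 := Car.sq X hCar
  -- the image of `S`
  have himg : ∀ s ∈ S, x * s * x⁻¹ ∈ S ∨ x * s * x⁻¹ * (v * m) ∈ S := by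
    intro s hs
    obtain ⟨k, hk, hku, hks⟩ := hlift s hs
    rcases hks with h | h
    · left
      rw [← h, show x * (x⁻¹ * k * x) * x⁻¹ = k by group]
      exact hCS k hk hku
    · right
      have e : x * s * x⁻¹ * (v * m) = k := by
        rw [← hu, show x * s * x⁻¹ * (x * v * x⁻¹) = x * (s * v) * x⁻¹ by group, ← h]; group
      rw [e]
      exact hCS k hk hku
  have hvm : v * m ∈ X.W₃ := mul_mem X.v_mem_W₃ (X.M_le_W₃ (X.W_le_M hmW))
  have hSW : ∀ s ∈ S, x * s * x⁻¹ ∈ X.W₃ := fun s hs => by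
    rcases himg s hs with h | h
    · exact X.M_le_W₃ (X.S_le_M h)
    · have := mul_mem (X.M_le_W₃ (X.S_le_M h)) (inv_mem hvm)
      rwa [mul_inv_cancel_right] at this
  -- the image of `W`
  have hWW : ∀ w ∈ X.W, x * w * x⁻¹ ∈ X.W₃ := by
    intro w hw
    obtain ⟨m₁, hm₁, d, hd, e⟩ := X.exists_md (hxT w (X.W_le hw))
    have hyE : ∀ e ∈ E, Commute (x * w * x⁻¹) e := fun e' he' => by
      have h1 := (Commute.conj_iff x).2 (X.W_E w hw _ (hxE2 e' he'))
      rwa [show x * (x⁻¹ * e' * x) * x⁻¹ = e' by group] at h1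
    have hdE : ∀ e ∈ E, Commute d e := fun e' he' => by
      have := ((X.M_E hm₁ he').inv_left).mul_left (hyE e' he')
      rwa [e, inv_mul_cancel_left] at this
    obtain ⟨c, σ, hσw, hker, -, hfrob, -⟩ := X.exists_sigma
    set d' : ↥P := ⟨d, X.typ.le hd⟩
    have hd12 : d ∈ S ∨ d * v ∈ S := by
      refine (hfrob d' hdE).elim (fun h => hker d' h) fun hq => ?_
      exfalso
      have h4 := X.four_le
      have hfix : ∀ s ∈ S, x * s * x⁻¹ ∈ S →
          c d' * X.co.w (x * s * x⁻¹) ^ q = X.co.w (x * s * x⁻¹) := by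
        intro s hs hk
        set k := x * s * x⁻¹
        have hc : Commute (m₁ * d) k := by rw [← e]; exact (Commute.conj_iff x).2 (X.W_S w hw s hs)
        have hdk : d * k * d⁻¹ ∈ S := by
          have := (X.conjP d' ⟨k, hk⟩).2
          rwa [X.conjP_apply] at this
        rw [← hq, ← hσw d' ⟨k, hk⟩, X.conjP_apply, ← X.M_w hm₁ hdk,
          show m₁ * (d * k * d⁻¹) * m₁⁻¹ = m₁ * d * k * (m₁ * d)⁻¹ by group, hc.eq,
          mul_inv_cancel_right]
      let H : Subgroup G := subgroupOfClosed {s | s ∈ S ∧ x * s * x⁻¹ ∈ S}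
        ⟨one_mem _, by simp⟩ (by
          rintro g h ⟨hg, hg'⟩ ⟨hh, hh'⟩
          refine ⟨mul_mem hg hh, ?_⟩
          rw [show x * (g * h) * x⁻¹ = x * g * x⁻¹ * (x * h * x⁻¹) by group]
          exact mul_mem hg' hh')
      have hH2 : q ^ 3 ≤ 2 * Nat.card H := by
        rw [← X.qn, ← X.typ.card_S]
        by_cases hall : ∀ s ∈ S, x * s * x⁻¹ ∈ S
        · exact le_trans (Nat.card_le_card_of_injective (fun s : ↥(S) => (⟨s, s.2, hall s s.2⟩ : ↥H))
            fun s s' h => Subtype.ext (congrArg Subtype.val h :)) (Nat.le_mul_of_pos_left _ two_pos)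
        push Not at hall
        obtain ⟨s₀, hs₀, hs₀'⟩ := hall
        have hk₀ := (himg s₀ hs₀).resolve_left hs₀'
        have hout : ∀ s : ↥(S), ¬ x * (s : G) * x⁻¹ ∈ S → (s : G) * s₀ ∈ H := fun s hs => by
          have hk := (himg s s.2).resolve_left hs
          refine ⟨mul_mem s.2 hs₀, ?_⟩
          have := mul_mem hk hk₀
          rwa [show x * (s : G) * x⁻¹ * (v * m) * (x * s₀ * x⁻¹ * (v * m)) =
            x * (s : G) * x⁻¹ * ((v * m) * (x * s₀ * x⁻¹ * (v * m))) by group,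
            ← (hSu _ hk₀).eq, mul_assoc (x * s₀ * x⁻¹), huu, mul_one,
            show x * (s : G) * x⁻¹ * (x * s₀ * x⁻¹) = x * ((s : G) * s₀) * x⁻¹ by group] at this
        rw [mul_comm, ← Nat.card_eq_two_iff.2 ⟨false, true, by simp, by ext b; cases b <;> simp⟩,
          ← Nat.card_prod]
        refine Nat.card_le_card_of_injective (fun s : ↥(S) =>
          if h : x * (s : G) * x⁻¹ ∈ S then ((⟨s, s.2, h⟩ : ↥H), false)
          else ((⟨(s : G) * s₀, hout s h⟩ : ↥H), true)) fun s s' hss => ?_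
        simp only at hss
        split_ifs at hss with h h'
        · exact Subtype.ext (congrArg (fun p : ↥H × Bool => (p.1 : G)) hss)
        · exact absurd (congrArg Prod.snd hss) Bool.false_ne_true
        · exact absurd (congrArg Prod.snd hss).symm Bool.false_ne_true
        · exact Subtype.ext (mul_right_cancel (congrArg (fun p : ↥H × Bool => (p.1 : G)) hss))
      have hH : Nat.card H ≤ q * q := by
        choose sec hsec hsecw using fun r : {r : X.co.K // c d' * r ^ q = r} => X.co.w_surj r.1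
        refine le_trans (Nat.card_le_card_of_injective (fun s : ↥H =>
          ((⟨X.co.w (x * s * x⁻¹), hfix s s.2.1 s.2.2⟩ : {r : X.co.K // c d' * r ^ q = r}),
            (⟨(sec ⟨X.co.w (x * s * x⁻¹), hfix s s.2.1 s.2.2⟩)⁻¹ * (x * s * x⁻¹),
              (X.w_eq (hsec _) s.2.2).1 (hsecw _)⟩ : ↥E))) fun s s' hss => ?_) ?_
        · obtain ⟨h1, h2⟩ := Prod.ext_iff.1 hss
          have h3 := congrArg Subtype.val h2
          have h0 : X.co.w (x * (s : G) * x⁻¹) = X.co.w (x * (s' : G) * x⁻¹) := congrArg Subtype.val h1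
          simp only [h0] at h3
          exact Subtype.ext (mul_left_cancel (mul_right_cancel (mul_left_cancel h3)))
        · rw [Nat.card_prod]
          exact Nat.mul_le_mul_right _ (card_twist_fixed_le _ X.two_le)
      have h3 : q ^ 3 ≤ 2 * (q * q) := hH2.trans (Nat.mul_le_mul_left _ hH)
      nlinarith [Nat.mul_le_mul_right (q * q) h4]
    rw [e]
    rcases X.mem_D_of_ker hd hd12 with rfl | rfl
    · rw [mul_one]; exact X.M_le_W₃ hm₁
    · exact mul_mem (X.M_le_W₃ hm₁) X.v_mem_W₃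
  -- so `x` normalises `S W ⟨v⟩`
  have hMW : ∀ g ∈ X.M, x * g * x⁻¹ ∈ X.W₃ := by
    rintro _ ⟨s, hs, w, hw, rfl⟩
    rw [show x * (s * w) * x⁻¹ = x * s * x⁻¹ * (x * w * x⁻¹) by group]
    exact mul_mem (hSW s hs) (hWW w hw)
  have hxN : x ∈ X.NW₃ := ⟨hSa x hx, hxE, fun g hg => by
    rcases X.mem_W₃.1 hg with h | h
    · exact hMW g h
    · have h1 := mul_mem (hMW _ h) hvm
      rwa [← hu, show x * (g * v) * x⁻¹ * (x * v * x⁻¹) = x * (g * (v * v)) * x⁻¹ by group, X.vv,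
        mul_one] at h1⟩
  have := X.shift_mem_R hxN
  rw [hu, ← mul_assoc, X.vv, one_mul] at this
  exact hmR this

end Ctx.Ext3

end CfsgLib.Criterion
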