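import Cfsg.Agent.Criterion.TypeU3Top
import Cfsg.Agent.Criterion.TypeU3TopOrbit
import Cfsg.Agent.Criterion.TypeU3Split
import Cfsg.Agent.Criterion.TypeU3EndT
import Cfsg.Agent.Criterion.TypeU3EndExt
import Cfsg.Agent.Criterion.TypeU3DecExists
import Cfsg.Agent.Criterion.TypeU3LayOfDec
import Cfsg.Agent.Criterion.TypeSzEnd

/-!
# The strong embedding criterion: the unitary type with kernel `⟨v⟩`
-/

set_option autoImplicit false
set_option linter.style.haveILetI false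
set_option linter.unusedSectionVars false

namespace CfsgLib.Criterion

open Subgroup CfsgLib.Invol CfsgLib.Bender

universe u

variable {G : Type u} [Group G] [Finite G]

namespace Ctx

variable {C : Ctx G}

namespace Ext3

variable {v : G} {a b : C.Pt} {D E P : Subgroup G} (X : C.Ext3 v a b D E P)

include X

/-- `T₁` is a Sylow subgroup. -/
theorem exists_sylow : ∃ S₀ : Sylow 2 G, (S₀ : Subgroup G) = X.T₁ := by
  haveI : Fact (Nat.Prime 2) := ⟨Nat.prime_two⟩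
  obtain ⟨S₀, hS⟩ := X.T₁_two.exists_le_sylow
  letI : MulAction ↥(S₀ : Subgroup G) C.Pt := inferInstance
  obtain ⟨c, hc⟩ := S₀.isPGroup'.nonempty_fixed_point_of_prime_not_dvd_card C.Pt
    (fun h => Nat.not_even_iff_odd.2 C.odd_Pt (even_iff_two_dvd.2 h))
  have hc' : ∀ g ∈ (S₀ : Subgroup G), g • c = c := fun g hg => hc ⟨g, hg⟩
  obtain rfl : c = a := X.typ.eq_a_of_fixed fun g hg => hc' g (hS (X.P_le hg))
  refine ⟨S₀, ?_⟩
  by_contra hne
  haveI : Group.IsNilpotent ↥(S₀ : Subgroup G) := S₀.isPGroup'.isNilpotent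
  set N := X.T₁.subgroupOf (S₀ : Subgroup G)
  have hlt : N < ⊤ := lt_top_iff_ne_top.2 fun h =>
    hne (le_antisymm (subgroupOf_eq_top.1 h) hS)
  obtain ⟨x, hx, hxN⟩ := SetLike.exists_of_lt (Group.normalizerCondition_of_isNilpotent N hlt)
  have hxT : ∀ t ∈ X.T₁, (x : G) * t * (x : G)⁻¹ ∈ X.T₁ := fun t ht =>
    (mem_normalizer_iff.1 hx ⟨t, hS ht⟩).1 ht
  have hmem := fun h => hxN (show (x : G) ∈ X.T₁ from
    X.mem_T₁_of S₀.isPGroup' hS hc' x.2 hxT h)
  by_cases hW : (x : G) * v * (x : G)⁻¹ ∈ X.W₃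
  · have hcar := X.car_of_norm (hc' x x.2) hxT
    have h1 : (x : G) * v * (x : G)⁻¹ * v ∈ X.M := hW.resolve_left (Car.not_M X hcar)
    have hm : v * ((x : G) * v * (x : G)⁻¹) ∈ X.M := by
      have := X.vMv h1
      rwa [mul_assoc, mul_assoc, X.vv, mul_one] at this
    have hu : (x : G) * v * (x : G)⁻¹ = v * (v * ((x : G) * v * (x : G)⁻¹)) := by
      rw [← mul_assoc v v, X.vv, one_mul]
    by_cases hR : v * ((x : G) * v * (x : G)⁻¹) ∈ X.R
    · exact hmem (Or.inr ⟨_, hR, hu⟩)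
    · exact X.false_of_shift S₀.isPGroup' hc' hS x.2 hxT (X.conj_E hxT).1 (X.conj_E hxT).2 hm hu hR
  · exact hmem (Or.inl hW)

end Ext3

variable (C)

/-- **The unitary type with kernel `⟨v⟩` does not occur.** -/
theorem false_of_unitary_one (hgen : closure C.Z = ⊤)
    (hfaith : ∀ g : G, (∀ c : C.Pt, g • c = c) → g = 1) {v : G} {b : C.Pt} {D E : Subgroup G}
    (hT : C.TypePair v b D E) (hQ : C.qn v C.base = Nat.card E ^ 3)
    (hsmall : ∀ g ∈ D, (∀ c : C.Pt, v • c = c → g • c = c) → g = 1 ∨ g = v) : False := by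
  classical
  have hf : ∀ u : G, orderOf u = 2 → ∃ c : C.Pt, u • c ≠ c := fun u hu =>
    C.exists_move_of_faithful hfaith hu
  obtain ⟨E', P, -, ⟨X⟩⟩ := exists_cfg3 hT.bad hfaith
    (fun u hu => Bad.pairRank_of_gen C hf hgen hu) hT.maxPair hT.isE hQ hsmall
  obtain ⟨Dc⟩ := X.exists_dec
  obtain ⟨L, -⟩ := X.exists_lay3 Dc
  rcases L.sylow_or_ext with ⟨S₀, hS₀⟩ | ⟨⟨Y⟩⟩
  · exact L.false_of_sylow hgen S₀ hS₀
  · obtain ⟨S₀, hS₀⟩ := Y.exists_sylow
    exact Y.false_of_sylow hgen S₀ hS₀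

end Ctx

end CfsgLib.Criterion
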