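import Cfsg.Agent.Criterion.Action.Bridge
import Cfsg.Agent.Criterion.Action.Tight
import Cfsg.Agent.Criterion.TypeMeet
import Cfsg.Agent.Criterion.TypeSzEnd
import Cfsg.Agent.Criterion.TypeU3Final
import Cfsg.Agent.Criterion.Consumers
import Cfsg.Agent.Criterion.Reduce

/-!
# The strong embedding criterion
-/

set_option autoImplicit false

namespace CfsgLib.Criterion

universe u

/-- **The local data of the strong embedding criterion hold in every finite group.** -/
theorem localData : Consumers.LocalData.{u} :=
  localData_of_noBad fun Q _ _ C hgen hfaith v hv =>
    C.false_of_bad_of_type hgen hfaith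
      (C.false_of_type_one hgen hfaith fun v b D E hT hs =>
        hT.type.elim (fun hQ => C.false_of_suzuki_one hgen hfaith hT hQ hs)
          fun hQ => C.false_of_unitary_one hgen hfaith hT hQ hs) hv

end CfsgLib.Criterion
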