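import Cfsg.Agent.Criterion.Local

/-!
# The strong embedding criterion: the local group modulo its odd core

The elements of the local group fixing all fixed points of `v` form its odd core, and the quotient is
one of the three simple groups with a strongly embedded subgroup.
-/

set_option autoImplicit false
set_option linter.style.haveILetI false
set_option linter.unusedSectionVars false

namespace CfsgLib.Criterion

open Subgroup CfsgLib.Invol CfsgLib.Bender

universe u

variable {G : Type u} [Group G]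

namespace Ctx

variable [Finite G] (C : Ctx G)

/-- The elements of the local group fixing every fixed point of `v`. -/
def fixKer (v : G) : Subgroup ↥(C.L v) := ⨅ (a : C.Pt) (_ : v • a = a), C.LH v a

theorem mem_fixKer {v : G} {x : ↥(C.L v)} :
    x ∈ C.fixKer v ↔ ∀ a : C.Pt, v • a = a → (x : G) • a = a := by
  simp only [fixKer, mem_iInf, C.mem_LH]

theorem fixKer_normal (v : G) : (C.fixKer v).Normal := ⟨fun x hx g => C.mem_fixKer.2 fun a ha => by
  have hga : v • ((g : G)⁻¹ • a) = (g : G)⁻¹ • a := by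
    rw [smul_smul, (C.commute_of_mem_L (inv_mem g.2) : Commute (g : G)⁻¹ v).eq.symm, mul_smul, ha]
  show ((g : G) * (x : G) * (g : G)⁻¹) • a = a
  rw [mul_smul, mul_smul, C.mem_fixKer.1 hx _ hga, smul_inv_smul]⟩

theorem Bad.odd_fixKer {v : G} (hv : C.Bad v) : Odd (Nat.card (C.fixKer v)) := by
  haveI : Fact (Nat.Prime 2) := ⟨Nat.prime_two⟩
  rw [← Nat.not_even_iff_odd]
  intro hev
  obtain ⟨s, hs⟩ := exists_prime_orderOf_dvd_card' (G := ↥(C.fixKer v)) 2 hev.two_dvd
  obtain ⟨hv2, a, b, hab, ha, hb⟩ := id hv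
  have hsG : orderOf ((s : ↥(C.L v)) : G) = 2 := by rw [Subgroup.orderOf_coe, Subgroup.orderOf_coe, hs]
  exact hab (C.fix_unique (hv.mem_Z_of_mem_L C (s : ↥(C.L v)).2 hsG)
    (C.mem_fixKer.1 s.2 a ha) (C.mem_fixKer.1 s.2 b hb))

/-- The odd core of the local group is the kernel of the action on the fixed points. -/
theorem Bad.oddCore_eq_fixKer {v : G} (hv : C.Bad v) (hp : PairRank ↥(C.L v)) :
    Cfsg.oddCore ↥(C.L v) = C.fixKer v :=
  le_antisymm (le_iInf₂ fun a ha => hv.oddCore_le_LH C hp ha)
    (Core.le_oddCore (C.fixKer_normal v) (hv.odd_fixKer C))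

/-- The local group modulo its odd core is one of the three simple groups. -/
theorem Bad.quot_three {v : G} (hv : C.Bad v) (hp : PairRank ↥(C.L v)) :
    Consumers.Three (↥(C.L v) ⧸ Cfsg.oddCore ↥(C.L v)) := by
  obtain ⟨-, a, -, -, ha, -⟩ := id hv
  have h := Consumers.closure_three Consumers.structure_all (hv.isStronglyEmbedded C ha) hp
  have htop : Cfsg.pElementClosure 2 (⊤ : Subgroup (↥(C.L v) ⧸ Cfsg.oddCore ↥(C.L v))) = ⊤ := by
    have hgen : closure {x : ↥(C.L v) | (x : G) ∈ C.ZC v} = ⊤ := by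
      rw [eq_top_iff]
      rintro ⟨g, hg⟩ -
      induction hg using closure_induction with
      | mem g hg => exact subset_closure hg
      | one => exact one_mem _
      | mul g g' _ _ h h' => exact mul_mem h h'
      | inv g _ h => exact inv_mem h
    refine eq_top_iff.2 (le_trans (le_of_eq (?_ : ⊤ = closure (QuotientGroup.mk' (Cfsg.oddCore ↥(C.L v)) ''
      {x : ↥(C.L v) | (x : G) ∈ C.ZC v}))) ((closure_le _).2 ?_))
    · rw [← MonoidHom.map_closure, hgen, map_top_of_surjective _ (QuotientGroup.mk'_surjective _)]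
    rintro _ ⟨x, hx, rfl⟩
    have hpow : orderOf (QuotientGroup.mk' (Cfsg.oddCore ↥(C.L v)) x) ∣ 2 ^ 1 :=
      (orderOf_map_dvd _ x).trans (dvd_of_eq
        ((Subgroup.orderOf_coe x).symm.trans ((C.orderOf_Z hx.1).trans (pow_one 2).symm)))
    obtain ⟨k, -, hk⟩ := (Nat.dvd_prime_pow Nat.prime_two).1 hpow
    exact subset_closure ⟨mem_top _, k, hk⟩
  exact Consumers.Three.congr h ((MulEquiv.subgroupCongr htop).trans Subgroup.topEquiv).symm

end Ctx

end CfsgLib.Criterion
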