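import Cfsg.Agent.Criterion.Abelian
import Cfsg.Agent.Criterion.Quot

/-!
# The strong embedding criterion: `W` regular, the second involution

In the case where `W` is transitive on the points other than `a`, the local group `L` of `v` is
faithful on the fixed points of `v` and no element of odd order of `L` centralises a member.  Then
`|L| = q (q ^ 2 - 1)`, its two-point stabilisers are abelian of order `q - 1`, and `v` is the only
involution of the two-point stabiliser commuting with `v` (`notes/criterion_master.md`, CASE I).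
-/

set_option autoImplicit false
set_option linter.style.haveILetI false
set_option linter.unusedSectionVars false

namespace CfsgLib.Criterion

open Subgroup CfsgLib.Invol

universe u

variable {G : Type u} [Group G]

/-- An element of order two normalising a finite subgroup without fixing one of its nontrivial elements inverts it. -/
theorem inverts_of_fpf [Finite G] {A : Subgroup G} {w : G}
    (hw : w * w = 1) (hn : ∀ x ∈ A, w * x * w⁻¹ ∈ A) (hfpf : ∀ x ∈ A, Commute x w → x = 1) {x : G}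
    (hx : x ∈ A) : w * x * w⁻¹ = x⁻¹ := by
  have hwi : w⁻¹ = w := inv_eq_of_mul_eq_one_right hw
  let f : A → A := fun g => ⟨(g : G)⁻¹ * (w * g * w⁻¹), mul_mem (inv_mem g.2) (hn g g.2)⟩
  have hinj : Function.Injective f := fun g h e => by
    have e' : (g : G)⁻¹ * (w * g * w⁻¹) = (h : G)⁻¹ * (w * h * w⁻¹) := congrArg Subtype.val e
    have h1 : w * ((h : G) * (g : G)⁻¹) * w⁻¹ = (h : G) * (g : G)⁻¹ := by
      calc w * ((h : G) * (g : G)⁻¹) * w⁻¹
          = (h : G) * ((h : G)⁻¹ * (w * h * w⁻¹)) * (w * g * w⁻¹)⁻¹ := by group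
        _ = (h : G) * ((g : G)⁻¹ * (w * g * w⁻¹)) * (w * g * w⁻¹)⁻¹ := by rw [e']
        _ = _ := by group
    exact Subtype.ext (mul_inv_eq_one.1 (hfpf _ (mul_mem h.2 (inv_mem g.2))
      (mul_inv_eq_iff_eq_mul.1 h1).symm)).symm
  obtain ⟨g, hg⟩ := Finite.surjective_of_injective hinj ⟨x, hx⟩
  obtain rfl : (g : G)⁻¹ * (w * g * w⁻¹) = x := congrArg Subtype.val hg
  calc w * ((g : G)⁻¹ * (w * g * w⁻¹)) * w⁻¹ = (w * g * w⁻¹)⁻¹ * (w * w * g * (w * w)⁻¹) := by group
    _ = _ := by rw [hw]; group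

namespace Ctx

variable [Finite G] (C : Ctx G)

/-- The hypotheses of the case: `W` is transitive on the points other than `a`, the local group is
faithful on the fixed points and no element of odd order there centralises a member. -/
structure RegW (S : Set G) (v : G) (a b : C.Pt) : Prop where
  fam : C.Fam S
  hv : v ∈ S
  va : v • a = a
  vb : v • b = b
  hab : a ≠ b
  trans : ∀ c : C.Pt, c ≠ a → ∃ w : G, (w = 1 ∨ w ∈ C.Za a) ∧ w • b = c
  faithful : C.fixKer v = ⊥
  odd_cent : ∀ e ∈ C.ZC v, ∀ x ∈ C.L v, Commute x e → Odd (orderOf x) → x = 1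

namespace RegW

variable {C} {S : Set G} {v : G} {a b : C.Pt} (h : C.RegW S v a b)
include h

theorem hbad : C.Bad v := h.fam.bad v h.hv

theorem vv : v * v = 1 := mul_self_eq_one h.hbad.1

/-- `W`. -/
abbrev W : Subgroup G := h.fam.W h.hv h.va

/-- `E`. -/
abbrev E : Subgroup G := h.fam.E h.hv h.va

theorem W_fix {w : G} (hw : w ∈ h.W) : w • a = a := by
  rcases hw with rfl | hw
  exacts [one_smul _ _, hw.2]

theorem W_free {w : G} (hw : w ∈ h.W) (hwb : w • b = b) : w = 1 :=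
  hw.resolve_right fun hZ => h.hab (C.fix_unique hZ.1 hZ.2 hwb)

theorem W_inj {w w' : G} (hw : w ∈ h.W) (hw' : w' ∈ h.W) (he : w • b = w' • b) : w = w' :=
  inv_mul_eq_one.1 (h.W_free (mul_mem (inv_mem hw) hw') (by rw [mul_smul, ← he, inv_smul_smul]))

theorem conj_W {g w : G} (hg : g • a = a) (hw : w ∈ h.W) : g * w * g⁻¹ ∈ h.W :=
  (mem_normalizer_iff.1 (h.fam.stabilizer_le_normalizer_W h.hv h.va
    (MulAction.mem_stabilizer_iff.2 hg)) w).1 hw

theorem smul_W {g w : G} (hgb : g • b = b) : g • (w • b) = (g * w * g⁻¹) • b := by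
  rw [mul_smul, mul_smul, inv_smul_eq_iff.2 hgb.symm]

theorem E_le_W {e : G} (he : e ∈ h.E) : e ∈ h.W := he.imp id And.left

/-- `w b` is fixed by an element of the two-point stabiliser exactly when they commute. -/
theorem fix_iff {g w : G} (hga : g • a = a) (hgb : g • b = b) (hw : w ∈ h.W) :
    g • (w • b) = w • b ↔ Commute g w := by
  rw [h.smul_W hgb]
  exact ⟨fun he => mul_inv_eq_iff_eq_mul.1 (h.W_inj (h.conj_W hga hw) hw he),
    fun he => by rw [he.eq, mul_inv_cancel_right]⟩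

theorem mem_E_of_commute {w : G} (hw : w ∈ h.W) (hc : Commute w v) : w ∈ h.E :=
  hw.imp id fun hZ => ⟨hZ, hc⟩

theorem eq_one_of_fix_all {g : G} (hg : orderOf g = 2) (hga : g • a = a) (hgb : g • b = b) :
    ∃ w ∈ h.W, ¬ Commute g w := by
  by_contra hall
  push Not at hall
  obtain ⟨c, hc⟩ := h.fam.faith g hg
  by_cases hca : c = a
  · exact hc (hca ▸ hga)
  obtain ⟨w, hw, rfl⟩ := h.trans c hca
  exact hc ((h.fix_iff hga hgb hw).2 (hall w hw))

theorem card_W_eq : Nat.card h.W = Nat.card h.E ^ 2 := by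
  refine (h.fam.card_W_cases h.hv h.va).resolve_left fun he => ?_
  obtain ⟨w, hw, hn⟩ := h.eq_one_of_fix_all h.hbad.1 h.va h.vb
  have hle : h.E ≤ h.W := fun e he => h.E_le_W he
  exact hn (h.fam.E_commute h.hv h.va ((eq_of_le_of_card_ge hle he.le).ge hw)).symm

theorem commW {w : G} (hw : w ∈ h.W) : w * (v * w * v) ∈ h.E := by
  have hvw : v * w * v ∈ h.W := by
    have := h.conj_W h.va hw
    rwa [inv_eq_self h.hbad.1] at this
  refine h.mem_E_of_commute (mul_mem hw hvw) (mul_inv_eq_iff_eq_mul.1 ?_).symm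
  rw [inv_eq_self h.hbad.1]
  calc v * (w * (v * w * v)) * v = v * w * v * w * (v * v) := by group
    _ = v * w * v * w := by rw [h.vv, mul_one]
    _ = _ := (h.fam.W_comm h.hv h.va hvw hw).eq

/-- The map `w ↦ w (v w v)` of `W` into `E`. -/
def φ : h.W →* h.E := MonoidHom.mk' (fun w => ⟨(w : G) * (v * w * v), h.commW w.2⟩) fun w w' => by
  refine Subtype.ext ?_
  have hvw : v * (w : G) * v ∈ h.W := by
    have := h.conj_W h.va w.2
    rwa [inv_eq_self h.hbad.1] at this
  show (w : G) * w' * (v * (w * w') * v) = w * (v * w * v) * (w' * (v * w' * v))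
  calc (w : G) * w' * (v * (w * w') * v) = w * (w' * ((v * w * v) * (v * w' * v))) := by
        simp only [mul_assoc]
        rw [← mul_assoc v v, h.vv, one_mul]
    _ = w * ((v * w * v) * (w' * (v * w' * v))) := by
        rw [(h.fam.W_comm h.hv h.va w'.2 hvw).left_comm]
    _ = _ := by simp only [mul_assoc]

theorem φ_ker {w : h.W} : h.φ w = 1 ↔ (w : G) ∈ h.E := by
  constructor
  · intro he
    have h1 : (w : G) * (v * w * v) = 1 := congrArg Subtype.val he
    rcases w.2 with h2 | h2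
    · exact Or.inl h2
    · have h3 := eq_inv_of_mul_eq_one_right h1
      rw [C.inv_Z h2.1] at h3
      exact Or.inr ⟨h2, (mul_inv_eq_iff_eq_mul.1 (by rwa [inv_eq_self h.hbad.1])).symm⟩
  · intro he
    refine Subtype.ext (?_ : (w : G) * (v * w * v) = 1)
    rw [← (h.fam.E_commute h.hv h.va he).eq, mul_assoc (w : G) v v, h.vv, mul_one,
      h.fam.E_sq h.hv h.va he]

theorem φ_surjective : Function.Surjective h.φ := by
  have h1 := h.φ.ker.card_mul_index
  have hk : h.φ.ker = h.E.subgroupOf h.W := by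
    ext w; rw [MonoidHom.mem_ker, h.φ_ker, mem_subgroupOf]
  have hle : h.E ≤ h.W := fun e he => h.E_le_W he
  rw [index_ker, hk, Nat.card_congr (subgroupOfEquivOfLe hle).toEquiv, h.card_W_eq, sq] at h1
  rw [← MonoidHom.range_eq_top]
  exact eq_top_of_card_eq _ (Nat.eq_of_mul_eq_mul_left Nat.card_pos h1)

/-- An element of the two-point stabiliser commuting with `v` commutes with `φ`. -/
theorem φ_conj {g : G} (hga : g • a = a) (hgv : Commute g v) (w : h.W) :
    ((h.φ ⟨g * w * g⁻¹, h.conj_W hga w.2⟩ : h.E) : G) = g * (h.φ w : G) * g⁻¹ := by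
  show g * (w : G) * g⁻¹ * (v * (g * (w : G) * g⁻¹) * v) = g * ((w : G) * (v * w * v)) * g⁻¹
  calc g * (w : G) * g⁻¹ * (v * (g * (w : G) * g⁻¹) * v)
      = g * (w : G) * g⁻¹ * ((v * g) * (w : G) * (g⁻¹ * v)) := by group
    _ = g * (w : G) * g⁻¹ * ((g * v) * (w : G) * (v * g⁻¹)) := by rw [hgv.eq, hgv.inv_left.eq]
    _ = _ := by group

/-- An element of the two-point stabiliser commuting with `v` and with `E` acts trivially on `W/E`. -/
theorem comm_mem_E {g w : G} (hga : g • a = a) (hgv : Commute g v)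
    (hgE : ∀ e ∈ h.E, Commute g e) (hw : w ∈ h.W) : w * (g * w * g⁻¹) ∈ h.E := by
  have hcE := h.φ_conj hga hgv ⟨w, hw⟩
  rw [(hgE _ (h.φ ⟨w, hw⟩).2).eq, mul_inv_cancel_right] at hcE
  refine (h.φ_ker (w := ⟨w, hw⟩ * ⟨_, h.conj_W hga hw⟩)).1 ?_
  rw [map_mul, Subtype.ext hcE]
  exact Subtype.ext (h.fam.E_sq h.hv h.va (h.φ ⟨w, hw⟩).2)

/-- The fixed points of `v`. -/
theorem fix_v_iff {c : C.Pt} : v • c = c ↔ c = a ∨ ∃ e ∈ h.E, e • b = c := by
  constructor
  · intro hc
    by_cases hca : c = a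
    · exact Or.inl hca
    obtain ⟨w, hw, rfl⟩ := h.trans c hca
    exact Or.inr ⟨w, h.mem_E_of_commute hw ((h.fix_iff h.va h.vb hw).1 hc).symm, rfl⟩
  · rintro (rfl | ⟨e, he, rfl⟩)
    · exact h.va
    · exact (h.fix_iff h.va h.vb (h.E_le_W he)).2 (h.fam.E_commute h.hv h.va he).symm

theorem E_smul_ne {e : G} (he : e ∈ h.E) : e • b ≠ a := fun hab => h.hab (by
  have := congrArg (e⁻¹ • ·) hab
  simp only [inv_smul_smul] at this
  rw [this, inv_smul_eq_iff.2 (h.fam.E_fix h.hv h.va he).symm])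

theorem card_fix : Nat.card {c : C.Pt // v • c = c} = Nat.card h.E + 1 := by
  classical
  haveI := Fintype.ofFinite h.E
  let f : Option h.E → {c : C.Pt // v • c = c} := fun o =>
    o.elim ⟨a, h.va⟩ fun e => ⟨(e : G) • b, h.fix_v_iff.2 (Or.inr ⟨e, e.2, rfl⟩)⟩
  have hf : Function.Bijective f := by
    refine ⟨?_, fun c => ?_⟩
    · rintro (_ | e) (_ | e') he <;> have he' := congrArg Subtype.val he
      · rfl
      · exact absurd he'.symm (h.E_smul_ne e'.2)
      · exact absurd he' (h.E_smul_ne e.2)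
      · exact congrArg some (Subtype.ext (h.W_inj (h.E_le_W e.2) (h.E_le_W e'.2) he'))
    · rcases h.fix_v_iff.1 c.2 with hc | ⟨e, he, hc⟩
      · exact ⟨none, Subtype.ext hc.symm⟩
      · exact ⟨some ⟨e, he⟩, Subtype.ext hc⟩
  rw [← Nat.card_congr (Equiv.ofBijective f hf), Nat.card_eq_fintype_card, Fintype.card_option,
    ← Nat.card_eq_fintype_card]

/-- The stabiliser of `a` and `b` in the local group. -/
def T (_h : C.RegW S v a b) : Subgroup G := C.L v ⊓ MulAction.stabilizer G a ⊓ MulAction.stabilizer G b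

theorem mem_T {x : G} : x ∈ h.T ↔ x ∈ C.L v ∧ x • a = a ∧ x • b = b := by
  rw [T, mem_inf, mem_inf, MulAction.mem_stabilizer_iff, MulAction.mem_stabilizer_iff, and_assoc]

theorem E_le_L {e : G} (he : e ∈ h.E) : e ∈ C.L v := by
  rcases he with rfl | he
  exacts [one_mem _, C.mem_L he.1.1 he.2]

/-- An involution of the local group fixes no point moved by `v`. -/
theorem invol_fix {x : G} (hx : x ∈ C.L v) (ho : orderOf x = 2) {c : C.Pt} (hc : x • c = c) :
    v • c = c :=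
  C.smul_eq_of_commute_Z (h.hbad.mem_Z_of_mem_L C hx ho) (C.commute_of_mem_L hx) hc

theorem odd_of_no_invol {K : Subgroup G} (hK : ∀ x ∈ K, orderOf x ≠ 2) {x : G} (hx : x ∈ K) :
    Odd (orderOf x) := by
  rw [← Nat.not_even_iff_odd]
  intro hev
  exact hK _ (pow_mem hx _) (orderOf_pow_half (isOfFinOrder_of_finite x) hev)

theorem odd_T {x : G} (hx : x ∈ h.T) : Odd (orderOf x) := by
  refine h.odd_of_no_invol (fun y hy ho => ?_) hx
  obtain ⟨hyL, hya, hyb⟩ := h.mem_T.1 hy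
  exact h.hab (C.fix_unique (h.hbad.mem_Z_of_mem_L C hyL ho) hya hyb)

theorem T_free {x e : G} (hx : x ∈ h.T) (he : e ∈ h.E) (he1 : e ≠ 1)
    (hfix : x • (e • b) = e • b) : x = 1 := by
  obtain ⟨hxL, hxa, hxb⟩ := h.mem_T.1 hx
  have hz := he.resolve_left he1
  exact h.odd_cent e ⟨hz.1.1, hz.2⟩ x hxL ((h.fix_iff hxa hxb (h.E_le_W he)).1 hfix) (h.odd_T hx)

theorem exists_T_conj {e e' : G} (he : e ∈ C.EZ v a) (he' : e' ∈ C.EZ v a) :
    ∃ t ∈ h.T, t * e * t⁻¹ = e' := by
  obtain ⟨g, hg, hge⟩ := h.hbad.exists_conj_L C ⟨he.1.1, he.2⟩ ⟨he'.1.1, he'.2⟩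
  have hga := smul_base_of_conj he.1 (hge ▸ he'.1)
  rcases h.fix_v_iff.1 (show v • g • b = g • b by
      rw [smul_smul, ← (C.commute_of_mem_L hg).eq, mul_smul, h.vb]) with hgb | ⟨y, hy, hgb⟩
  · exact absurd (smul_left_cancel g (hga.trans hgb.symm)) h.hab
  refine ⟨y⁻¹ * g, h.mem_T.2 ⟨mul_mem (inv_mem (h.E_le_L hy)) hg, ?_, ?_⟩, ?_⟩
  · rw [mul_smul, hga, inv_smul_eq_iff.2 (h.fam.E_fix h.hv h.va hy).symm]
  · rw [mul_smul, ← hgb, inv_smul_smul]
  · rw [show y⁻¹ * g * e * (y⁻¹ * g)⁻¹ = y⁻¹ * (g * e * g⁻¹) * y by group, hge, mul_assoc,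
      (h.fam.E_comm h.hv h.va (Or.inr he') hy).eq, inv_mul_cancel_left]

theorem card_T : Nat.card h.T = Nat.card (C.EZ v a) := by
  obtain ⟨e0, he0, he0v⟩ := C.exists_commute_at h.vv h.va
  have he0' : e0 ∈ C.EZ v a := ⟨he0, he0v⟩
  let f : h.T → C.EZ v a := fun t => ⟨(t : G) * e0 * (t : G)⁻¹,
    h.fam.conj_mem_EZ h.hv h.va (h.mem_T.1 t.2).2.1 (C.commute_of_mem_L (h.mem_T.1 t.2).1) he0'⟩
  refine Nat.card_congr (Equiv.ofBijective f ⟨fun t t' he => ?_, fun e => ?_⟩)
  · have he' : (t : G) * e0 * (t : G)⁻¹ = (t' : G) * e0 * (t' : G)⁻¹ := congrArg Subtype.val he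
    have hx : (t' : G)⁻¹ * t ∈ h.T := mul_mem (inv_mem t'.2) t.2
    refine Subtype.ext (inv_mul_eq_one.1 (h.T_free hx (Or.inr he0') (fun h1 => ?_)
      ((h.fix_iff (h.mem_T.1 hx).2.1 (h.mem_T.1 hx).2.2 (Or.inr he0)).2 ?_))).symm
    · have := C.orderOf_Z he0.1
      rw [h1, orderOf_one] at this
      omega
    · refine mul_inv_eq_iff_eq_mul.1 ?_
      rw [show (t' : G)⁻¹ * t * e0 * ((t' : G)⁻¹ * t)⁻¹ = (t' : G)⁻¹ * ((t : G) * e0 * (t : G)⁻¹) * t' by
        group, he']
      group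
  · obtain ⟨t, ht, he⟩ := h.exists_T_conj he0' e.2
    exact ⟨⟨t, ht⟩, Subtype.ext he⟩

theorem card_L : Nat.card (C.L v) = (Nat.card h.E + 1) * (Nat.card h.E * Nat.card (C.EZ v a)) := by
  set La := C.L v ⊓ MulAction.stabilizer G a
  have hE : ∀ e ∈ h.E, e ∈ La := fun e he =>
    ⟨h.E_le_L he, MulAction.mem_stabilizer_iff.2 (h.fam.E_fix h.hv h.va he)⟩
  have hT : ∀ t ∈ h.T, t ∈ La := fun t ht =>
    ⟨(h.mem_T.1 ht).1, MulAction.mem_stabilizer_iff.2 (h.mem_T.1 ht).2.1⟩
  have hLa : Nat.card La = Nat.card h.E * Nat.card (C.EZ v a) := by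
    rw [← h.card_T, ← Nat.card_prod]
    let f : h.E × h.T → La := fun p => ⟨(p.1 : G) * p.2, mul_mem (hE _ p.1.2) (hT _ p.2.2)⟩
    refine (Nat.card_congr (Equiv.ofBijective f ⟨fun p p' he => ?_, fun g => ?_⟩)).symm
    · have he' : (p.1 : G) * p.2 = (p'.1 : G) * p'.2 := congrArg Subtype.val he
      have h1 : (p.1 : G) = p'.1 := h.W_inj (h.E_le_W p.1.2) (h.E_le_W p'.1.2) (by
        have hb := congrArg (· • b) he'
        simpa [mul_smul, (h.mem_T.1 p.2.2).2.2, (h.mem_T.1 p'.2.2).2.2] using hb)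
      rw [h1] at he'
      exact Prod.ext (Subtype.ext h1) (Subtype.ext (mul_left_cancel he'))
    · obtain ⟨g, hg, hga'⟩ := g
      have hga : g • a = a := MulAction.mem_stabilizer_iff.1 hga'
      rcases h.fix_v_iff.1 (show v • g • b = g • b by
          rw [smul_smul, ← (C.commute_of_mem_L hg).eq, mul_smul, h.vb]) with hgb | ⟨y, hy, hgb⟩
      · exact absurd (smul_left_cancel g (hga.trans hgb.symm)) h.hab
      exact ⟨⟨⟨y, hy⟩, ⟨y⁻¹ * g, h.mem_T.2 ⟨mul_mem (inv_mem (h.E_le_L hy)) hg,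
        by rw [mul_smul, hga, inv_smul_eq_iff.2 (h.fam.E_fix h.hv h.va hy).symm],
        by rw [mul_smul, ← hgb, inv_smul_smul]⟩⟩⟩, Subtype.ext (mul_inv_cancel_left y g)⟩
  have horb : MulAction.orbit (C.L v) a = {c | v • c = c} := by
    ext c
    constructor
    · rintro ⟨g, rfl⟩
      show v • (g : G) • a = (g : G) • a
      rw [smul_smul, ← (C.commute_of_mem_L g.2).eq, mul_smul, h.va]
    · intro hc
      by_cases hca : c = a
      · rw [hca]; exact MulAction.mem_orbit_self a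
      obtain ⟨w, hw, -, hwL⟩ := C.exists_swap_L h.vv (Ne.symm hca) h.va hc
      exact ⟨⟨w, hwL⟩, hw.2⟩
  have h1 := (MulAction.stabilizer (C.L v) a).card_mul_index
  rw [MulAction.index_stabilizer, horb, ← Nat.card_coe_set_eq] at h1
  have h2 : Nat.card (MulAction.stabilizer (C.L v) a) = Nat.card La :=
    Nat.card_congr ⟨fun x => ⟨x.1.1, x.1.2, x.2⟩, fun x => ⟨⟨x.1, x.2.1⟩, x.2.2⟩, fun _ => rfl,
      fun _ => rfl⟩
  have h3 : Nat.card ↥{c : C.Pt | v • c = c} = Nat.card {c : C.Pt // v • c = c} := rfl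
  rw [h2, h3, h.card_fix, hLa] at h1
  rw [← h1, mul_comm]

theorem T_comm {x y : G} (hx : x ∈ h.T) (hy : y ∈ h.T) : Commute x y := by
  obtain ⟨w, hw, hwv, hwL⟩ := C.exists_swap_L h.vv h.hab h.va h.vb
  obtain ⟨p, hp⟩ := C.exists_fix hw.1
  have hn : ∀ x ∈ h.T, w * x * w⁻¹ ∈ h.T := fun x hx => by
    obtain ⟨hxL, hxa, hxb⟩ := h.mem_T.1 hx
    refine h.mem_T.2 ⟨mul_mem (mul_mem hwL hxL) (inv_mem hwL), ?_, ?_⟩ <;>
      rw [C.inv_Z hw.1, mul_smul, mul_smul]
    · rw [hw.2, hxb, (C.X_symm hw).2]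
    · rw [(C.X_symm hw).2, hxa, hw.2]
  have hfpf : ∀ x ∈ h.T, Commute x w → x = 1 := by
    intro x hx hxw
    have hxp : x • p = p := C.smul_eq_of_commute_Z hw.1 hxw.symm hp
    rcases h.fix_v_iff.1 (C.smul_eq_of_commute_Z hw.1 hwv hp) with rfl | ⟨e, he, rfl⟩
    · exact absurd (hp.symm.trans hw.2) h.hab
    · refine h.T_free hx he (fun he1 => h.hab ?_) hxp
      rw [he1, one_smul] at hp
      exact ((C.X_symm hw).2.symm.trans hp)
  have hinv := fun {z : G} (hz : z ∈ h.T) => inverts_of_fpf (C.mul_self_Z hw.1) hn hfpf hz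
  have hxy := hinv (mul_mem hx hy)
  rw [← conj_mul, hinv hx, hinv hy, ← mul_inv_rev, inv_inj] at hxy
  exact hxy.symm

/-- The stabiliser in the local group of a point moved by `v`. -/
def Lc (_h : C.RegW S v a b) (c : C.Pt) : Subgroup G := C.L v ⊓ MulAction.stabilizer G c

theorem mem_Lc {c : C.Pt} {x : G} : x ∈ h.Lc c ↔ x ∈ C.L v ∧ x • c = c := by
  rw [Lc, mem_inf, MulAction.mem_stabilizer_iff]

theorem odd_Lc {c : C.Pt} (hc : v • c ≠ c) {x : G} (hx : x ∈ h.Lc c) : Odd (orderOf x) :=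
  h.odd_of_no_invol (fun _ hy ho => hc (h.invol_fix (h.mem_Lc.1 hy).1 ho (h.mem_Lc.1 hy).2)) hx

theorem card_moved : Nat.card {c : C.Pt // v • c ≠ c} + Nat.card h.E = Nat.card h.E ^ 2 := by
  classical
  haveI := Fintype.ofFinite C.Pt
  haveI := Fintype.ofFinite h.W
  let f : Option h.W → C.Pt := fun o => o.elim a fun w => (w : G) • b
  have hf : Function.Bijective f := by
    refine ⟨?_, fun c => ?_⟩
    · rintro (_ | w) (_ | w') he
      · rfl
      · exact absurd (smul_left_cancel _ ((h.W_fix w'.2).trans he)) h.hab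
      · exact absurd (smul_left_cancel _ ((h.W_fix w.2).trans he.symm)) h.hab
      · exact congrArg some (Subtype.ext (h.W_inj w.2 w'.2 he))
    · by_cases hc : c = a
      · exact ⟨none, hc.symm⟩
      · obtain ⟨w, hw, hwb⟩ := h.trans c hc
        exact ⟨some ⟨w, hw⟩, hwb⟩
  have h1 := Fintype.card_congr (Equiv.ofBijective f hf)
  rw [Fintype.card_option, ← Nat.card_eq_fintype_card, h.card_W_eq] at h1
  have h2 := h.card_fix
  have h3 := Fintype.card_subtype_compl fun c : C.Pt => v • c = c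
  have h4 := Fintype.card_subtype_le fun c : C.Pt => v • c = c
  simp only [Nat.card_eq_fintype_card] at h2 ⊢
  rw [h3]
  omega

theorem two_le_E : 2 ≤ Nat.card h.E := by
  rw [h.fam.card_E h.hv h.va]
  obtain ⟨x, hx, hxv⟩ := C.exists_commute_at h.vv h.va
  haveI : Nonempty (C.EZ v a) := ⟨⟨x, hx, hxv⟩⟩
  have := Nat.card_pos (α := C.EZ v a)
  omega

theorem succ_le_card_Lc {c : C.Pt} (hc : v • c ≠ c) : Nat.card h.E + 1 ≤ Nat.card (h.Lc c) := by
  have h1 := (MulAction.stabilizer (C.L v) c).card_mul_index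
  rw [MulAction.index_stabilizer, h.card_L] at h1
  have hsub : MulAction.orbit (C.L v) c ⊆ {d | v • d ≠ d} := by
    rintro _ ⟨g, rfl⟩ hd
    refine hc ?_
    have hd' : v • (g : G) • c = (g : G) • c := hd
    rw [smul_smul, ← (C.commute_of_mem_L g.2).eq, mul_smul] at hd'
    exact smul_left_cancel _ hd'
  have h2 := Set.ncard_le_ncard hsub (Set.toFinite _)
  have h3 : ({d : C.Pt | v • d ≠ d}).ncard = Nat.card {d : C.Pt // v • d ≠ d} :=
    (Nat.card_coe_set_eq _).symm
  have h4 : Nat.card (MulAction.stabilizer (C.L v) c) = Nat.card (h.Lc c) :=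
    Nat.card_congr ⟨fun x => ⟨x.1.1, x.1.2, x.2⟩, fun x => ⟨⟨x.1, x.2.1⟩, x.2.2⟩, fun _ => rfl,
      fun _ => rfl⟩
  rw [h4] at h1
  have h5 := h.card_moved
  have h6 := h.fam.card_E h.hv h.va
  change Nat.card h.E = _ at h6
  have h7 := h.two_le_E
  generalize Nat.card (h.Lc c) = l at h1 ⊢
  generalize (MulAction.orbit (C.L v) c).ncard = o at h1 h2
  generalize Nat.card h.E = q at h1 h5 h6 h7 ⊢
  generalize Nat.card (C.EZ v a) = k at h1 h6
  subst h6
  nlinarith

/-- A member of `E` moving a point as an element centralising the local group does normalises its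
stabiliser and inverts it. -/
theorem inverts_Lc {c : C.Pt} (hc : v • c ≠ c) {e y : G} (he : e ∈ h.E) (he1 : e ≠ 1)
    (hey : e • c = y • c) (hy : ∀ g ∈ C.L v, Commute y g) {x : G} (hx : x ∈ h.Lc c) :
    e * x * e⁻¹ = x⁻¹ := by
  have hee := h.fam.E_sq h.hv h.va he
  refine inverts_of_fpf hee (fun z hz => ?_) (fun z hz hze => ?_) hx
  · obtain ⟨hzL, hzc⟩ := h.mem_Lc.1 hz
    refine h.mem_Lc.2 ⟨mul_mem (mul_mem (h.E_le_L he) hzL) (inv_mem (h.E_le_L he)), ?_⟩
    rw [inv_eq_of_mul_eq_one_right hee, mul_smul, mul_smul, hey, smul_smul z y, ← (hy z hzL).eq,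
      mul_smul, hzc, ← hey, smul_smul, hee, one_smul]
  · have hz' := he.resolve_left he1
    exact h.odd_cent e ⟨hz'.1.1, hz'.2⟩ z (h.mem_Lc.1 hz).1 hze (h.odd_Lc hc hz)

theorem commute_L_of_fix_all {u : G} (huv : Commute u v)
    (hfix : ∀ c : C.Pt, v • c = c → u • c = c) {g : G} (hg : g ∈ C.L v) : Commute u g := by
  have hn : u * g * u⁻¹ ∈ C.L v := by
    induction hg using closure_induction with
    | mem x hx =>
      refine C.mem_L (C.conj_mem_Z hx.1 u) ?_
      have := (Commute.conj_iff u).2 hx.2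
      rwa [show u * v * u⁻¹ = v by rw [huv.eq, mul_inv_cancel_right]] at this
    | one => simp
    | mul x y _ _ hx hy => rw [← conj_mul]; exact mul_mem hx hy
    | inv x _ hx => rw [← conj_inv]; exact inv_mem hx
  have hmem : (⟨_, mul_mem hn (inv_mem hg)⟩ : ↥(C.L v)) ∈ C.fixKer v := C.mem_fixKer.2 fun c hc => by
    show (u * g * u⁻¹ * g⁻¹) • c = c
    have hgc : v • g⁻¹ • c = g⁻¹ • c := by
      rw [smul_smul, ← (C.commute_of_mem_L (inv_mem hg)).eq, mul_smul, hc]
    rw [mul_smul, mul_smul, mul_smul, inv_smul_eq_iff.2 (hfix _ hgc).symm, smul_inv_smul, hfix c hc]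
  rw [h.faithful, mem_bot] at hmem
  exact mul_inv_eq_iff_eq_mul.1 (mul_inv_eq_one.1 (congrArg Subtype.val hmem))

/-- An involution of the two-point stabiliser commuting with `v` and with `E` is `v`. -/
theorem eq_v_of_central {u : G} (hu : orderOf u = 2) (hua : u • a = a) (hub : u • b = b)
    (huv : Commute u v) (huE : ∀ e ∈ h.E, Commute u e) : u = v := by
  by_contra hne
  have huu := mul_self_eq_one hu
  have hfix : ∀ c : C.Pt, v • c = c → u • c = c := fun c hc => by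
    rcases h.fix_v_iff.1 hc with rfl | ⟨e, he, rfl⟩
    exacts [hua, (h.fix_iff hua hub (h.E_le_W he)).2 (huE e he)]
  have hL := fun {g : G} (hg : g ∈ C.L v) => h.commute_L_of_fix_all huv hfix hg
  obtain ⟨w1, hw1, hn1⟩ := h.eq_one_of_fix_all hu hua hub
  have hprod : orderOf (u * v) = 2 := orderOf_eq_two
    (by rw [huv.symm.mul_mul_mul_comm, huu, h.vv, one_mul])
    (fun e => hne (by rw [eq_inv_of_mul_eq_one_left e, inv_eq_self h.hbad.1]))
  obtain ⟨w2, hw2, hn2⟩ := h.eq_one_of_fix_all hprod (by rw [mul_smul, h.va, hua])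
    (by rw [mul_smul, h.vb, hub])
  -- an element of `W` moved differently by `u` and by `v`
  obtain ⟨w, hw, hnu, hnuv⟩ : ∃ w ∈ h.W, ¬ Commute u w ∧ ¬ Commute (u * v) w := by
    by_cases h12 : Commute (u * v) w1
    swap
    · exact ⟨w1, hw1, hn1, h12⟩
    by_cases h21 : Commute u w2
    · refine ⟨w1 * w2, mul_mem hw1 hw2, fun hc => hn1 ?_, fun hc => hn2 ?_⟩
      · have := hc.mul_right h21.inv_right
        rwa [mul_inv_cancel_right] at this
      · have := h12.inv_right.mul_right hc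
        rwa [inv_mul_cancel_left] at this
    · exact ⟨w2, hw2, h21, hn2⟩
  have hui : u⁻¹ = u := inv_eq_self hu
  have hvi : v⁻¹ = v := inv_eq_self h.hbad.1
  have hwi : ∀ x ∈ h.W, x⁻¹ = x := fun x hx =>
    inv_eq_of_mul_eq_one_right (h.fam.W_sq h.hv h.va hx)
  set e1 := w * (v * w * v⁻¹) with he1def
  set e2 := w * (u * w * u⁻¹) with he2def
  have he1E : e1 ∈ h.E := by rw [he1def, hvi]; exact h.commW hw
  have he2E : e2 ∈ h.E := h.comm_mem_E hua huv huE hw
  have heq : ∀ {g : G}, w * (g * w * g⁻¹) = 1 → Commute g w := fun {g} hg => by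
    have := eq_inv_of_mul_eq_one_right hg
    rw [hwi w hw, mul_inv_eq_iff_eq_mul] at this
    exact this
  have hwv : ¬ Commute v w := by
    intro hc
    refine hnu ?_
    have hwE := h.mem_E_of_commute hw hc.symm
    exact huE w hwE
  have he11 : e1 ≠ 1 := fun e => hwv (heq e)
  have he21 : e2 ≠ 1 := fun e => hnu (heq e)
  have he12 : e2 ≠ e1 := fun e => hnuv (by
    have h1 : u * w * u⁻¹ = v * w * v⁻¹ := mul_left_cancel e
    refine mul_inv_eq_iff_eq_mul.1 ?_
    calc u * v * w * (u * v)⁻¹ = u * (v * w * v⁻¹) * u⁻¹ := by group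
      _ = u * (u * w * u⁻¹) * u⁻¹ := by rw [h1]
      _ = (u * u) * w * (u * u)⁻¹ := by group
      _ = w := by rw [huu]; group)
  set c := w • b with hcdef
  have hc : v • c ≠ c := fun e => hwv ((h.fix_iff h.va h.vb hw).1 e)
  have hmove : ∀ {g : G}, g • b = b → w * (g * w * g⁻¹) ∈ h.E →
      (w * (g * w * g⁻¹)) • c = g • c := by
    intro g hgb hg
    rw [hcdef, h.smul_W hgb, smul_smul, (h.fam.W_comm h.hv h.va (h.E_le_W hg) hw).eq, ← mul_assoc,
      h.fam.W_sq h.hv h.va hw, one_mul]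
  obtain ⟨x, hx, hx1⟩ : ∃ x ∈ h.Lc c, x ≠ 1 := by
    refine (bot_or_exists_ne_one _).resolve_left fun hbot => ?_
    have := h.succ_le_card_Lc hc
    rw [hbot, card_bot] at this
    have := h.two_le_E
    omega
  have i1 := h.inverts_Lc hc he1E he11 (hmove h.vb he1E)
    (fun g hg => (C.commute_of_mem_L hg).symm) hx
  have i2 := h.inverts_Lc hc he2E he21 (hmove hub he2E) (fun g hg => hL hg) hx
  have hmul : (e2 * e1) * x * (e2 * e1)⁻¹ = x := by
    rw [show (e2 * e1) * x * (e2 * e1)⁻¹ = e2 * (e1 * x * e1⁻¹) * e2⁻¹ by group, i1, ← conj_inv, i2,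
      inv_inv]
  have h21E : e2 * e1 ∈ h.E := mul_mem he2E he1E
  have h21 : e2 * e1 ≠ 1 := fun e => he12 (by
    rw [eq_inv_of_mul_eq_one_left e, hwi e1 (h.E_le_W he1E)])
  have hz := h21E.resolve_left h21
  exact hx1 (h.odd_cent _ ⟨hz.1.1, hz.2⟩ x (h.mem_Lc.1 hx).1
    (mul_inv_eq_iff_eq_mul.1 hmul).symm (h.odd_Lc hc hx))

/-- The members of `E` fixed by `g`. -/
def EC (g : G) : Subgroup G := h.E ⊓ centralizer ({g} : Set G)

theorem E_le_EC_sq {g : G} (hga : g • a = a) (hgv : Commute g v)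
    (hg2 : ∀ e ∈ h.E, Commute (g * g) e) : Nat.card h.E ≤ Nat.card (h.EC g) ^ 2 := by
  have hconj : ∀ e ∈ h.E, g * e * g⁻¹ ∈ h.E := fun e he => he.elim (fun he => Or.inl (by simp [he]))
    fun he => Or.inr (h.fam.conj_mem_EZ h.hv h.va hga hgv he)
  have hmem : ∀ e ∈ h.E, e * (g * e * g⁻¹) ∈ h.EC g := fun e he => by
    refine ⟨mul_mem he (hconj e he),
      mem_centralizer_singleton_iff.2 (mul_inv_eq_iff_eq_mul.1 ?_).symm⟩
    rw [← conj_mul, show g * (g * e * g⁻¹) * g⁻¹ = g * g * e * (g * g)⁻¹ by group, (hg2 e he).eq,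
      mul_inv_cancel_right, (h.fam.E_comm h.hv h.va (hconj e he) he).eq]
  let f : h.E →* h.EC g :=
    MonoidHom.mk' (fun e => ⟨(e : G) * (g * e * g⁻¹), hmem e e.2⟩) fun e e' => by
      refine Subtype.ext ?_
      show (e : G) * e' * (g * (e * e') * g⁻¹) = e * (g * e * g⁻¹) * (e' * (g * e' * g⁻¹))
      rw [← conj_mul]
      exact (h.fam.E_comm h.hv h.va e'.2 (hconj e e.2)).mul_mul_mul_comm _ _
  have hle : f.ker ≤ (h.EC g).subgroupOf h.E := fun e he => by
    rw [MonoidHom.mem_ker] at he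
    have h1 : (e : G) * (g * e * g⁻¹) = 1 := congrArg Subtype.val he
    refine mem_subgroupOf.2 ⟨e.2, mem_centralizer_singleton_iff.2 (mul_inv_eq_iff_eq_mul.1 ?_).symm⟩
    rw [eq_inv_of_mul_eq_one_right h1,
      inv_eq_of_mul_eq_one_right (h.fam.E_sq h.hv h.va e.2)]
  have h1 := f.ker.card_mul_index
  rw [index_ker] at h1
  have h2 := card_le_card_group f.range
  have h3 := card_le_of_le hle
  rw [Nat.card_congr (subgroupOfEquivOfLe (show h.EC g ≤ h.E from inf_le_left)).toEquiv] at h3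
  calc Nat.card h.E = Nat.card f.ker * Nat.card f.range := h1.symm
    _ ≤ _ := by rw [sq]; exact Nat.mul_le_mul h3 h2

theorem exists_two_pow {K : Subgroup G} (hK : K ≤ h.E) : ∃ r, Nat.card K = 2 ^ r := by
  haveI : Fact (Nat.Prime 2) := ⟨Nat.prime_two⟩
  have hp : IsPGroup 2 K := fun x => ⟨1, Subtype.ext (by
    rw [pow_one, SubmonoidClass.coe_pow, sq]
    exact h.fam.E_sq h.hv h.va (hK x.2))⟩
  exact IsPGroup.iff_card.1 hp

theorem not_dvd_succ {r s : ℕ} (hrs : r < s) (hsr : s ≤ 2 * r) : ¬ 2 ^ r + 1 ∣ 2 ^ s + 1 := by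
  rintro ⟨m, hm⟩
  obtain ⟨d, rfl⟩ : ∃ d, s = r + d := ⟨s - r, by omega⟩
  rw [pow_add] at hm
  have hd : 2 ^ d ≤ 2 ^ r := Nat.pow_le_pow_right two_pos (by omega)
  have hd1 : 1 < 2 ^ d := Nat.one_lt_two_pow (by omega)
  rcases le_or_gt (2 ^ d) m with hm1 | hm1
  · nlinarith
  · nlinarith

/-- **`v` is the only involution of the two-point stabiliser commuting with `v`.** -/
theorem eq_v {u : G} (hu : orderOf u = 2) (hua : u • a = a) (hub : u • b = b)
    (huv : Commute u v) : u = v := by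
  by_cases huE : ∀ e ∈ h.E, Commute u e
  · exact h.eq_v_of_central hu hua hub huv huE
  exfalso
  have huu := mul_self_eq_one hu
  have hui : u⁻¹ = u := inv_eq_self hu
  obtain ⟨w, hw, hwu, hwE⟩ : ∃ w ∈ h.W, Commute u w ∧ w ∉ h.E := by
    by_contra hcon
    push Not at hcon
    refine huE fun e he => ?_
    obtain ⟨w, hw⟩ := h.φ_surjective ⟨e, he⟩
    have hcw : (w : G) * (u * w * u⁻¹) ∈ h.E := by
      refine hcon _ (mul_mem w.2 (h.conj_W hua w.2)) (mul_inv_eq_iff_eq_mul.1 ?_)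
      rw [← conj_mul, show u * (u * (w : G) * u⁻¹) * u⁻¹ = u * u * w * (u * u)⁻¹ by group, huu,
        inv_one, mul_one, one_mul, (h.fam.W_comm h.hv h.va (h.conj_W hua w.2) w.2).eq]
    have h1 : h.φ (w * ⟨_, h.conj_W hua w.2⟩) = 1 := h.φ_ker.2 hcw
    rw [map_mul, mul_eq_one_iff_eq_inv] at h1
    have h2 := congrArg Subtype.val h1
    rw [hw, InvMemClass.coe_inv, h.φ_conj hua huv w, hw, conj_inv,
      inv_eq_of_mul_eq_one_right (h.fam.E_sq h.hv h.va he)] at h2
    exact mul_inv_eq_iff_eq_mul.1 h2.symm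
  set c := w • b with hcdef
  have hwv : ¬ Commute v w := fun hc => hwE (h.mem_E_of_commute hw hc.symm)
  have hc : v • c ≠ c := fun e => hwv ((h.fix_iff h.va h.vb hw).1 e)
  have huc : u • c = c := (h.fix_iff hua hub hw).2 hwu
  have huL : ∀ g ∈ C.L v, u * g * u⁻¹ ∈ C.L v := by
    intro g hg
    induction hg using closure_induction with
    | mem x hx =>
      refine C.mem_L (C.conj_mem_Z hx.1 u) ?_
      have := (Commute.conj_iff u).2 hx.2
      rwa [show u * v * u⁻¹ = v by rw [huv.eq, mul_inv_cancel_right]] at this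
    | one => simp
    | mul x y _ _ hx hy => rw [← conj_mul]; exact mul_mem hx hy
    | inv x _ hx => rw [← conj_inv]; exact inv_mem hx
  have huK : ∀ g ∈ h.Lc c, u * g * u⁻¹ ∈ h.Lc c := fun g hg => by
    refine h.mem_Lc.2 ⟨huL g (h.mem_Lc.1 hg).1, ?_⟩
    rw [mul_smul, mul_smul, inv_smul_eq_iff.2 huc.symm, (h.mem_Lc.1 hg).2, huc]
  set e := w * (v * w * v) with hedef
  have heE : e ∈ h.E := h.commW hw
  have he1 : e ≠ 1 := fun he => by
    have := (h.φ_ker (w := ⟨w, hw⟩)).1 (Subtype.ext he)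
    exact hwE this
  have hec : e • c = v • c := by
    rw [hcdef, h.smul_W h.vb, smul_smul, (h.fam.W_comm h.hv h.va (h.E_le_W heE) hw).eq, hedef,
      ← mul_assoc, h.fam.W_sq h.hv h.va hw, one_mul, inv_eq_self h.hbad.1]
  have hinv := fun {x : G} (hx : x ∈ h.Lc c) =>
    h.inverts_Lc hc heE he1 hec (fun g hg => (C.commute_of_mem_L hg).symm) hx
  have hsemi : ∀ x ∈ h.Lc c, x • a = a → x = 1 := by
    intro x hx hxa
    have hz := heE.resolve_left he1
    have hmem : x * e * x⁻¹ * e ∈ h.E :=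
      mul_mem (Or.inr (h.fam.conj_mem_EZ h.hv h.va hxa
        (C.commute_of_mem_L (h.mem_Lc.1 hx).1) hz)) heE
    rw [show x * e * x⁻¹ * e = x * (e * x⁻¹ * e) by group] at hmem
    have h2 : e * x⁻¹ * e = x := by
      have := hinv (inv_mem hx)
      rwa [inv_inv, inv_eq_of_mul_eq_one_right (h.fam.E_sq h.hv h.va heE)] at this
    rw [h2] at hmem
    have h4 := h.fam.E_sq h.hv h.va hmem
    obtain ⟨j, hj⟩ := h.odd_Lc hc hx
    have h5 : orderOf x ∣ 4 := orderOf_dvd_of_pow_eq_one (by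
      rw [show (4 : ℕ) = 2 * 2 by rfl, pow_mul, sq, sq]; exact h4)
    rcases (Nat.le_of_dvd (by norm_num) h5).lt_or_eq with h6 | h6
    · interval_cases horder : orderOf x <;> first
        | omega
        | exact orderOf_eq_one_iff.1 horder
    · omega
  let f : h.Lc c → {d : C.Pt // v • d = d} := fun x => ⟨(x : G) • a, by
    rw [smul_smul, ← (C.commute_of_mem_L (h.mem_Lc.1 x.2).1).eq, mul_smul, h.va]⟩
  have hfinj : Function.Injective f := fun x y hxy => by
    have h1 : (x : G) • a = (y : G) • a := congrArg Subtype.val hxy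
    exact (Subtype.ext (inv_mul_eq_one.1 (hsemi _ (mul_mem (inv_mem y.2) x.2)
      (by rw [mul_smul, h1, inv_smul_smul]))).symm)
  have hcard : Nat.card (h.Lc c) = Nat.card h.E + 1 := by
    refine le_antisymm ?_ (h.succ_le_card_Lc hc)
    rw [← h.card_fix]
    exact Nat.card_le_card_of_injective f hfinj
  have hbij : Function.Bijective f :=
    (Nat.bijective_iff_injective_and_card f).2 ⟨hfinj, by rw [hcard, h.card_fix]⟩
  have hdvd : Nat.card (h.EC u) + 1 ∣ Nat.card h.E + 1 := by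
    set K := h.Lc c ⊓ centralizer ({u} : Set G) with hK
    refine hcard ▸ dvd_trans (dvd_of_eq ?_) (card_dvd_of_le (inf_le_left : K ≤ h.Lc c))
    classical
    haveI := Fintype.ofFinite (h.EC u)
    let g : Option (h.EC u) → {d : C.Pt // v • d = d ∧ u • d = d} := fun o =>
      o.elim ⟨a, h.va, hua⟩ fun e => ⟨(e : G) • b, h.fix_v_iff.2 (Or.inr ⟨e, e.2.1, rfl⟩),
        (h.fix_iff hua hub (h.E_le_W e.2.1)).2 (mem_centralizer_singleton_iff.1 e.2.2).symm⟩
    have hg : Function.Bijective g := by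
      refine ⟨?_, fun d => ?_⟩
      · rintro (_ | e) (_ | e') he <;> have he' := congrArg Subtype.val he
        · rfl
        · exact absurd he'.symm (h.E_smul_ne e'.2.1)
        · exact absurd he' (h.E_smul_ne e.2.1)
        · exact congrArg some (Subtype.ext (h.W_inj (h.E_le_W e.2.1) (h.E_le_W e'.2.1) he'))
      · obtain ⟨d, hd1, hd2⟩ := d
        rcases h.fix_v_iff.1 hd1 with rfl | ⟨e, he, rfl⟩
        · exact ⟨none, rfl⟩
        · exact ⟨some ⟨e, he, mem_centralizer_singleton_iff.2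
            ((h.fix_iff hua hub (h.E_le_W he)).1 hd2).symm.eq⟩, rfl⟩
    let k : K → {d : C.Pt // v • d = d ∧ u • d = d} := fun x => ⟨(x : G) • a, (f ⟨x, x.2.1⟩).2, by
      rw [smul_smul, ← (mem_centralizer_singleton_iff.1 x.2.2), mul_smul, hua]⟩
    have hk : Function.Bijective k := by
      refine ⟨fun x y hxy => ?_, fun d => ?_⟩
      · have h1 : f ⟨x, x.2.1⟩ = f ⟨y, y.2.1⟩ := Subtype.ext (congrArg Subtype.val hxy :)
        exact Subtype.ext (congrArg (fun z : h.Lc c => (z : G)) (hfinj h1) :)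
      · obtain ⟨⟨x, hx⟩, hxd⟩ := hbij.2 ⟨d.1, d.2.1⟩
        have hxd' : x • a = d.1 := congrArg Subtype.val hxd
        have heq : f ⟨u * x * u⁻¹, huK x hx⟩ = f ⟨x, hx⟩ := Subtype.ext (by
          show (u * x * u⁻¹) • a = x • a
          rw [mul_smul, mul_smul, inv_smul_eq_iff.2 hua.symm, hxd', d.2.2])
        refine ⟨⟨x, hx, mem_centralizer_singleton_iff.2
          (mul_inv_eq_iff_eq_mul.1 (congrArg Subtype.val (hfinj heq))).symm⟩, Subtype.ext hxd'⟩
    rw [Nat.card_congr (Equiv.ofBijective k hk), ← Nat.card_congr (Equiv.ofBijective g hg),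
      Nat.card_eq_fintype_card (α := Option _), Fintype.card_option, ← Nat.card_eq_fintype_card]
  obtain ⟨r, hr⟩ := h.exists_two_pow (K := h.EC u) inf_le_left
  obtain ⟨s, hs⟩ := h.exists_two_pow le_rfl
  have hsq := h.E_le_EC_sq hua huv (fun e _ => by rw [huu]; exact Commute.one_left e)
  have hlt : Nat.card (h.EC u) < Nat.card h.E := by
    refine lt_of_le_of_ne (card_le_of_le inf_le_left) fun heq => huE fun e he => ?_
    have : e ∈ h.EC u := (eq_of_le_of_card_ge (inf_le_left : h.EC u ≤ h.E) heq.ge).ge he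
    exact (mem_centralizer_singleton_iff.1 this.2).symm
  rw [hr, hs] at hdvd hlt
  rw [hr, hs, ← pow_mul] at hsq
  have hsr := (Nat.pow_le_pow_iff_right (Nat.le_refl 2)).1 hsq
  exact h.not_dvd_succ ((Nat.pow_lt_pow_iff_right (Nat.le_refl 2)).1 hlt) (by omega) hdvd

end RegW

end Ctx

end CfsgLib.Criterion
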