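import Cfsg.Agent.Invol.SmallSylow
import Cfsg.Agent.OddEnd.FourteenFinal
import Mathlib.LinearAlgebra.Charpoly.Basic
import Mathlib.GroupTheory.Solvable
import Mathlib.GroupTheory.PGroup

/-!
# The strong embedding criterion: the algebra of the two other types

A group with bijective squaring modulo a central subgroup admits no automorphism of order two on
its squares when their number is not a square; an orbit lemma for a linear group of twice odd order
containing an element acting freely outside one vector; an identity of Hua.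
-/

set_option autoImplicit false
set_option linter.style.haveILetI false
set_option linter.unusedSectionVars false

namespace CfsgLib.Criterion.TypeAlg

open Subgroup

/-! ### Involutory automorphisms on the squares -/

/-- An automorphism of order two on the squares of a group with central squares and injective
squaring modulo `Z` is trivial there, if the squares form a group of non-square order and only
elements in one coset of `Z` commute outside `Z`. -/
theorem fix_of_involutive {P : Type*} [Group P] [Finite P] {Z E : Subgroup P} (hZ : Z ≤ center P)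
    (hZ2 : ∀ z ∈ Z, z * z = 1) (hEZ : E ≤ Z) (hsq : ∀ x : P, x * x ∈ E)
    (hsur : ∀ e ∈ E, ∃ x : P, x * x = e) (hinj : ∀ x y : P, x * x = y * y → x⁻¹ * y ∈ Z)
    (hker : ∀ x y : P, x ∉ Z → y ∉ Z → Commute x y → x⁻¹ * y ∈ Z)
    (hns : ∀ n : ℕ, n * n ≠ Nat.card E) (σ : MulAut P) (hσE : ∀ e ∈ E, σ (σ e) = e) :
    ∀ e ∈ E, σ e = e := by
  classical
  by_contra hcon
  push Not at hcon
  obtain ⟨e₀, he₀, hne⟩ := hcon
  have hcz : ∀ {z : P}, z ∈ Z → ∀ x : P, x * z = z * x := fun hz x => mem_center_iff.1 (hZ hz) x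
  have hce : ∀ {e : P}, e ∈ E → ∀ x : P, x * e = e * x := fun he => hcz (hEZ he)
  have hE2 : ∀ {e : P}, e ∈ E → e * e = 1 := fun he => hZ2 _ (hEZ he)
  have hσm : ∀ {e : P}, e ∈ E → σ e ∈ E := fun {e} he => by
    obtain ⟨x, rfl⟩ := hsur e he
    rw [map_mul]; exact hsq _
  have hmz : ∀ {x z : P}, z ∈ Z → x * z * (x * z) = x * x := fun {x z} hz => by
    rw [show x * z * (x * z) = x * (z * x) * z by group, ← hcz hz x,
      show x * (x * z) * z = x * x * (z * z) by group, hZ2 z hz, mul_one]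
  have hcomm : ∀ x y : P, x * y * x⁻¹ * y⁻¹ ∈ E := fun x y => by
    have h : x * y * (x * y) * (x * x)⁻¹ * (y * y)⁻¹ = x * y * x⁻¹ * y⁻¹ := by
      have h1 := hce (inv_mem (hsq x)) (x * y)
      calc x * y * (x * y) * (x * x)⁻¹ * (y * y)⁻¹
          = x * y * ((x * y) * (x * x)⁻¹) * (y * y)⁻¹ := by group
        _ = x * y * ((x * x)⁻¹ * (x * y)) * (y * y)⁻¹ := by rw [h1]
        _ = _ := by group
    rw [← h]
    exact mul_mem (mul_mem (hsq _) (inv_mem (hsq x))) (inv_mem (hsq y))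
  set K : P → P → P := fun x y => x * y * x⁻¹ * y⁻¹ with hK
  have hKl : ∀ x y z : P, K (x * y) z = K x z * K y z := fun x y z => by
    simp only [hK]
    calc x * y * z * (x * y)⁻¹ * z⁻¹ = x * (y * z * y⁻¹ * z⁻¹) * z * x⁻¹ * z⁻¹ := by group
      _ = (y * z * y⁻¹ * z⁻¹) * x * z * x⁻¹ * z⁻¹ := by rw [hce (hcomm y z) x]
      _ = (y * z * y⁻¹ * z⁻¹) * (x * z * x⁻¹ * z⁻¹) := by group
      _ = _ := (hce (hcomm x z) _)
  have hKr : ∀ x y z : P, K x (y * z) = K x y * K x z := fun x y z => by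
    simp only [hK]
    calc x * (y * z) * x⁻¹ * (y * z)⁻¹ = x * y * x⁻¹ * ((x * z * x⁻¹ * z⁻¹) * y⁻¹) := by group
      _ = x * y * x⁻¹ * (y⁻¹ * (x * z * x⁻¹ * z⁻¹)) := by rw [hce (hcomm x z) y⁻¹]
      _ = _ := by group
  have hKz : ∀ (x : P) {z : P}, z ∈ Z → K x z = 1 := fun x z hz => by
    simp only [hK]; rw [hcz hz x]; group
  have hKz' : ∀ (x : P) {z : P}, z ∈ Z → K z x = 1 := fun x z hz => by
    simp only [hK]; rw [← hcz hz x]; group
  -- the moved coset
  obtain ⟨x₀, hx₀⟩ := hsur e₀ he₀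
  set y := x₀⁻¹ * σ x₀ with hy
  have hσx : σ x₀ = x₀ * y := by rw [hy, mul_inv_cancel_left]
  have hyZ : y ∉ Z := fun h => hne (by rw [← hx₀, map_mul, hσx, hmz h])
  have hσσ : ∀ x : P, x⁻¹ * σ (σ x) ∈ Z := fun x => hinj _ _ (by
    rw [← map_mul, ← map_mul, hσE _ (hsq x)])
  have hσy : y⁻¹ * σ y ∈ Z := by
    have h1 : σ y = (σ x₀)⁻¹ * (x₀ * (x₀⁻¹ * σ (σ x₀))) := by rw [hy, map_mul, map_inv]; group
    have h2 : y⁻¹ * σ y = (y * y)⁻¹ * (x₀⁻¹ * σ (σ x₀)) := by
      rw [h1, hσx]; group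
    rw [h2]
    exact mul_mem (inv_mem (hEZ (hsq y))) (hσσ x₀)
  -- fixed cosets
  let F : Subgroup P :=
    { carrier := {f | f⁻¹ * σ f ∈ Z}
      one_mem' := by simp
      mul_mem' := fun {f g} hf hg => by
        show (f * g)⁻¹ * σ (f * g) ∈ Z
        rw [map_mul, show (f * g)⁻¹ * (σ f * σ g) = g⁻¹ * (f⁻¹ * σ f) * σ g by group, hcz hf g⁻¹,
          mul_assoc]
        exact mul_mem hf hg
      inv_mem' := fun {f} hf => by
        show f⁻¹⁻¹ * σ f⁻¹ ∈ Z
        have h := hcz (inv_mem hf) f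
        rw [map_inv, inv_inv, show f * (σ f)⁻¹ = f * ((f⁻¹ * σ f)⁻¹ * f⁻¹) by group, ← mul_assoc, h,
          mul_assoc, mul_inv_cancel, mul_one]
        exact inv_mem hf }
  have hσF : ∀ {f : P}, f ∈ F → ∃ z ∈ Z, σ f = f * z := fun {f} hf =>
    ⟨_, hf, (mul_inv_cancel_left f (σ f)).symm⟩
  have hψI : ∀ f ∈ F, K f y = K f x₀ * σ (K f x₀) := by
    intro f hf
    obtain ⟨z, hz, hfz⟩ := hσF hf
    have h1 : σ (K f x₀) = K f x₀ * K f y := by
      have : σ (K f x₀) = K (σ f) (σ x₀) := by simp only [hK, map_mul, map_inv]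
      rw [this, hfz, hσx, hKl, hKz' _ hz, mul_one, hKr]
    rw [h1, ← mul_assoc, hE2 (hcomm f x₀), one_mul]
  -- the two homomorphisms
  let φ : ↥E →* ↥E :=
    { toFun := fun e => ⟨(e : P) * σ e, mul_mem e.2 (hσm e.2)⟩
      map_one' := Subtype.ext (by simp)
      map_mul' := fun e f => Subtype.ext (by
        show (e : P) * f * σ ((e : P) * f) = (e : P) * σ e * ((f : P) * σ f)
        rw [map_mul, show (e : P) * f * (σ e * σ f) = e * (f * σ e) * σ f by group,
          hce (hσm e.2) (f : P)]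
        group) }
  have hIK : φ.range ≤ φ.ker := by
    rintro _ ⟨e, rfl⟩
    refine Subtype.ext ?_
    show (e : P) * σ e * σ ((e : P) * σ e) = 1
    rw [map_mul, hσE _ e.2, show (e : P) * σ e * (σ e * e) = e * (σ e * σ e) * e by group,
      hE2 (hσm e.2), mul_one, hE2 e.2]
  let ψ : ↥F →* ↥E :=
    { toFun := fun f => ⟨K f y, hcomm _ _⟩
      map_one' := Subtype.ext (by simp [hK])
      map_mul' := fun f g => Subtype.ext (hKl f g y) }
  have hψ : ψ.range ≤ φ.range := by
    rintro _ ⟨f, rfl⟩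
    exact ⟨⟨K f x₀, hcomm _ _⟩, Subtype.ext (hψI f f.2).symm⟩
  have hyF : y ∈ F := hσy
  have hZF : ∀ z ∈ Z, z ∈ F := fun z hz => by
    show z⁻¹ * σ z ∈ Z
    refine mul_mem (inv_mem hz) ?_
    have h := hinj 1 (σ z) (by rw [← map_mul, hZ2 z hz, map_one, mul_one])
    simpa using h
  have hcardψ : Nat.card ψ.ker = 2 * Nat.card Z := by
    have hmem : ∀ f : ↥F, f ∈ ψ.ker ↔ (f : P) ∈ Z ∨ y⁻¹ * f ∈ Z := fun f => by
      constructor
      · intro h
        have h1 : Commute (f : P) y := mul_inv_eq_iff_eq_mul.1 (mul_inv_eq_one.1 (congrArg Subtype.val h))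
        by_cases hf : (f : P) ∈ Z
        · exact Or.inl hf
        · exact Or.inr (hker y f hyZ hf h1.symm)
      · intro h
        refine Subtype.ext (show K (f : P) y = 1 from ?_)
        rcases h with h | h
        · exact hKz' y h
        · rw [show (f : P) = y * (y⁻¹ * f) by group, hKl, hKz' y h, mul_one]
          simp [hK]
    let g : Z ⊕ Z → ψ.ker := Sum.elim (fun z => ⟨⟨z, hZF _ z.2⟩, (hmem _).2 (Or.inl z.2)⟩)
      (fun z => ⟨⟨y * z, mul_mem hyF (hZF _ z.2)⟩, (hmem _).2 (Or.inr (by simp))⟩)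
    have hg : Function.Bijective g := by
      refine ⟨?_, ?_⟩
      · rintro (z | z) (w | w) h <;> have h' := congrArg (fun f : ψ.ker => ((f : ↥F) : P)) h
        · exact congrArg Sum.inl (Subtype.ext h')
        · exact absurd (show y ∈ Z by
            have h'' : (z : P) = y * w := h'
            rw [show y = (z : P) * (w : P)⁻¹ by rw [h'', mul_inv_cancel_right]]
            exact mul_mem z.2 (inv_mem w.2)) hyZ
        · exact absurd (show y ∈ Z by
            have h'' : y * z = (w : P) := h'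
            rw [show y = (w : P) * (z : P)⁻¹ by rw [← h'', mul_inv_cancel_right]]
            exact mul_mem w.2 (inv_mem z.2)) hyZ
        · exact congrArg Sum.inr (Subtype.ext (mul_left_cancel h'))
      · rintro ⟨f, hf⟩
        rcases (hmem f).1 hf with h | h
        · exact ⟨Sum.inl ⟨_, h⟩, rfl⟩
        · exact ⟨Sum.inr ⟨_, h⟩, Subtype.ext (Subtype.ext (mul_inv_cancel_left y (f : P)))⟩
    rw [← Nat.card_eq_of_bijective g hg, Nat.card_sum, two_mul]
  have hcardF : Nat.card F = Nat.card Z * Nat.card φ.ker := by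
    have hroot : ∀ e : φ.ker, ∃ f : P, f ∈ F ∧ f * f = ((e : ↥E) : P) := fun e => by
      obtain ⟨x, hx⟩ := hsur _ (e : ↥E).2
      refine ⟨x, hinj _ _ ?_, hx⟩
      have h : ((e : ↥E) : P) * σ ((e : ↥E) : P) = 1 := congrArg Subtype.val e.2
      rw [← map_mul, hx]
      calc ((e : ↥E) : P) = ((e : ↥E) : P) * (((e : ↥E) : P) * σ ((e : ↥E) : P)) := by rw [h, mul_one]
        _ = _ := by rw [← mul_assoc, hE2 (e : ↥E).2, one_mul]
    choose r hrF hr2 using hroot
    let g : Z × φ.ker → ↥F := fun p => ⟨r p.2 * p.1, mul_mem (hrF p.2) (hZF _ p.1.2)⟩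
    have hg : Function.Bijective g := by
      refine ⟨?_, ?_⟩
      · rintro ⟨z, e⟩ ⟨w, e'⟩ h
        have h' : r e * (z : P) = r e' * w := congrArg Subtype.val h
        obtain rfl : e = e' := by
          refine Subtype.ext (Subtype.ext ?_)
          rw [← hr2 e, ← hr2 e', ← hmz (x := r e) z.2, h', hmz w.2]
        exact Prod.ext (Subtype.ext (mul_left_cancel h')) rfl
      · intro f
        obtain ⟨z, hz, hfz⟩ := hσF f.2
        have he : (⟨(f : P) * f, hsq _⟩ : ↥E) ∈ φ.ker := Subtype.ext (by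
          show (f : P) * f * σ ((f : P) * f) = 1
          rw [map_mul, hfz, hmz hz, hE2 (hsq _)])
        exact ⟨(⟨_, hinj _ _ (hr2 ⟨_, he⟩)⟩, ⟨_, he⟩), Subtype.ext (mul_inv_cancel_left _ (f : P))⟩
    rw [← Nat.card_eq_of_bijective g hg, Nat.card_prod]
  -- the count
  have hψc := ψ.ker.index_mul_card
  rw [index_ker, hcardψ, hcardF] at hψc
  have hφc := φ.ker.index_mul_card
  rw [index_ker] at hφc
  have h2 : Nat.card ψ.range * 2 = Nat.card φ.ker :=
    Nat.eq_of_mul_eq_mul_left (Nat.card_pos : 0 < Nat.card Z) (by rw [← hψc]; ring)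
  have heq : φ.range ≤ ψ.range := by
    refine (eq_of_le_of_card_ge hψ ?_).ge
    by_contra hlt
    have hd := card_dvd_of_le hψ
    have hle := card_le_of_le hIK
    obtain ⟨c, hc⟩ := hd
    rcases c with _ | _ | c
    · rw [mul_zero] at hc; exact absurd hc (Nat.card_pos).ne'
    · omega
    · have h3 : Nat.card φ.range = Nat.card φ.ker := by
        refine le_antisymm hle ?_
        rw [hc, ← h2]
        exact Nat.mul_le_mul_left _ (by omega)
      exact hns _ (h3 ▸ hφc)
  -- `y` is conjugate to its inverse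
  have hy2 : y * y * K x₀⁻¹ y = e₀ * σ e₀ := by
    have h1 : σ e₀ = x₀ * x₀ * (x₀⁻¹ * y * x₀ * y) := by
      rw [← hx₀, map_mul, hσx]; group
    have h3 : x₀⁻¹ * y * x₀ * y = K x₀⁻¹ y * (y * y) := by simp only [hK]; group
    rw [h1, hx₀, ← mul_assoc e₀ e₀, hE2 he₀, one_mul, h3]
    exact (hce (hcomm _ _) _)
  obtain ⟨f, hf⟩ := heq ⟨⟨e₀, he₀⟩, rfl⟩
  have hw : y * y = K ((f : P) * x₀⁻¹) y := by
    have h4 : K (f : P) y = e₀ * σ e₀ := congrArg Subtype.val hf
    rw [hKl, h4, ← hy2, mul_assoc (y * y), show K x₀⁻¹ y * K x₀⁻¹ y = 1 from hE2 (hcomm _ _), mul_one]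
  set w := (f : P) * x₀⁻¹
  refine hyZ ?_
  have h5 : w * y * w⁻¹ = y⁻¹ := by
    have h6 : w * y * w⁻¹ = y * y * y := by rw [hw]; simp only [hK]; group
    rw [h6, eq_inv_iff_mul_eq_one, mul_assoc (y * y), hE2 (hsq y)]
  have h7 := hinj w (w * y) (by
    calc w * w = w * w * y⁻¹ * y := by group
      _ = y⁻¹ * (w * w) * y := by rw [← hce (hsq w) y⁻¹]
      _ = w * y * w⁻¹ * (w * w) * y := by rw [h5]
      _ = _ := by group)
  rwa [inv_mul_cancel_left] at h7

/-! ### An identity of Hua -/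

/-- Additive maps with `L a = a ^ 2 * K a⁻¹` in characteristic two vanish if `K` kills `1`. -/
theorem hua {F : Type*} [Field F] [Finite F] [CharP F 2] (K L : F →+ F) (hK1 : K 1 = 0)
    (hL : ∀ a, a ≠ 0 → L a = a * a * K a⁻¹) : ∀ a, L a = 0 := by
  have hL1 : L 1 = 0 := by rw [hL 1 one_ne_zero, inv_one, hK1, mul_zero]
  have key : ∀ x, L (x * x) = 0 := by
    intro x
    by_cases h0 : x = 0
    · simp [h0]
    by_cases h1 : x = 1
    · simp [h1, hL1]
    have hx1 : x + 1 ≠ 0 := fun h => h1 (CharTwo.add_eq_zero.1 h)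
    have hKinv : ∀ a, a ≠ 0 → K a⁻¹ = L a / (a * a) := fun a ha => by
      rw [hL a ha]; field_simp
    have hsum : x⁻¹ + (x + 1)⁻¹ = (x * x + x)⁻¹ := by
      have hxx : x * x + x ≠ 0 := by
        rw [show x * x + x = x * (x + 1) by ring]; exact mul_ne_zero h0 hx1
      field_simp
      ring_nf
      linear_combination x * (CharTwo.two_eq_zero : (2 : F) = 0)
    have hxx : x * x + x ≠ 0 := by
      rw [show x * x + x = x * (x + 1) by ring]; exact mul_ne_zero h0 hx1
    have h := congrArg K hsum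
    rw [map_add, hKinv x h0, hKinv _ hx1, hKinv _ hxx, map_add, hL1, add_zero] at h
    have h' : L (x * x + x) = L x := by
      field_simp at h
      rw [show x * (x + 1) = x * x + x by ring] at h
      linear_combination -h + (x * x + x) * L x * (CharTwo.two_eq_zero : (2 : F) = 0)
    rw [map_add] at h'
    exact add_eq_right.1 h'
  intro a
  have hinj : Function.Injective fun x : F => x * x := fun x y h => CharTwo.add_eq_zero.1
    (mul_self_eq_zero.1 (by rw [CharTwo.add_mul_self]; exact CharTwo.add_eq_zero.2 h))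
  obtain ⟨x, rfl⟩ := (Finite.injective_iff_surjective.1 hinj) a
  exact key x

/-! ### An orbit lemma -/

/-- In characteristic two the powers of an element acting freely on an odd group of units satisfy no
relation with `1`. -/
theorem no_relation {R : Type*} [Ring R] (h2 : ∀ x : R, x + x = 0) {A : Subgroup Rˣ} [Finite A]
    (hA : A ≠ ⊥) (hodd : Odd (Nat.card A)) {a : Rˣ} (hn : ∀ x ∈ A, a * x * a⁻¹ ∈ A) (s : Finset ℕ)
    (hfree : ∀ i ∈ s, ∀ x ∈ A, Commute x (a ^ i) → x = 1) :
    (1 : R) + ∑ i ∈ s, ((a ^ i : Rˣ) : R) ≠ 0 := by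
  classical
  haveI := Fintype.ofFinite A
  intro h0
  set S : R := ∑ x : A, ((x : Rˣ) : R) with hS
  have hni : ∀ i : ℕ, ∀ x ∈ A, a ^ i * x * (a ^ i)⁻¹ ∈ A := fun i => by
    induction i with
    | zero => intro x hx; simpa using hx
    | succ i ih =>
      intro x hx
      have h := hn _ (ih x hx)
      rwa [show a * (a ^ i * x * (a ^ i)⁻¹) * a⁻¹ = a ^ (i + 1) * x * (a ^ (i + 1))⁻¹ by
        rw [pow_succ']; group] at h
  have hrot : ∀ i ∈ s, ∑ x : A, ((x : Rˣ) : R) * ((a ^ i : Rˣ) : R) * (((x : Rˣ)⁻¹ : Rˣ) : R) =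
      S * ((a ^ i : Rˣ) : R) := by
    intro i hi
    let g : A → A := fun x => ⟨(x : Rˣ) * (a ^ i * (x : Rˣ)⁻¹ * (a ^ i)⁻¹),
      mul_mem x.2 (hni i _ (inv_mem x.2))⟩
    have hg : Function.Injective g := by
      intro x y h
      have h' : (x : Rˣ) * (a ^ i * (x : Rˣ)⁻¹ * (a ^ i)⁻¹) = (y : Rˣ) * (a ^ i * (y : Rˣ)⁻¹ * (a ^ i)⁻¹) :=
        congrArg Subtype.val h
      rw [← mul_assoc, ← mul_assoc, ← mul_assoc, ← mul_assoc, mul_left_inj] at h'
      have h'' := hfree i hi _ (mul_mem (inv_mem y.2) x.2) (show _ = _ by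
        calc (y : Rˣ)⁻¹ * (x : Rˣ) * a ^ i = (y : Rˣ)⁻¹ * ((x : Rˣ) * a ^ i * (x : Rˣ)⁻¹) * x := by group
          _ = (y : Rˣ)⁻¹ * ((y : Rˣ) * a ^ i * (y : Rˣ)⁻¹) * x := by rw [h']
          _ = _ := by group)
      exact (Subtype.ext (inv_mul_eq_one.1 h'')).symm
    rw [hS, Finset.sum_mul, ← Equiv.sum_comp (Equiv.ofBijective g (Finite.injective_iff_bijective.1 hg))
      fun x : A => ((x : Rˣ) : R) * ((a ^ i : Rˣ) : R)]
    refine Finset.sum_congr rfl fun x _ => ?_
    show _ = (((x : Rˣ) * (a ^ i * (x : Rˣ)⁻¹ * (a ^ i)⁻¹) : Rˣ) : R) * ((a ^ i : Rˣ) : R)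
    rw [← Units.val_mul, ← Units.val_mul, ← Units.val_mul]
    congr 1
    group
  have h1 : ∑ x : A, ((x : Rˣ) : R) * (1 + ∑ i ∈ s, ((a ^ i : Rˣ) : R)) * (((x : Rˣ)⁻¹ : Rˣ) : R) = 0 := by
    simp only [h0, mul_zero, zero_mul, Finset.sum_const_zero]
  obtain ⟨k, hk⟩ := hodd
  have hone : (Nat.card A : R) = 1 := by
    rw [hk, Nat.cast_add, Nat.cast_one, Nat.cast_mul, Nat.cast_two, show (2 : R) = 1 + 1 by norm_num, h2, zero_mul,
      zero_add]
  simp only [mul_add, add_mul, mul_one, Units.mul_inv, Finset.mul_sum, Finset.sum_mul,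
    Finset.sum_add_distrib] at h1
  rw [Finset.sum_comm, Finset.sum_congr rfl hrot, ← Finset.mul_sum, Finset.sum_const, Finset.card_univ,
    ← Nat.card_eq_fintype_card, nsmul_one, hone] at h1
  have hSv : ∑ i ∈ s, ((a ^ i : Rˣ) : R) = 1 := by
    calc _ = 1 + 1 + ∑ i ∈ s, ((a ^ i : Rˣ) : R) := by rw [h2, zero_add]
      _ = _ := by rw [add_assoc, h0, add_zero]
  rw [hSv, mul_one] at h1
  have hS1 : S = 1 := by
    calc S = 1 + 1 + S := by rw [h2, zero_add]
      _ = 1 := by rw [add_assoc, h1, add_zero]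
  refine hA ((eq_bot_iff_forall _).2 fun y hy => Units.ext ?_)
  have h3 : (y : R) * S = S := by
    rw [hS, Finset.mul_sum, ← Equiv.sum_comp (Equiv.mulLeft (⟨y, hy⟩ : A)) fun x : A => ((x : Rˣ) : R)]
    exact Finset.sum_congr rfl fun x _ => by simp
  rwa [hS1, mul_one] at h3

/-- A prime of a linear map of a small module over two elements. -/
theorem prime_dvd_pow_sub {W : Type*} [AddCommGroup W] [Module (ZMod 2) W] [Module.Finite (ZMod 2) W]
    {p : ℕ} (hp : p.Prime) {x : (Module.End (ZMod 2) W)ˣ} (hx : orderOf x = p) :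
    ∃ f d : ℕ, f < d ∧ d ≤ Module.finrank (ZMod 2) W ∧ 2 ^ d ≡ 2 ^ f [MOD p] := by
  classical
  haveI := Fact.mk hp
  haveI : Finite W := Module.finite_of_finite (ZMod 2)
  set Fx : Submodule (ZMod 2) W := LinearMap.ker ((x : Module.End (ZMod 2) W) - 1) with hFx
  have hP : IsPGroup p (zpowers x) :=
    IsPGroup.of_card (n := 1) (by rw [Nat.card_zpowers, hx, pow_one])
  have h := hP.card_modEq_card_fixedPoints W
  have hiff : ∀ w : W, w ∈ MulAction.fixedPoints (zpowers x) W ↔ w ∈ Fx := by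
    intro w
    rw [MulAction.mem_fixedPoints, hFx, LinearMap.mem_ker, LinearMap.sub_apply, sub_eq_zero,
      Module.End.one_apply]
    refine ⟨fun h => h ⟨x, mem_zpowers x⟩, fun h y => ?_⟩
    have h' : zpowers x ≤ MulAction.stabilizer (Module.End (ZMod 2) W)ˣ w := zpowers_le.2 h
    exact h' y.2
  rw [Nat.card_congr (Equiv.subtypeEquivRight hiff),
    Module.natCard_eq_pow_finrank (K := ZMod 2) (V := W),
    Module.natCard_eq_pow_finrank (K := ZMod 2) (V := Fx), Nat.card_zmod] at h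
  refine ⟨_, _, lt_of_le_of_ne (Submodule.finrank_le Fx) fun he => ?_, le_rfl, h⟩
  have htop := Submodule.eq_top_of_finrank_eq he
  refine hp.one_lt.ne' (hx ▸ orderOf_eq_one_iff.2 (Units.ext (LinearMap.ext fun w => ?_)))
  have hw : w ∈ Fx := htop ▸ Submodule.mem_top
  rwa [hFx, LinearMap.mem_ker, LinearMap.sub_apply, sub_eq_zero] at hw

/-- The bound for a free element on an abelian odd group of units. -/
theorem false_of_free {W : Type*} [AddCommGroup W] [Module (ZMod 2) W] [Module.Finite (ZMod 2) W]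
    {A : Subgroup (Module.End (ZMod 2) W)ˣ} [Finite A] (hA : A ≠ ⊥) (hodd : Odd (Nat.card A))
    (hcomm : ∀ x ∈ A, ∀ y ∈ A, Commute x y) {a : (Module.End (ZMod 2) W)ˣ}
    (hn : ∀ x ∈ A, a * x * a⁻¹ ∈ A) (hfree : ∀ i : ℕ, a ^ i ≠ 1 → ∀ x ∈ A, Commute x (a ^ i) → x = 1)
    (hsmall : Module.finrank (ZMod 2) W < orderOf a ∨
      orderOf a = 7 ∧ Module.finrank (ZMod 2) W ≤ 7 ∧ Nat.card A ≤ 57) : False := by
  classical
  rcases hsmall with hd | ⟨h7, hd, hcard⟩
  · set f := LinearMap.charpoly ((a : Module.End (ZMod 2) W)) with hf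
    have hdeg : f.natDegree = Module.finrank (ZMod 2) W := LinearMap.charpoly_natDegree _
    set d := Module.finrank (ZMod 2) W
    have h0 := LinearMap.aeval_self_charpoly ((a : Module.End (ZMod 2) W))
    rw [← hf, Polynomial.aeval_eq_sum_range, hdeg, Finset.sum_range_succ,
      show f.coeff d = 1 from hdeg ▸ (LinearMap.charpoly_monic _).coeff_natDegree, one_smul] at h0
    set n := orderOf a
    have h1 := congrArg (· * ((a ^ (n - d) : (Module.End (ZMod 2) W)ˣ) : Module.End (ZMod 2) W)) h0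
    simp only [add_mul, zero_mul, Finset.sum_mul, ← Units.val_pow_eq_pow_val, ← Units.val_mul,
      smul_mul_assoc, ← pow_add] at h1
    rw [show d + (n - d) = n by omega, pow_orderOf_eq_one, Units.val_one, add_comm] at h1
    refine no_relation (fun x => by rw [← two_smul (ZMod 2) x, show (2 : ZMod 2) = 0 from rfl, zero_smul])
      hA hodd hn (((Finset.range d).filter fun j => f.coeff j ≠ 0).image fun j => j + (n - d))
      (fun i hi => hfree i (pow_ne_one_of_lt_orderOf ?_ ?_)) ?_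
    · simp only [Finset.mem_image, Finset.mem_filter, Finset.mem_range] at hi
      obtain ⟨j, ⟨hj, -⟩, rfl⟩ := hi
      omega
    · simp only [Finset.mem_image, Finset.mem_filter, Finset.mem_range] at hi
      obtain ⟨j, ⟨hj, -⟩, rfl⟩ := hi
      omega
    · rw [Finset.sum_image (by intro i _ j _ h; exact Nat.add_right_cancel h), Finset.sum_filter]
      convert h1 using 2
      refine Finset.sum_congr rfl fun j _ => ?_
      rcases (show f.coeff j = 0 ∨ f.coeff j = 1 by
        generalize f.coeff j = c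
        revert c
        decide) with h | h
      · rw [h, if_neg (by simp), zero_smul]
      · rw [h, if_pos one_ne_zero, one_smul]
  · haveI : Fact (Nat.Prime 7) := ⟨by norm_num⟩
    haveI : Finite W := Module.finite_of_finite (ZMod 2)
    haveI : Finite (Module.End (ZMod 2) W) := Finite.of_injective (fun f => (f : W → W)) DFunLike.coe_injective
    haveI : Finite (Module.End (ZMod 2) W)ˣ := Finite.of_injective Units.val Units.val_injective
    set p := (Nat.card A).minFac with hpdef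
    have hA1 : Nat.card A ≠ 1 := fun h => hA (card_eq_one.1 h)
    have hp : p.Prime := Nat.minFac_prime hA1
    haveI := Fact.mk hp
    letI : CommGroup A :=
      { (inferInstance : Group A) with mul_comm := fun x y => Subtype.ext (hcomm x x.2 y y.2) }
    set T : Subgroup A := (powMonoidHom p).ker with hT
    have hT2 : IsPGroup p T := fun x => ⟨1, Subtype.ext (by rw [pow_one]; exact x.2)⟩
    obtain ⟨k, hk⟩ := IsPGroup.iff_card.1 hT2
    obtain ⟨x, hx⟩ := exists_prime_orderOf_dvd_card' (G := A) p (Nat.minFac_dvd _)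
    have hk0 : k ≠ 0 := by
      intro h
      rw [h, pow_zero, card_eq_one, eq_bot_iff_forall] at hk
      have := hk x (show x ^ p = 1 by rw [← hx, pow_orderOf_eq_one])
      rw [this, orderOf_one] at hx
      exact hp.one_lt.ne hx
    -- `a` moves every element of `T`
    set Na : Subgroup (Module.End (ZMod 2) W)ˣ := zpowers a with hNa
    have hNA : ∀ g ∈ Na, ∀ y ∈ A, g * y * g⁻¹ ∈ A := by
      intro g hg y hy
      obtain ⟨i, rfl⟩ := (mem_powers_iff_mem_zpowers.2 hg : g ∈ Submonoid.powers a)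
      show a ^ i * y * (a ^ i)⁻¹ ∈ A
      induction i with
      | zero => simpa using hy
      | succ i ih =>
        have := hn _ (ih (pow_mem (mem_zpowers a) i))
        rwa [show a * (a ^ i * y * (a ^ i)⁻¹) * a⁻¹ = a ^ (i + 1) * y * (a ^ (i + 1))⁻¹ by
          rw [pow_succ']; group] at this
    letI : MulAction Na T :=
      { smul := fun g y => ⟨⟨(g : (Module.End (ZMod 2) W)ˣ) * ((y : A) : (Module.End (ZMod 2) W)ˣ) *
              (g : (Module.End (ZMod 2) W)ˣ)⁻¹,
            hNA g g.2 _ (y : A).2⟩, Subtype.ext (by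
          show ((g : (Module.End (ZMod 2) W)ˣ) * ((y : A) : (Module.End (ZMod 2) W)ˣ) *
            (g : (Module.End (ZMod 2) W)ˣ)⁻¹) ^ p = 1
          rw [conj_pow, show ((y : A) : (Module.End (ZMod 2) W)ˣ) ^ p = 1 from congrArg Subtype.val y.2,
            mul_one, mul_inv_cancel])⟩
        one_smul := fun y => Subtype.ext (Subtype.ext (by
          show ((1 : Na) : (Module.End (ZMod 2) W)ˣ) * _ * _ = _
          simp))
        mul_smul := fun g g' y => Subtype.ext (Subtype.ext (by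
          show ((g * g' : Na) : (Module.End (ZMod 2) W)ˣ) * ((y : A) : (Module.End (ZMod 2) W)ˣ) * _ =
            (g : (Module.End (ZMod 2) W)ˣ) * ((g' : (Module.End (ZMod 2) W)ˣ) *
              ((y : A) : (Module.End (ZMod 2) W)ˣ) * (g' : (Module.End (ZMod 2) W)ˣ)⁻¹) *
              (g : (Module.End (ZMod 2) W)ˣ)⁻¹
          rw [Subgroup.coe_mul]; group)) }
    have h := (IsPGroup.of_card (G := Na) (p := 7) (n := 1)
      (by rw [hNa, Nat.card_zpowers, h7, pow_one])).card_modEq_card_fixedPoints T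
    have hfix : Nat.card (MulAction.fixedPoints Na T) = 1 := by
      refine Nat.card_eq_one_iff_unique.2 ⟨⟨fun y z => ?_⟩, ⟨⟨1, fun g => Subtype.ext (Subtype.ext (by
        show (g : (Module.End (ZMod 2) W)ˣ) * 1 * (g : (Module.End (ZMod 2) W)ˣ)⁻¹ = 1
        simp))⟩⟩⟩
      have key : ∀ y : MulAction.fixedPoints Na T, y.1 = 1 := fun y => by
        have hy := congrArg (fun w : T => ((w : A) : (Module.End (ZMod 2) W)ˣ))
          (y.2 ⟨a, mem_zpowers a⟩)
        refine Subtype.ext (Subtype.ext (hfree 1 ?_ _ (y.1 : A).2 ?_))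
        · rw [pow_one]
          intro h1
          rw [h1, orderOf_one] at h7
          omega
        · rw [pow_one]
          exact (mul_inv_eq_iff_eq_mul.1 hy).symm
      exact Subtype.ext ((key y).trans (key z).symm)
    rw [hfix, hk] at h
    have hle : p ^ k ≤ 57 := hk ▸ (card_le_card_group T).trans hcard
    have hpodd : p ≠ 2 := fun h => hodd.not_two_dvd_nat (by
      have h' := Nat.minFac_dvd (Nat.card A)
      rwa [← hpdef, h] at h')
    have hp29 : p = 29 ∨ p = 43 := by
      have hd' : ∀ {r : ℕ}, r.Prime → r ∣ p ^ k → r = p := fun {r} hr hrd =>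
        (Nat.prime_dvd_prime_iff_eq hr hp).1 (hr.dvd_of_dvd_pow hrd)
      have hpk : p ∣ p ^ k := dvd_pow_self p hk0
      have h2' : Odd (p ^ k) := (hp.odd_of_ne_two hpodd).pow
      rw [Nat.ModEq] at h
      obtain ⟨c, hc⟩ := h2'
      have hN : p ^ k = 1 ∨ p ^ k = 15 ∨ p ^ k = 29 ∨ p ^ k = 43 ∨ p ^ k = 57 := by omega
      rcases hN with hN | hN | hN | hN | hN <;> rw [hN] at hpk hd'
      · exact absurd (Nat.dvd_one.1 hpk) hp.ne_one
      · have e1 := hd' Nat.prime_three ⟨5, rfl⟩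
        have e2 := hd' Nat.prime_five ⟨3, rfl⟩
        omega
      · exact Or.inl (hd' (by norm_num) dvd_rfl).symm
      · exact Or.inr (hd' (by norm_num) dvd_rfl).symm
      · have e1 := hd' Nat.prime_three ⟨19, rfl⟩
        have e2 := hd' (r := 19) (by norm_num) ⟨3, rfl⟩
        omega
    obtain ⟨f, d, hfd, hdle, hmod⟩ := prime_dvd_pow_sub hp
      (x := (x : (Module.End (ZMod 2) W)ˣ)) (by rw [Subgroup.orderOf_coe, hx])
    have hd7 : d ≤ 7 := hdle.trans hd
    rcases hp29 with h | h <;> rw [h] at hmod <;> interval_cases d <;> interval_cases f <;>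
      revert hmod <;> decide

/-- **The orbit lemma**: a linear group of order not divisible by four with an element whose
nontrivial powers fix only `0` and `v₀` fixes `v₀`, if that element has order above the dimension,
or order 7 with dimension at most 7 and an orbit of at most 57 vectors. -/
theorem fixed_of_small {B : Type*} [Group B] [Finite B] {V : Type*} [AddCommGroup V]
    [Module (ZMod 2) V] [Module.Finite (ZMod 2) V] (ρ : B →* Module.End (ZMod 2) V)
    (hB : ¬ 4 ∣ Nat.card B) {m : B} (hm : Odd (orderOf m)) {v₀ : V} (hv₀ : v₀ ≠ 0)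
    (hmv : ρ m v₀ = v₀) (hfix : ∀ i : ℕ, m ^ i ≠ 1 → ∀ w : V, ρ (m ^ i) w = w → w = 0 ∨ w = v₀)
    (hsmall : Module.finrank (ZMod 2) V < orderOf m ∨ orderOf m = 7 ∧
      Module.finrank (ZMod 2) V ≤ 7 ∧ Nat.card {w : V // ∃ b, ρ b v₀ = w} ≤ 57) :
    ∀ b, ρ b v₀ = v₀ := by
  classical
  haveI : Fact (Nat.Prime 2) := ⟨Nat.prime_two⟩
  have hinv : ∀ (b : B) (w : V), ρ b⁻¹ (ρ b w) = w := fun b w => by
    rw [← Module.End.mul_apply, ← map_mul, inv_mul_cancel, map_one, Module.End.one_apply]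
  have hm1 : m ≠ 1 := by
    intro h
    rw [h, orderOf_one] at hsmall
    rcases hsmall with h' | h'
    · haveI : Nontrivial V := nontrivial_of_ne v₀ 0 hv₀
      have := Module.finrank_pos (R := ZMod 2) (M := V)
      omega
    · omega
  -- an odd normal subgroup containing `m`
  obtain ⟨B', hB'n, hB'odd, hB'i⟩ : ∃ B' : Subgroup B, B'.Normal ∧ Odd (Nat.card B') ∧ B'.index ∣ 2 := by
    rcases Nat.even_or_odd (Nat.card B) with hev | hodd
    · obtain ⟨T⟩ : Nonempty (Sylow 2 B) := inferInstance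
      obtain ⟨j, hj⟩ := IsPGroup.iff_card.1 T.2
      have hj1 : j ≤ 1 := by
        by_contra h
        exact hB ((pow_dvd_pow 2 (by omega : 2 ≤ j)).trans (hj ▸ card_subgroup_dvd_card _))
      have hcyc : IsCyclic (T : Subgroup B) := by
        interval_cases j
        · haveI : Subsingleton (T : Subgroup B) := (Nat.card_eq_one_iff_unique.1 hj).1
          infer_instance
        · exact isCyclic_of_prime_card (p := 2) hj
      obtain ⟨H, hH⟩ := SmallSylow.exists_index_two_of_cyclic hev T hcyc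
      refine ⟨H, normal_of_index_eq_two hH, ?_, hH ▸ dvd_rfl⟩
      rw [← Nat.not_even_iff_odd]
      intro h
      refine hB ?_
      obtain ⟨c, hc⟩ := h.two_dvd
      exact ⟨c, by rw [← H.index_mul_card, hH, hc]; ring⟩
    · exact ⟨⊤, inferInstance, by rwa [card_top], by simp⟩
  haveI := hB'n
  have hmB' : m ∈ B' := by
    rw [← QuotientGroup.eq_one_iff]
    refine orderOf_eq_one_iff.1 (Nat.dvd_one.1 ?_)
    rw [← Nat.coprime_iff_gcd_eq_one.1 (Nat.coprime_two_right.2 hm)]
    exact Nat.dvd_gcd (orderOf_map_dvd (QuotientGroup.mk' B') m)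
      ((_root_.orderOf_dvd_natCard _).trans (by rw [← index_eq_card]; exact hB'i))
  suffices hB'fix : ∀ b ∈ B', ρ b v₀ = v₀ by
    intro b
    have hw : ρ m (ρ b v₀) = ρ b v₀ := by
      rw [← Module.End.mul_apply, ← map_mul, show m * b = b * (b⁻¹ * m * b) by group, map_mul,
        Module.End.mul_apply, hB'fix _ (by
          have := hB'n.conj_mem m hmB' b⁻¹
          rwa [inv_inv] at this)]
    rcases hfix 1 (by rwa [pow_one]) (ρ b v₀) (by rwa [pow_one]) with h | h
    · exact absurd (by rw [← hinv b v₀, h, map_zero]) hv₀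
    · exact h
  by_contra hcon
  push Not at hcon
  haveI : Group.IsSolvable B' := CfsgLib.OddEnd.odd_solvable B' hB'odd
  let D : ℕ → Subgroup B := fun k => (derivedSeries B' k).map B'.subtype
  obtain ⟨k₀, hk₀⟩ := (Group.isSolvable_def B').1 inferInstance
  have hex : ∃ k, ∀ b ∈ D k, ρ b v₀ = v₀ := ⟨k₀, fun b hb => by
    simp only [D, hk₀, Subgroup.map_bot, mem_bot] at hb
    rw [hb, map_one, Module.End.one_apply]⟩
  obtain ⟨j, hj, hj'⟩ : ∃ j, (∃ b ∈ D j, ρ b v₀ ≠ v₀) ∧ ∀ b ∈ D (j + 1), ρ b v₀ = v₀ := by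
    have h0 : Nat.find hex ≠ 0 := fun h => by
      obtain ⟨b, hb, hne⟩ := hcon
      have h' := Nat.find_spec hex
      rw [h] at h'
      exact hne (h' b
        (by simp only [D, derivedSeries_zero, ← MonoidHom.range_eq_map, range_subtype]; exact hb))
    obtain ⟨j, hj⟩ := Nat.exists_eq_succ_of_ne_zero h0
    refine ⟨j, ?_, by
      have h' := Nat.find_spec hex
      rwa [hj] at h'⟩
    have := Nat.find_min hex (show j < Nat.find hex by omega)
    push Not at this
    exact this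
  set P := D j with hP
  have hPn : ∀ g ∈ B', ∀ p ∈ P, g * p * g⁻¹ ∈ P := by
    rintro g hg _ ⟨p, hp, rfl⟩
    exact ⟨_, (derivedSeries_normal (G := B') j).conj_mem p hp ⟨g, hg⟩, rfl⟩
  have hPB : P ≤ B' := map_subtype_le _
  have hcfix : ∀ p ∈ P, ∀ p' ∈ P, ρ (p * p' * p⁻¹ * p'⁻¹) v₀ = v₀ := by
    rintro _ ⟨p, hp, rfl⟩ _ ⟨p', hp', rfl⟩
    refine hj' _ ⟨p * p' * p⁻¹ * p'⁻¹, ?_, by simp⟩
    rw [derivedSeries_succ]
    exact commutator_mem_commutator hp hp'
  -- the span of the orbit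
  set W : Submodule (ZMod 2) V := Submodule.span (ZMod 2) {w | ∃ p ∈ P, ρ p v₀ = w} with hW
  have hv₀W : v₀ ∈ W := Submodule.subset_span ⟨1, one_mem _, by rw [map_one, Module.End.one_apply]⟩
  have hpres : ∀ g, (g ∈ P ∨ g ∈ zpowers m) → ∀ w ∈ W, ρ g w ∈ W := by
    intro g hg w hw
    induction hw using Submodule.span_induction with
    | mem w hw =>
      obtain ⟨p, hp, rfl⟩ := hw
      rw [← Module.End.mul_apply, ← map_mul]
      rcases hg with hg | hg
      · exact Submodule.subset_span ⟨g * p, mul_mem hg hp, rfl⟩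
      · have hgv : ρ g v₀ = v₀ := by
          obtain ⟨i, rfl⟩ := (mem_powers_iff_mem_zpowers.2 hg : g ∈ Submonoid.powers m)
          induction i with
          | zero => simp
          | succ i ih =>
            show ρ (m ^ (i + 1)) v₀ = v₀
            rw [pow_succ, map_mul, Module.End.mul_apply, hmv]
            exact ih (pow_mem (mem_zpowers m) i)
        refine Submodule.subset_span ⟨g * p * g⁻¹, hPn g (zpowers_le.2 hmB' hg) p hp, ?_⟩
        calc ρ (g * p * g⁻¹) v₀ = ρ (g * p * g⁻¹) (ρ g v₀) := by rw [hgv]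
          _ = _ := by rw [← Module.End.mul_apply, ← map_mul, inv_mul_cancel_right]
    | zero => rw [map_zero]; exact zero_mem _
    | add x y _ _ hx hy => rw [map_add]; exact add_mem hx hy
    | smul c x _ hx => rw [map_smul]; exact W.smul_mem c hx
  let Y : Subgroup B :=
    { carrier := {g | (∀ w ∈ W, ρ g w ∈ W) ∧ ∀ w ∈ W, ρ g⁻¹ w ∈ W}
      one_mem' := ⟨fun w hw => by simpa using hw, fun w hw => by simpa using hw⟩
      mul_mem' := fun {g h} hg hh => ⟨fun w hw => by
          rw [map_mul, Module.End.mul_apply]; exact hg.1 _ (hh.1 w hw),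
        fun w hw => by rw [mul_inv_rev, map_mul, Module.End.mul_apply]; exact hh.2 _ (hg.2 w hw)⟩
      inv_mem' := fun {g} hg => ⟨hg.2, by rw [inv_inv]; exact hg.1⟩ }
  have hPY : P ≤ Y := fun g hg => ⟨hpres g (Or.inl hg), hpres _ (Or.inl (inv_mem hg))⟩
  have hmY : m ∈ Y := ⟨hpres m (Or.inr (mem_zpowers m)), hpres _ (Or.inr (inv_mem (mem_zpowers m)))⟩
  let r₀ : ↥Y →* Module.End (ZMod 2) W :=
    { toFun := fun g => (ρ (g : B)).restrict g.2.1
      map_one' := LinearMap.ext fun w => Subtype.ext (by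
        show ρ ((1 : Y) : B) w = w
        simp)
      map_mul' := fun g h => LinearMap.ext fun w => Subtype.ext (by
        show ρ ((g : B) * h) w = ρ g (ρ h w)
        rw [map_mul, Module.End.mul_apply]) }
  let r := r₀.toHomUnits
  have hr : ∀ (g : Y) (w : W), (((r g : (Module.End (ZMod 2) W)ˣ) : Module.End (ZMod 2) W) w : V) = ρ (g : B) w :=
    fun g w => rfl
  set A := (P.subgroupOf Y).map r with hA
  set a := r ⟨m, hmY⟩ with ha
  have hAmem : ∀ x ∈ A, ∃ (p : B) (hp : p ∈ P), r ⟨p, hPY hp⟩ = x := by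
    rintro _ ⟨g, hg, rfl⟩
    exact ⟨g, hg, rfl⟩
  have hext : ∀ x ∈ A, (((x : Module.End (ZMod 2) W)) ⟨v₀, hv₀W⟩ : V) = v₀ → x = 1 := by
    intro x hx hxv
    obtain ⟨p, hp, rfl⟩ := hAmem x hx
    rw [hr] at hxv
    refine Units.ext (LinearMap.ext fun w => Subtype.ext ?_)
    rw [hr]
    show ρ p (w : V) = w
    have hgen : ∀ u ∈ W, ρ p u = u := by
      intro u hu
      induction hu using Submodule.span_induction with
      | mem u hu =>
        obtain ⟨p', hp', rfl⟩ := hu
        rw [← Module.End.mul_apply, ← map_mul,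
          show p * p' = p' * ((p'⁻¹ * p * p'⁻¹⁻¹ * p⁻¹) * p) by group, map_mul, map_mul,
          Module.End.mul_apply, Module.End.mul_apply, hxv, hcfix _ (inv_mem hp') _ hp]
      | zero => exact map_zero _
      | add x y _ _ hx hy => rw [map_add, hx, hy]
      | smul c x _ hx => rw [map_smul, hx]
    exact hgen _ w.2
  have hcomm : ∀ x ∈ A, ∀ y ∈ A, Commute x y := by
    intro x hx y hy
    refine mul_inv_eq_iff_eq_mul.1 (mul_inv_eq_one.1 (hext _
      (mul_mem (mul_mem (mul_mem hx hy) (inv_mem hx)) (inv_mem hy)) ?_))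
    obtain ⟨p, hp, rfl⟩ := hAmem x hx
    obtain ⟨p', hp', rfl⟩ := hAmem y hy
    rw [← map_inv, ← map_inv, ← map_mul, ← map_mul, ← map_mul, hr]
    exact hcfix p hp p' hp'
  obtain ⟨p₁, hp₁, hp₁v⟩ := hj
  have hpow : ∀ i : ℕ, a ^ i = 1 → m ^ i = 1 := by
    intro i hi
    by_contra hne
    have h := congrArg (fun x : (Module.End (ZMod 2) W)ˣ => (((x : Module.End (ZMod 2) W))
      ⟨ρ p₁ v₀, Submodule.subset_span ⟨p₁, hp₁, rfl⟩⟩ : V)) hi
    simp only [ha, ← map_pow, hr] at h
    rcases hfix i hne (ρ p₁ v₀) h with h' | h'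
    · exact hv₀ (by rw [← hinv p₁ v₀, h', map_zero])
    · exact hp₁v h'
  have hord : orderOf a = orderOf m := Nat.dvd_antisymm
    ((orderOf_map_dvd r _).trans (dvd_of_eq (Subgroup.orderOf_mk m hmY)))
    (orderOf_dvd_of_pow_eq_one (hpow _ (pow_orderOf_eq_one a)))
  have hfree : ∀ i : ℕ, a ^ i ≠ 1 → ∀ x ∈ A, Commute x (a ^ i) → x = 1 := by
    intro i hi x hx hc
    have hmi : m ^ i ≠ 1 := fun h => hi (by
      rw [ha, ← map_pow, show (⟨m, hmY⟩ : Y) ^ i = 1 from Subtype.ext h, map_one])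
    refine hext x hx ?_
    have h := congrArg (fun u : (Module.End (ZMod 2) W)ˣ =>
      (((u : Module.End (ZMod 2) W)) ⟨v₀, hv₀W⟩ : V)) hc.eq
    obtain ⟨p, hp, rfl⟩ := hAmem x hx
    simp only [ha, ← map_pow, ← map_mul, hr, Subgroup.coe_mul, SubmonoidClass.coe_pow] at h ⊢
    have hmiv : ρ (m ^ i) v₀ = v₀ := by
      clear h hc hmi hi
      induction i with
      | zero => simp
      | succ i ih => rw [pow_succ, map_mul, Module.End.mul_apply, hmv, ih]
    rw [map_mul, map_mul, Module.End.mul_apply, Module.End.mul_apply, hmiv] at h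
    rcases hfix i hmi (ρ p v₀) h.symm with h' | h'
    · exact absurd (by rw [← hinv p v₀, h', map_zero]) hv₀
    · exact h'
  have hAodd : Odd (Nat.card A) := hB'odd.of_dvd_nat
    ((card_map_dvd _ r).trans ((dvd_of_eq (Nat.card_congr (subgroupOfEquivOfLe hPY).toEquiv)).trans
      (card_dvd_of_le hPB)))
  haveI : Finite A := Nat.finite_of_card_ne_zero (Nat.pos_of_ne_zero fun h => by
    rw [h] at hAodd; exact absurd hAodd (by decide)).ne'
  refine false_of_free (W := W) (A := A) (a := a) (fun h => ?_) hAodd hcomm ?_ hfree ?_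
  · have h1 := congrArg (fun u : (Module.End (ZMod 2) W)ˣ => (((u : Module.End (ZMod 2) W))
      ⟨v₀, hv₀W⟩ : V)) ((eq_bot_iff_forall _).1 h (r ⟨p₁, hPY hp₁⟩) (mem_map_of_mem _ hp₁))
    exact hp₁v h1
  · rintro x hx
    obtain ⟨p, hp, rfl⟩ := hAmem x hx
    rw [ha, ← map_inv, ← map_mul, ← map_mul]
    exact mem_map_of_mem _ (show ((⟨m, hmY⟩ * ⟨p, hPY hp⟩ * ⟨m, hmY⟩⁻¹ : Y) : B) ∈ P from hPn m hmB' p hp)
  · have hd : Module.finrank (ZMod 2) W ≤ Module.finrank (ZMod 2) V := Submodule.finrank_le W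
    rw [hord]
    rcases hsmall with h | ⟨h7, h, h57⟩
    · exact Or.inl (by omega)
    · refine Or.inr ⟨h7, by omega, le_trans ?_ h57⟩
      haveI : Finite V := Module.finite_of_finite (ZMod 2)
      refine Nat.card_le_card_of_injective (fun x : A =>
        (⟨(((x : (Module.End (ZMod 2) W)ˣ) : Module.End (ZMod 2) W) ⟨v₀, hv₀W⟩ : V), ?_⟩ :
          {w : V // ∃ b, ρ b v₀ = w})) ?_
      · obtain ⟨p, hp, e⟩ := hAmem _ x.2
        exact ⟨p, by rw [← e, hr]⟩
      · intro x y h
        have h' := congrArg Subtype.val h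
        have h1 : ((y : (Module.End (ZMod 2) W)ˣ)⁻¹ * x : (Module.End (ZMod 2) W)ˣ) = 1 := by
          refine hext _ (mul_mem (inv_mem y.2) x.2) ?_
          have h2 : ((x : (Module.End (ZMod 2) W)ˣ) : Module.End (ZMod 2) W) ⟨v₀, hv₀W⟩ =
              ((y : (Module.End (ZMod 2) W)ˣ) : Module.End (ZMod 2) W) ⟨v₀, hv₀W⟩ := Subtype.ext h'
          rw [Units.val_mul, Module.End.mul_apply, h2, ← Module.End.mul_apply, Units.inv_mul]
          rfl
        exact Subtype.ext (inv_mul_eq_one.1 h1).symm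

end CfsgLib.Criterion.TypeAlg
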