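import Cfsg.Agent.Criterion.TypeLocal
import Cfsg.Agent.Criterion.Orbit
import Cfsg.Agent.Criterion.Kernel
import Cfsg.Agent.Criterion.CaseOne
import Cfsg.Agent.Signalizer.Basic
import Cfsg.Agent.ZStar.Final

/-!
# The strong embedding criterion: a four group in the kernel on the fixed points

When the kernel `R` on the fixed points of `v` is elementary of order at least four, all its
involutions with the same fixed points, the odd core of the local group of `v` is trivial: the graph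
of `R` on the fixed points of `v x` generates it by centralisers.  The same generation and the Z*
theorem show that every member at `a` stabilises `Fix v`, so there is no crossing member and the
members at `a` are those of `E`.
-/

set_option autoImplicit false
set_option linter.style.haveILetI false
set_option linter.unusedSectionVars false

namespace CfsgLib.Criterion

open Subgroup CfsgLib.Invol CfsgLib.Bender
open scoped Pointwise
open CfsgLib.DGroup (coreIn coreIn_le odd_coreIn normalizer_coreIn le_coreIn)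

universe u

variable {G : Type u} [Group G] [Finite G]

/-- A group of odd order normalised by a 2-group which reaches every point of its orbit of `c`
fixes `c`. -/
theorem fix_of_two_transitive {X : Type*} [MulAction G X] {W P : Subgroup G}
    (hW : Odd (Nat.card W)) (hP : IsPGroup 2 P) (hn : ∀ p ∈ P, ∀ w ∈ W, p * w * p⁻¹ ∈ W) {c : X}
    (htr : ∀ w ∈ W, ∃ p ∈ P, p • c = w • c) {g : G} (hg : g ∈ W) : g • c = c := by
  haveI : Fact (Nat.Prime 2) := ⟨Nat.prime_two⟩
  let T : Subgroup G :=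
    { carrier := {p | p ∈ P ∧ ∃ w ∈ W, w • c = p • c}
      one_mem' := ⟨one_mem _, 1, one_mem _, rfl⟩
      mul_mem' := by
        rintro s t ⟨hs, d, hd, hdc⟩ ⟨ht, e, he, hec⟩
        refine ⟨mul_mem hs ht, s * e * s⁻¹ * d, mul_mem (hn s hs e he) hd, ?_⟩
        rw [mul_smul, hdc, mul_smul s t, ← hec, mul_smul, mul_smul, inv_smul_smul]
      inv_mem' := by
        rintro s ⟨hs, d, hd, hdc⟩
        refine ⟨inv_mem hs, s⁻¹ * d⁻¹ * s, ?_, ?_⟩
        · simpa using hn s⁻¹ (inv_mem hs) d⁻¹ (inv_mem hd)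
        · rw [mul_smul, mul_smul, ← hdc, inv_smul_smul] }
  have h : Nat.card {q : X // ∃ w ∈ W, w • c = q} = Nat.card {q : X // ∃ p ∈ T, p • c = q} := by
    refine Nat.card_congr (Equiv.subtypeEquivRight fun q => ⟨?_, ?_⟩)
    · rintro ⟨w, hw, rfl⟩
      obtain ⟨p, hp, e⟩ := htr w hw
      exact ⟨p, ⟨hp, w, hw, e.symm⟩, e⟩
    · rintro ⟨p, ⟨-, w, hw, e⟩, rfl⟩
      exact ⟨w, hw, e⟩
  have h1 : Nat.card {q : X // ∃ w ∈ W, w • c = q} ∣ Nat.card W := ⟨_, (card_orbit_sub W c).symm⟩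
  have h2 : Nat.card {q : X // ∃ p ∈ T, p • c = q} ∣ Nat.card T := ⟨_, (card_orbit_sub T c).symm⟩
  obtain ⟨l, hl⟩ := IsPGroup.iff_card.1 (hP.to_le (show T ≤ P from fun s hs => hs.1))
  rw [← h, hl] at h2
  have hone := Nat.eq_one_of_dvd_coprimes ((Nat.coprime_two_left.2 hW).pow_left l) h2 h1
  haveI := (Nat.card_eq_one_iff_unique.1 hone).1
  exact congrArg Subtype.val (Subsingleton.elim
    (⟨g • c, g, hg, rfl⟩ : {q : X // ∃ w ∈ W, w • c = q}) ⟨c, 1, one_mem _, one_smul _ c⟩)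

namespace Ctx

variable (C : Ctx G)

/-- The elements keeping the set of fixed points of `v`. -/
def fixStab (C : Ctx G) (v : G) : Subgroup G :=
  MulAction.stabilizer G ({c : C.Pt | v • c = c} : Set C.Pt)

theorem mem_fixStab {v g : G} : g ∈ C.fixStab v ↔ ∀ c : C.Pt, v • c = c ↔ v • g • c = g • c := by
  rw [fixStab, MulAction.mem_stabilizer_iff, Set.ext_iff]
  constructor
  · intro h c
    have := h (g • c)
    rw [Set.smul_mem_smul_set_iff] at this
    exact this
  · intro h c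
    rw [Set.mem_smul_set_iff_inv_smul_mem]
    refine (h (g⁻¹ • c)).trans ?_
    rw [smul_inv_smul]
    rfl

/-- An element centralising an involution with the fixed points of `v` keeps them. -/
theorem mem_fixStab_of_commute {v f g : G} (hf : ∀ c : C.Pt, f • c = c ↔ v • c = c)
    (h : Commute g f) : g ∈ C.fixStab v := by
  refine C.mem_fixStab.2 fun c => ?_
  rw [← hf, ← hf, smul_smul, ← h.eq, mul_smul, smul_left_cancel_iff]

theorem fixStab_apply {v g : G} (hg : g ∈ C.fixStab v) {c : C.Pt} (hc : v • c = c) :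
    v • g • c = g • c := (C.mem_fixStab.1 hg c).1 hc

/-- An elementary group `R` of order at least four fixing all fixed points of `v`, each of whose
involutions has no further fixed point, in a 2-group at `a`, `b` of largest order. -/
structure Kern (v : G) (a b : C.Pt) (D E R : Subgroup G) : Prop where
  bad : C.Bad v
  faith : ∀ g : G, (∀ c : C.Pt, g • c = c) → g = 1
  pair : ∀ u : G, C.Bad u → PairRank ↥(C.L u)
  maxPair : C.MaxPair v a b D
  isE : C.IsE v a E
  le : R ≤ D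
  mem : v ∈ R
  sq : ∀ r ∈ R, r * r = 1
  fixed : ∀ r ∈ R, r ≠ 1 → ∀ c : C.Pt, r • c = c ↔ v • c = c
  ker : ∀ g ∈ D, (∀ c : C.Pt, v • c = c → g • c = c) → g ∈ R
  big : 4 ≤ Nat.card R

namespace Kern

variable {C} {v : G} {a b : C.Pt} {D E R : Subgroup G} (K : C.Kern v a b D E R)
include K

theorem hf : ∀ u : G, orderOf u = 2 → ∃ c : C.Pt, u • c ≠ c := fun u hu => by
  by_contra h
  push Not at h
  rw [K.faith u h, orderOf_one] at hu
  omega

theorem ne : a ≠ b := K.maxPair.ne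

theorem va : v • a = a := (K.maxPair.fix v K.maxPair.mem).1

theorem vb : v • b = b := (K.maxPair.fix v K.maxPair.mem).2.1

theorem hp : PairRank ↥(C.L v) := K.pair v K.bad

theorem vv : v * v = 1 := mul_self_eq_one K.bad.1

theorem fix {r : G} (hr : r ∈ R) {c : C.Pt} (hc : v • c = c) : r • c = c := by
  by_cases h : r = 1
  · rw [h, one_smul]
  · exact (K.fixed r hr h c).2 hc

theorem comm_v {r : G} (hr : r ∈ R) : Commute r v := (K.maxPair.fix r (K.le hr)).2.2

theorem comm {r r' : G} (hr : r ∈ R) (hr' : r' ∈ R) : Commute r r' := by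
  have h := inv_eq_of_mul_eq_one_right (K.sq _ (mul_mem hr hr'))
  rw [mul_inv_rev, inv_eq_of_mul_eq_one_right (K.sq r hr),
    inv_eq_of_mul_eq_one_right (K.sq r' hr')] at h
  exact h.symm

theorem bad_of_mem {r : G} (hr : r ∈ R) (h : r ≠ 1) : C.Bad r :=
  ⟨orderOf_eq_two (K.sq r hr) h, a, b, K.ne, K.fix hr K.va, K.fix hr K.vb⟩

theorem isMulCommutative : IsMulCommutative R :=
  ⟨⟨fun x y => Subtype.ext (K.comm x.2 y.2).eq⟩⟩

/-- The odd core of the local group of `v` is trivial. -/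
theorem Om_one {o : G} (ho : o ∈ C.Om v) : o = 1 := by
  classical
  haveI : Fact (Nat.Prime 2) := ⟨Nat.prime_two⟩
  obtain ⟨x₀, hx₀, hx₀v⟩ := C.exists_commute_at K.vv K.va
  obtain ⟨P, E', x, hP, hDP, hPa, hmax, hE', -, hEP, -, hx, hx1, hPx⟩ :=
    K.bad.exists_big_two C K.va K.isE (Bad.one_lt_E C ⟨hx₀, hx₀v⟩ K.isE) K.maxPair.two
      fun g hg => ⟨(K.maxPair.fix g hg).1, (K.maxPair.fix g hg).2.2⟩
  have hxE := hE'.mem x hx hx1
  obtain ⟨hu, hua, -, hpu⟩ := K.bad.mul_Ea C K.hf K.hp K.va hxE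
  have hE'u := K.bad.isE_mul C K.hf K.hp K.va hE' hx hx1
  have hmax' := K.bad.max_two_mul C K.hf K.hp K.va hE' hx hmax
  have hRP : R ≤ P := K.le.trans hDP
  obtain ⟨ψ, hψE, hψm, hψf, hψv⟩ := K.bad.exists_graph C K.hf K.ne.symm K.vb K.va hE' hx hx1 hpu
    hE'u hP hEP (fun g hg => ⟨(hPa g hg).1, (hPa g hg).2, hPx g hg⟩) hmax' hRP K.mem
    fun g hg c hc => K.fix hg hc
  -- members of the kernel centralise `E'`
  have hRE : ∀ r ∈ R, ∀ e ∈ E', Commute r e := fun r hr e he => by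
    by_cases h : e = 1
    · rw [h]; exact Commute.one_right r
    exact (K.bad.commute_kernel C hP (hEP he) (C.mem_L_of_Ea (hE'.mem e he h)) (hRP hr) (K.comm_v hr)
      fun c hc => K.fix hr hc).symm
  let Φ : ↥R →* G := MonoidHom.mk' (fun r => ψ r * r) fun r r' => by
    rw [hψm, Subgroup.coe_mul]
    exact ((hRE r r.2 _ (hψE r')).mul_mul_mul_comm _ _).symm
  have hΦeq : ∀ r : ↥R, Φ r = ψ r * (r : G) := fun r => rfl
  have hΦv : ∀ r : ↥R, Commute (Φ r) v := fun r =>
    (hE'.commute_v C (hψE r)).mul_left (K.comm_v r.2)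
  -- the graph has the fixed points of `v x`
  have hfix : ∀ r : ↥R, (r : G) ≠ 1 → Φ r ≠ 1 ∧
      ∀ c : C.Pt, Φ r • c = c ↔ (v * x) • c = c := by
    intro r hr
    obtain ⟨c, hca, hc⟩ := hu.exists_other C a
    have hψ1 : ψ r ≠ 1 := by
      intro h
      have h1 := hψf r c hc
      rw [h, one_mul] at h1
      refine hca (C.fix_unique hxE.1.1 ?_ hxE.1.2)
      have h2 := (K.fixed r r.2 hr c).1 h1
      have h3 := congrArg (v • ·) hc
      simp only [smul_smul, ← mul_assoc, K.vv, one_mul, h2] at h3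
      exact h3
    have hbr := K.bad_of_mem r.2 hr
    have hEr : ψ r ∈ C.Ea (r : G) a :=
      ⟨(hE'.mem _ (hψE r) hψ1).1, (hRE r r.2 _ (hψE r)).symm⟩
    have hq : C.qn (Φ r) a = C.qn (v * x) a := by
      rw [hΦeq, ← (hRE r r.2 _ (hψE r)).eq, hbr.qn_mul C K.hf (K.pair _ hbr) (K.fix r.2 K.va) hEr,
        K.bad.qn_mul C K.hf K.hp K.va hxE]
      exact Nat.card_congr (Equiv.subtypeEquivRight fun d => and_congr_left fun _ => K.fixed r r.2 hr d)
    refine ⟨fun h => hψ1 (hE'.free C (hψE r) K.ne.symm ?_), fun c => ⟨fun h => ?_, hψf r c⟩⟩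
    · rw [eq_inv_of_mul_eq_one_left (h : ψ r * (r : G) = 1), inv_smul_eq_iff]
      exact (K.fix r.2 K.vb).symm
    by_contra hvx
    have hlt : C.qn (v * x) a < C.qn (Φ r) a := by
      haveI := Fintype.ofFinite C.Pt
      rw [Ctx.qn, Ctx.qn, Nat.card_eq_fintype_card, Nat.card_eq_fintype_card, Fintype.card_subtype,
        Fintype.card_subtype]
      refine Finset.card_lt_card ((Finset.ssubset_iff_of_subset fun d hd => ?_).2
        ⟨c, Finset.mem_filter.2 ⟨Finset.mem_univ _, h, fun e => hvx (e ▸ hua)⟩,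
          fun hc => hvx (Finset.mem_filter.1 hc).2.1⟩)
      obtain ⟨-, hd1, hd2⟩ := Finset.mem_filter.1 hd
      exact Finset.mem_filter.2 ⟨Finset.mem_univ _, hψf r d hd1, hd2⟩
    omega
  set A := Φ.range with hA
  have hAcard : 2 ^ 2 ≤ Nat.card A := by
    refine K.big.trans (le_of_eq (Nat.card_congr (MonoidHom.ofInjective (f := Φ) ?_).toEquiv))
    refine (injective_iff_map_eq_one Φ).2 fun r h => ?_
    by_contra hr
    exact (hfix r fun e => hr (Subtype.ext e)).1 h
  have hAel : IsMulCommutative A ∧ ∀ f ∈ A, f ^ 2 = 1 := by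
    refine ⟨⟨⟨?_⟩⟩, ?_⟩
    · rintro ⟨_, r, rfl⟩ ⟨_, r', rfl⟩
      exact Subtype.ext (show Φ r * Φ r' = Φ r' * Φ r by
        rw [← map_mul, ← map_mul, show r * r' = r' * r from Subtype.ext (K.comm r.2 r'.2).eq])
    · rintro _ ⟨r, rfl⟩
      rw [← map_pow, show r ^ 2 = 1 from Subtype.ext (by rw [coe_pow, pow_two]; exact K.sq r r.2),
        map_one]
  have hstab : C.Om v ≤ C.fixStab (v * x) := by
    refine Signalizer.le_of_forall_centralizer (p := 2) (A := A) hAel le_rfl hAcard ?_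
      (K.bad.odd_Om C).not_two_dvd_nat fun f hf hf1 w hw => ?_
    · rintro _ ⟨r, rfl⟩
      exact Closed.mem_normalizer_of_conj fun k hk => C.conj_mem_Om_cent (hΦv r) hk
    · obtain ⟨r, rfl⟩ := hf
      have hr : (r : G) ≠ 1 := fun e => hf1 (by rw [show r = 1 from Subtype.ext e, map_one])
      exact C.mem_fixStab_of_commute (hfix r hr).2
        (mem_centralizer_singleton_iff.1 (mem_inf.1 hw).2)
  -- so it fixes the fixed points of `v x`, hence everything
  refine K.faith o fun c => K.bad.Om_fix_all C hxE (fun o ho c hc => ?_) o ho c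
  by_cases hca : c = a
  · rw [hca]; exact (C.mem_Om.1 ho).2 a K.va
  refine fix_of_two_transitive (K.bad.odd_Om C) hP
    (fun p hp w hw => C.conj_mem_Om_cent (hPa p hp).2 hw) (fun w hw => ?_) ho
  obtain ⟨s, hs, -, hsc⟩ := hu.exists_two_move C hpu hua hE'u hP
    (fun g hg => ⟨(hPa g hg).1, (hPa g hg).2.mul_right (hPx g hg)⟩) hmax' hc
    (C.fixStab_apply (hstab hw) hc) hca
    fun h => hca (smul_left_cancel w (h.trans ((C.mem_Om.1 hw).2 a K.va).symm))
  exact ⟨s, hs, hsc⟩

/-- The odd core of the two-point stabiliser keeps `Fix v`. -/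
theorem coreIn_le_fixStab :
    coreIn (MulAction.stabilizer G a ⊓ MulAction.stabilizer G b) ≤ C.fixStab v := by
  haveI : Fact (Nat.Prime 2) := ⟨Nat.prime_two⟩
  refine Signalizer.le_of_forall_centralizer (p := 2) (A := R)
    ⟨K.isMulCommutative, fun r hr => by rw [pow_two]; exact K.sq r hr⟩ le_rfl K.big ?_
    (odd_coreIn _).not_two_dvd_nat fun f hf hf1 w hw => ?_
  · exact fun r hr => normalizer_coreIn _ (mem_inf.2 ⟨MulAction.mem_stabilizer_iff.2 (K.fix hr K.va),
      MulAction.mem_stabilizer_iff.2 (K.fix hr K.vb)⟩)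
  · exact C.mem_fixStab_of_commute (fun c => K.fixed f hf hf1 c)
      (mem_centralizer_singleton_iff.1 (mem_inf.1 hw).2)

/-- Every swapper of `a` and `b` keeps `Fix v`. -/
theorem swap_mem_fixStab {w : G} (hw : w ∈ C.X a b) : w ∈ C.fixStab v := by
  classical
  obtain ⟨w₀, hw₀, hw₀v⟩ := C.exists_swap_commute K.vv K.ne (Or.inl ⟨K.va, K.vb⟩)
  set Y : Subgroup G := MulAction.stabilizer G ({a, b} : Set C.Pt) with hY
  have hYcase : ∀ g ∈ Y, g • a = a ∧ g • b = b ∨ g • a = b ∧ g • b = a := by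
    intro g hg
    have h1 : ∀ c : C.Pt, c = a ∨ c = b → g • c = a ∨ g • c = b := fun c hc => by
      have : g • c ∈ g • ({a, b} : Set C.Pt) := Set.smul_mem_smul_set (by simpa using hc)
      rw [MulAction.mem_stabilizer_iff.1 hg] at this
      simpa using this
    rcases h1 a (Or.inl rfl) with ha | ha <;> rcases h1 b (Or.inr rfl) with hb | hb
    · exact absurd (smul_left_cancel g (ha.trans hb.symm)) K.ne
    · exact Or.inl ⟨ha, hb⟩
    · exact Or.inr ⟨ha, hb⟩
    · exact absurd (smul_left_cancel g (ha.trans hb.symm)) K.ne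
  have hmemY : ∀ g : G, (g • a = a ∧ g • b = b ∨ g • a = b ∧ g • b = a) → g ∈ Y := by
    intro g h
    rw [hY, MulAction.mem_stabilizer_iff, Set.smul_set_insert, Set.smul_set_singleton]
    rcases h with ⟨h1, h2⟩ | ⟨h1, h2⟩ <;> rw [h1, h2]
    exact Set.pair_comm b a
  have hwY : ∀ {s : G}, s ∈ C.X a b → s ∈ Y := fun {s} hs =>
    hmemY s (Or.inr ⟨hs.2, (C.X_symm hs).2⟩)
  set w₀' : ↥Y := ⟨w₀, hwY hw₀⟩ with hw₀'
  have hiso : Cfsg.IsIsolatedInvolution w₀' := by
    refine ⟨by rw [← Subgroup.orderOf_coe]; exact C.orderOf_Z hw₀.1, fun g hg => Subtype.ext ?_⟩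
    set s := (g : G) * w₀ * (g : G)⁻¹ with hs
    have hsX : s ∈ C.X a b := by
      have h := C.conj_mem_X (g := (g : G)) hw₀
      rcases hYcase g g.2 with ⟨h1, h2⟩ | ⟨h1, h2⟩ <;> rw [h1, h2] at h
      exacts [h, C.X_symm h]
    have hc : Commute w₀ s := congrArg Subtype.val hg.eq
    have hsq : (w₀ * s) ^ 2 = 1 := by
      rw [pow_two, hc.symm.mul_mul_mul_comm, C.mul_self_Z hw₀.1, C.mul_self_Z hsX.1, one_mul]
    have h1 : orderOf (w₀ * s) = 1 := by
      have hodd := C.odd_mul_swap K.ne hw₀ hsX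
      rcases (Nat.dvd_prime Nat.prime_two).1 (orderOf_dvd_of_pow_eq_one hsq) with h | h
      · exact h
      · rw [h] at hodd; exact absurd hodd (by decide)
    show s = w₀
    rw [eq_inv_of_mul_eq_one_right (orderOf_eq_one_iff.1 h1), C.inv_Z hw₀.1]
  obtain ⟨N, hN, hodd, hcomm⟩ := CfsgLib.ZStar.zstar hiso
  -- `N` fixes both points
  set N' := N.map Y.subtype with hN'
  have hNab : N' ≤ MulAction.stabilizer G a ⊓ MulAction.stabilizer G b := by
    rintro _ ⟨n, hn, rfl⟩
    rcases hYcase n n.2 with h | ⟨h1, h2⟩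
    · exact mem_inf.2 h
    obtain ⟨m, hm⟩ := hodd.of_dvd_nat (orderOf_dvd_natCard _ hn)
    have hpow : ∀ k : ℕ, ((n : G) ^ 2) ^ k • a = a := fun k => MulAction.mem_stabilizer_iff.1
      (pow_mem (MulAction.mem_stabilizer_iff.2 (show ((n : G) ^ 2) • a = a by
        rw [pow_two, mul_smul, h1, h2])) k)
    have h3 : ((n : G) ^ 2) ^ (m + 1) = n := by
      rw [← pow_mul, show 2 * (m + 1) = orderOf n + 1 by omega, pow_succ, ← Subgroup.orderOf_coe,
        pow_orderOf_eq_one, one_mul]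
    exact absurd ((h3 ▸ hpow (m + 1) : (n : G) • a = a).symm.trans h1) K.ne
  have hNodd : Odd (Nat.card N') := by rwa [hN', card_map_of_injective Y.subtype_injective]
  have hNn : MulAction.stabilizer G a ⊓ MulAction.stabilizer G b ≤ normalizer (N' : Set G) := by
    intro g hg
    have hgY : g ∈ Y := hmemY g (Or.inl (mem_inf.1 hg))
    have := (le_normalizer_map (H := N) Y.subtype) (mem_map_of_mem (f := Y.subtype) (x := ⟨g, hgY⟩)
      (show (⟨g, hgY⟩ : ↥Y) ∈ normalizer (N : Set ↥Y) by rw [normalizer_eq_top_iff.2 hN]; exact mem_top _))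
    exact this
  obtain ⟨d, hd, hdw⟩ := exists_conj_of_odd (C.orderOf_Z hw₀.1) (C.orderOf_Z hw.1)
    (C.odd_mul_swap K.ne hw₀ hw)
  have hdY : d ∈ Y := (closure_le _).2 (by rintro _ (rfl | rfl); exacts [hwY hw₀, hwY hw]) hd
  have hmem : w₀ * w ∈ coreIn (MulAction.stabilizer G a ⊓ MulAction.stabilizer G b) := by
    refine le_coreIn hNab hNn hNodd ⟨_, hcomm ⟨d, hdY⟩, ?_⟩
    show w₀ * d * w₀⁻¹ * d⁻¹ = w₀ * w
    rw [← hdw, C.inv_Z hw₀.1]
    group
  have h := mul_mem (C.mem_fixStab_of_commute (fun c => Iff.rfl) hw₀v) (K.coreIn_le_fixStab hmem)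
  rwa [← mul_assoc, C.mul_self_Z hw₀.1, one_mul] at h

/-- The members at `a` keep `Fix v`. -/
theorem za_mem_fixStab {x : G} (hx : x ∈ C.Za a) : x ∈ C.fixStab v := by
  obtain ⟨y, hy, hyv⟩ := C.exists_commute_at K.vv K.vb
  obtain ⟨w, hw, e⟩ := C.exists_link hy hx K.ne.symm
  have hwf := K.swap_mem_fixStab (C.X_symm hw)
  rw [← e]
  exact mul_mem (mul_mem hwf (C.mem_fixStab_of_commute (fun c => Iff.rfl) hyv)) (inv_mem hwf)

/-- The product of a member at `a` with its conjugate by `v` fixes all fixed points of `v`. -/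
theorem commutator_fix {s : G} (hs : s ∈ C.Za a) {c : C.Pt} (hc : v • c = c) :
    (s * v * (s * v)) • c = c := by
  rw [mul_smul, mul_smul s v c, hc, mul_smul, C.fixStab_apply (K.za_mem_fixStab hs) hc, smul_smul,
    C.mul_self_Z hs.1, one_smul]

/-- There is no crossing member. -/
theorem cross_eq_empty : C.Cross v a = ∅ := by
  refine Set.eq_empty_of_forall_notMem fun s hs => ?_
  obtain ⟨hsa, hiZ⟩ := hs
  have hs2 := C.orderOf_Z hsa.1
  have hev : Even (orderOf (s * v)) := even_orderOf_mul_of_not_isConj hs2 K.bad.1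
    fun h => K.bad.not_mem_Z C (IsConj.trans hsa.1 h)
  obtain ⟨hi, his, hiv⟩ := half_props hs2 K.bad.1 hev
  set l := orderOf (s * v) / 2 with hl
  rcases Nat.even_or_odd l with ⟨t, ht⟩ | ⟨t, ht⟩
  · -- the central member would fix `Fix v`
    have hfix : ∀ c : C.Pt, v • c = c → ((s * v) ^ l) • c = c := fun c hc => by
      rw [ht, ← two_mul, pow_mul]
      exact MulAction.mem_stabilizer_iff.1 (pow_mem
        (MulAction.mem_stabilizer_iff.2 (by rw [pow_two]; exact K.commutator_fix hsa hc)) t)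
    exact K.ne (C.fix_unique hiZ (hfix a K.va) (hfix b K.vb))
  · have hia : ((s * v) ^ l) • a = a := C.smul_eq_of_commute_Z hsa.1 his.symm hsa.2
    have hli : (v * s) ^ l = (s * v) ^ l := by
      rw [← mul_inv_rev_invol hs2 K.bad.1, inv_pow, inv_eq_self hi]
    refine (K.bad.mul_bad C (K.hf v K.bad.1) ⟨hiZ, hiv⟩).not_mem_Z C ?_
    rw [← hli, ht, ← zpow_natCast, show ((2 * t + 1 : ℕ) : ℤ) = 2 * (t : ℤ) + 1 by push_cast; ring,
      mul_zpow_odd K.bad.1 hs2]
    exact C.conj_mem_Z hsa.1 _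

/-- The members at `a` centralising `v` are those of `E`. -/
theorem ea_mem_E {y : G} (hy : y ∈ C.Ea v a) : y ∈ E := by
  obtain ⟨e, he, he1, hodd⟩ := K.isE.cover y hy
  have h1 := K.Om_one ((K.bad.odd_iff C K.hp K.va hy (K.isE.mem e he he1)).1 hodd)
  rw [eq_inv_of_mul_eq_one_left h1]
  exact inv_mem he

/-- The local groups of the products with members at `a` have trivial odd core. -/
theorem Om_mul_one {e o : G} (he : e ∈ C.Ea v a) (ho : o ∈ C.Om (v * e)) : o = 1 := by
  obtain ⟨g, -, hg⟩ := K.bad.exists_shift C K.hf K.hp K.va K.isE (K.ea_mem_E he)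
  refine conj_eq_one_iff.1 (K.Om_one (C.mem_Om.2 ⟨?_, fun c hc => ?_⟩) : g⁻¹ * o * g⁻¹⁻¹ = 1)
  · have h := C.conj_mem_local g⁻¹ (C.mem_Om.1 ho).1
    rwa [← hg, show g⁻¹ * (g * v * g⁻¹) * g⁻¹⁻¹ = v by group] at h
  · have h : (v * e) • g • c = g • c := by
      rw [← hg, mul_smul, mul_smul, inv_smul_smul, hc]
    rw [inv_inv, mul_smul, mul_smul, (C.mem_Om.1 ho).2 _ h, inv_smul_smul]

/-- **The members at `a` are those of `E`.** -/
theorem mem_E_iff {x : G} : x ∈ E ↔ x = 1 ∨ x ∈ C.Za a := by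
  refine ⟨fun hx => or_iff_not_imp_left.2 fun h => (K.isE.mem x hx h).1, ?_⟩
  rintro (rfl | hx)
  · exact one_mem _
  have hs2 := C.orderOf_Z hx.1
  have hev : Even (orderOf (x * v)) := even_orderOf_mul_of_not_isConj hs2 K.bad.1
    fun h => K.bad.not_mem_Z C (IsConj.trans hx.1 h)
  have hnc : (x * v) ^ (orderOf (x * v) / 2) ∉ C.Z := fun h => by
    have : x ∈ C.Cross v a := ⟨hx, h⟩
    rw [K.cross_eq_empty] at this
    exact this
  obtain ⟨hi, his, hiv⟩ := half_props hs2 K.bad.1 hev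
  obtain ⟨l, hl⟩ := hev
  rw [show orderOf (x * v) / 2 = l by omega] at hnc hi his hiv
  set i := (x * v) ^ l with hidef
  have hia : i • a = a := C.smul_eq_of_commute_Z hx.1 his.symm hx.2
  have hib : C.Bad i := (C.mem_Z_or_bad K.hf hi).resolve_left hnc
  rcases Nat.even_or_odd l with ⟨k, hk⟩ | ⟨k, hk⟩
  · refine absurd (hib.mem_Z_of_mem_L C ?_ hi) (hib.not_mem_Z C)
    have hi2 : i = (x * (v * x * v⁻¹)) ^ k := by
      rw [hidef, hk, ← two_mul, pow_mul, pow_two, inv_eq_self K.bad.1]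
      simp only [mul_assoc]
    have hmem : x * (v * x * v⁻¹) ∈ C.L i := by
      refine mul_mem (C.mem_L hx.1 his.symm) (C.mem_L (C.conj_mem_Z hx.1 v) ?_)
      have := (Commute.conj_iff v).2 his.symm
      rwa [show v * i * v⁻¹ = i from mul_inv_eq_iff_eq_mul.2 hiv.eq.symm] at this
    nth_rw 2 [hi2]
    exact pow_mem hmem k
  · -- `e = v i` is a member at `a` centralising `v`
    have heZ : v * i ∈ C.Z := by
      have hli : (v * x) ^ l = i := by
        rw [← mul_inv_rev_invol hs2 K.bad.1, inv_pow, ← hidef, inv_eq_self hi]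
      rw [← hli, hk, ← zpow_natCast, show ((2 * k + 1 : ℕ) : ℤ) = 2 * (k : ℤ) + 1 by push_cast; ring,
        mul_zpow_odd K.bad.1 hs2]
      exact C.conj_mem_Z hx.1 _
    have he : v * i ∈ C.Ea v a :=
      ⟨⟨heZ, by rw [mul_smul, hia, K.va]⟩, (Commute.refl v).mul_left hiv⟩
    have hvi : v * (v * i) = i := by rw [← mul_assoc, K.vv, one_mul]
    obtain ⟨hb, hba, he', hp'⟩ := K.bad.mul_Ea C K.hf K.hp K.va he
    have hxe : x ∈ C.Ea (v * (v * i)) a := ⟨hx, by rw [hvi]; exact his.symm⟩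
    have hodd : Odd (orderOf (x * (v * i))) := by
      have h1 : (x * (v * i)) ^ l = 1 := by
        rw [← mul_assoc, hidef, ← pow_succ', ← pow_mul]
        exact orderOf_dvd_iff_pow_eq_one.1 ⟨k + 1, by rw [hl, hk]; ring⟩
      exact (show Odd l from ⟨k, hk⟩).of_dvd_nat (orderOf_dvd_of_pow_eq_one h1)
    rw [eq_inv_of_mul_eq_one_left (K.Om_mul_one he ((hb.odd_iff C hp' hba hxe he').1 hodd))]
    exact inv_mem (K.ea_mem_E he)

/-- The stabiliser of `a` normalises `E`. -/
theorem conj_E {g e : G} (hg : g • a = a) (he : e ∈ E) : g * e * g⁻¹ ∈ E := by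
  rcases K.mem_E_iff.1 he with rfl | h
  · simp
  · refine K.mem_E_iff.2 (Or.inr ?_)
    have := C.conj_mem_Za (g := g) h
    rwa [hg] at this

end Kern

end Ctx

end CfsgLib.Criterion
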