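import Cfsg.Agent.Criterion.TypePair

/-!
# The strong embedding criterion: the block count

The conjugates of `F = Fix v` meet pairwise in at most one point, so at most `N + 1` of them pass
through a point, `N = (Q + 1) (q - 1)`.  Following `F` through a member at one of its points and then
through a member at a further point gives `N Q (q - 1)` conjugates missing `F`: two kernels at the
ends of such a path determine the kernel in the middle.  There are more of them than exist, so no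
kernel has order four or more.
-/

set_option autoImplicit false
set_option linter.style.haveILetI false
set_option linter.unusedSectionVars false

namespace CfsgLib.Criterion

open Subgroup CfsgLib.Invol CfsgLib.Bender

universe u

variable {G : Type u} [Group G] [Finite G]

/-- The central involution of the dihedral group on a commuting product of an involution and an
element of odd order. -/
theorem pow_half_of_commute {k h : G} (hk : orderOf k = 2) (hh : Odd (orderOf h))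
    (hc : Commute k h) : (k * h) ^ (orderOf (k * h) / 2) = k := by
  rw [hc.orderOf_mul_eq_mul_orderOf_of_coprime (by rw [hk]; exact Nat.coprime_two_left.2 hh), hk,
    Nat.mul_div_cancel_left _ two_pos, hc.mul_pow, pow_orderOf_eq_one, mul_one]
  obtain ⟨l, hl⟩ := hh
  rw [hl, pow_succ, pow_mul, pow_two, mul_self_eq_one hk, one_pow, one_mul]

namespace Ctx

variable (C : Ctx G)

/-- The fixed points of an element. -/
def fixSet (v : G) : Set C.Pt := {c | v • c = c}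

theorem mem_fixSet {v : G} {c : C.Pt} : c ∈ C.fixSet v ↔ v • c = c := Iff.rfl

theorem conj_fixed (g y : G) (c : C.Pt) : (g * y * g⁻¹) • c = c ↔ y • g⁻¹ • c = g⁻¹ • c := by
  rw [mul_smul, mul_smul, smul_eq_iff_eq_inv_smul]

/-- The sets of fixed points of the conjugates of `v`. -/
def blocks (v : G) : Set (Set C.Pt) := {S | ∃ g : G, S = C.fixSet (g * v * g⁻¹)}

namespace Kern

variable {C} {v : G} {a b : C.Pt} {D E R : Subgroup G} (K : C.Kern v a b D E R)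
include K

/-- Members at any one point agreeing at another point are equal. -/
theorem za_inj {p c : C.Pt} {x y : G} (hx : x ∈ C.Za p) (hy : y ∈ C.Za p) (hc : c ≠ p)
    (h : x • c = y • c) : x = y := by
  obtain ⟨g, rfl⟩ := MulAction.exists_smul_eq G a p
  have hx' := C.conj_mem_Za (g := g⁻¹) hx
  have hy' := C.conj_mem_Za (g := g⁻¹) hy
  rw [inv_smul_smul] at hx' hy'
  have h1 := K.isE.free C (mul_mem (inv_mem (K.mem_E_iff.2 (Or.inr hy'))) (K.mem_E_iff.2 (Or.inr hx')))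
    (c := g⁻¹ • c) (fun e => hc (inv_smul_eq_iff.1 e)) (by
      rw [inv_inv, smul_smul]
      calc ((g⁻¹ * y * g)⁻¹ * (g⁻¹ * x * g) * g⁻¹) • c = (g⁻¹ * y⁻¹ * x) • c := by
            congr 1; group
        _ = g⁻¹ • c := by rw [mul_smul, h, mul_smul, inv_smul_smul])
  have h2 := inv_mul_eq_one.1 h1
  simp only [inv_inv] at h2
  exact (mul_left_cancel (mul_right_cancel h2)).symm

theorem card_za (p : C.Pt) : Nat.card (C.Za p) = Nat.card E - 1 := by
  classical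
  haveI := Fintype.ofFinite E
  rw [C.card_Za p, ← C.card_Za a]
  have e : C.Za a ≃ {e : E // e ≠ 1} :=
    { toFun := fun x => ⟨⟨x.1, K.mem_E_iff.2 (Or.inr x.2)⟩, fun h =>
        ne_one (C.orderOf_Z x.2.1) (congrArg Subtype.val h)⟩
      invFun := fun e => ⟨e.1, (K.mem_E_iff.1 e.1.2).resolve_left fun h => e.2 (Subtype.ext h)⟩
      left_inv := fun _ => rfl
      right_inv := fun _ => rfl }
  rw [Nat.card_congr e, Nat.card_eq_fintype_card, Nat.card_eq_fintype_card, Fintype.card_subtype_compl,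
    Fintype.card_subtype_eq]

/-- Members at a fixed point of a conjugate of `v` centralise it. -/
theorem za_comm_conj {g : G} {p : C.Pt} (hp : (g * v * g⁻¹) • p = p) {e : G} (he : e ∈ C.Za p) :
    Commute e (g * v * g⁻¹) := by
  have h1 := K.za_comm ((C.conj_fixed g v p).1 hp) (C.conj_mem_Za (g := g⁻¹) he)
  have h2 := (Commute.conj_iff g).2 h1
  rwa [show g * (g⁻¹ * e * g⁻¹⁻¹) * g⁻¹ = e by group] at h2

/-- The product of a conjugate of `v` with a member at one of its fixed points is a conjugate. -/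
theorem exists_conj_mul {g : G} {p : C.Pt} (hp : (g * v * g⁻¹) • p = p) {e : G} (he : e ∈ C.Za p) :
    ∃ k : G, k * v * k⁻¹ = g * v * g⁻¹ * e := by
  obtain ⟨l, hl, hla⟩ := C.exists_mem_L_move K.bad K.va ((C.conj_fixed g v p).1 hp)
  have he' := C.conj_mem_Za (g := l⁻¹ * g⁻¹) he
  rw [mul_smul, ← hla, inv_smul_smul] at he'
  obtain ⟨h, -, hh⟩ := K.bad.exists_shift C K.hf K.hp K.va K.isE (K.mem_E_iff.2 (Or.inr he'))
  refine ⟨g * l * h, ?_⟩
  rw [show g * l * h * v * (g * l * h)⁻¹ = g * l * (h * v * h⁻¹) * l⁻¹ * g⁻¹ by group, hh]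
  have hlv : l * v * l⁻¹ = v := mul_inv_eq_iff_eq_mul.2 (C.commute_of_mem_L hl).eq
  calc g * l * (v * (l⁻¹ * g⁻¹ * e * (l⁻¹ * g⁻¹)⁻¹)) * l⁻¹ * g⁻¹
      = g * (l * v * l⁻¹) * g⁻¹ * e := by group
    _ = g * v * g⁻¹ * e := by rw [hlv]

/-- The product with a member has one fixed point in common. -/
theorem eq_of_fix_mul {u e : G} {p c : C.Pt} (hu : u * u = 1) (he : e ∈ C.Za p) (hc : u • c = c)
    (hce : (u * e) • c = c) : c = p := by
  refine C.fix_unique he.1 ?_ he.2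
  rw [mul_smul] at hce
  have h := congrArg (u • ·) hce
  simp only [smul_smul, ← mul_assoc, hu, one_mul, hc] at h
  exact h

theorem card_fixSet (g : G) : Nat.card (C.fixSet (g * v * g⁻¹)) = C.qn v a + 1 := by
  rw [← C.fn_eq K.va]
  exact Nat.card_congr
    { toFun := fun c => ⟨g⁻¹ • c.1, (C.conj_fixed g v c.1).1 c.2⟩
      invFun := fun c => ⟨g • c.1, (C.conj_fixed g v _).2 (by rw [inv_smul_smul]; exact c.2)⟩
      left_inv := fun c => Subtype.ext (smul_inv_smul g c.1)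
      right_inv := fun c => Subtype.ext (inv_smul_smul g c.1) }

theorem exists_other_fix {g : G} (p : C.Pt) : ∃ c : C.Pt, (g * v * g⁻¹) • c = c ∧ c ≠ p := by
  by_cases h : g • a = p
  · exact ⟨g • b, (C.conj_fixed g v _).2 (by rw [inv_smul_smul, K.vb]),
      fun e => K.ne (smul_left_cancel g (h.trans e.symm))⟩
  · exact ⟨g • a, (C.conj_fixed g v _).2 (by rw [inv_smul_smul, K.va]), h⟩

theorem conj_sq (g : G) : g * v * g⁻¹ * (g * v * g⁻¹) = 1 := by
  rw [conj_mul, K.vv]; group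

/-! ### Kernels along a path -/

variable (hF : C.fixAll v = R)
include hF

theorem conj_mem_fixAll_iff {g y : G} : y ∈ C.fixAll (g * v * g⁻¹) ↔ g⁻¹ * y * g ∈ R := by
  rw [← hF]
  constructor
  · intro h c hc
    rw [mul_smul, mul_smul, inv_smul_eq_iff]
    exact h _ ((C.conj_fixed g v _).2 (by rw [inv_smul_smul, hc]))
  · intro h c hc
    have h1 := h _ ((C.conj_fixed g v c).1 hc)
    rwa [mul_smul, mul_smul, smul_inv_smul, inv_smul_eq_iff, smul_inv_smul] at h1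

theorem card_fixAll (g : G) : Nat.card (C.fixAll (g * v * g⁻¹)) = Nat.card R :=
  Nat.card_congr
    { toFun := fun y => ⟨g⁻¹ * y * g, (K.conj_mem_fixAll_iff hF).1 y.2⟩
      invFun := fun r => ⟨g * r * g⁻¹, (K.conj_mem_fixAll_iff hF).2 (by simp [mul_assoc])⟩
      left_inv := fun y => Subtype.ext (show g * (g⁻¹ * (y : G) * g) * g⁻¹ = y by group)
      right_inv := fun r => Subtype.ext (show g⁻¹ * (g * (r : G) * g⁻¹) * g = r by group) }

/-- A nontrivial kernel element fixes nothing more. -/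
theorem fixAll_point {g y : G} (hy : y ∈ C.fixAll (g * v * g⁻¹)) (hy1 : y ≠ 1) {c : C.Pt}
    (hc : y • c = c) : (g * v * g⁻¹) • c = c := by
  refine (C.conj_fixed g v c).2 ((K.fixed _ ((K.conj_mem_fixAll_iff hF).1 hy)
    (fun h => hy1 ?_) _).1 ?_)
  · calc y = g * (g⁻¹ * y * g) * g⁻¹ := by group
      _ = 1 := by rw [h]; group
  · rw [mul_smul, mul_smul, smul_inv_smul, hc]

/-- The kernel centralises the members at its points. -/
theorem fixAll_za {g y : G} (hy : y ∈ C.fixAll (g * v * g⁻¹)) {p : C.Pt}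
    (hp : (g * v * g⁻¹) • p = p) {e : G} (he : e ∈ C.Za p) : Commute y e := by
  have hr := (K.conj_mem_fixAll_iff hF).1 hy
  rw [← hF] at hr
  have h1 := K.fixAll_L hr (C.mem_L (C.conj_mem_Z he.1 g⁻¹)
    (K.za_comm ((C.conj_fixed g v p).1 hp) (C.conj_mem_Za (g := g⁻¹) he)))
  have h2 := (Commute.conj_iff g).2 h1
  rwa [show g * (g⁻¹ * y * g) * g⁻¹ = y by group,
    show g * (g⁻¹ * e * g⁻¹⁻¹) * g⁻¹ = e by group] at h2

theorem fixAll_sq {g y : G} (hy : y ∈ C.fixAll (g * v * g⁻¹)) : y * y = 1 := by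
  have h := K.sq _ ((K.conj_mem_fixAll_iff hF).1 hy)
  calc y * y = g * ((g⁻¹ * y * g) * (g⁻¹ * y * g)) * g⁻¹ := by group
    _ = 1 := by rw [h]; group

/-- **The graph at every point**: the kernel moves to that of the product with a member. -/
theorem exists_step {g : G} {p : C.Pt} (hp : (g * v * g⁻¹) • p = p) {e : G} (he : e ∈ C.Za p) {y : G}
    (hy : y ∈ C.fixAll (g * v * g⁻¹)) :
    ∃ f : G, (f = 1 ∨ f ∈ C.Za p) ∧ y * f ∈ C.fixAll (g * v * g⁻¹ * e) := by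
  classical
  obtain ⟨x₀, hx₀, hx₀v⟩ := C.exists_commute_at K.vv K.va
  obtain ⟨P, E', x, hP, hDP, hPa, hmax, hE', -, hEP, -, hx, hx1, hPx⟩ :=
    K.bad.exists_big_two C K.va K.isE (Bad.one_lt_E C ⟨hx₀, hx₀v⟩ K.isE) K.maxPair.two
      fun g hg => ⟨(K.maxPair.fix g hg).1, (K.maxPair.fix g hg).2.2⟩
  obtain ⟨-, -, -, hpu⟩ := K.bad.mul_Ea C K.hf K.hp K.va (hE'.mem x hx hx1)
  obtain ⟨ψ, hψE, -, hψf, -⟩ := K.bad.exists_graph C K.hf K.ne.symm K.vb K.va hE' hx hx1 hpu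
    (K.bad.isE_mul C K.hf K.hp K.va hE' hx hx1) hP hEP
    (fun g hg => ⟨(hPa g hg).1, (hPa g hg).2, hPx g hg⟩)
    (K.bad.max_two_mul C K.hf K.hp K.va hE' hx hmax) (K.le.trans hDP) K.mem
    fun g hg c hc => K.fix hg hc
  -- transport the pair `(a, x)` to `(g⁻¹ p, g⁻¹ e g)`
  have hp' := (C.conj_fixed g v p).1 hp
  obtain ⟨l, hl, hla⟩ := C.exists_mem_L_move K.bad K.va hp'
  have he' := C.conj_mem_Za (g := l⁻¹ * g⁻¹) he
  rw [mul_smul, ← hla, inv_smul_smul] at he'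
  obtain ⟨m, hm, hma, hme⟩ := K.bad.exists_conj_at C (hE'.mem x hx hx1)
    (K.isE.mem _ (K.mem_E_iff.2 (Or.inr he')) (ne_one (C.orderOf_Z he'.1)))
  set k := g * l * m with hk
  have hkv : k * v * k⁻¹ = g * v * g⁻¹ := by
    rw [hk, show g * l * m * v * (g * l * m)⁻¹ = g * ((l * m) * v * (l * m)⁻¹) * g⁻¹ by group,
      C.L_conj_eq (mul_mem hl hm)]
  have hkx : k * x * k⁻¹ = e := by
    calc k * x * k⁻¹ = g * l * (m * x * m⁻¹) * l⁻¹ * g⁻¹ := by rw [hk]; group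
      _ = e := by rw [hme]; group
  have hkp : k • a = p := by rw [hk, mul_smul, mul_smul, hma, hla, smul_inv_smul]
  rw [← hkv] at hy ⊢
  set r := k⁻¹ * y * k with hr
  have hrR : r ∈ R := (K.conj_mem_fixAll_iff hF).1 hy
  set f₀ := ψ ⟨r, hrR⟩ with hf₀
  have hf₀E : f₀ ∈ E' := hψE _
  have hcomm : Commute r f₀ := by
    by_cases h : f₀ = 1
    · rw [h]; exact Commute.one_right _
    · exact K.fixAll_L (fun c hc => K.fix hrR hc) (C.mem_L_of_Ea (hE'.mem _ hf₀E h))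
  refine ⟨k * f₀ * k⁻¹, ?_, fun c hc => ?_⟩
  · by_cases h : f₀ = 1
    · left; rw [h, mul_one, mul_inv_cancel]
    · right
      have := C.conj_mem_Za (g := k) (hE'.mem _ hf₀E h).1
      rwa [hkp] at this
  · rw [← hkx, conj_mul, C.conj_fixed] at hc
    have h1 := hψf ⟨r, hrR⟩ _ hc
    rw [← hcomm.eq] at h1
    rw [show y * (k * f₀ * k⁻¹) = k * (r * f₀) * k⁻¹ by rw [hr]; group, C.conj_fixed]
    exact h1

theorem step_ne_one {g y : G} (hy : y ∈ C.fixAll (g * v * g⁻¹)) (hy1 : y ≠ 1) {p : C.Pt} {f : G}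
    (hf : f = 1 ∨ f ∈ C.Za p) : y * f ≠ 1 := by
  rcases hf with rfl | hf
  · rwa [mul_one]
  · intro h
    have hyf : y = f := by rw [eq_inv_of_mul_eq_one_left h, C.inv_Z hf.1]
    obtain ⟨c, hc, hcp⟩ := K.exists_other_fix (g := g) p
    exact hcp (C.fix_unique hf.1 (hyf ▸ hy c hc) hf.2)

theorem step_mem {g g' y f : G} {p : C.Pt} (hy : y ∈ C.fixAll (g * v * g⁻¹))
    (hf : f = 1 ∨ f ∈ C.Za p) (hyf : y * f ∈ C.fixAll (g' * v * g'⁻¹)) (hy1 : y ≠ 1)
    (hmeet : ∀ c : C.Pt, (g * v * g⁻¹) • c = c → (g' * v * g'⁻¹) • c = c → c = p) : f ∈ C.Za p := by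
  refine hf.resolve_left fun h => ?_
  rw [h, mul_one] at hyf
  obtain ⟨c, hc, hcp⟩ := K.exists_other_fix (g := g) p
  exact hcp (hmeet c hc (K.fixAll_point hF hyf hy1 (hy c hc)))

/-- Two kernels at the ends of a path determine the middle one. -/
theorem middle {g₁ g₂ : G} {p q : C.Pt} (hp : v • p = p) (hp1 : (g₁ * v * g₁⁻¹) • p = p)
    (hq1 : (g₁ * v * g₁⁻¹) • q = q) (hpq : p ≠ q)
    (hm₁ : ∀ c : C.Pt, v • c = c → (g₁ * v * g₁⁻¹) • c = c → c = p)
    (hm₂ : ∀ c : C.Pt, (g₁ * v * g₁⁻¹) • c = c → (g₂ * v * g₂⁻¹) • c = c → c = q)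
    {r f f' : G} (hr : r ∈ R) (hf : f = 1 ∨ f ∈ C.Za p) (hrf : r * f ∈ C.fixAll (g₁ * v * g₁⁻¹))
    (hf' : f' = 1 ∨ f' ∈ C.Za q) (hy : r * f * f' ∈ C.fixAll (g₂ * v * g₂⁻¹))
    (hy1 : r * f * f' ≠ 1) {e : G} (he : e ∈ C.Za p) (hev : g₁ * v * g₁⁻¹ = v * e)
    {x : G} (hx : x ∈ R) (hx1 : x ≠ 1) (hxr : x ≠ r) :
    (x * (r * f * f')) ^ (orderOf (x * (r * f * f')) / 2) ∈ C.fixAll (g₁ * v * g₁⁻¹) ∧
      (x * (r * f * f')) ^ (orderOf (x * (r * f * f')) / 2) ≠ 1 := by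
  have hxr1 : x * r ≠ 1 := fun h => hxr (by
    rw [eq_inv_of_mul_eq_one_left h, inv_eq_of_mul_eq_one_right (K.sq r hr)])
  have hxrR : x * r ∈ R := mul_mem hx hr
  have hv1 : (1 : G) * v * (1 : G)⁻¹ = v := by group
  obtain ⟨f₀, hf₀, hk⟩ := K.exists_step hF (g := 1) (p := p) (by rw [hv1, hp]) he
    (y := x * r) (by rw [hv1, hF]; exact hxrR)
  rw [hv1, ← hev] at hk
  set k := x * r * f₀ with hkdef
  have hk1 : k ≠ 1 := K.step_ne_one hF (g := 1) (by rw [hv1, hF]; exact hxrR) hxr1 hf₀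
  have hrf1 : r * f ≠ 1 := by
    intro h
    rw [h, one_mul] at hy hy1
    rcases hf' with rfl | hf'
    · exact hy1 rfl
    · obtain ⟨c, hc, hcq⟩ := K.exists_other_fix (g := g₂) q
      exact hcq (C.fix_unique hf'.1 (hy c hc) hf'.2)
  have hf'Z : f' ∈ C.Za q := K.step_mem hF hrf hf' hy hrf1 hm₂
  -- the member at `p`
  set h := f₀⁻¹ * f with hh
  have hxy : x * (r * f * f') = k * (h * f') := by rw [hkdef, hh]; group
  have hhne : h ≠ 1 := by
    intro h1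
    have hff : f₀ = f := inv_mul_eq_one.1 h1
    have hxF : x ∈ C.fixAll (g₁ * v * g₁⁻¹) := by
      have := mul_mem hk (inv_mem hrf)
      rwa [hkdef, hff, show x * r * f * (r * f)⁻¹ = x by group] at this
    obtain ⟨c, hc, hcp⟩ := K.exists_other_fix (g := g₁) p
    exact hcp (hm₁ c ((K.fixed x hx hx1 c).1 (hxF c hc)) hc)
  have hhZ : h ∈ C.Za p := by
    -- transport to the group at `a`
    obtain ⟨l, hl⟩ := MulAction.exists_smul_eq G a p
    have hE' : ∀ f : G, f = 1 ∨ f ∈ C.Za p → l⁻¹ * f * l ∈ E := by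
      rintro f (rfl | hf)
      · simp
      · refine K.mem_E_iff.2 (Or.inr ?_)
        have := C.conj_mem_Za (g := l⁻¹) hf
        rwa [inv_inv, ← hl, inv_smul_smul] at this
    have hmem := mul_mem (inv_mem (hE' f₀ hf₀)) (hE' f hf)
    rw [show (l⁻¹ * f₀ * l)⁻¹ * (l⁻¹ * f * l) = l⁻¹ * h * l by rw [hh]; group] at hmem
    rcases K.mem_E_iff.1 hmem with h1 | h1
    · exact absurd (calc h = l * (l⁻¹ * h * l) * l⁻¹ := by group
          _ = 1 := by rw [h1]; group) hhne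
    · have := C.conj_mem_Za (g := l) h1
      rwa [hl, show l * (l⁻¹ * h * l) * l⁻¹ = h by group] at this
  have hkc : Commute k (h * f') :=
    (K.fixAll_za hF hk hp1 hhZ).mul_right (K.fixAll_za hF hk hq1 hf'Z)
  rw [hxy, pow_half_of_commute (orderOf_eq_two (K.fixAll_sq hF hk) hk1)
    (C.odd_mul hhZ.1 hf'Z.1 hhZ.2 hf'Z.2 hpq) hkc]
  exact ⟨hk, hk1⟩

/-- The kernel of the end of a path. -/
theorem exists_decomp {g₁ g₂ : G} {p q : C.Pt} (hp : v • p = p)
    (hq1 : (g₁ * v * g₁⁻¹) • q = q)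
    {e e' : G} (he : e ∈ C.Za p) (hev : g₁ * v * g₁⁻¹ = v * e)
    (he' : e' ∈ C.Za q) (hev' : g₂ * v * g₂⁻¹ = g₁ * v * g₁⁻¹ * e')
    {y : G} (hy : y ∈ C.fixAll (g₂ * v * g₂⁻¹)) :
    ∃ r f f' : G, r ∈ R ∧ (f = 1 ∨ f ∈ C.Za p) ∧ r * f ∈ C.fixAll (g₁ * v * g₁⁻¹) ∧
      (f' = 1 ∨ f' ∈ C.Za q) ∧ r * f * f' = y := by
  classical
  have hv1 : (1 : G) * v * (1 : G)⁻¹ = v := by group
  have hex : ∀ r : R, ∃ f f' : G, (f = 1 ∨ f ∈ C.Za p) ∧ (r : G) * f ∈ C.fixAll (g₁ * v * g₁⁻¹) ∧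
      (f' = 1 ∨ f' ∈ C.Za q) ∧ (r : G) * f * f' ∈ C.fixAll (g₂ * v * g₂⁻¹) := by
    intro r
    obtain ⟨f, hf, hrf⟩ := K.exists_step hF (g := 1) (p := p) (by rw [hv1, hp]) he (y := (r : G))
      (by rw [hv1, hF]; exact r.2)
    rw [hv1, ← hev] at hrf
    obtain ⟨f', hf', h⟩ := K.exists_step hF hq1 he' hrf
    rw [← hev'] at h
    exact ⟨f, f', hf, hrf, hf', h⟩
  choose f f' hf hrf hf' hy' using hex
  -- the map is injective between sets of the same size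
  have hinj : Function.Injective (fun r : R =>
      (⟨(r : G) * f r * f' r, hy' r⟩ : C.fixAll (g₂ * v * g₂⁻¹))) := by
    intro r s h
    have h1 : (r : G) * f r * f' r = (s : G) * f s * f' s := congrArg Subtype.val h
    obtain ⟨l, hl⟩ := MulAction.exists_smul_eq G a q
    have hrs : ((s : G) * f s)⁻¹ * ((r : G) * f r) = 1 := by
      have heq : ((s : G) * f s)⁻¹ * ((r : G) * f r) = f' s * (f' r)⁻¹ := by
        rw [show (r : G) * f r = (r : G) * f r * f' r * (f' r)⁻¹ by group, h1]; group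
      have hin := mul_mem (inv_mem (hrf s)) (hrf r)
      rw [heq] at hin ⊢
      by_contra hne
      obtain ⟨c, hc, hcq⟩ := K.exists_other_fix (g := g₁) q
      have hE' : ∀ f : G, f = 1 ∨ f ∈ C.Za q → l⁻¹ * f * l ∈ E := by
        rintro f (rfl | hf)
        · simp
        · refine K.mem_E_iff.2 (Or.inr ?_)
          have := C.conj_mem_Za (g := l⁻¹) hf
          rwa [inv_inv, ← hl, inv_smul_smul] at this
      have hm := mul_mem (hE' _ (hf' s)) (inv_mem (hE' _ (hf' r)))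
      have h2 := K.isE.free C hm (c := l⁻¹ • c) (fun e => hcq (by rw [← hl, ← e, smul_inv_smul]))
        (by
          rw [smul_smul, show l⁻¹ * f' s * l * (l⁻¹ * f' r * l)⁻¹ * l⁻¹ =
            l⁻¹ * (f' s * (f' r)⁻¹) by group, mul_smul, hin c hc])
      refine hne ?_
      calc f' s * (f' r)⁻¹ = l * (l⁻¹ * f' s * l * (l⁻¹ * f' r * l)⁻¹) * l⁻¹ := by group
        _ = 1 := by rw [h2]; group
    have h3 : (r : G) * f r = (s : G) * f s := (inv_mul_eq_one.1 hrs).symm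
    obtain ⟨l', hl'⟩ := MulAction.exists_smul_eq G a p
    by_contra hne
    have hsr : (s : G)⁻¹ * r ≠ 1 := fun h => hne (Subtype.ext (inv_mul_eq_one.1 h).symm)
    have heq : (s : G)⁻¹ * r = f s * (f r)⁻¹ := by
      rw [show (r : G) = (r : G) * f r * (f r)⁻¹ by group, h3]; group
    have hfix : ∀ c : C.Pt, v • c = c → (f s * (f r)⁻¹) • c = c := fun c hc => by
      rw [← heq]; exact K.fix (mul_mem (inv_mem s.2) r.2) hc
    have hE' : ∀ f : G, f = 1 ∨ f ∈ C.Za p → l'⁻¹ * f * l' ∈ E := by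
      rintro f (rfl | hf)
      · simp
      · refine K.mem_E_iff.2 (Or.inr ?_)
        have := C.conj_mem_Za (g := l'⁻¹) hf
        rwa [inv_inv, ← hl', inv_smul_smul] at this
    obtain ⟨c, hc, hcp⟩ := K.exists_other_fix (g := (1 : G)) p
    rw [hv1] at hc
    have h2 := K.isE.free C (mul_mem (hE' _ (hf s)) (inv_mem (hE' _ (hf r)))) (c := l'⁻¹ • c)
      (fun e => hcp (by rw [← hl', ← e, smul_inv_smul])) (by
        rw [smul_smul, show l'⁻¹ * f s * l' * (l'⁻¹ * f r * l')⁻¹ * l'⁻¹ =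
          l'⁻¹ * (f s * (f r)⁻¹) by group, mul_smul, hfix c hc])
    refine hsr ?_
    rw [heq]
    calc f s * (f r)⁻¹ = l' * (l'⁻¹ * f s * l' * (l'⁻¹ * f r * l')⁻¹) * l'⁻¹ := by group
      _ = 1 := by rw [h2]; group
  obtain ⟨r, hr⟩ := (hinj.bijective_of_nat_card_le (le_of_eq (K.card_fixAll hF g₂))).2 ⟨y, hy⟩
  exact ⟨r, f r, f' r, r.2, hf r, hrf r, hf' r, congrArg Subtype.val hr⟩

variable (hU : ∀ g : G, (g * v * g⁻¹) • a = a → (g * v * g⁻¹) • b = b →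
  ∀ c : C.Pt, (g * v * g⁻¹) • c = c ↔ v • c = c)
include hU

/-- Two blocks share at most one point. -/
theorem block_unique {g g' : G} {c d : C.Pt} (hcd : c ≠ d) (hc : (g * v * g⁻¹) • c = c)
    (hd : (g * v * g⁻¹) • d = d) (hc' : (g' * v * g'⁻¹) • c = c) (hd' : (g' * v * g'⁻¹) • d = d) :
    C.fixSet (g * v * g⁻¹) = C.fixSet (g' * v * g'⁻¹) := by
  have hc0 := (C.conj_fixed g v c).1 hc
  have hd0 := (C.conj_fixed g v d).1 hd
  obtain ⟨l, hl, hla⟩ := C.exists_mem_L_move K.bad K.va hc0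
  obtain ⟨S, hS⟩ := K.bad.exists_reg C K.hp K.va
  have hd1 : v • l⁻¹ • g⁻¹ • d = l⁻¹ • g⁻¹ • d := by
    rw [smul_smul, ← (C.commute_of_mem_L (inv_mem hl)).eq, mul_smul, hd0]
  obtain ⟨s, hs, hsb⟩ := hS.trans b _ K.vb K.ne.symm hd1 fun e => hcd (by
    rw [inv_smul_eq_iff, hla, inv_smul_eq_iff, smul_inv_smul] at e
    exact e.symm)
  set m := g * l * s with hm
  have hma : m • a = c := by rw [hm, mul_smul, mul_smul, hS.fix s hs, hla, smul_inv_smul]
  have hmb : m • b = d := by rw [hm, mul_smul, mul_smul, hsb, smul_inv_smul, smul_inv_smul]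
  have hmv : m * v * m⁻¹ = g * v * g⁻¹ := by
    rw [hm, show g * l * s * v * (g * l * s)⁻¹ = g * ((l * s) * v * (l * s)⁻¹) * g⁻¹ by group,
      C.L_conj_eq (mul_mem hl (hS.le hs))]
  have key : ∀ x : C.Pt, ((m⁻¹ * g') * v * (m⁻¹ * g')⁻¹) • m⁻¹ • x = m⁻¹ • x ↔
      (g' * v * g'⁻¹) • x = x := fun x => by
    rw [show (m⁻¹ * g') * v * (m⁻¹ * g')⁻¹ = m⁻¹ * (g' * v * g'⁻¹) * m⁻¹⁻¹ by group, C.conj_fixed,
      inv_inv, smul_inv_smul]
  have hu := hU (m⁻¹ * g')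
    (by have h := (key c).2 hc'; rwa [show m⁻¹ • c = a by rw [← hma, inv_smul_smul]] at h)
    (by have h := (key d).2 hd'; rwa [show m⁻¹ • d = b by rw [← hmb, inv_smul_smul]] at h)
  ext x
  rw [C.mem_fixSet, C.mem_fixSet, ← hmv, C.conj_fixed, ← hu, key]

set_option maxHeartbeats 4000000 in
/-- **No kernel of order four or more**: the count. -/
theorem false_of_unique : False := by
  classical
  haveI : Fact (Nat.Prime 2) := ⟨Nat.prime_two⟩
  obtain ⟨x₀, hx₀, hx₀v⟩ := C.exists_commute_at K.vv K.va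
  have hx₀E : x₀ ∈ C.Ea v a := ⟨hx₀, hx₀v⟩
  set q := Nat.card E with hqdef
  set Q := C.qn v a with hQdef
  have hn : Nat.card C.Pt = Q + 1 + (Q + 1) * (q - 1) * Q :=
    K.bad.count_of_cross_empty C K.hf K.hp K.va hx₀E K.isE K.cross_eq_empty
  have hq2 : 2 ≤ q := Bad.one_lt_E C hx₀E K.isE
  have hQ1 : 1 ≤ Q := by
    obtain ⟨c, hca, hc⟩ := K.bad.exists_other C a
    exact Nat.card_pos_iff.2 ⟨⟨⟨c, hc, hca⟩⟩, inferInstance⟩
  have hv1 : (1 : G) * v * (1 : G)⁻¹ = v := by group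
  set L := C.blocks v with hL
  have hcardS : ∀ {S : Set C.Pt}, S ∈ L → Nat.card S = Q + 1 := by
    rintro _ ⟨g, rfl⟩
    exact K.card_fixSet g
  have hsmul : ∀ (g h : G) (c : C.Pt),
      (g • c ∈ C.fixSet (g * h * v * (g * h)⁻¹) ↔ c ∈ C.fixSet (h * v * h⁻¹)) := fun g h c => by
    rw [C.mem_fixSet, C.mem_fixSet, show g * h * v * (g * h)⁻¹ = g * (h * v * h⁻¹) * g⁻¹ by group,
      C.conj_fixed, inv_smul_smul]
  set β := Nat.card {S : L // a ∈ (S : Set C.Pt)} with hβ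
  have hβp : ∀ p : C.Pt, Nat.card {S : L // p ∈ (S : Set C.Pt)} = β := by
    intro p
    obtain ⟨k, rfl⟩ := MulAction.exists_smul_eq G a p
    have hmap : ∀ (k : G) {S : Set C.Pt}, S ∈ L → (fun c => k • c) '' S ∈ L := by
      rintro k _ ⟨h, rfl⟩
      refine ⟨k * h, Set.ext fun c => ⟨?_, fun hc => ⟨k⁻¹ • c, ?_, smul_inv_smul k c⟩⟩⟩
      · rintro ⟨d, hd, rfl⟩
        exact (hsmul k h d).2 hd
      · exact (hsmul k h _).1 (by rw [smul_inv_smul]; exact hc)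
    refine Nat.card_congr
      { toFun := fun S => ⟨⟨(fun c => k⁻¹ • c) '' S.1.1, hmap k⁻¹ S.1.2⟩, k • a, S.2,
          inv_smul_smul k a⟩
        invFun := fun S => ⟨⟨(fun c => k • c) '' S.1.1, hmap k S.1.2⟩, a, S.2, rfl⟩
        left_inv := fun S => Subtype.ext (Subtype.ext ?_)
        right_inv := fun S => Subtype.ext (Subtype.ext ?_) }
    · show (fun c => k • c) '' ((fun c => k⁻¹ • c) '' S.1.1) = S.1.1
      simp [Set.image_image]
    · show (fun c => k⁻¹ • c) '' ((fun c => k • c) '' S.1.1) = S.1.1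
      simp [Set.image_image]
  haveI := Fintype.ofFinite C.Pt
  haveI := Fintype.ofFinite L
  -- incidences
  have hinc : Nat.card L * (Q + 1) = Nat.card C.Pt * β := by
    have e : (Σ S : L, (S : Set C.Pt)) ≃ Σ p : C.Pt, {S : L // p ∈ (S : Set C.Pt)} :=
      { toFun := fun x => ⟨x.2.1, x.1, x.2.2⟩
        invFun := fun x => ⟨x.2.1, x.1, x.2.2⟩
        left_inv := fun _ => rfl
        right_inv := fun _ => rfl }
    have h := Nat.card_congr e
    rw [Nat.card_sigma, Nat.card_sigma, Finset.sum_congr rfl fun S _ => hcardS S.2,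
      Finset.sum_congr rfl fun p _ => hβp p, Finset.sum_const, Finset.sum_const, smul_eq_mul,
      smul_eq_mul, Finset.card_univ, Finset.card_univ, ← Nat.card_eq_fintype_card,
      ← Nat.card_eq_fintype_card] at h
    exact h
  -- blocks through `a`
  have hone : ∀ {S : Set C.Pt}, S ∈ L → ∀ {p : C.Pt}, p ∈ S →
      Nat.card {c : S // (c : C.Pt) ≠ p} = Q := by
    intro S hS p hp
    haveI := Fintype.ofFinite S
    rw [Nat.card_congr (Equiv.subtypeEquivRight (p := fun c : S => (c : C.Pt) ≠ p)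
      (q := fun c : S => ¬ c = ⟨p, hp⟩) fun c => by rw [Subtype.ext_iff]),
      Nat.card_eq_fintype_card, Fintype.card_subtype_compl, Fintype.card_subtype_eq,
      ← Nat.card_eq_fintype_card, hcardS hS]
    rfl
  have hβle : β * Q ≤ Nat.card C.Pt - 1 := by
    haveI := Fintype.ofFinite {S : L // a ∈ (S : Set C.Pt)}
    have h : Nat.card (Σ S : {S : L // a ∈ (S : Set C.Pt)}, {c : S.1.1 // (c : C.Pt) ≠ a}) ≤
        Nat.card {c : C.Pt // ¬ c = a} := by
      refine Nat.card_le_card_of_injective (fun x => ⟨x.2.1.1, x.2.2⟩) ?_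
      rintro ⟨⟨⟨S, hS⟩, haS⟩, ⟨c, hc⟩, hca⟩ ⟨⟨⟨S', hS'⟩, haS'⟩, ⟨c', hc'⟩, hca'⟩ he
      obtain rfl : c = c' := congrArg Subtype.val he
      obtain rfl : S = S' := by
        obtain ⟨g, rfl⟩ := hS
        obtain ⟨g', rfl⟩ := hS'
        exact K.block_unique hF hU hca hc haS hc' haS'
      rfl
    rw [Nat.card_sigma, Finset.sum_congr rfl fun S _ => hone S.1.2 S.2, Finset.sum_const, smul_eq_mul,
      Finset.card_univ, ← Nat.card_eq_fintype_card, ← hβ] at h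
    refine h.trans (le_of_eq ?_)
    rw [Nat.card_eq_fintype_card, Fintype.card_subtype_compl, Fintype.card_subtype_eq,
      ← Nat.card_eq_fintype_card]
  -- the blocks meeting `F`
  let T₁ := Σ p : C.fixSet v, {S : {S : L // (p : C.Pt) ∈ (S : Set C.Pt)} // (S.1 : Set C.Pt) ≠ C.fixSet v}
  -- the paths
  let T₂ := Σ p : C.fixSet v, Σ e : C.Za (p : C.Pt),
    Σ p' : {c : C.Pt // (v * (e : G)) • c = c ∧ c ≠ (p : C.Pt)}, C.Za (p' : C.Pt)
  have hT2 : ∀ x : T₂, ∃ g₁ g₂ : G, g₁ * v * g₁⁻¹ = v * (x.2.1 : G) ∧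
      g₂ * v * g₂⁻¹ = g₁ * v * g₁⁻¹ * (x.2.2.2 : G) := by
    rintro ⟨p, e, p', e'⟩
    obtain ⟨g₁, h₁⟩ := K.exists_conj_mul (g := 1) (p := (p : C.Pt))
      (by rw [hv1]; exact p.2) e.2
    rw [hv1] at h₁
    obtain ⟨g₂, h₂⟩ := K.exists_conj_mul (g := g₁) (p := (p' : C.Pt))
      (by rw [h₁]; exact p'.2.1) e'.2
    exact ⟨g₁, g₂, h₁, h₂⟩
  choose k₁ k₂ hk₁ hk₂ using hT2
  have hblock : ∀ x : T₂, C.fixSet (k₂ x * v * (k₂ x)⁻¹) ∈ L := fun x => ⟨k₂ x, rfl⟩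
  -- facts on one path
  have hpath : ∀ x : T₂,
      (∀ c : C.Pt, v • c = c → (k₁ x * v * (k₁ x)⁻¹) • c = c → c = x.1.1) ∧
      (∀ c : C.Pt, (k₁ x * v * (k₁ x)⁻¹) • c = c → (k₂ x * v * (k₂ x)⁻¹) • c = c →
        c = x.2.2.1.1) ∧
      (k₁ x * v * (k₁ x)⁻¹) • x.1.1 = x.1.1 ∧
      (k₁ x * v * (k₁ x)⁻¹) • x.2.2.1.1 = x.2.2.1.1 := by
    intro x
    refine ⟨fun c hc h => K.eq_of_fix_mul K.vv x.2.1.2 hc ((hk₁ x) ▸ h),
      fun c hc h => K.eq_of_fix_mul (K.conj_sq (k₁ x)) x.2.2.2.2 hc ((hk₂ x) ▸ h), ?_, ?_⟩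
    · rw [hk₁, mul_smul, x.2.1.2.2]; exact x.1.2
    · rw [hk₁]; exact x.2.2.1.2.1
  have hdec : ∀ (x : T₂) {y : G}, y ∈ C.fixAll (k₂ x * v * (k₂ x)⁻¹) → y ≠ 1 →
      ∃ r : G, r ∈ R ∧ ∀ z ∈ R, z ≠ 1 → z ≠ r →
        (z * y) ^ (orderOf (z * y) / 2) ∈ C.fixAll (k₁ x * v * (k₁ x)⁻¹) ∧
          (z * y) ^ (orderOf (z * y) / 2) ≠ 1 := by
    intro x y hy hy1
    obtain ⟨h1, h2, h3, h4⟩ := hpath x
    obtain ⟨r, f, f', hr, hf, hrf, hf', rfl⟩ :=
      K.exists_decomp hF x.1.2 h4 x.2.1.2 (hk₁ x) x.2.2.2.2 (hk₂ x) hy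
    exact ⟨r, hr, fun z hz hz1 hzr => K.middle hF x.1.2 h3 h4 (Ne.symm x.2.2.1.2.2) h1 h2 hr hf hrf
      hf' hy hy1 x.2.1.2 (hk₁ x) hz hz1 hzr⟩
  have hRbig : ∀ r s : G, ∃ z ∈ R, z ≠ 1 ∧ z ≠ r ∧ z ≠ s := by
    intro r s
    by_contra h
    push Not at h
    have hle : Nat.card R ≤ ({1, r, s} : Finset G).card := by
      rw [← Nat.card_eq_finsetCard]
      refine Nat.card_le_card_of_injective (fun z : R => (⟨(z : G), ?_⟩ : ({1, r, s} : Finset G)))
        fun z w e => Subtype.ext (congrArg (fun t : ({1, r, s} : Finset G) => (t : G)) e)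
      simp only [Finset.mem_insert, Finset.mem_singleton]
      by_cases h1 : (z : G) = 1
      · exact Or.inl h1
      by_cases h2 : (z : G) = r
      · exact Or.inr (Or.inl h2)
      exact Or.inr (Or.inr (h z z.2 h1 h2))
    have := hle.trans Finset.card_le_three
    have := K.big
    omega
  have hexy : ∀ g : G, ∃ y ∈ C.fixAll (g * v * g⁻¹), y ≠ 1 := fun g =>
    ⟨g * v * g⁻¹, fun c hc => hc, fun h => ne_one K.bad.1 (conj_eq_one_iff.1 h)⟩
  -- a path ends away from `F`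
  have hdisj : ∀ (x : T₂) (c : C.Pt), v • c = c → c ∉ C.fixSet (k₂ x * v * (k₂ x)⁻¹) := by
    intro x c hc hc2
    obtain ⟨y, hy, hy1⟩ := hexy (k₂ x)
    obtain ⟨h1, h2, h3, h4⟩ := hpath x
    obtain ⟨r, -, hmid⟩ := hdec x hy hy1
    obtain ⟨z, hz, hz1, hzr, -⟩ := hRbig r r
    obtain ⟨hk, hk1⟩ := hmid z hz hz1 hzr
    have hkc : ((z * y) ^ (orderOf (z * y) / 2)) • c = c :=
      MulAction.mem_stabilizer_iff.1 (pow_mem (MulAction.mem_stabilizer_iff.2 (by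
        rw [mul_smul, hy c hc2, K.fix hz hc])) _)
    have hcB := K.fixAll_point hF hk hk1 hkc
    exact x.2.2.1.2.2 ((h2 c hcB hc2).symm.trans (h1 c hc hcB))
  let Φ : PUnit.{1} ⊕ T₁ ⊕ T₂ → L := Sum.elim (fun _ => ⟨C.fixSet v, 1, by rw [hv1]⟩)
    (Sum.elim (fun x => x.2.1.1) fun x => ⟨_, hblock x⟩)
  have hFa : a ∈ C.fixSet v := K.va
  have hinjΦ : Function.Injective Φ := by
    rintro (⟨⟩ | x | x) (⟨⟩ | y | y) h <;> have h' := congrArg (fun S : L => (S : Set C.Pt)) h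
    · rfl
    · exact absurd h'.symm y.2.2
    · exact absurd (show a ∈ C.fixSet (k₂ y * v * (k₂ y)⁻¹) from (show C.fixSet v = C.fixSet (k₂ y * v * (k₂ y)⁻¹) from h') ▸ hFa) (hdisj y a K.va)
    · exact absurd h' x.2.2
    · obtain ⟨⟨p, hp⟩, ⟨⟨⟨S, hS⟩, hpS⟩, hSF⟩⟩ := x
      obtain ⟨⟨p', hp'⟩, ⟨⟨⟨S', hS'⟩, hpS'⟩, hSF'⟩⟩ := y
      obtain rfl : S = S' := h'
      obtain rfl : p = p' := by
        by_contra hne
        obtain ⟨g, rfl⟩ := hS
        exact hSF ((K.block_unique hF hU hne hpS hpS' (g' := 1) (by rw [hv1]; exact hp)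
          (by rw [hv1]; exact hp')).trans (congrArg C.fixSet hv1))
      rfl
    · refine absurd x.1.2 fun hc => hdisj y x.1.1 hc ?_
      exact (show (x.2.1.1 : Set C.Pt) = C.fixSet (k₂ y * v * (k₂ y)⁻¹) from h') ▸ x.2.1.2
    · exact absurd (show a ∈ C.fixSet (k₂ x * v * (k₂ x)⁻¹) from (show C.fixSet (k₂ x * v * (k₂ x)⁻¹) = C.fixSet v from h').symm ▸ hFa) (hdisj x a K.va)
    · refine absurd y.1.2 fun hc => hdisj x y.1.1 hc ?_
      exact (show C.fixSet (k₂ x * v * (k₂ x)⁻¹) = (y.2.1.1 : Set C.Pt) from h').symm ▸ y.2.1.2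
    · -- two paths with one end
      have he : C.fixSet (k₂ x * v * (k₂ x)⁻¹) = C.fixSet (k₂ y * v * (k₂ y)⁻¹) := h'
      obtain ⟨z, hz, hz1⟩ := hexy (k₂ x)
      have hz' : z ∈ C.fixAll (k₂ y * v * (k₂ y)⁻¹) := fun c hc => hz c (he.symm.le hc)
      obtain ⟨r, -, hmid⟩ := hdec x hz hz1
      obtain ⟨r', -, hmid'⟩ := hdec y hz' hz1
      obtain ⟨w, hw, hw1, hwr, hwr'⟩ := hRbig r r'
      obtain ⟨hk, hk1⟩ := hmid w hw hw1 hwr
      obtain ⟨hk', -⟩ := hmid' w hw hw1 hwr'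
      have hmidset : ∀ c : C.Pt,
          (k₁ x * v * (k₁ x)⁻¹) • c = c ↔ (k₁ y * v * (k₁ y)⁻¹) • c = c := fun c =>
        ⟨fun hc => K.fixAll_point hF hk' hk1 (hk c hc), fun hc => K.fixAll_point hF hk hk1 (hk' c hc)⟩
      obtain ⟨h1, h2, h3, h4⟩ := hpath x
      obtain ⟨h1', h2', h3', h4'⟩ := hpath y
      obtain ⟨⟨p, hp⟩, ⟨e, hee⟩, ⟨p', hp'⟩, ⟨e', hee'⟩⟩ := x
      obtain ⟨⟨p₂, hp₂⟩, ⟨e₂, hee₂⟩, ⟨p₂', hp₂'⟩, ⟨e₂', hee₂'⟩⟩ := y
      obtain rfl : p = p₂ := h1' p hp ((hmidset p).1 h3)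
      obtain rfl : e = e₂ := by
        obtain ⟨c, hc, hcp⟩ := K.exists_other_fix (g := k₁ ⟨⟨p, hp⟩, ⟨e, hee⟩, ⟨p', hp'⟩, ⟨e', hee'⟩⟩) p
        have hc' := (hmidset c).1 hc
        rw [hk₁, mul_smul] at hc hc'
        exact K.za_inj hee hee₂ hcp (smul_left_cancel v (hc.trans hc'.symm))
      obtain rfl : p' = p₂' := by
        -- the ends meet the middle block once
        have hq : (k₂ ⟨⟨p, hp⟩, ⟨e, hee⟩, ⟨p', hp'⟩, ⟨e', hee'⟩⟩ * v *
            (k₂ ⟨⟨p, hp⟩, ⟨e, hee⟩, ⟨p', hp'⟩, ⟨e', hee'⟩⟩)⁻¹) • p' = p' := by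
          rw [hk₂, mul_smul, hee'.2]; exact h4
        exact h2' p' ((hmidset p').1 h4) (he.le hq)
      obtain rfl : e' = e₂' := by
        set g := k₂ ⟨⟨p, hp⟩, ⟨e, hee⟩, ⟨p', hp'⟩, ⟨e', hee'⟩⟩ with hg
        obtain ⟨c, hc, hcp⟩ := K.exists_other_fix (g := g) p'
        have hc' : (k₂ ⟨⟨p, hp⟩, ⟨e, hee₂⟩, ⟨p', hp₂'⟩, ⟨e₂', hee₂'⟩⟩ * v *
            (k₂ ⟨⟨p, hp⟩, ⟨e, hee₂⟩, ⟨p', hp₂'⟩, ⟨e₂', hee₂'⟩⟩)⁻¹) • c = c := he.le hc
        rw [hg, hk₂, hk₁, mul_smul] at hc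
        rw [hk₂, hk₁, mul_smul] at hc'
        exact K.za_inj hee' hee₂' hcp (smul_left_cancel _ (hc.trans hc'.symm))
      rfl
  have hle := Nat.card_le_card_of_injective Φ hinjΦ
  haveI := Fintype.ofFinite (C.fixSet v)
  have hF1 : Nat.card (C.fixSet v) = Q + 1 := by
    have := K.card_fixSet (1 : G); rwa [hv1] at this
  have hcT1 : Nat.card T₁ = (Q + 1) * (β - 1) := by
    have h1 : ∀ p : C.fixSet v, Nat.card {S : {S : L // (p : C.Pt) ∈ (S : Set C.Pt)} //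
        (S.1 : Set C.Pt) ≠ C.fixSet v} = β - 1 := by
      intro p
      let S₀ : {S : L // (p : C.Pt) ∈ (S : Set C.Pt)} := ⟨⟨C.fixSet v, 1, by rw [hv1]⟩, p.2⟩
      haveI := Fintype.ofFinite {S : L // (p : C.Pt) ∈ (S : Set C.Pt)}
      rw [Nat.card_congr (Equiv.subtypeEquivRight (q := fun S => ¬ S = S₀) fun S => by
          rw [Subtype.ext_iff, Subtype.ext_iff]),
        Nat.card_eq_fintype_card, Fintype.card_subtype_compl, Fintype.card_subtype_eq,
        ← Nat.card_eq_fintype_card, hβp]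
    rw [Nat.card_sigma, Finset.sum_congr rfl fun p _ => h1 p, Finset.sum_const, smul_eq_mul,
      Finset.card_univ, ← Nat.card_eq_fintype_card, hF1]
  have hcT2 : Nat.card T₂ = (Q + 1) * ((q - 1) * (Q * (q - 1))) := by
    have h1 : ∀ (p : C.fixSet v) (e : C.Za (p : C.Pt)),
        Nat.card (Σ p' : {c : C.Pt // (v * (e : G)) • c = c ∧ c ≠ (p : C.Pt)}, C.Za (p' : C.Pt)) =
          Q * (q - 1) := by
      intro p e
      haveI := Fintype.ofFinite {c : C.Pt // (v * (e : G)) • c = c ∧ c ≠ (p : C.Pt)}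
      rw [Nat.card_sigma, Finset.sum_congr rfl fun p' _ => K.card_za _, Finset.sum_const,
        smul_eq_mul, Finset.card_univ, ← Nat.card_eq_fintype_card]
      congr 1
      obtain ⟨g, hg⟩ := K.exists_conj_mul (g := 1) (p := (p : C.Pt))
        (by rw [hv1]; exact p.2) e.2
      rw [hv1] at hg
      have hpS : (p : C.Pt) ∈ C.fixSet (g * v * g⁻¹) := by
        rw [C.mem_fixSet, hg, mul_smul, e.2.2]; exact p.2
      rw [← hone ⟨g, rfl⟩ hpS]
      exact Nat.card_congr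
        { toFun := fun c => ⟨⟨c.1, (C.mem_fixSet).2 (hg.symm ▸ c.2.1)⟩, c.2.2⟩
          invFun := fun c => ⟨c.1.1, hg ▸ c.1.2, c.2⟩
          left_inv := fun _ => rfl
          right_inv := fun _ => rfl }
    have h2 : ∀ p : C.fixSet v, Nat.card (Σ e : C.Za (p : C.Pt),
        Σ p' : {c : C.Pt // (v * (e : G)) • c = c ∧ c ≠ (p : C.Pt)}, C.Za (p' : C.Pt)) =
          (q - 1) * (Q * (q - 1)) := by
      intro p
      haveI := Fintype.ofFinite (C.Za (p : C.Pt))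
      rw [Nat.card_sigma, Finset.sum_congr rfl fun e _ => h1 p e, Finset.sum_const, smul_eq_mul,
        Finset.card_univ, ← Nat.card_eq_fintype_card, K.card_za]
    rw [Nat.card_sigma, Finset.sum_congr rfl fun p _ => h2 p, Finset.sum_const, smul_eq_mul,
      Finset.card_univ, ← Nat.card_eq_fintype_card, hF1]
  rw [Nat.card_sum, Nat.card_sum, Nat.card_unique, hcT1, hcT2] at hle
  -- arithmetic
  obtain ⟨m, hm⟩ : ∃ m, q = m + 2 := ⟨q - 2, by omega⟩
  obtain ⟨P, hP⟩ : ∃ P, Q = P + 1 := ⟨Q - 1, by omega⟩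
  have hLM : Nat.card L = (1 + (q - 1) * Q) * β := by
    refine Nat.eq_of_mul_eq_mul_right (show 0 < Q + 1 by omega) ?_
    rw [hinc, hn]; ring
  have hβN : β ≤ 1 + (Q + 1) * (q - 1) := by
    refine Nat.le_of_mul_le_mul_right (hβle.trans (le_of_eq ?_)) (show 0 < Q by omega)
    rw [hn, show Q + 1 + (Q + 1) * (q - 1) * Q = Q + (Q + 1) * (q - 1) * Q + 1 by ring,
      Nat.add_sub_cancel]
    ring
  rw [hLM, hm, show m + 2 - 1 = m + 1 by omega] at hle
  rw [hm, show m + 2 - 1 = m + 1 by omega] at hβN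
  clear_value Q
  subst hP
  rcases Nat.eq_zero_or_pos β with h0 | h0
  · rw [h0] at hle; simp at hle
  obtain ⟨γ, hγ⟩ : ∃ γ, β = γ + 1 := ⟨β - 1, by omega⟩
  rw [hγ, Nat.add_sub_cancel] at hle
  rw [hγ] at hβN
  have hγN : γ ≤ (P + 1 + 1) * (m + 1) := by omega
  nlinarith [Nat.mul_le_mul_left (m * (P + 1)) hγN]

end Kern

/-- **No kernel of order four or more**, given that the normaliser of the kernel in the centraliser of
`E` at `a`, `b` centralises it and that elementary groups of its size in the Sylow subgroup of that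
centraliser meet it. -/
theorem Kern.false_of_noh {v : G} {a b : C.Pt} {D E R : Subgroup G} (K : C.Kern v a b D E R)
    (hnoh : ∀ h : G, h • a = a → h • b = b → (∀ e ∈ E, Commute h e) →
      (∀ r ∈ R, h * r * h⁻¹ ∈ R) → ∀ r ∈ R, Commute h r)
    (hcent : ∀ g : G, g • a = a → Commute g v → (∀ e ∈ E, Commute g e) → ∀ r ∈ R,
      g * r * g⁻¹ ∈ R → Commute g r)
    (hmeet : ∀ A : Subgroup G, A ≤ D → Nat.card A = Nat.card R →
      (∀ x ∈ A, x * x = 1 ∧ ∀ e ∈ E, Commute x e) → ∃ x ∈ A, x ∈ R ∧ x ≠ 1) : False :=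
  K.false_of_unique (K.fixAll_eq hnoh) fun _ ha hb => K.pair_unique hnoh hcent hmeet ha hb

end Ctx

end CfsgLib.Criterion
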