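import Cfsg.Agent.Criterion.CubeReal
import Mathlib.RingTheory.Coprime.Lemmas

/-!
# The strong embedding criterion: the points outside the local translations

`n = 1 + q Q t`.  Without a crossing member `t` is odd; for `Q = q ^ 2` it is `2` modulo `4`; for
`Q = q ^ 3` it is not divisible by `q ^ 2`, and divisible by `q` only for three explicit values.
-/

set_option autoImplicit false
set_option linter.style.haveILetI false
set_option linter.unusedSectionVars false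

namespace CfsgLib.Criterion

open Subgroup CfsgLib.Invol CfsgLib.Bender

universe u

/-! ### The arithmetic -/

theorem two_pow_mod_fifteen (e : ℕ) :
    2 ^ e % 15 = 1 ∨ 2 ^ e % 15 = 2 ∨ 2 ^ e % 15 = 4 ∨ 2 ^ e % 15 = 8 := by
  induction e with
  | zero => exact Or.inl rfl
  | succ e ih => rw [pow_succ, Nat.mul_mod]; omega

/-- A number all whose primes divide `q ^ 2 - 1`, dividing `(q ^ 3 + 1) (q - 1)`, divides `q ^ 2 - 1`
or, with `3 ∣ q + 1`, three times it. -/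
theorem dvd_of_primes {q D : ℕ} (hq : 4 ≤ q) (hD : D ∣ (q ^ 3 + 1) * (q - 1))
    (hp : ∀ r : ℕ, r.Prime → r ∣ D → r ∣ q ^ 2 - 1) :
    D ∣ q ^ 2 - 1 ∨ 3 ∣ q + 1 ∧ D ∣ 3 * (q ^ 2 - 1) := by
  obtain ⟨c, rfl⟩ : ∃ c, q = c + 1 := ⟨q - 1, by omega⟩
  set M := c * c + c + 1 with hM
  have h1 : ((c + 1) ^ 3 + 1) * (c + 1 - 1) = ((c + 1) ^ 2 - 1) * M := by
    rw [Nat.add_sub_cancel, show (c + 1) ^ 2 - 1 = c * (c + 2) from
      Nat.sub_eq_of_eq_add (by ring), hM]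
    ring
  rw [h1] at hD
  set g := Nat.gcd D M with hg
  have hDg : D ∣ ((c + 1) ^ 2 - 1) * g := by
    rw [hg]
    exact dvd_mul_gcd_iff_dvd_mul.2 hD
  have h2 : ∀ r : ℕ, r.Prime → r ∣ g → r = 3 ∧ 3 ∣ c + 2 := by
    intro r hr hrg
    have hrM : r ∣ M := hrg.trans (Nat.gcd_dvd_right _ _)
    have hr1 := hp r hr (hrg.trans (Nat.gcd_dvd_left _ _))
    rw [show (c + 1) ^ 2 - 1 = c * (c + 2) from Nat.sub_eq_of_eq_add (by ring)] at hr1
    have hr3 : r ∣ 3 ∧ r ∣ c + 2 := by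
      rcases hr.dvd_mul.1 hr1 with h | h
      · refine absurd ?_ hr.not_dvd_one
        refine (Nat.dvd_add_right (dvd_mul_of_dvd_left h (c + 1))).1 ?_
        rw [show c * (c + 1) + 1 = M by rw [hM]; ring]
        exact hrM
      · refine ⟨?_, h⟩
        have h4 : (r : ℤ) ∣ (M : ℤ) - ((c : ℤ) + 2) * ((c : ℤ) - 1) := by
          refine dvd_sub (Int.natCast_dvd_natCast.2 hrM) (Dvd.dvd.mul_right ?_ _)
          exact_mod_cast h
        rw [show (M : ℤ) - ((c : ℤ) + 2) * ((c : ℤ) - 1) = 3 by rw [hM]; push_cast; ring] at h4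
        exact_mod_cast h4
    obtain ⟨hr3, hrc⟩ := hr3
    obtain rfl : r = 3 := (Nat.prime_dvd_prime_iff_eq hr Nat.prime_three).1 hr3
    exact ⟨rfl, hrc⟩
  have h9 : ¬ 9 ∣ M := by
    intro h
    have h' : M % 9 = 0 := Nat.mod_eq_zero_of_dvd h
    rw [hM, Nat.add_mod, Nat.add_mod (c * c), Nat.mul_mod] at h'
    have := Nat.mod_lt c (show 0 < 9 by norm_num)
    interval_cases h7 : c % 9 <;> omega
  by_cases hg1 : g = 1
  · rw [hg1, mul_one] at hDg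
    exact Or.inl hDg
  obtain ⟨r, hr, hrg⟩ := Nat.exists_prime_and_dvd hg1
  obtain ⟨rfl, h3⟩ := h2 r hr hrg
  refine Or.inr ⟨h3, ?_⟩
  obtain ⟨m, hm⟩ := hrg
  have hm1 : m = 1 := by
    by_contra hne
    obtain ⟨r, hr, hrm⟩ := Nat.exists_prime_and_dvd hne
    obtain ⟨rfl, -⟩ := h2 r hr (hrm.trans ⟨3, by rw [hm]; ring⟩)
    exact h9 ((show 9 ∣ g by rw [hm]; obtain ⟨l, rfl⟩ := hrm; exact ⟨l, by ring⟩).trans
      (Nat.gcd_dvd_right _ _))
  rw [hm, hm1, mul_one, mul_comm] at hDg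
  exact hDg

/-- When `q` divides `t` one of three values occurs. -/
theorem cube_cases {e : ℕ} (he : 2 ≤ e) {q D I t : ℤ} (hq : q = 2 ^ e) (hI : 0 < I) (hID : I < D)
    (hcop : IsCoprime D I) (hD : D ∣ q ^ 2 - 1 ∨ 3 ∣ q + 1 ∧ D ∣ 3 * (q ^ 2 - 1))
    (h : (q * t - 1) * D = (q ^ 3 + 1) * (q - 1) * I) (hqt : q ∣ t) :
    (D = q ^ 2 - 1 ∧ I = q ^ 2 - q - 1 ∧ t = q * (q - 1) ^ 2) ∨
    (D = 3 * (q ^ 2 - 1) ∧ I = q ^ 2 - 3 * q - 3 ∧ 3 * t = q * (q ^ 2 - 4 * q + 1)) ∨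
    (D = 3 * (q ^ 2 - 1) ∧ I = 2 * q ^ 2 - 3 * q - 3 ∧ 3 * t = q * (2 * q - 1) * (q - 2)) := by
  have hq4 : 4 ≤ q := by
    rw [hq]; calc (4 : ℤ) = 2 ^ 2 := by norm_num
      _ ≤ 2 ^ e := pow_le_pow_right₀ (by norm_num) he
  have hqe : (2 : ℤ) ∣ q := hq ▸ dvd_pow_self 2 (by omega)
  obtain ⟨u, rfl⟩ := hqt
  set k := q * u * D - (q ^ 3 - q ^ 2 + 1) * I with hk
  have hkD : D - I = k * q := by rw [hk]; linear_combination -h
  obtain ⟨K, hK⟩ : q ∣ D + k := ⟨k + u * D - (q ^ 2 - q) * I, by rw [hk] at *; linear_combination hkD⟩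
  obtain ⟨f, hf⟩ : D ∣ 3 * (q ^ 2 - 1) := by
    rcases hD with h' | h'
    · exact Dvd.dvd.mul_left h' 3
    · exact h'.2
  have hD0 : 0 < D := hI.trans hID
  have hq2 : 0 < 3 * (q ^ 2 - 1) := by nlinarith
  have hf0 : 0 < f := pos_of_mul_pos_right (hf ▸ hq2) hD0.le
  have hk0 : 0 < k := pos_of_mul_pos_left (show 0 < k * q by rw [← hkD]; linarith) (by linarith)
  have hkK : k < K := by
    by_contra hle
    have : (K - k) * q ≤ 0 := mul_nonpos_of_nonpos_of_nonneg (by linarith [not_lt.1 hle]) (by linarith)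
    nlinarith [mul_pos hI (show (0 : ℤ) < 1 by norm_num)]
  obtain ⟨c, hfK⟩ : ∃ c, f * K = 3 * q + c := ⟨f * K - 3 * q, by ring⟩
  have hfk : f * k = 3 + q * c := by linear_combination f * hK + q * hfK + hf
  have hc0 : 0 ≤ c := by
    by_contra hc
    have : q * c ≤ q * (-1) := mul_le_mul_of_nonneg_left (by omega) (by linarith)
    nlinarith [mul_pos hf0 hk0]
  have hc2 : c ≤ 2 := by
    have h1 : f * k < f * K := mul_lt_mul_of_pos_left hkK hf0
    have h2 : (q - 1) * c < (q - 1) * 3 := by nlinarith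
    have := lt_of_mul_lt_mul_left h2 (by linarith)
    omega
  have hfodd : ¬ (2 : ℤ) ∣ f := fun h2 => by
    have : (2 : ℤ) ∣ 3 * (q ^ 2 - 1) := hf ▸ h2.mul_left D
    obtain ⟨r, hr⟩ := hqe
    obtain ⟨s, hs⟩ := this
    rw [hr] at hs
    ring_nf at hs
    omega
  have hfle : ∀ m : ℤ, 0 < m → f ∣ m → f ≤ m := fun m hm hd => Int.le_of_dvd hm hd
  have hne : q ^ 2 - 1 ≠ 0 := by nlinarith
  have hN : ∀ {J : ℤ}, (q * (q * u) - 1) * (q ^ 2 - 1) = (q ^ 3 + 1) * (q - 1) * J →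
      q * (q * u) - 1 = (q ^ 2 - q + 1) * J := fun {J} hJ =>
    mul_right_cancel₀ hne (by linear_combination hJ)
  have hN3 : ∀ {J : ℤ}, (q * (q * u) - 1) * (3 * (q ^ 2 - 1)) = (q ^ 3 + 1) * (q - 1) * J →
      3 * (q * (q * u) - 1) = (q ^ 2 - q + 1) * J := fun {J} hJ =>
    mul_right_cancel₀ hne (by linear_combination hJ)
  interval_cases c
  · have hf3 : f ∣ 3 := ⟨k, by linear_combination -hfk⟩
    have := hfle 3 (by norm_num) hf3
    interval_cases f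
    · exfalso
      have h3D : (3 : ℤ) ∣ D := ⟨q ^ 2 - 1, by linear_combination -hf⟩
      have h3I : (3 : ℤ) ∣ I := ⟨q ^ 2 - 1 - q, by linear_combination -hkD - hf - q * hfk⟩
      exact (by decide : ¬ IsUnit (3 : ℤ)) (hcop.isUnit_of_dvd' h3D h3I)
    · exact absurd hfodd (by norm_num)
    · left
      have hk1 : k = 1 := by omega
      have hDq : D = q ^ 2 - 1 := by linarith [hf]
      have hIq : I = q ^ 2 - q - 1 := by rw [hk1] at hkD; linarith
      refine ⟨hDq, hIq, ?_⟩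
      rw [hDq, hIq] at h
      exact mul_left_cancel₀ (show q ≠ 0 by linarith) (by linear_combination hN h)
  · have hf8 : f ∣ 8 := ⟨3 * k - K, by linear_combination hfK - 3 * hfk⟩
    have := hfle 8 (by norm_num) hf8
    interval_cases f <;> first
      | omega
      | skip
    right; right
    have hk1 : k = q + 3 := by linarith
    have hDq : D = 3 * (q ^ 2 - 1) := by linarith [hf]
    have hIq : I = 2 * q ^ 2 - 3 * q - 3 := by rw [hk1, hDq] at hkD; linarith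
    refine ⟨hDq, hIq, ?_⟩
    rw [hDq, hIq] at h
    exact mul_left_cancel₀ (show q ≠ 0 by linarith) (by linear_combination hN3 h)
  · have hf5 : f ∣ 5 := ⟨3 * k - 2 * K, by linear_combination 2 * hfK - 3 * hfk⟩
    have := hfle 5 (by norm_num) hf5
    interval_cases f <;> first
      | omega
      | skip
    · right; left
      have hk1 : k = 2 * q + 3 := by linarith
      have hDq : D = 3 * (q ^ 2 - 1) := by linarith [hf]
      have hIq : I = q ^ 2 - 3 * q - 3 := by rw [hk1, hDq] at hkD; linarith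
      refine ⟨hDq, hIq, ?_⟩
      rw [hDq, hIq] at h
      exact mul_left_cancel₀ (show q ≠ 0 by linarith) (by linear_combination hN3 h)
    · exfalso
      rcases hD with ⟨g, hg⟩ | ⟨h3, -⟩
      · have : D * 5 = D * (3 * g) := by rw [← hf]; linear_combination 3 * hg
        have := mul_left_cancel₀ hD0.ne' this
        omega
      · have h5 : (5 : ℤ) ∣ 2 * q + 3 := ⟨k, by linear_combination -hfk⟩
        rcases two_pow_mod_fifteen e with h15 | h15 | h15 | h15 <;>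
        · have h15' : q % 15 = ((2 ^ e % 15 : ℕ) : ℤ) := by rw [hq]; push_cast; rfl
          rw [h15] at h15'
          omega

/-- `q ^ 2` does not divide `t`; twice `q` only in the last case. -/
theorem not_sq_dvd {e : ℕ} (he : 2 ≤ e) {q D I t : ℤ} (hq : q = 2 ^ e) (hI : 0 < I) (hID : I < D)
    (hcop : IsCoprime D I) (hD : D ∣ q ^ 2 - 1 ∨ 3 ∣ q + 1 ∧ D ∣ 3 * (q ^ 2 - 1))
    (h : (q * t - 1) * D = (q ^ 3 + 1) * (q - 1) * I) :
    ¬ q ^ 2 ∣ t ∧ (2 * q ∣ t → 3 * t = q * (2 * q - 1) * (q - 2)) := by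
  have hq0 : q ≠ 0 := hq ▸ pow_ne_zero _ two_ne_zero
  have hqe : (4 : ℤ) ∣ q := by rw [hq]; exact (by norm_num : (4 : ℤ) = 2 ^ 2) ▸ pow_dvd_pow 2 he
  obtain ⟨r, hr⟩ := hqe
  have key : ∀ {m : ℤ}, m ∣ t → q ∣ m → ∀ w : ℤ,
      (t = q * w → m ∣ q * w) ∧ (3 * t = q * w → m ∣ q * w) := fun {m} hm _ w =>
    ⟨fun e => e ▸ hm, fun e => e ▸ hm.mul_left 3⟩
  constructor
  · intro hd
    have hqt : q ∣ t := (dvd_pow_self q two_ne_zero).trans hd
    rw [pow_two] at hd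
    rcases cube_cases he hq hI hID hcop hD h hqt with ⟨-, -, h'⟩ | ⟨-, -, h'⟩ | ⟨-, -, h'⟩
    · have h1 := (mul_dvd_mul_iff_left hq0).1 ((key hd (dvd_mul_right q q) _).1 h')
      rw [hr, show (4 * r - 1) ^ 2 = 4 * r * (4 * r - 2) + 1 by ring,
        dvd_add_right (dvd_mul_right _ _)] at h1
      have := Int.le_of_dvd (by norm_num) h1
      have : (4 : ℤ) ≤ 4 * r := hr ▸ hq ▸ (by norm_num : (4 : ℤ) = 2 ^ 2) ▸
        pow_le_pow_right₀ (by norm_num) he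
      omega
    · have h1 := (mul_dvd_mul_iff_left hq0).1 ((key hd (dvd_mul_right q q) _).2 h')
      rw [show q ^ 2 - 4 * q + 1 = q * (q - 4) + 1 by ring, dvd_add_right (dvd_mul_right _ _)] at h1
      have := Int.le_of_dvd (by norm_num) h1
      have : (4 : ℤ) ≤ q := hq ▸ (by norm_num : (4 : ℤ) = 2 ^ 2) ▸ pow_le_pow_right₀ (by norm_num) he
      omega
    · have h1 := (mul_dvd_mul_iff_left hq0).1 ((key hd (dvd_mul_right q q) _).2
        (h'.trans (mul_assoc _ _ _)))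
      rw [show (2 * q - 1) * (q - 2) = q * (2 * q - 5) + 2 by ring,
        dvd_add_right (dvd_mul_right _ _)] at h1
      have := Int.le_of_dvd (by norm_num) h1
      have : (4 : ℤ) ≤ q := hq ▸ (by norm_num : (4 : ℤ) = 2 ^ 2) ▸ pow_le_pow_right₀ (by norm_num) he
      omega
  · intro hd
    have hqt : q ∣ t := (dvd_mul_left q 2).trans hd
    rw [mul_comm 2 q] at hd
    rcases cube_cases he hq hI hID hcop hD h hqt with ⟨-, -, h'⟩ | ⟨-, -, h'⟩ | ⟨-, -, h'⟩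
    · have h1 := (mul_dvd_mul_iff_left hq0).1 ((key hd (dvd_mul_right q 2) _).1 h')
      rw [hr, show (4 * r - 1) ^ 2 = 2 * (8 * r * r - 4 * r) + 1 by ring] at h1
      omega
    · have h1 := (mul_dvd_mul_iff_left hq0).1 ((key hd (dvd_mul_right q 2) _).2 h')
      rw [hr, show (4 * r) ^ 2 - 4 * (4 * r) + 1 = 2 * (8 * r * r - 8 * r) + 1 by ring] at h1
      omega
    · exact h'

variable {G : Type u} [Group G] [Finite G]

namespace Ctx

variable (C : Ctx G)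

/-- `q` is a power of two. -/
theorem IsE.exists_card {v : G} {a : C.Pt} {E : Subgroup G} (hE : C.IsE v a E) :
    ∃ e : ℕ, Nat.card E = 2 ^ e := by
  haveI : Fact (Nat.Prime 2) := ⟨Nat.prime_two⟩
  exact IsPGroup.iff_card.1 (hE.isPGroup C)

/-- Without crossing members `t` is odd. -/
theorem Bad.exists_t_uncrossed {v : G} (hv : C.Bad v)
    (hf : ∀ v : G, orderOf v = 2 → ∃ c : C.Pt, v • c ≠ c) (hp : PairRank ↥(C.L v)) {a : C.Pt}
    (ha : v • a = a) {E : Subgroup G} (hE : C.IsE v a E)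
    (hQ : C.qn v a = Nat.card E ^ 2 ∨ C.qn v a = Nat.card E ^ 3) (h0 : C.Cross v a = ∅) :
    ∃ t : ℕ, Nat.card C.Pt = 1 + Nat.card E * C.qn v a * t ∧ Odd t := by
  obtain ⟨x, hx, hxv⟩ := C.exists_commute_at (mul_self_eq_one hv.1) ha
  have h1 := hv.count_of_cross_empty C hf hp ha (x := x) ⟨hx, hxv⟩ hE h0
  obtain ⟨hq4, -⟩ := hv.qn_cases C hp ha hE
  obtain ⟨e, he⟩ := hE.exists_card C
  have hev : Even (Nat.card E) := by
    rw [he]
    exact even_two.pow_of_ne_zero fun h => by rw [he, h, pow_zero] at hq4; omega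
  obtain ⟨c, hc⟩ : ∃ c, Nat.card E = c + 1 := ⟨Nat.card E - 1, by omega⟩
  obtain ⟨q', hQ'⟩ : ∃ q', C.qn v a = Nat.card E * q' ∧ Even q' := by
    rcases hQ with h | h
    · exact ⟨_, by rw [h, pow_two], hev⟩
    · exact ⟨_, by rw [h, pow_succ' _ 2], hev.pow_of_ne_zero two_ne_zero⟩
  refine ⟨1 + q' * c, ?_, ?_⟩
  · rw [h1, hQ'.1, hc, Nat.add_sub_cancel]; ring
  · exact odd_one.add_even (hQ'.2.mul_right c)

/-- For `Q = q ^ 2` with a crossing member `t` is twice an odd number. -/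
theorem Bad.exists_t_suzuki {v : G} (hv : C.Bad v)
    (hf : ∀ v : G, orderOf v = 2 → ∃ c : C.Pt, v • c ≠ c) (hp : PairRank ↥(C.L v)) {a b : C.Pt}
    {D : Subgroup G} (hM : C.MaxPair v a b D) {E : Subgroup G} (hE : C.IsE v a E)
    (hne : (C.Cross v a).Nonempty) (hQ : C.qn v a = Nat.card E ^ 2) :
    ∃ t : ℕ, Nat.card C.Pt = 1 + Nat.card E * C.qn v a * t ∧ t % 4 = 2 := by
  obtain ⟨m, hm, hq, hn, -⟩ := hv.suzuki_cross C hf hp hM hE hne hQ
  obtain ⟨c, hc⟩ := hf v hv.1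
  obtain ⟨w, hw, hwv⟩ := C.exists_swap_commute (mul_self_eq_one hv.1) (Ne.symm hc)
    (Or.inr ⟨rfl, by rw [smul_smul, mul_self_eq_one hv.1, one_smul]⟩)
  obtain ⟨p, hp'⟩ := C.exists_fix hw.1
  obtain ⟨i, t, -, -, -, ht, -⟩ := hv.cross_arith C hf hp hM hE hne hc ⟨hw, hwv⟩ hp'
  refine ⟨t, ht, ?_⟩
  rw [hQ] at ht
  have hl4 : (4 : ℤ) ∣ 2 ^ (m + 1) := (by norm_num : (4 : ℤ) = 2 ^ 2) ▸ pow_dvd_pow 2 (by omega)
  have hq8 : (4 : ℤ) ∣ (Nat.card E : ℤ) := by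
    rw [hq]; push_cast; exact (by norm_num : (4 : ℤ) = 2 ^ 2) ▸ pow_dvd_pow 2 (by omega)
  have hsq : (2 : ℤ) ^ (m + 1) * 2 ^ (m + 1) = 2 * (Nat.card E : ℤ) := by
    rw [hq, ← pow_add]; push_cast; rw [← pow_succ']; ring_nf
  have hq0 : (Nat.card E : ℤ) ≠ 0 := by
    have := Nat.card_pos (α := E); omega
  rw [ht] at hn
  push_cast at hn
  generalize (Nat.card E : ℤ) = q at *
  generalize (2 : ℤ) ^ (m + 1) = l at *
  have h1 : q * (t : ℤ) = q * (q * l - q - l + 2) := mul_left_cancel₀ (pow_ne_zero 2 hq0) (by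
    linear_combination hn + (q ^ 2) * (1 - q) * hsq)
  have h2 := mul_left_cancel₀ hq0 h1
  obtain ⟨q', rfl⟩ := hq8
  obtain ⟨l', rfl⟩ := hl4
  rw [show 4 * q' * (4 * l') - 4 * q' - 4 * l' + 2 = 4 * (4 * q' * l' - q' - l') + 2 by ring] at h2
  omega

/-- For `Q = q ^ 3` with a crossing member: `q ^ 2` does not divide `t`, twice `q` only in one case,
`q` only in three cases. -/
theorem Bad.exists_t_cube {v : G} (hv : C.Bad v)
    (hf : ∀ v : G, orderOf v = 2 → ∃ c : C.Pt, v • c ≠ c) (hp : PairRank ↥(C.L v)) {a b : C.Pt}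
    {D : Subgroup G} (hM : C.MaxPair v a b D) {E : Subgroup G} (hE : C.IsE v a E)
    (hne : (C.Cross v a).Nonempty) (hQ : C.qn v a = Nat.card E ^ 3) :
    ∃ t : ℕ, Nat.card C.Pt = 1 + Nat.card E * C.qn v a * t ∧ ¬ Nat.card E ^ 2 ∣ t ∧
      (2 * Nat.card E ∣ t →
        3 * (t : ℤ) = (Nat.card E : ℤ) * (2 * (Nat.card E : ℤ) - 1) * ((Nat.card E : ℤ) - 2)) ∧
      (Nat.card E ∣ t → (t : ℤ) = (Nat.card E : ℤ) * ((Nat.card E : ℤ) - 1) ^ 2 ∨
        3 * (t : ℤ) = (Nat.card E : ℤ) * ((Nat.card E : ℤ) ^ 2 - 4 * (Nat.card E : ℤ) + 1) ∨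
        3 * (t : ℤ) = (Nat.card E : ℤ) * (2 * (Nat.card E : ℤ) - 1) * ((Nat.card E : ℤ) - 2)) := by
  have ha := (hM.fix v hM.mem).1
  obtain ⟨hq4, -⟩ := hv.qn_cases C hp ha hE
  obtain ⟨e, he⟩ := hE.exists_card C
  have he2 : 2 ≤ e := by
    by_contra h
    rw [he] at hq4
    interval_cases e <;> omega
  obtain ⟨c, hc⟩ := hf v hv.1
  obtain ⟨w, hw, hwv⟩ := C.exists_swap_commute (mul_self_eq_one hv.1) (Ne.symm hc)
    (Or.inr ⟨rfl, by rw [smul_smul, mul_self_eq_one hv.1, one_smul]⟩)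
  obtain ⟨p, hp'⟩ := C.exists_fix hw.1
  obtain ⟨i, t, hi, hid, -, ht, h5, -, -⟩ := hv.cross_arith C hf hp hM hE hne hc ⟨hw, hwv⟩ hp'
  have hprime : ∀ r : ℕ, r.Prime → r ∣ C.dn v c p → r ∣ Nat.card E ^ 2 - 1 := fun r hr hrd =>
    hv.cube_orbit C hp ha hE hQ hc ⟨hw, hwv⟩ hp' hr hrd
  refine ⟨t, ht, ?_⟩
  rw [hQ] at h5
  push_cast at h5
  generalize C.dn v c p = d at *
  generalize Nat.card E = q at *
  obtain ⟨D, I, hcop, hd', hi'⟩ := Nat.exists_coprime d i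
  set g := Nat.gcd d i
  have hg0 : 0 < g := Nat.gcd_pos_of_pos_right _ hi
  have hID : I < D := Nat.lt_of_mul_lt_mul_right (hi' ▸ hd' ▸ hid : I * g < D * g)
  have hI0 : 0 < I := Nat.pos_of_mul_pos_right (hi' ▸ hi : 0 < I * g)
  have h6 : ((q : ℤ) * t - 1) * D = ((q : ℤ) ^ 3 + 1) * ((q : ℤ) - 1) * I := by
    rw [hd', hi'] at h5
    push_cast at h5
    exact mul_right_cancel₀ (show (g : ℤ) ≠ 0 by omega) (by linear_combination h5)
  have hcopZ : IsCoprime (D : ℤ) (I : ℤ) := Nat.isCoprime_iff_coprime.2 hcop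
  have hDN : D ∣ (q ^ 3 + 1) * (q - 1) := by
    refine hcop.dvd_of_dvd_mul_right ?_
    refine Int.natCast_dvd_natCast.1 ⟨(q : ℤ) * t - 1, ?_⟩
    push_cast [Nat.cast_sub (show 1 ≤ q by omega)]
    linear_combination -h6
  have hcases : (D : ℤ) ∣ (q : ℤ) ^ 2 - 1 ∨
      (3 : ℤ) ∣ (q : ℤ) + 1 ∧ (D : ℤ) ∣ 3 * ((q : ℤ) ^ 2 - 1) := by
    have hq1 : (((q ^ 2 - 1 : ℕ)) : ℤ) = (q : ℤ) ^ 2 - 1 := by
      rw [Nat.cast_sub (Nat.one_le_pow _ _ (by omega))]; push_cast; rfl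
    rcases dvd_of_primes hq4 hDN fun r hr hrD => hprime r hr (hd' ▸ hrD.mul_right g) with h | ⟨h3, h⟩
    · exact Or.inl (hq1 ▸ Int.natCast_dvd_natCast.2 h)
    · refine Or.inr ⟨?_, ?_⟩
      · exact_mod_cast h3
      · rw [← hq1]; exact_mod_cast h
  have heq : (q : ℤ) = 2 ^ e := by rw [he]; push_cast; rfl
  have hI0' : (0 : ℤ) < I := by exact_mod_cast hI0
  have hID' : (I : ℤ) < D := by exact_mod_cast hID
  obtain ⟨hsq, h2q⟩ := not_sq_dvd he2 heq hI0' hID' hcopZ hcases h6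
  refine ⟨fun h => hsq (by exact_mod_cast h), fun h => h2q (by exact_mod_cast h), fun h => ?_⟩
  rcases cube_cases he2 heq hI0' hID' hcopZ hcases h6 (by exact_mod_cast h) with
    ⟨-, -, h'⟩ | ⟨-, -, h'⟩ | ⟨-, -, h'⟩
  exacts [Or.inl h', Or.inr (Or.inl h'), Or.inr (Or.inr h')]

end Ctx

end CfsgLib.Criterion
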