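import Cfsg.Agent.Recog.RankOneSuzuki.Form
import Cfsg.Agent.Recog.RankOneSuzuki.Unitary
import Cfsg.Agent.Criterion.TypeModel
import Cfsg.Agent.SUThreeSylowAut.Semilinear
import Cfsg.Agent.AutPOm.Frobenius

/-!
# The strong embedding criterion: coordinates on a kernel of order `q ^ 3`

Modulo `Z` the kernel is the plane over the field of `Z`, the square is an anisotropic quadratic form
and the torus acts by scalars.  So an automorphism of the kernel is semilinear on `Z`: it carries the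
action of the torus on `Z` to itself.
-/

set_option autoImplicit false
set_option linter.style.haveILetI false
set_option linter.unusedSectionVars false

namespace CfsgLib.Recog.RankOneSuzuki

open MulAction CfsgLib.Recog.RankOne

variable {G Ω : Type*} [Group G] [MulAction G Ω] {a : Ω} {t : G} {Q : Subgroup G}

local notation "SL₂[" F "]" => Matrix.SpecialLinearGroup (Fin 2) F

namespace Chart

variable {S : Data a t Q} {F : Type} [Field F] [CharP F 2] (C : Chart S F) [Finite F] [Finite G]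

/-- The vector of an element of the kernel. -/
noncomputable def vec (y : G) : F × F :=
  open scoped Classical in if y ∈ S.Z then 0 else C.jv (C.ell y)

theorem vec_of_mem {y : G} (hy : y ∈ S.Z) : C.vec y = 0 := by rw [vec, if_pos hy]

theorem vec_of_not_mem {y : G} (hy : y ∉ S.Z) : C.vec y = C.jv (C.ell y) := by rw [vec, if_neg hy]

theorem jv_ne (l : SL₂[F]) : C.jv l ≠ 0 :=
  smul_ne_zero (C.cc_ne l) (app_ne_zero _ e1_ne)

theorem yy_ell {y : G} (hy : y ∈ Q) (hyZ : y ∉ S.Z) : C.yy (C.ell y) = y := C.yy_eq hy hyZ rfl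

theorem vec_yy (l : SL₂[F]) : C.vec (C.yy l) = C.jv l := by
  rw [C.vec_of_not_mem (C.yy_not_mem l), C.ell_yy]

theorem vec_eq_zero {y : G} : C.vec y = 0 ↔ y ∈ S.Z :=
  ⟨fun h => by_contra fun hyZ => C.jv_ne (C.ell y) (by rw [← C.vec_of_not_mem hyZ, h]), C.vec_of_mem⟩

theorem vec_Z_mul {y z : G} (hy : y ∈ Q) (hz : z ∈ S.Z) : C.vec (z * y) = C.vec y := by
  by_cases hyZ : y ∈ S.Z
  · rw [C.vec_of_mem hyZ, C.vec_of_mem (mul_mem hz hyZ)]
  · rw [C.vec_of_not_mem hyZ, C.vec_of_not_mem (C.not_mem_mul hyZ hz), C.ell_mul hy hyZ hz, C.jv_uni]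

theorem vec_inv {y : G} (hy : y ∈ Q) : C.vec y⁻¹ = C.vec y := by
  rw [C.inv_eq hy, C.vec_Z_mul hy (C.sq_mem y hy)]

variable {qf : F × F → F} (hq : IsForm qf)
  (hcc : ∀ l, C.cc l * qf (app l⁻¹ (1, 0)) = 1) (hθ : ∀ l, C.θ l = 1)
include hq hcc

theorem qf_jv (l : SL₂[F]) : qf (C.jv l) = C.cc l := by
  rw [jv, hq.smul, mul_assoc, hcc, mul_one]

theorem qf_vec {y : G} (hy : y ∈ Q) : qf (C.vec y) = C.zc (y * y) := by
  by_cases hyZ : y ∈ S.Z
  · rw [C.vec_of_mem hyZ, S.Z_sq hyZ]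
    have h0 : qf 0 = 0 := by
      have := hq.smul 0 0
      rwa [zero_smul, zero_mul, zero_mul] at this
    rw [h0]
    exact (uni_injective (C.X.el_inj (by rw [C.el_zc S.Z.one_mem, uni_zero, map_one]))).symm
  · rw [C.vec_of_not_mem hyZ, C.qf_jv hq hcc, cc, C.yy_ell hy hyZ]

theorem lowC_ne {l L : SL₂[F]} (h : br (C.jv l) (C.jv L) ≠ 0) : lowC l L ≠ 0 := fun e => h (by
  rw [jv, jv, br_smul_left, br_smul_right, br_comm, ← lowC_eq, e, mul_zero, mul_zero])

theorem eq_uni_mul_of_jv {l L : SL₂[F]} (h : C.jv l = C.jv L) : ∃ d, L = uni d * l := by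
  have hc : C.cc l = C.cc L := by rw [← C.qf_jv hq hcc, h, C.qf_jv hq hcc]
  have hw : app l⁻¹ (1, 0) = app L⁻¹ ((1, 0) : F × F) := by
    rw [jv, jv, ← hc] at h
    exact smul_right_injective _ (C.cc_ne l) h
  have hg : app (L * l⁻¹) ((1, 0) : F × F) = (1, 0) := by rw [app_mul, hw, app_app_inv]
  refine ⟨(app (L * l⁻¹) (0, 1)).1, ?_⟩
  have hb := br_app (L * l⁻¹) ((1, 0) : F × F) (0, 1)
  rw [hg] at hb
  simp [br] at hb
  rw [← inv_mul_cancel_right L l]
  congr 1
  refine ext_app ?_ ?_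
  · rw [hg]; simp [app_uni]
  · rw [app_uni]; ext
    · simp
    · simpa using hb

include hθ

theorem vec_mul_of_br {x y : G} (hx : x ∈ Q) (hy : y ∈ Q) (h : br (C.vec x) (C.vec y) ≠ 0) :
    C.vec (x * y) = C.vec x + C.vec y := by
  have hxZ : x ∉ S.Z := fun e => h (by rw [C.vec_of_mem e, br_zero_left])
  have hyZ : y ∉ S.Z := fun e => h (by rw [C.vec_of_mem e, br_zero_right])
  rw [C.vec_of_not_mem hxZ, C.vec_of_not_mem hyZ] at h ⊢
  have hl := C.lowC_ne hq hcc h
  conv_lhs => rw [← C.yy_ell hx hxZ, ← C.yy_ell hy hyZ, C.product_eq hθ _ _ hl]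
  rw [C.vec_yy, C.jv_mul hq hcc _ _ hl]

theorem vec_mul {x y : G} (hx : x ∈ Q) (hy : y ∈ Q) : C.vec (x * y) = C.vec x + C.vec y := by
  by_cases hxZ : x ∈ S.Z
  · rw [C.vec_Z_mul hy hxZ, C.vec_of_mem hxZ, zero_add]
  by_cases hyZ : y ∈ S.Z
  · rw [← S.central y hyZ x hx, C.vec_Z_mul hx hyZ, C.vec_of_mem hyZ, add_zero]
  by_cases h : br (C.vec x) (C.vec y) = 0
  · obtain ⟨c, hc⟩ := exists_smul_of_br (fun e => hxZ ((C.vec_eq_zero).1 e)) h
    by_cases hc1 : c = 1
    · rw [hc1, one_smul] at hc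
      rw [hc, CharTwo.add_self_eq_zero, C.vec_eq_zero]
      rw [C.vec_of_not_mem hxZ, C.vec_of_not_mem hyZ] at hc
      obtain ⟨d, hd⟩ := C.eq_uni_mul_of_jv hq hcc hc.symm
      have e : y = C.X.el (uni d) * x := by
        rw [← C.yy_ell hy hyZ, hd, C.yy_uni, C.yy_ell hx hxZ]
      rw [e, ← mul_assoc, ← S.central _ (C.el_uni_mem d) x hx, mul_assoc]
      exact mul_mem (C.el_uni_mem d) (C.sq_mem x hx)
    -- go through an independent element
    obtain ⟨w, hw, hxw⟩ : ∃ w ∈ Q, br (C.vec x) (C.vec w) ≠ 0 := by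
      have hx0 : C.vec x ≠ 0 := fun e => hxZ ((C.vec_eq_zero).1 e)
      obtain ⟨u, hu, hxu⟩ : ∃ u : F × F, u ≠ 0 ∧ br (C.vec x) u ≠ 0 := by
        by_cases h2 : (C.vec x).2 = 0
        · have h1 : (C.vec x).1 ≠ 0 := fun h1 => hx0 (Prod.ext h1 h2)
          exact ⟨_, e2_ne, by simp [br, h1]⟩
        · exact ⟨_, e1_ne, by simp [br, h2]⟩
      -- an element whose vector is a multiple of `u`
      obtain ⟨l, hl⟩ : ∃ l : SL₂[F], app l⁻¹ ((1, 0) : F × F) = u := by
        by_cases h1 : u.1 = 0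
        · have h2 : u.2 ≠ 0 := fun h2 => hu (Prod.ext h1 h2)
          refine ⟨(swp * dia u.2 h2)⁻¹, ?_⟩
          rw [inv_inv, app_mul, app_dia, app_swp]
          ext <;> simp [h1]
        · refine ⟨(swp * uni (u.2 / u.1) * swp * dia u.1 h1)⁻¹, ?_⟩
          rw [inv_inv, app_mul, app_dia, app_mul, app_swp, app_mul, app_uni, app_swp]
          ext <;> simp [div_mul_cancel₀ _ h1]
      refine ⟨C.yy l, C.yy_mem l, ?_⟩
      rw [C.vec_yy, jv, hl, br_smul_right]
      exact mul_ne_zero (C.cc_ne l) hxu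
    have h1 := C.vec_mul_of_br hq hcc hθ hx hw hxw
    have hwy : br (C.vec w⁻¹) (C.vec y) ≠ 0 := by
      rw [C.vec_inv hw, hc, br_smul_right, br_comm]
      exact mul_ne_zero (fun e => hyZ ((C.vec_eq_zero).1 (by rw [hc, e, zero_smul]))) hxw
    have h2 := C.vec_mul_of_br hq hcc hθ (inv_mem hw) hy hwy
    have hne : br (C.vec (x * w)) (C.vec (w⁻¹ * y)) ≠ 0 := by
      rw [h1, h2, C.vec_inv hw, br_add_left, br_add_right, br_add_right, hc, br_smul_right,
        br_smul_right, br_self, br_self, mul_zero, add_zero, zero_add, br_comm (C.vec w) (C.vec x)]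
      rw [show br (C.vec x) (C.vec w) + c * br (C.vec x) (C.vec w) =
        (1 + c) * br (C.vec x) (C.vec w) by ring]
      exact mul_ne_zero (fun e => hc1 (CharTwo.add_eq_zero.1 e).symm) hxw
    have h3 := C.vec_mul_of_br hq hcc hθ (mul_mem hx hw) (mul_mem (inv_mem hw) hy) hne
    rw [show x * w * (w⁻¹ * y) = x * y by group, h1, h2, C.vec_inv hw] at h3
    rw [h3, ← add_assoc, add_assoc (C.vec x) (C.vec w), CharTwo.add_self_eq_zero, add_zero]
  · exact C.vec_mul_of_br hq hcc hθ hx hy h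

omit hθ in
theorem vec_conj {y : G} (hy : y ∈ Q) {m : F} (hm : m ≠ 0) :
    C.vec (C.X.el (dia m hm) * y * (C.X.el (dia m hm))⁻¹) = m • C.vec y := by
  have hk : C.X.el (dia m hm) ∈ S.K := (C.X.mem_K _).2 ⟨_, rfl, m, hm, rfl⟩
  by_cases hyZ : y ∈ S.Z
  · rw [C.vec_of_mem hyZ, C.vec_of_mem (S.conj_Z hk hyZ), smul_zero]
  · rw [C.vec_of_not_mem hyZ, C.vec_of_not_mem (C.not_mem_conj hyZ hk), (C.ell_conj_dia hy hyZ hm).2,
      jv, jv, C.cc_dia hm, mul_inv_rev, app_mul, smul_smul]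
    have hd : app (dia m hm)⁻¹ ((1, 0) : F × F) = m⁻¹ • (1, 0) := by
      rw [show (dia m hm)⁻¹ = dia m⁻¹ (inv_ne_zero hm) from inv_eq_of_mul_eq_one_right
        (ext_app (by simp [app_mul, app_dia, app_one, hm]) (by simp [app_mul, app_dia, app_one, hm]))]
      simp [app_dia]
    rw [hd, app_smul, smul_smul]
    congr 1
    field_simp

theorem zc_comm {x y : G} (hx : x ∈ Q) (hy : y ∈ Q) (hZ : x * y * x⁻¹ * y⁻¹ ∈ S.Z) :
    C.zc (x * y * x⁻¹ * y⁻¹) = br (C.vec x) (C.vec y) := by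
  have hadd : ∀ {z w : G}, z ∈ S.Z → w ∈ S.Z → C.zc (z * w) = C.zc z + C.zc w := fun {z w} hz hw => by
    apply uni_injective
    apply C.X.el_inj
    rw [C.el_zc (mul_mem hz hw), ← uni_mul, map_mul, C.el_zc hz, C.el_zc hw]
  have e : x * y * (x * y) = (x * y * x⁻¹ * y⁻¹)⁻¹ * (x * x) * (y * y) := by
    have hcomm := S.central _ hZ
    have h' : y * x = (x * y * x⁻¹ * y⁻¹)⁻¹ * (x * y) := by group
    calc x * y * (x * y) = x * (y * x) * y := by group
      _ = x * ((x * y * x⁻¹ * y⁻¹)⁻¹ * (x * y)) * y := by rw [h']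
      _ = (x * y * x⁻¹ * y⁻¹)⁻¹ * x * (x * y) * y := by
          rw [← mul_assoc x, ← S.central _ (inv_mem hZ) x hx]
      _ = _ := by group
  have h1 := C.qf_vec hq hcc (mul_mem hx hy)
  rw [C.vec_mul hq hcc hθ hx hy, hq.add, e, hadd (mul_mem (inv_mem hZ) (C.sq_mem x hx)) (C.sq_mem y hy),
    hadd (inv_mem hZ) (C.sq_mem x hx), C.qf_vec hq hcc hx, C.qf_vec hq hcc hy, S.Z_inv hZ] at h1
  linear_combination -h1

end Chart

open CfsgLib.Unitary CfsgLib.AutPSU CfsgLib.Forms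

/-- Coordinates on a kernel of order `q ^ 3`: modulo `Z` it is the field with `q ^ 2` elements, the square is
the norm and the torus acts by the scalars of the fixed field. -/
structure UCoord (S : Data a t Q) (K : Type) [Field K] where
  /-- The coordinate modulo `Z`. -/
  w : G → K
  /-- The coordinate on `Z`. -/
  z : G → K
  card : Nat.card K = Nat.card S.Z ^ 2
  w_mul : ∀ x ∈ Q, ∀ y ∈ Q, w (x * y) = w x + w y
  w_Z : ∀ x ∈ Q, w x = 0 ↔ x ∈ S.Z
  w_surj : ∀ c, ∃ x ∈ Q, w x = c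
  z_mul : ∀ x ∈ S.Z, ∀ y ∈ S.Z, z (x * y) = z x + z y
  z_inj : Set.InjOn z S.Z
  z_fix : ∀ x ∈ S.Z, z x ^ Nat.card S.Z = z x
  z_surj : ∀ c, c ^ Nat.card S.Z = c → ∃ x ∈ S.Z, z x = c
  z_sq : ∀ y ∈ Q, z (y * y) = w y ^ (Nat.card S.Z + 1)
  exists_m : ∀ k ∈ S.K, ∃ m : K, m ≠ 0 ∧ m ^ Nat.card S.Z = m ∧
    ∀ y ∈ Q, w (k * y * k⁻¹) = m * w y
  exists_k : ∀ m : K, m ≠ 0 → m ^ Nat.card S.Z = m → ∃ k ∈ S.K,
    ∀ y ∈ Q, w (k * y * k⁻¹) = m * w y

/-- A finite field of characteristic two with a given quadratic extension by `X ^ 2 + X + c`. -/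
theorem exists_extension {F : Type} [Field F] [Finite F] [CharP F 2] {c : F}
    (hc : ∀ l : F, c ≠ l * l + l) :
    ∃ (K : Type) (_ : Field K) (_ : Finite K) (_ : CharP K 2) (j : F →+* K) (r : K),
      Nat.card K = Nat.card F ^ 2 ∧ r * r + r + j c = 0 ∧ ∀ x y : F, j x + j y * r = 0 → x = 0 ∧ y = 0 := by
  classical
  haveI := Fintype.ofFinite F
  let P : Polynomial F := Polynomial.X ^ 2 + Polynomial.X + Polynomial.C c
  have hdeg : P.natDegree = 2 := by simp only [P]; compute_degree!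
  have hirr : Irreducible P := by
    refine (Polynomial.irreducible_iff_roots_eq_zero_of_degree_le_three (by omega) (by omega)).2 ?_
    refine Multiset.eq_zero_of_forall_notMem fun l hl => ?_
    have he := (Polynomial.mem_roots'.1 hl).2
    simp only [P, Polynomial.IsRoot, Polynomial.eval_add, Polynomial.eval_pow, Polynomial.eval_X,
      Polynomial.eval_C] at he
    exact hc l (by linear_combination (CharTwo.add_eq_zero.1 he).symm)
  haveI := Fact.mk hirr
  have hmonic : P.Monic := by simp only [P]; monicity!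
  let pb := AdjoinRoot.powerBasis' hmonic
  haveI : Module.Finite F (AdjoinRoot P) := pb.finite
  haveI : Finite (AdjoinRoot P) := Module.finite_of_finite F
  haveI : CharP (AdjoinRoot P) 2 :=
    charP_of_injective_ringHom (AdjoinRoot.of P).injective 2
  have hcard : Nat.card (AdjoinRoot P) = Nat.card F ^ 2 := by
    rw [Module.natCard_eq_pow_finrank (K := F), pb.finrank, AdjoinRoot.powerBasis'_dim, hdeg]
  have hr : AdjoinRoot.root P * AdjoinRoot.root P + AdjoinRoot.root P + AdjoinRoot.of P c = 0 := by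
    have := AdjoinRoot.eval₂_root P
    rw [← pow_two]
    simpa only [P, Polynomial.eval₂_add, Polynomial.eval₂_X_pow, Polynomial.eval₂_X,
      Polynomial.eval₂_C] using this
  refine ⟨AdjoinRoot P, inferInstance, inferInstance, inferInstance, AdjoinRoot.of P, AdjoinRoot.root P,
    hcard, hr, fun x y h => ?_⟩
  by_cases hy : y = 0
  · rw [hy, map_zero, zero_mul, add_zero] at h
    exact ⟨(map_eq_zero _).1 h, hy⟩
  refine absurd ?_ (hc (x / y))
  have hy' : AdjoinRoot.of P y ≠ 0 := (map_ne_zero _).2 hy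
  have he : AdjoinRoot.of P (x / y) = AdjoinRoot.root P := by
    rw [map_div₀, div_eq_iff hy', mul_comm]
    exact CharTwo.add_eq_zero.1 h
  refine (AdjoinRoot.of P).injective ?_
  rw [map_add, map_mul, he]
  exact (CharTwo.add_eq_zero.1 hr).symm

namespace Data

variable (S : Data a t Q) [Finite G] [FaithfulSMul G Ω]

theorem exists_chart_form (hQ : Nat.card Q = Nat.card S.Z ^ 3) (hna : ∃ x ∈ Q, ∃ y ∈ Q, x * y ≠ y * x) :
    ∃ (F : Type) (_ : Field F) (_ : Finite F) (_ : CharP F 2) (C : Chart S F) (qf : F × F → F),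
      Nat.card F = Nat.card S.Z ∧ IsForm qf ∧ (∀ l, C.cc l * qf (app l⁻¹ (1, 0)) = 1) ∧
        ∀ l, C.θ l = 1 := by
  haveI := finite_points S.setup
  obtain ⟨F, _, _, _, n, X, hn, hF, hZ, hreg⟩ := S.exists_block (S.r_mem_Z_of_cube hQ hna)
  obtain ⟨C⟩ := S.exists_chart hn hF (by rw [hQ, hZ]) X (hreg hQ)
    (S.r_eq_s (S.r_mem_Z_of_cube hQ hna)) (S.sq_mem_Z hna)
  obtain ⟨qf, hq, hcc, hθ⟩ := C.exists_form hn (by rw [Nat.card_eq_fintype_card, hF])
  exact ⟨F, inferInstance, inferInstance, inferInstance, C, qf,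
    by rw [hZ, Nat.card_eq_fintype_card, hF], hq, hcc, hθ⟩

/-- **Coordinates exist.** -/
theorem exists_ucoord (hQ : Nat.card Q = Nat.card S.Z ^ 3) (hna : ∃ x ∈ Q, ∃ y ∈ Q, x * y ≠ y * x) :
    ∃ (K : Type) (_ : Field K) (_ : Finite K) (_ : CharP K 2), Nonempty (UCoord S K) := by
  obtain ⟨F, _, _, _, C, qf, hF, hq, hcc, hθ⟩ := S.exists_chart_form hQ hna
  haveI := Fintype.ofFinite F
  obtain ⟨e, f, he, hef, hc⟩ := exists_basis_form hq
  obtain ⟨K, _, _, _, j, r, hK, hr, hind⟩ := exists_extension hc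
  rw [hF] at hK
  set q := Nat.card S.Z with hqdef
  have hj : ∀ x : F, j x ^ q = j x := fun x => by
    rw [← map_pow, ← hF, Nat.card_eq_fintype_card, FiniteField.pow_card]
  have hrq : r ^ q = r + 1 := by
    have h1 : r ^ q * r ^ q + r ^ q + j (qf f) = 0 := by
      have := congrArg (fun x => x ^ q) hr
      simp only [add_pow_q hK, mul_pow, hj, zero_pow (q_ne_zero hK)] at this
      exact this
    have h2 : (r + r ^ q) * (r + r ^ q + 1) = 0 := by
      linear_combination hr + h1 + (r * r ^ q - j (qf f)) * CharTwo.two_eq_zero (R := K)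
    rcases mul_eq_zero.1 h2 with h | h
    · -- then every element would be fixed
      exfalso
      let g : F × F → {x : K // x ^ q = x} := fun v => ⟨j v.1 + j v.2 * r, by
        rw [add_pow_q hK, mul_pow, hj, hj, ← CharTwo.add_eq_zero.1 h]⟩
      have hg : Function.Injective g := fun v u h => by
        have := congrArg Subtype.val h
        simp only [g] at this
        obtain ⟨h1, h2⟩ := hind (v.1 + u.1) (v.2 + u.2) (by
          rw [map_add, map_add]
          linear_combination this + (j u.1 + j u.2 * r) * CharTwo.two_eq_zero (R := K))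
        exact Prod.ext (CharTwo.add_eq_zero.1 h1) (CharTwo.add_eq_zero.1 h2)
      have := Nat.card_le_card_of_injective g hg
      rw [CfsgLib.Invol.U3Center.card_fixed hK, Nat.card_prod, hF] at this
      have h4 := S.four_le
      rw [← hqdef] at h4
      nlinarith
    · rw [add_right_comm] at h
      exact (CharTwo.add_eq_zero.1 h).symm
  -- the norm is the form
  let emb : F × F → K := fun v => j v.1 + j v.2 * r
  have hN : ∀ v : F × F, j (qf (v.1 • e + v.2 • f)) = emb v ^ (q + 1) := fun v => by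
    rw [hq.add, hq.smul, hq.smul, br_smul_left, br_smul_right, he, hef, pow_succ, add_pow_q hK,
      mul_pow, hj, hj, hrq]
    simp only [map_add, map_mul, map_one]
    linear_combination -(j v.2 * j v.2) * hr - (j v.1 * j v.2 * r - j v.2 * j v.2 * j (qf f)) * CharTwo.two_eq_zero (R := K)
  let co : F × F → F × F := fun v => (br v f, br v e)
  have hco : ∀ v, v = (co v).1 • e + (co v).2 • f := fun v => by
    have h : ∀ w, br v w = br ((co v).1 • e + (co v).2 • f) w → True := fun _ _ => trivial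
    have hb : e.1 * f.2 + e.2 * f.1 = 1 := hef
    refine Prod.ext ?_ ?_
    · simp [co, br]
      linear_combination -v.1 * hb - (e.1 * f.1 * v.2) * CharTwo.two_eq_zero (R := F)
    · simp [co, br]
      linear_combination -v.2 * hb - (e.2 * f.2 * v.1) * CharTwo.two_eq_zero (R := F)
  have hco0 : ∀ v, co v = 0 → v = 0 := fun v h => by rw [hco v, h]; simp
  have hco_smul : ∀ (m : F) v, co (m • v) = m • co v := fun m v => by
    simp [co, br_smul_left, Prod.smul_mk]
  have hco_inv : ∀ v : F × F, co (v.1 • e + v.2 • f) = v := fun v => by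
    simp only [co, br_add_left, br_smul_left, hef, br_self, br_comm f e]
    simp
  let w : G → K := fun y => emb (co (C.vec y))
  let z : G → K := fun y => j (C.zc y)
  have hzadd : ∀ x ∈ S.Z, ∀ y ∈ S.Z, C.zc (x * y) = C.zc x + C.zc y := fun x hx y hy => by
    apply uni_injective
    apply C.X.el_inj
    rw [C.el_zc (mul_mem hx hy), ← uni_mul, map_mul, C.el_zc hx, C.el_zc hy]
  have hemb : Function.Bijective emb := by
    haveI := Fintype.ofFinite K
    have hinj : Function.Injective emb := fun v u h => by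
      simp only [emb] at h
      obtain ⟨h1, h2⟩ := hind (v.1 + u.1) (v.2 + u.2) (by
        rw [map_add, map_add]
        linear_combination h + (j u.1 + j u.2 * r) * CharTwo.two_eq_zero (R := K))
      exact Prod.ext (CharTwo.add_eq_zero.1 h1) (CharTwo.add_eq_zero.1 h2)
    refine hinj.bijective_of_nat_card_le (le_of_eq ?_)
    rw [hK, Nat.card_prod, hF, pow_two]
  have hrange : ∀ c : K, c ^ q = c → ∃ x : F, j x = c := by
    intro c hc
    let g : F → {x : K // x ^ q = x} := fun x => ⟨j x, hj x⟩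
    have hg : Function.Bijective g := by
      refine Function.Injective.bijective_of_nat_card_le (fun x y h => j.injective (congrArg Subtype.val h)) ?_
      rw [CfsgLib.Invol.U3Center.card_fixed hK, hF]
    obtain ⟨x, hx⟩ := hg.2 ⟨c, hc⟩
    exact ⟨x, congrArg Subtype.val hx⟩
  have hwmul : ∀ x ∈ Q, ∀ y ∈ Q, w (x * y) = w x + w y := fun x hx y hy => by
    simp only [w, emb, co]
    rw [C.vec_mul hq hcc hθ hx hy, br_add_left, br_add_left, map_add, map_add]
    ring
  have hw0 : ∀ x ∈ Q, w x = 0 ↔ x ∈ S.Z := fun x _ => by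
    rw [← C.vec_eq_zero]
    refine ⟨fun h => hco0 _ (hemb.1 (h.trans (by simp [emb]))), fun h => ?_⟩
    simp [w, h, emb, co]
  have hsurj : ∀ c, ∃ x ∈ Q, w x = c := by
    have hwinv : ∀ y ∈ Q, w y⁻¹ = w y := fun y hy => by simp only [w, C.vec_inv hy]
    let g : ↥Q ⧸ S.Z.subgroupOf Q → K := Quotient.lift (fun x : ↥Q => w x) fun x y hxy => by
      have h1 := (hw0 _ (mul_mem (inv_mem x.2) y.2)).2
        (Subgroup.mem_subgroupOf.1 (QuotientGroup.leftRel_apply.1 hxy))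
      rw [hwmul _ (inv_mem x.2) _ y.2, hwinv _ x.2] at h1
      exact CharTwo.add_eq_zero.1 h1
    have hg : Function.Injective g := by
      rintro ⟨x⟩ ⟨y⟩ h
      refine QuotientGroup.eq.2 (Subgroup.mem_subgroupOf.2 ((hw0 _ (mul_mem (inv_mem x.2) y.2)).1 ?_))
      rw [hwmul _ (inv_mem x.2) _ y.2, hwinv _ x.2, show w (x : G) = w (y : G) from h,
        CharTwo.add_self_eq_zero]
    intro c
    have hcard : Nat.card K ≤ Nat.card (↥Q ⧸ S.Z.subgroupOf Q) := by
      have h1 := (S.Z.subgroupOf Q).card_mul_index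
      rw [Nat.card_congr (Subgroup.subgroupOfEquivOfLe S.Z_le).toEquiv, hQ, Subgroup.index_eq_card] at h1
      rw [hK]
      refine le_of_eq (Nat.eq_of_mul_eq_mul_left (Nat.card_pos (α := ↥S.Z)) ?_)
      rw [h1, hqdef]; ring
    obtain ⟨⟨x⟩, hx⟩ := (hg.bijective_of_nat_card_le hcard).2 c
    exact ⟨x, x.2, hx⟩
  refine ⟨K, inferInstance, inferInstance, inferInstance, ⟨
    { w := w
      z := z
      card := hK
      w_mul := hwmul
      w_Z := hw0
      w_surj := hsurj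
      z_mul := fun x hx y hy => by simp only [z]; rw [hzadd x hx y hy, map_add]
      z_inj := fun x hx y hy h => by
        have h' : C.zc x = C.zc y := j.injective h
        rw [← C.el_zc hx, h', C.el_zc hy]
      z_fix := fun x _ => hj _
      z_surj := fun c hc => by
        obtain ⟨x, rfl⟩ := hrange c hc
        exact ⟨_, C.el_uni_mem x, by simp only [z, C.zc_el]⟩
      z_sq := fun y hy => by
        show j (C.zc (y * y)) = _
        rw [← C.qf_vec hq hcc hy]
        conv_lhs => rw [hco (C.vec y), hN]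
      exists_m := fun k hk => by
        obtain ⟨g, rfl, m, hm, hg⟩ := (C.X.mem_K k).1 hk
        obtain rfl : g = dia m hm := Subtype.ext hg
        refine ⟨j m, (map_ne_zero j).2 hm, hj m, fun y hy => ?_⟩
        simp only [w, emb, C.vec_conj hq hcc hy hm, hco_smul, Prod.smul_fst, Prod.smul_snd, smul_eq_mul,
          map_mul]
        ring
      exists_k := fun m hm hmq => by
        obtain ⟨x, rfl⟩ := hrange m hmq
        have hx : x ≠ 0 := fun e => hm (by rw [e, map_zero])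
        refine ⟨C.X.el (dia x hx), (C.X.mem_K _).2 ⟨dia x hx, rfl, x, hx, rfl⟩, fun y hy => ?_⟩
        simp only [w, emb, C.vec_conj hq hcc hy hx, hco_smul, Prod.smul_fst, Prod.smul_snd, smul_eq_mul,
          map_mul]
        ring }⟩⟩

end Data

namespace UCoord

variable {S : Data a t Q} {K : Type} [Field K] (U : UCoord S K) [Finite K] [CharP K 2]

include U

theorem w_one : U.w 1 = 0 := (U.w_Z 1 Q.one_mem).2 S.Z.one_mem

theorem w_inv {y : G} (hy : y ∈ Q) : U.w y⁻¹ = U.w y := by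
  have h := U.w_mul _ (inv_mem hy) _ hy
  rw [inv_mul_cancel, U.w_one] at h
  exact CharTwo.add_eq_zero.1 h.symm

theorem w_eq {x y : G} (hx : x ∈ Q) (hy : y ∈ Q) : U.w x = U.w y ↔ x⁻¹ * y ∈ S.Z := by
  rw [← U.w_Z _ (mul_mem (inv_mem hx) hy), U.w_mul _ (inv_mem hx) _ hy, U.w_inv hx]
  exact CharTwo.add_eq_zero.symm

theorem z_one : U.z 1 = 0 := by
  have := U.z_mul 1 S.Z.one_mem 1 S.Z.one_mem
  rwa [mul_one, left_eq_add] at this

theorem sq_mem {y : G} (hy : y ∈ Q) : y * y ∈ S.Z := by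
  rw [← U.w_Z _ (mul_mem hy hy), U.w_mul _ hy _ hy, CharTwo.add_self_eq_zero]

/-- Every element of `Z` is a square. -/
theorem exists_sq {x : G} (hx : x ∈ S.Z) : ∃ y ∈ Q, y * y = x := by
  obtain ⟨c, hc⟩ := exists_norm_eq U.card (U.z_fix x hx)
  obtain ⟨y, hy, rfl⟩ := U.w_surj c
  exact ⟨y, hy, U.z_inj (U.sq_mem hy) hx (by rw [U.z_sq y hy, hc])⟩

theorem commute_iff {x y : G} (hx : x ∈ Q) (hy : y ∈ Q) :
    Commute x y ↔ U.w x * U.w y ^ Nat.card S.Z + U.w y * U.w x ^ Nat.card S.Z = 0 := by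
  have hZ : x * y * x⁻¹ * y⁻¹ ∈ S.Z := by
    rw [show x * y * x⁻¹ * y⁻¹ = x * x * (x⁻¹ * y * (x⁻¹ * y)) * (y⁻¹ * y⁻¹) by group]
    exact mul_mem (mul_mem (U.sq_mem hx) (U.sq_mem (mul_mem (inv_mem hx) hy))) (U.sq_mem (inv_mem hy))
  have e : x * y * (x * y) = (x * y * x⁻¹ * y⁻¹)⁻¹ * (x * x) * (y * y) := by
    have h' : y * x = (x * y * x⁻¹ * y⁻¹)⁻¹ * (x * y) := by group
    calc x * y * (x * y) = x * (y * x) * y := by group
      _ = x * ((x * y * x⁻¹ * y⁻¹)⁻¹ * (x * y)) * y := by rw [h']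
      _ = (x * y * x⁻¹ * y⁻¹)⁻¹ * x * (x * y) * y := by
          rw [← mul_assoc x, ← S.central _ (inv_mem hZ) x hx]
      _ = _ := by group
  have h1 := U.z_sq _ (mul_mem hx hy)
  rw [U.w_mul x hx y hy, CfsgLib.Invol.U3Center.norm_add U.card, e,
    U.z_mul _ (mul_mem (inv_mem hZ) (U.sq_mem hx)) _ (U.sq_mem hy),
    U.z_mul _ (inv_mem hZ) _ (U.sq_mem hx), U.z_sq x hx, U.z_sq y hy, S.Z_inv hZ] at h1
  have hz : U.z (x * y * x⁻¹ * y⁻¹) =
      U.w x * U.w y ^ Nat.card S.Z + U.w y * U.w x ^ Nat.card S.Z := by linear_combination h1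
  rw [← hz, ← U.z_one]
  constructor
  · intro h
    rw [show x * y * x⁻¹ * y⁻¹ = 1 by rw [h.eq]; group]
  · intro h
    have h2 := U.z_inj hZ S.Z.one_mem h
    calc x * y = x * y * x⁻¹ * y⁻¹ * (y * x) := by group
      _ = y * x := by rw [h2, one_mul]

/-- The centraliser of an element outside `Z` has order `q ^ 2`. -/
theorem card_commute [Finite G] {x : G} (hx : x ∈ Q) (hxZ : x ∉ S.Z) :
    Nat.card {y : ↥Q // Commute x y} = Nat.card S.Z ^ 2 := by
  classical
  set q := Nat.card S.Z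
  have hx0 : U.w x ≠ 0 := fun h => hxZ ((U.w_Z x hx).1 h)
  let f : {y : ↥Q // Commute x y} → {c : K // c ^ q = c} := fun y => ⟨U.w y.1 / U.w x, by
    have h := (U.commute_iff hx y.1.2).1 y.2
    rw [div_pow, div_eq_div_iff (pow_ne_zero _ hx0) hx0]
    linear_combination h - (U.w y.1 * U.w x ^ q) * CharTwo.two_eq_zero (R := K)⟩
  choose s hs using U.w_surj
  have hf : ∀ c : {c : K // c ^ q = c}, Commute x (s (c.1 * U.w x)) := fun c =>
    (U.commute_iff hx (hs _).1).2 (by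
      rw [(hs _).2, mul_pow, c.2]
      linear_combination (U.w x * c.1 * U.w x ^ q) * CharTwo.two_eq_zero (R := K))
  let e : {y : ↥Q // Commute x y} ≃ {c : K // c ^ q = c} × S.Z :=
    { toFun := fun y => (f y, ⟨(s (U.w y.1))⁻¹ * y.1, (U.w_eq (hs _).1 y.1.2).1 (hs _).2⟩)
      invFun := fun p => ⟨⟨s (p.1.1 * U.w x) * p.2, mul_mem (hs _).1 (S.Z_le p.2.2)⟩,
        (hf p.1).mul_right (S.central _ p.2.2 x hx).symm⟩
      left_inv := fun y => by
        refine Subtype.ext (Subtype.ext ?_)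
        show s (U.w y.1 / U.w x * U.w x) * _ = _
        rw [div_mul_cancel₀ _ hx0, mul_inv_cancel_left]
      right_inv := fun p => by
        have hw : U.w (s (p.1.1 * U.w x) * p.2) = p.1.1 * U.w x := by
          rw [U.w_mul _ (hs _).1 _ (S.Z_le p.2.2), (hs _).2, (U.w_Z _ (S.Z_le p.2.2)).2 p.2.2, add_zero]
        refine Prod.ext (Subtype.ext ?_) (Subtype.ext ?_)
        · show U.w (s (p.1.1 * U.w x) * p.2) / U.w x = _
          rw [hw, mul_div_assoc, div_self hx0, mul_one]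
        · show (s (U.w (s (p.1.1 * U.w x) * p.2)))⁻¹ * (s (p.1.1 * U.w x) * p.2) = _
          rw [hw, inv_mul_cancel_left] }
  rw [Nat.card_congr e, Nat.card_prod, CfsgLib.Invol.U3Center.card_fixed U.card, pow_two]

/-- **Automorphisms are semilinear** in the coordinates. -/
theorem exists_semilinear (φ : ↥Q →* ↥Q) (hφ : Function.Injective φ) :
    ∃ (c : Kˣ) (σ : K ≃+* K), (∀ x : ↥Q, U.w (φ x) = c * σ (U.w x)) ∧
      ∀ x : ↥Q, (x : G) ∈ S.Z → U.z (φ x) = (c : K) ^ (Nat.card S.Z + 1) * σ (U.z x) := by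
  classical
  set q := Nat.card S.Z
  have hφZ : ∀ x : ↥Q, (x : G) ∈ S.Z → (φ x : G) ∈ S.Z := fun x hx => by
    refine (S.mem_Z _).2 ⟨(φ x).2, ?_⟩
    rw [← Subgroup.coe_mul, ← map_mul, show x * x = 1 from Subtype.ext (S.Z_sq hx), map_one,
      Subgroup.coe_one]
  have hdep : ∀ x y : ↥Q, U.w x = U.w y → U.w (φ x) = U.w (φ y) := fun x y h => by
    rw [U.w_eq (φ x).2 (φ y).2]
    have := hφZ (x⁻¹ * y) ((U.w_eq x.2 y.2).1 h)
    rwa [map_mul, map_inv] at this
  choose s hs using U.w_surj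
  let sec : K → ↥Q := fun c => ⟨s c, (hs c).1⟩
  let A : K →+ K := AddMonoidHom.mk' (fun c => U.w (φ (sec c))) fun c d => by
    rw [hdep (sec (c + d)) (sec c * sec d) (by
      show U.w (s (c + d)) = U.w (s c * s d)
      rw [U.w_mul _ (hs c).1 _ (hs d).1, (hs c).2, (hs d).2, (hs (c + d)).2]), map_mul]
    exact U.w_mul _ (φ _).2 _ (φ _).2
  have hA : ∀ x : ↥Q, U.w (φ x) = A (U.w x) := fun x => hdep _ _ (hs _).2.symm
  have hAinj : Function.Injective A := fun c d h => by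
    have h1 := (U.w_eq (φ (sec c)).2 (φ (sec d)).2).1 h
    have h2 : (((sec c)⁻¹ * sec d : ↥Q) : G) ∈ S.Z := by
      refine (S.mem_Z _).2 ⟨((sec c)⁻¹ * sec d).2, ?_⟩
      have h3 : φ ((sec c)⁻¹ * sec d * ((sec c)⁻¹ * sec d)) = 1 := by
        rw [map_mul, map_mul, map_inv]; exact Subtype.ext (S.Z_sq h1)
      exact congrArg Subtype.val (hφ (h3.trans (map_one φ).symm))
    rw [← (hs c).2, ← (hs d).2]
    exact (U.w_eq (hs c).1 (hs d).1).2 h2
  choose zs hzs using U.z_surj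
  let B : K → K := fun c => if h : c ^ q = c then U.z (φ ⟨zs c h, S.Z_le (hzs c h).1⟩) else 0
  have hBdef : ∀ c (h : c ^ q = c), B c = U.z (φ ⟨zs c h, S.Z_le (hzs c h).1⟩) := fun c h => dif_pos h
  have hB : ∀ x : ↥Q, (x : G) ∈ S.Z → U.z (φ x) = B (U.z x) := fun x hx => by
    rw [hBdef _ (U.z_fix _ hx)]
    conv_lhs => rw [show x = ⟨zs _ (U.z_fix _ hx), S.Z_le (hzs _ (U.z_fix _ hx)).1⟩ from
      Subtype.ext (U.z_inj hx (hzs _ (U.z_fix _ hx)).1 (hzs _ (U.z_fix _ hx)).2.symm)]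
  obtain ⟨c, σ, hσ⟩ := SUThreeSylowAut.exists_semilinear U.card A hAinj B
    (fun c d hc hd h => by
      rw [hBdef c hc, hBdef d hd] at h
      have := hφ (Subtype.ext (U.z_inj (hφZ _ (hzs c hc).1) (hφZ _ (hzs d hd).1) h) :
        φ ⟨zs c hc, S.Z_le (hzs c hc).1⟩ = φ ⟨zs d hd, S.Z_le (hzs d hd).1⟩)
      rw [← (hzs c hc).2, ← (hzs d hd).2]
      exact congrArg (fun x : ↥Q => U.z x) this)
    (fun c d hc hd => by
      have hcd : (⟨zs c hc, S.Z_le (hzs c hc).1⟩ * ⟨zs d hd, S.Z_le (hzs d hd).1⟩ : ↥Q).1 ∈ S.Z :=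
        mul_mem (hzs c hc).1 (hzs d hd).1
      have h := hB _ hcd
      rw [map_mul] at h
      simp only [Subgroup.coe_mul] at h
      rw [U.z_mul _ (hφZ _ (hzs c hc).1) _ (hφZ _ (hzs d hd).1), U.z_mul _ (hzs c hc).1 _ (hzs d hd).1,
        ← hBdef c hc, ← hBdef d hd] at h
      calc B (c + d) = B (U.z (zs c hc) + U.z (zs d hd)) := by rw [(hzs c hc).2, (hzs d hd).2]
        _ = B c + B d := h.symm)
    (fun v => by
      obtain ⟨y, hy, rfl⟩ := U.w_surj v
      have h := hB (⟨y, hy⟩ * ⟨y, hy⟩) (U.sq_mem hy)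
      rw [map_mul] at h
      simp only [Subgroup.coe_mul] at h
      rw [U.z_sq _ (φ ⟨y, hy⟩).2, U.z_sq y hy, hA] at h
      exact h)
  refine ⟨c, σ, fun x => by rw [hA, hσ], fun x hx => ?_⟩
  obtain ⟨y, hy, e⟩ := U.exists_sq hx
  rw [show x = ⟨y, hy⟩ * ⟨y, hy⟩ from Subtype.ext e.symm, map_mul]
  show U.z ((φ ⟨y, hy⟩ : G) * (φ ⟨y, hy⟩ : G)) = _ * σ (U.z (y * y))
  rw [U.z_sq _ (φ ⟨y, hy⟩).2, U.z_sq y hy, hA, hσ, mul_pow, map_pow]

end UCoord

/-- An element `σ` of the automorphism group fixing the fixed field of `x ↦ x ^ q` is `1` or `x ↦ x ^ q`. -/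
theorem eq_or_eq_frob_of_fix {K : Type*} [Field K] [Finite K] {q : ℕ} (hK : Nat.card K = q ^ 2)
    (σ : K ≃+* K) (hσ : ∀ c : K, c ^ q = c → σ c = c) (x : K) : σ x = x ∨ σ x = x ^ q := by
  have hs : (x + x ^ q) ^ q = x + x ^ q := by rw [add_pow_q hK, pow_q_q hK, add_comm]
  have hp : (x * x ^ q) ^ q = x * x ^ q := by rw [mul_pow, pow_q_q hK, mul_comm]
  have h1 := hσ _ hs
  have h2 := hσ _ hp
  rw [map_add] at h1
  rw [map_mul] at h2
  have : (σ x - x) * (σ x - x ^ q) = 0 := by linear_combination σ x * h1 - h2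
  rcases mul_eq_zero.1 this with h | h
  · exact Or.inl (sub_eq_zero.1 h)
  · exact Or.inr (sub_eq_zero.1 h)

namespace Data

variable (S : Data a t Q) [Finite G] [FaithfulSMul G Ω]

/-- An element of the two-point stabiliser centralising `Z` is fixed-point-free on `Q / Z`. -/
theorem fpf_of_centralizes_Z (hQ : Nat.card Q = Nat.card S.Z ^ 3)
    (hna : ∃ x ∈ Q, ∃ y ∈ Q, x * y ≠ y * x) {c : G}
    (hc : c ∈ stabilizer G a ⊓ stabilizer G (t • a)) (hcZ : ∀ z ∈ S.Z, c * z = z * c) (hc1 : c ≠ 1)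
    {x : G} (hx : x ∈ Q) (hfix : (c * x * c⁻¹)⁻¹ * x ∈ S.Z) : x ∈ S.Z := by
  obtain ⟨K, _, _, _, ⟨U⟩⟩ := S.exists_ucoord hQ hna
  by_contra hxZ
  set q := Nat.card S.Z
  have hconj : ∀ y ∈ Q, c * y * c⁻¹ ∈ Q := fun y hy => S.setup.conj_mem c hc.1 y hy
  obtain ⟨u, σ, hw, hz⟩ := U.exists_semilinear
    (MonoidHom.mk' (fun y : ↥Q => (⟨c * y * c⁻¹, hconj y y.2⟩ : ↥Q)) fun y y' => Subtype.ext (by simp))
    (fun y y' h => Subtype.ext (mul_left_cancel (mul_right_cancel (congrArg Subtype.val h))))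
  have hwv : ∀ y ∈ Q, U.w (c * y * c⁻¹) = u * σ (U.w y) := fun y hy => hw ⟨y, hy⟩
  have hzv : ∀ e, e ^ q = e → (u : K) ^ (q + 1) * σ e = e := fun e he => by
    obtain ⟨z, hzZ, rfl⟩ := U.z_surj e he
    have h := hz ⟨z, S.Z_le hzZ⟩ hzZ
    rw [← h]
    show U.z (c * z * c⁻¹) = U.z z
    rw [hcZ z hzZ, mul_inv_cancel_right]
  have hN : (u : K) ^ (q + 1) = 1 := by
    have := hzv 1 (one_pow q)
    rwa [map_one, mul_one] at this
  have hσfix : ∀ e, e ^ q = e → σ e = e := fun e he => by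
    have := hzv e he
    rwa [hN, one_mul] at this
  -- powers of `c`
  have hpow : ∀ k : ℕ, ∃ d : K, ∀ y ∈ Q, U.w (c ^ k * y * (c ^ k)⁻¹) = d * (σ ^ k) (U.w y) := by
    intro k
    induction k with
    | zero => exact ⟨1, fun y _ => by simp⟩
    | succ k ih =>
      obtain ⟨d, hd⟩ := ih
      refine ⟨u * σ d, fun y hy => ?_⟩
      have hm : c ^ k * y * (c ^ k)⁻¹ ∈ Q := S.setup.conj_mem _ (pow_mem hc.1 k) y hy
      rw [show c ^ (k + 1) * y * (c ^ (k + 1))⁻¹ = c * (c ^ k * y * (c ^ k)⁻¹) * c⁻¹ by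
        rw [pow_succ']; group, hwv _ hm, hd y hy, map_mul, ← mul_assoc, pow_succ']
      rfl
  have hodd : Odd (orderOf c) := S.setup.odd_card.of_dvd_nat (Subgroup.orderOf_dvd_natCard _ hc)
  have hσ1 : σ = 1 := by
    have hσ2 : σ ^ 2 = 1 := RingEquiv.ext fun e => by
      rw [pow_two]
      show σ (σ e) = e
      rcases eq_or_eq_frob_of_fix U.card σ hσfix e with h | h
      · rw [h, h]
      rcases eq_or_eq_frob_of_fix U.card σ hσfix (σ e) with h' | h'
      · rw [h']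
        exact σ.injective h'
      · rw [h', h, pow_q_q U.card]
    obtain ⟨d, hd⟩ := hpow (orderOf c)
    have hd1 : ∀ e, d * (σ ^ orderOf c) e = e := fun e => by
      obtain ⟨y, hy, rfl⟩ := U.w_surj e
      rw [← hd y hy, pow_orderOf_eq_one, inv_one, mul_one, one_mul]
    have : σ ^ orderOf c = 1 := RingEquiv.ext fun e => by
      have h1 := hd1 1
      rw [map_one, mul_one] at h1
      have h2 := hd1 e
      rwa [h1, one_mul] at h2
    obtain ⟨k, hk⟩ := hodd
    rwa [hk, pow_succ, pow_mul, hσ2, one_pow, one_mul] at this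
  have hu : (u : K) = 1 := by
    have h1 := (U.w_eq (hconj x hx) hx).2 hfix
    rw [hwv x hx, hσ1] at h1
    exact mul_right_cancel₀ (fun e => hxZ ((U.w_Z x hx).1 e)) (h1.trans (one_mul _).symm)
  refine hc1 ?_
  -- `c` centralises `Q`
  have hcQ : ∀ y ∈ Q, c * y * c⁻¹ = y := by
    intro y hy
    have h1 : U.w (c * y * c⁻¹) = U.w y := by rw [hwv y hy, hu, hσ1, one_mul]; rfl
    set e := y⁻¹ * (c * y * c⁻¹) with hedef
    have he : e ∈ S.Z := (U.w_eq hy (hconj y hy)).1 h1.symm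
    have hce : c * y * c⁻¹ = y * e := by rw [hedef]; group
    have hk : ∀ k : ℕ, c ^ k * y * (c ^ k)⁻¹ = y * e ^ k := by
      intro k
      induction k with
      | zero => simp
      | succ k ih =>
        rw [show c ^ (k + 1) * y * (c ^ (k + 1))⁻¹ = c * (c ^ k * y * (c ^ k)⁻¹) * c⁻¹ by
          rw [pow_succ']; group, ih, show c * (y * e ^ k) * c⁻¹ = c * y * c⁻¹ * (c * e ^ k * c⁻¹) by group,
          hce, hcZ _ (pow_mem he k), mul_inv_cancel_right, mul_assoc, ← pow_succ']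
    have h2 := hk (orderOf c)
    rw [pow_orderOf_eq_one, inv_one, mul_one, one_mul, left_eq_mul] at h2
    obtain ⟨k, hkk⟩ := hodd
    rw [hkk, pow_succ, pow_mul, sq, S.Z_sq he, one_pow, one_mul] at h2
    rw [hce, h2, mul_one]
  refine eq_of_smul_eq_smul (α := Ω) fun p => ?_
  rw [one_smul]
  by_cases hp : p = a
  · rw [hp]; exact hc.1
  obtain ⟨y, hy, rfl⟩ := exists_mem_smul S.setup hp
  rw [← mul_smul, show c * y = y * c by rw [← mul_inv_eq_iff_eq_mul]; exact hcQ y hy, mul_smul, hc.2]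

/-- **Some non-trivial element of the two-point stabiliser centralises `Z`.** -/
theorem exists_centralizes_Z (hQ : Nat.card Q = Nat.card S.Z ^ 3)
    (hna : ∃ x ∈ Q, ∃ y ∈ Q, x * y ≠ y * x) :
    ∃ c ∈ stabilizer G a ⊓ stabilizer G (t • a), c ≠ 1 ∧ ∀ z ∈ S.Z, c * z = z * c := by
  obtain ⟨F, _, _, _, C, qf, hF, hq, hcc, hθ⟩ := S.exists_chart_form hQ hna
  by_contra hno
  push Not at hno
  have hsplit : S.IsSplit := by
    intro y hy hy1
    by_cases hyZ : y ∈ S.Z
    · exact S.inK_Z hyZ hy1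
    refine ⟨C.gg (C.ell y), C.gg_mem _, C.hh (C.ell y), ?_, C.ff (C.ell y), C.ff_mem _, ?_⟩
    · set h := C.hh (C.ell y)
      have hh := C.hh_mem (C.ell y)
      have hτ : C.τB ⟨h, C.D_le_GB hh⟩ = 1 := by
        rw [← C.τD_eq]; exact hθ _
      obtain ⟨m, hm, hconj⟩ := C.exists_dia (γ := ⟨h, C.D_le_GB hh⟩) hh hτ
      simp only at hconj
      have hk : C.X.el (dia m hm) ∈ S.K := (C.X.mem_K _).2 ⟨_, rfl, m, hm, rfl⟩
      set c := (C.X.el (dia m hm))⁻¹ * h with hcdef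
      have hcD : c ∈ stabilizer G a ⊓ stabilizer G (t • a) := mul_mem (inv_mem (S.K_le hk)) hh
      have hcZ : ∀ z ∈ S.Z, c * z = z * c := fun z hz => by
        rw [← mul_inv_eq_iff_eq_mul]
        conv_lhs => rw [← C.el_zc hz, hcdef, show (C.X.el (dia m hm))⁻¹ * h * C.X.el (uni (C.zc z)) *
          ((C.X.el (dia m hm))⁻¹ * h)⁻¹ = (C.X.el (dia m hm))⁻¹ * (h * C.X.el (uni (C.zc z)) * h⁻¹) *
            C.X.el (dia m hm) by group, hconj, map_mul, map_mul, map_inv]
        rw [show (C.X.el (dia m hm))⁻¹ * (C.X.el (dia m hm) * C.X.el (uni (C.zc z)) *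
          (C.X.el (dia m hm))⁻¹) * C.X.el (dia m hm) = C.X.el (uni (C.zc z)) by group, C.el_zc hz]
      have hc1 : c = 1 := by
        by_contra hne
        obtain ⟨z, hz, hzne⟩ := hno c hcD hne
        exact hzne (hcZ z hz)
      rw [hcdef, inv_mul_eq_one] at hc1
      rwa [hc1] at hk
    · rw [← C.decomp_yy, C.yy_ell hy hyZ]
  have h4 := S.four_le
  rcases S.card_of_split hsplit with h | h <;> rw [hQ] at h
  · have := Nat.pow_right_injective (by omega) (h.trans (pow_one _).symm)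
    omega
  · have := Nat.pow_right_injective (by omega) h
    omega

/-- The centraliser in `Q` of an element outside `Z` has order `q ^ 2`. -/
theorem card_commute_of_cube (hQ : Nat.card Q = Nat.card S.Z ^ 3)
    (hna : ∃ x ∈ Q, ∃ y ∈ Q, x * y ≠ y * x) {x : G} (hx : x ∈ Q) (hxZ : x ∉ S.Z) :
    Nat.card {y : ↥Q // Commute x y} = Nat.card S.Z ^ 2 := by
  obtain ⟨K, _, _, _, ⟨U⟩⟩ := S.exists_ucoord hQ hna
  exact U.card_commute hx hxZ

/-- Every element of `Z` is a square in `Q`. -/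
theorem exists_sqrt_of_cube (hQ : Nat.card Q = Nat.card S.Z ^ 3)
    (hna : ∃ x ∈ Q, ∃ y ∈ Q, x * y ≠ y * x) {x : G} (hx : x ∈ S.Z) : ∃ y ∈ Q, y * y = x := by
  obtain ⟨K, _, _, _, ⟨U⟩⟩ := S.exists_ucoord hQ hna
  exact U.exists_sq hx

end Data

end CfsgLib.Recog.RankOneSuzuki

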