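import Cfsg.Agent.Criterion.TypeShift
import Cfsg.Agent.Criterion.TypeUnitary

/-!
# The strong embedding criterion: the largest 2-group in the quotient local group

`P ⊓ L_v` maps isomorphically onto the kernel of the rank one set-up of the local group modulo its odd
core, `E` onto its involutions, and the two-point stabiliser lifts to elements at `a`, `b` normalising
`P ⊓ L_v`.  Hence, for `Q = q ^ 2` and `Q = q ^ 3`, an element at `a`, `b` centralising `v` and acting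
trivially on `E` and modulo `E` fixes all fixed points of `v`.
-/

set_option autoImplicit false
set_option linter.style.haveILetI false
set_option linter.unusedSectionVars false

namespace CfsgLib.Recog.RankOneSuzuki

open MulAction CfsgLib.Recog.RankOne

variable {G Ω : Type*} [Group G] [MulAction G Ω] [Finite G] {a : Ω} {t : G} {Q : Subgroup G}

namespace Data

variable (S : Data a t Q)

include S in
/-- An element of 2-power order fixing `a` lies in `Q`. -/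
theorem mem_Q_of_two {x : G} {i : ℕ} (hx : x • a = a) (h : x ^ 2 ^ i = 1) : x ∈ Q := by
  obtain ⟨q, hq, d, hd, e⟩ := RankOne.exists_mul S.setup hx
  obtain ⟨q', hq', e'⟩ := Criterion.exists_mul_pow (T := Q) (S.setup.conj_mem d hd.1) hq (2 ^ i)
  rw [← e, h] at e'
  have h1 : d ^ 2 ^ i = 1 := by
    refine RankOne.eq_one_of_mem_D S.setup ?_ (pow_mem hd.2 _)
    rw [eq_inv_of_mul_eq_one_right e'.symm]
    exact inv_mem hq'
  rw [e, show d = 1 from CfsgLib.Bender.Consumers.eq_one_of_two_of_odd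
    (S.setup.odd_card.of_dvd_nat (Subgroup.orderOf_dvd_natCard _ hd)) h1, mul_one]
  exact hq

/-- A kernel larger than `Z` is not abelian. -/
theorem not_comm_of_lt [FaithfulSMul G Ω] (h : Nat.card S.Z < Nat.card Q) :
    ∃ x ∈ Q, ∃ y ∈ Q, x * y ≠ y * x := by
  by_contra hc
  push Not at hc
  exact absurd (Subgroup.card_le_of_le (S.le_Z_of_abelian hc)) (not_le.2 h)

/-- **A homomorphism of `Q / Z` to `Z` commuting with the two-point stabiliser is trivial**, for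
`|Q| = q ^ 2` and `|Q| = q ^ 3`. -/
theorem eq_one_of_equivariant [FaithfulSMul G Ω]
    (hQ : Nat.card Q = Nat.card S.Z ^ 2 ∨ Nat.card Q = Nat.card S.Z ^ 3) (f : G → G)
    (hfZ : ∀ x ∈ Q, f x ∈ S.Z) (hmul : ∀ x ∈ Q, ∀ y ∈ Q, f (x * y) = f x * f y)
    (hker : ∀ z ∈ S.Z, f z = 1)
    (heq : ∀ d ∈ stabilizer G a ⊓ stabilizer G (t • a), ∀ x ∈ Q, f (d * x * d⁻¹) = d * f x * d⁻¹)
    {x : G} (hx : x ∈ Q) : f x = 1 := by
  have hmulZ : ∀ {x z : G}, x ∈ Q → z ∈ S.Z → f (x * z) = f x := fun {x z} hx hz => by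
    rw [hmul x hx z (S.Z_le hz), hker z hz, mul_one]
  have h4 := S.four_le
  have hlt : Nat.card S.Z < Nat.card Q := by
    rcases hQ with h | h <;> rw [h]
    · nlinarith [Nat.pow_two (Nat.card S.Z)]
    · nlinarith [pow_succ (Nat.card S.Z) 2, Nat.pow_two (Nat.card S.Z)]
  have hna := S.not_comm_of_lt hlt
  rcases hQ with hcard | hcard
  · -- otherwise squaring would be additive
    by_contra hne
    have hxZ : x ∉ S.Z := fun h => hne (hker x h)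
    obtain ⟨k₀, hk₀, ek₀⟩ := S.trans (f x) (hfZ x hx) hne (x * x) (S.sq_mem_Z hna x hx)
      fun e => hxZ ((S.mem_Z x).2 ⟨hx, e⟩)
    have hsq : ∀ y ∈ Q, y * y = k₀⁻¹ * f y * k₀ := by
      intro y hy
      by_cases hyZ : y ∈ S.Z
      · rw [hker y hyZ, S.Z_sq hyZ, mul_one, inv_mul_cancel]
      obtain ⟨c, hc, hcy⟩ := S.exists_K_coset hcard hx hxZ hy hyZ
      have hy' : y = c * x * c⁻¹ * ((c * x * c⁻¹)⁻¹ * y) := by group
      have h1 : y * y = c * (x * x) * c⁻¹ := by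
        rw [hy', S.sq_mul_Z (S.conj_Q hc hx) hcy]; group
      have h2 : f y = c * f x * c⁻¹ := by
        conv_lhs => rw [hy', hmulZ (S.conj_Q hc hx) hcy, heq c (S.K_le hc) x hx]
      rw [h1, h2, ← ek₀]
      have h3 : k₀⁻¹ * c = c * k₀⁻¹ := S.K_comm (inv_mem hk₀) hc
      have h5 : c⁻¹ * k₀ = k₀ * c⁻¹ := S.K_comm (inv_mem hc) hk₀
      calc c * (k₀⁻¹ * f x * k₀) * c⁻¹ = c * k₀⁻¹ * f x * (k₀ * c⁻¹) := by group
        _ = k₀⁻¹ * c * f x * (c⁻¹ * k₀) := by rw [h3, h5]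
        _ = _ := by group
    obtain ⟨y, hy, w, hw, hyw⟩ := hna
    refine hyw ?_
    have h := hsq (y * w) (mul_mem hy hw)
    rw [hmul y hy w hw, show k₀⁻¹ * (f y * f w) * k₀ = k₀⁻¹ * f y * k₀ * (k₀⁻¹ * f w * k₀) by group,
      ← hsq y hy, ← hsq w hw, mul_assoc, mul_assoc, mul_left_cancel_iff, ← mul_assoc, ← mul_assoc,
      mul_right_cancel_iff] at h
    exact h.symm
  · obtain ⟨c, hc, hc1, hcZ⟩ := S.exists_centralizes_Z hcard hna
    have hcQ : ∀ y ∈ Q, c * y * c⁻¹ ∈ Q := fun y hy => S.setup.conj_mem c hc.1 y hy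
    have hfc : ∀ y ∈ Q, f (c * y * c⁻¹) = f y := fun y hy => by
      rw [heq c hc y hy, hcZ _ (hfZ y hy), mul_inv_cancel_right]
    set N := S.Z.subgroupOf Q with hN
    haveI : N.Normal := ⟨fun z hz g => by
      have e : g * z * g⁻¹ = z := mul_inv_eq_iff_eq_mul.2 (Subtype.ext (S.central _ hz g g.2).symm)
      rwa [e]⟩
    have hcZ' : ∀ z ∈ S.Z, c * z * c⁻¹ = z := fun z hz => by rw [hcZ z hz, mul_inv_cancel_right]
    let τ : ↥Q →* ↥Q ⧸ N :=
      (QuotientGroup.mk' N).comp (MonoidHom.mk' (fun y : ↥Q => (⟨c * y * c⁻¹, hcQ y y.2⟩ : ↥Q))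
        fun y y' => Subtype.ext (by simp))
    have hab : ∀ u w : ↥Q ⧸ N, Commute u w := fun u w => by
      obtain ⟨u, rfl⟩ := QuotientGroup.mk'_surjective N u
      obtain ⟨w, rfl⟩ := QuotientGroup.mk'_surjective N w
      refine mul_inv_eq_iff_eq_mul.1 (mul_inv_eq_one.1 ?_)
      rw [← map_inv, ← map_inv, ← map_mul, ← map_mul, ← map_mul]
      exact (QuotientGroup.eq_one_iff _).2 (S.comm_mem_Z hna u.2 w.2)
    let τ' : ↥Q ⧸ N →* ↥Q ⧸ N := QuotientGroup.lift N τ fun z hz => (QuotientGroup.eq_one_iff _).2 (by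
      show c * (z : G) * c⁻¹ ∈ S.Z
      rw [hcZ' (z : G) (by exact hz)]; exact hz)
    let h' : ↥Q ⧸ N → ↥Q ⧸ N := fun u => (τ' u)⁻¹ * u
    have hinj : Function.Injective h' := by
      intro u w e
      have h1 : τ' (w * u⁻¹) = w * u⁻¹ := by
        have e' : τ' w * (τ' u)⁻¹ = w * u⁻¹ := by
          have := congrArg (fun r => τ' w * r * u⁻¹) e
          simp only [h', mul_assoc, mul_inv_cancel, mul_one, mul_inv_cancel_left] at this
          exact this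
        rw [map_mul, map_inv, e']
      obtain ⟨r, hr⟩ := QuotientGroup.mk'_surjective N (w * u⁻¹)
      have hrZ : (r : G) ∈ S.Z := by
        refine S.fpf_of_centralizes_Z hcard hna hc hcZ hc1 r.2 ?_
        rw [← hr] at h1
        have h1' : (QuotientGroup.mk' N) ⟨c * r * c⁻¹, hcQ r r.2⟩ = QuotientGroup.mk' N r := h1
        have h2 : (⟨c * r * c⁻¹, hcQ r r.2⟩ : ↥Q)⁻¹ * r ∈ N := (QuotientGroup.eq).1 h1'
        exact h2
      rw [← hr] at h1
      have : w * u⁻¹ = 1 := hr ▸ (QuotientGroup.eq_one_iff r).2 hrZ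
      exact (mul_inv_eq_one.1 this).symm
    obtain ⟨u, hu⟩ := (Finite.injective_iff_surjective.1 hinj) (QuotientGroup.mk' N ⟨x, hx⟩)
    obtain ⟨y, rfl⟩ := QuotientGroup.mk'_surjective N u
    have hu' : QuotientGroup.mk' N ((⟨c * y * c⁻¹, hcQ y y.2⟩ : ↥Q)⁻¹ * y) =
        QuotientGroup.mk' N ⟨x, hx⟩ := by
      rw [map_mul, map_inv]; exact hu
    have hz := (QuotientGroup.eq).1 hu'
    set w : G := (c * y * c⁻¹)⁻¹ * y with hw
    have hwQ : w ∈ Q := mul_mem (inv_mem (hcQ y y.2)) y.2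
    have hfw : f w = 1 := by
      have h := hmul _ (hcQ y y.2) w hwQ
      rw [hw, mul_inv_cancel_left, hfc y y.2, left_eq_mul] at h
      exact h
    have hz' : w⁻¹ * x ∈ S.Z := hz
    rw [show x = w * (w⁻¹ * x) by group, hmulZ hwQ hz', hfw]

end Data

end CfsgLib.Recog.RankOneSuzuki

namespace CfsgLib.Criterion

open Subgroup CfsgLib.Invol CfsgLib.Bender

universe u

variable {G : Type u} [Group G] [Finite G]

namespace Ctx

variable (C : Ctx G)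

/-- The local group modulo its odd core. -/
abbrev LQ (v : G) : Type u := ↥(C.L v) ⧸ Cfsg.oddCore ↥(C.L v)

/-- The map onto the local group modulo its odd core. -/
abbrev toLQ (v : G) : ↥(C.L v) →* C.LQ v := QuotientGroup.mk' (Cfsg.oddCore ↥(C.L v))

/-- `P ⊓ L_v` inside the rank one set-up of the local group modulo its odd core. -/
structure Model (v : G) (a b : C.Pt) (E P : Subgroup G) where
  /-- The stabiliser of the point. -/
  K : Subgroup (C.LQ v)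
  /-- The swapper. -/
  t : C.LQ v
  /-- The kernel. -/
  T : Subgroup (C.LQ v)
  /-- The set-up. -/
  S : Recog.RankOneSuzuki.Data (((1 : C.LQ v) : C.LQ v ⧸ K)) t T
  faithful : FaithfulSMul (C.LQ v) (C.LQ v ⧸ K)
  card_T : Nat.card T = C.qn v a
  card_Z : Nat.card S.Z = Nat.card E
  /-- The isomorphism. -/
  pr : ↥(P ⊓ C.L v) ≃* ↥T
  pr_eq : ∀ s : ↥(P ⊓ C.L v), (pr s : C.LQ v) = C.toLQ v ⟨s, s.2.2⟩
  mem_Z : ∀ s : ↥(P ⊓ C.L v), (pr s : C.LQ v) ∈ S.Z ↔ (s : G) ∈ E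
  lift : ∀ k ∈ MulAction.stabilizer (C.LQ v) ((1 : C.LQ v) : C.LQ v ⧸ K) ⊓
      MulAction.stabilizer (C.LQ v) (t • ((1 : C.LQ v) : C.LQ v ⧸ K)),
    ∃ (y : G) (hy : y ∈ C.L v), y • a = a ∧ y • b = b ∧
      (∀ s ∈ P ⊓ C.L v, y * s * y⁻¹ ∈ P ⊓ C.L v) ∧ ∃ q ∈ T, C.toLQ v ⟨y, hy⟩ = q * k * q⁻¹
  odd_fix : ∀ (y : G) (_ : y ∈ C.L v), y • a = a → y • b = b → Odd (orderOf y)

namespace Typ

variable {C} {v : G} {a b : C.Pt} {D E P : Subgroup G} (H : C.Typ v a b D E P)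
include H

/-- A model exists. -/
theorem exists_model : Nonempty (C.Model v a b E P) := by
  classical
  haveI : Fact (Nat.Prime 2) := ⟨Nat.prime_two⟩
  obtain ⟨K, hfa, T, t, S, hT, hZ, hK⟩ := H.bad.exists_setup C H.hp H.va H.isE
  haveI := hfa
  set π := C.toLQ v
  let ι : C.LQ v ⧸ K := ((1 : C.LQ v) : C.LQ v ⧸ K)
  have hO : (Cfsg.oddCore ↥(C.L v)) ≤ C.LH v a := H.bad.oddCore_le_LH C H.hp H.va
  have hKiff : ∀ y : ↥(C.L v), π y • ι = ι ↔ (y : G) • a = a := fun y => by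
    rw [show (π y • ι = ι) ↔ π y ∈ K from StrongEmbed.smul_mk_one_iff, hK, ← mem_comap,
      comap_map_eq_self (by rw [QuotientGroup.ker_mk']; exact hO), C.mem_LH]
  have hOfix : ∀ o : ↥(C.L v), o ∈ (Cfsg.oddCore ↥(C.L v)) → ∀ c : C.Pt, v • c = c → (o : G) • c = c := fun o ho c hc => by
    rw [H.bad.oddCore_eq_fixKer C H.hp] at ho
    exact C.mem_fixKer.1 ho c hc
  have hmem : ∀ s : ↥(P ⊓ C.L v), π ⟨s, s.2.2⟩ ∈ T := fun s => by
    obtain ⟨i, hi⟩ := H.two ⟨(s : G), s.2.1⟩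
    refine S.mem_Q_of_two (i := i) ((hKiff _).2 (H.fix _ s.2.1).1) ?_
    rw [← map_pow, show (⟨(s : G), s.2.2⟩ : ↥(C.L v)) ^ 2 ^ i = 1 from Subtype.ext (by
      rw [coe_pow]; exact congrArg Subtype.val hi), map_one]
  let f : ↥(P ⊓ C.L v) →* ↥T :=
    MonoidHom.mk' (fun s => ⟨π ⟨s, s.2.2⟩, hmem s⟩) fun x y => Subtype.ext (π.map_mul ⟨x, x.2.2⟩ ⟨y, y.2.2⟩)
  have hker : ∀ s : ↥(P ⊓ C.L v), π ⟨s, s.2.2⟩ = 1 → (s : G) = 1 := fun s hs => by
    obtain ⟨i, hi⟩ := H.two ⟨(s : G), s.2.1⟩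
    refine H.bad.eq_one_of_mem_Om C (i := i) (C.mem_Om.2 ⟨s.2.2, ?_⟩) (congrArg Subtype.val hi)
    exact hOfix ⟨s, s.2.2⟩ ((QuotientGroup.eq_one_iff _).1 hs)
  have hinj : Function.Injective f :=
    (injective_iff_map_eq_one f).2 fun s hs => Subtype.ext (hker s (congrArg Subtype.val hs))
  have hbij : Function.Bijective f := hinj.bijective_of_nat_card_le (by rw [H.card_S, hT])
  -- the further point
  obtain ⟨l, hl, hlb⟩ := C.exists_mem_L_move H.bad H.va H.vb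
  have hl1 : π ⟨l, hl⟩ • ι ≠ ι := fun e => H.ne (hlb ▸ (hKiff ⟨l, hl⟩).1 e)
  obtain ⟨q₀, hq₀, eq₀⟩ := Recog.RankOne.exists_mem_smul S.setup hl1
  have hfix : ∀ y : ↥(C.L v), π y • π ⟨l, hl⟩ • ι = π ⟨l, hl⟩ • ι ↔ (y : G) • b = b := fun y => by
    rw [← inv_smul_eq_iff, ← map_inv, smul_smul, smul_smul, ← map_mul, ← map_mul, hKiff]
    show (l⁻¹ * (y : G) * l) • a = a ↔ _
    rw [mul_smul, mul_smul, hlb, inv_smul_eq_iff, hlb]
  have hodd : ∀ (y : G) (_ : y ∈ C.L v), y • a = a → y • b = b → Odd (orderOf y) := by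
    intro y hy hya hyb
    have h1 : q₀⁻¹ * π ⟨y, hy⟩ * q₀ ∈ MulAction.stabilizer (C.LQ v) ι ⊓
        MulAction.stabilizer (C.LQ v) (t • ι) := by
      constructor
      · show (q₀⁻¹ * π ⟨y, hy⟩ * q₀) • ι = ι
        rw [mul_smul, mul_smul, S.setup.le hq₀, (hKiff _).2 hya, inv_smul_eq_iff, S.setup.le hq₀]
      · show (q₀⁻¹ * π ⟨y, hy⟩ * q₀) • t • ι = t • ι
        rw [mul_smul, mul_smul, eq₀, (hfix ⟨y, hy⟩).2 hyb, inv_smul_eq_iff, eq₀]
    have h2 := S.setup.odd_card.of_dvd_nat (Subgroup.orderOf_dvd_natCard _ h1)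
    rw [show q₀⁻¹ * π ⟨y, hy⟩ * q₀ = q₀⁻¹ * π ⟨y, hy⟩ * q₀⁻¹⁻¹ by rw [inv_inv], orderOf_conj_eq] at h2
    have h3 : (⟨y, hy⟩ : ↥(C.L v)) ^ orderOf (π ⟨y, hy⟩) ∈ (Cfsg.oddCore ↥(C.L v)) :=
      (QuotientGroup.eq_one_iff _).1 (show π (_ ^ _) = 1 by rw [map_pow, pow_orderOf_eq_one])
    have h4 := IsoApps.odd_of_mem_oddCore h3
    rw [← Subgroup.orderOf_coe, coe_pow] at h4
    refine (h2.mul h4).of_dvd_nat (orderOf_dvd_of_pow_eq_one ?_)
    rw [pow_mul, pow_orderOf_eq_one]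
  refine ⟨⟨K, t, T, S, hfa, hT, hZ, MulEquiv.ofBijective f hbij, fun s => rfl, fun s => ?_, ?_, hodd⟩⟩
  · show π ⟨s, s.2.2⟩ ∈ S.Z ↔ _
    rw [S.mem_Z]
    constructor
    · rintro ⟨-, h⟩
      refine H.mem_E_of_sq s.2 ?_
      rw [← map_mul] at h
      exact hker (s * s) h
    · intro hs
      refine ⟨hmem s, ?_⟩
      rw [← map_mul, show (⟨(s : G), s.2.2⟩ : ↥(C.L v)) * ⟨s, s.2.2⟩ = 1 from
        Subtype.ext (H.isE.mul_self C hs), map_one]
  intro k hk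
  obtain ⟨y₀, hy₀⟩ := QuotientGroup.mk'_surjective (Cfsg.oddCore ↥(C.L v)) (q₀ * k * q₀⁻¹)
  have hπy : π y₀ = q₀ * k * q₀⁻¹ := hy₀
  have hy₀a : (y₀ : G) • a = a := (hKiff y₀).1 (by
    rw [hπy, mul_smul, mul_smul, inv_smul_eq_iff.2 (S.setup.le hq₀).symm, hk.1, S.setup.le hq₀])
  have hy₀b : (y₀ : G) • b = b := (hfix y₀).1 (by
    rw [hπy, ← eq₀, mul_smul, mul_smul, inv_smul_smul, hk.2])
  -- Frattini in the preimage of `T`
  set M := T.comap π with hMdef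
  set SL := (P ⊓ C.L v).subgroupOf (C.L v) with hSL
  have hSLM : SL ≤ M := fun y hy => hmem ⟨y, hy⟩
  have hOM : (Cfsg.oddCore ↥(C.L v)) ≤ M := fun o ho => show π o ∈ T by
    rw [show π o = 1 from (QuotientGroup.eq_one_iff o).2 ho]; exact one_mem _
  have hcM : Nat.card M = Nat.card (Cfsg.oddCore ↥(C.L v)) * Nat.card T := by
    rw [← ((Cfsg.oddCore ↥(C.L v)).subgroupOf M).card_mul_index, Nat.card_congr (subgroupOfEquivOfLe hOM).toEquiv]
    congr 1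
    have h := (π.comp M.subtype).ker.index_ne_zero_of_finite
    have e1 : (Cfsg.oddCore ↥(C.L v)).subgroupOf M = (π.comp M.subtype).ker := by
      rw [← MonoidHom.comap_ker, QuotientGroup.ker_mk']; rfl
    rw [e1, index_ker, MonoidHom.range_comp, range_subtype, map_comap_eq_self]
    rw [MonoidHom.range_eq_top.2 (QuotientGroup.mk'_surjective (Cfsg.oddCore ↥(C.L v)))]
    exact le_top
  have hOodd : Odd (Nat.card (Cfsg.oddCore ↥(C.L v))) := by
    rw [H.bad.oddCore_eq_fixKer C H.hp]; exact H.bad.odd_fixKer C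
  obtain ⟨e, he⟩ := IsPGroup.iff_card.1 S.isPGroup_Q
  have hsylcard : ∀ R : Sylow 2 ↥M, Nat.card R = Nat.card T := fun R => by
    rw [Sylow.card_eq_multiplicity, he]
    congr 1
    rw [hcM, he, Nat.factorization_mul Nat.card_pos.ne' (by positivity), Finsupp.add_apply,
      Nat.factorization_eq_zero_of_not_dvd hOodd.not_two_dvd_nat, zero_add,
      Nat.Prime.factorization_pow Nat.prime_two, Finsupp.single_eq_same]
  have hSLcard : Nat.card SL = Nat.card T :=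
    ((Nat.card_congr (subgroupOfEquivOfLe (inf_le_right : P ⊓ C.L v ≤ C.L v)).toEquiv).trans H.card_S).trans
      hT.symm
  let c₀ := (MulAut.conj y₀).toMonoidHom
  have hSL'M : SL.map c₀ ≤ M := by
    rintro _ ⟨y, hy, rfl⟩
    show π (y₀ * y * y₀⁻¹) ∈ T
    rw [map_mul, map_mul, map_inv, hπy]
    exact S.setup.conj_mem _ (by
      show (q₀ * k * q₀⁻¹) • ι = ι
      rw [mul_smul, mul_smul, inv_smul_eq_iff.2 (S.setup.le hq₀).symm, hk.1, S.setup.le hq₀]) _ (hSLM hy)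
  have hSL2 : IsPGroup 2 SL := (H.two.to_le inf_le_left).comap_of_injective _ (C.L v).subtype_injective
  have hsyl : ∀ Y : Subgroup ↥(C.L v), Y ≤ M → IsPGroup 2 Y → Nat.card Y = Nat.card T →
      ∃ R : Sylow 2 ↥M, (R : Subgroup ↥M) = Y.subgroupOf M := fun Y hY hY2 hYc => by
    obtain ⟨R, hR⟩ := (hY2.of_equiv (subgroupOfEquivOfLe hY).symm).exists_le_sylow
    exact ⟨R, (eq_of_le_of_card_ge hR (by
      rw [hsylcard R, Nat.card_congr (subgroupOfEquivOfLe hY).toEquiv, hYc])).symm⟩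
  obtain ⟨R₁, hR₁⟩ := hsyl _ hSLM hSL2 hSLcard
  obtain ⟨R₂, hR₂⟩ := hsyl _ hSL'M (hSL2.map _)
    ((card_map_of_injective (MulAut.conj y₀).injective).trans hSLcard)
  obtain ⟨m, hm⟩ := MulAction.exists_smul_eq ↥M R₂ R₁
  obtain ⟨⟨s, hs⟩, hsm⟩ := hbij.2 ⟨π m, m.2⟩
  set o : ↥(C.L v) := ⟨s, hs.2⟩⁻¹ * (m : ↥(C.L v)) with ho
  have hoO : o ∈ (Cfsg.oddCore ↥(C.L v)) := (QuotientGroup.eq_one_iff o).1 (show π o = 1 by
    rw [ho, map_mul, map_inv, show π ⟨s, hs.2⟩ = π m from congrArg Subtype.val hsm, inv_mul_cancel])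
  refine ⟨(o * y₀ : ↥(C.L v)), (o * y₀).2, ?_, ?_, fun x hx => ?_, q₀, hq₀, ?_⟩
  · rw [coe_mul, mul_smul, hy₀a, hOfix o hoO a H.va]
  · rw [coe_mul, mul_smul, hy₀b, hOfix o hoO b H.vb]
  · have hy : (⟨x, hx.2⟩ : ↥(C.L v)) ∈ SL := hx
    have h1 : m * ⟨y₀ * ⟨x, hx.2⟩ * y₀⁻¹, hSL'M ⟨_, hy, rfl⟩⟩ * m⁻¹ ∈ (R₁ : Subgroup ↥M) := by
      rw [← hm, Sylow.coe_subgroup_smul]
      refine Subgroup.smul_mem_pointwise_smul _ (MulAut.conj m) _ ?_
      rw [hR₂]; exact ⟨_, hy, rfl⟩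
    rw [hR₁] at h1
    have h2 : ((m : ↥(C.L v)) : G) * ((y₀ : G) * x * (y₀ : G)⁻¹) * ((m : ↥(C.L v)) : G)⁻¹ ∈ P ⊓ C.L v := h1
    rw [show ((o * y₀ : ↥(C.L v)) : G) * x * ((o * y₀ : ↥(C.L v)) : G)⁻¹ =
      s⁻¹ * (((m : ↥(C.L v)) : G) * ((y₀ : G) * x * (y₀ : G)⁻¹) * ((m : ↥(C.L v)) : G)⁻¹) * s by
        rw [ho]; push_cast; group]
    exact mul_mem (mul_mem (inv_mem hs) h2) hs
  · show π (o * y₀) = _
    rw [map_mul, show π o = 1 from (QuotientGroup.eq_one_iff o).2 hoO, one_mul, hπy]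

/-- `P` normalises `P ⊓ L_v`. -/
theorem conj_S {g : G} (hg : g ∈ P) {s : G} (hs : s ∈ P ⊓ C.L v) : g * s * g⁻¹ ∈ P ⊓ C.L v :=
  mem_inf.2 ⟨mul_mem (mul_mem hg (mem_inf.1 hs).1) (inv_mem hg),
    C.conj_mem_L_of_commute (H.fix g hg).2 (mem_inf.1 hs).2⟩

/-- Elements of `E` commute with `P ⊓ L_v`. -/
theorem commute_E {s e : G} (hs : s ∈ P ⊓ C.L v) (he : e ∈ E) : Commute e s := by
  obtain ⟨Md⟩ := H.exists_model
  have h := Md.S.central _ ((Md.mem_Z ⟨e, H.E_le_S he⟩).2 he) _ (Md.pr ⟨s, hs⟩).2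
  exact congrArg Subtype.val (Md.pr.injective (a₁ := ⟨e, H.E_le_S he⟩ * ⟨s, hs⟩)
    (a₂ := ⟨s, hs⟩ * ⟨e, H.E_le_S he⟩) (Subtype.ext (by rw [map_mul, map_mul]; exact h)))

/-- Squares and commutators of `P ⊓ L_v` lie in `E`. -/
theorem sq_mem_E (hQ : C.qn v a = Nat.card E ^ 2 ∨ C.qn v a = Nat.card E ^ 3) {s s' : G}
    (hs : s ∈ P ⊓ C.L v) (hs' : s' ∈ P ⊓ C.L v) : s * s ∈ E ∧ s * s' * s⁻¹ * s'⁻¹ ∈ E := by
  obtain ⟨Md⟩ := H.exists_model
  haveI := Md.faithful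
  have h4 := Md.S.four_le
  have hlt : Nat.card Md.S.Z < Nat.card Md.T := by
    rw [Md.card_Z] at h4
    rw [Md.card_T, Md.card_Z]
    rcases hQ with h | h <;> rw [h] <;>
      nlinarith [Nat.pow_two (Nat.card E), pow_succ (Nat.card E) 2]
  have hna := Md.S.not_comm_of_lt hlt
  set x : ↥(P ⊓ C.L v) := ⟨s, hs⟩
  set x' : ↥(P ⊓ C.L v) := ⟨s', hs'⟩
  constructor
  · refine (Md.mem_Z (x * x)).1 ?_
    rw [map_mul]
    exact Md.S.sq_mem_Z hna _ (Md.pr x).2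
  · refine (Md.mem_Z (x * x' * x⁻¹ * x'⁻¹)).1 ?_
    rw [map_mul, map_mul, map_mul, map_inv, map_inv]
    exact Md.S.comm_mem_Z hna (Md.pr x).2 (Md.pr x').2

/-- **The kernel lemma**: an element at `a`, `b` centralising `v` and acting trivially on `E` and on
`(P ⊓ L_v) / E` fixes all fixed points of `v`. -/
theorem kernel_of_trivial (hQ : C.qn v a = Nat.card E ^ 2 ∨ C.qn v a = Nat.card E ^ 3) {g : G}
    (hga : g • a = a) (hgb : g • b = b) (hgv : Commute g v) (hgE : ∀ e ∈ E, Commute g e)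
    (htriv : ∀ s ∈ P ⊓ C.L v, s⁻¹ * (g * s * g⁻¹) ∈ E) {c : C.Pt} (hc : v • c = c) : g • c = c := by
  obtain ⟨Md⟩ := H.exists_model
  haveI := Md.faithful
  set π := C.toLQ v
  have hsE : ∀ {s e : G}, s ∈ P ⊓ C.L v → e ∈ E → s * e = e * s := fun hs he => (H.commute_E hs he).eq.symm
  set ζ : G → G := fun s => s⁻¹ * (g * s * g⁻¹) with hζ
  have hζmul : ∀ s ∈ P ⊓ C.L v, ∀ s' ∈ P ⊓ C.L v, ζ (s * s') = ζ s * ζ s' := by
    intro s hs s' hs'
    calc ζ (s * s') = s'⁻¹ * ζ s * (g * s' * g⁻¹) := by simp only [hζ]; group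
      _ = ζ s * s'⁻¹ * (g * s' * g⁻¹) := by rw [hsE (inv_mem hs') (htriv s hs)]
      _ = _ := by simp only [hζ]; group
  have hζE : ∀ e ∈ E, ζ e = 1 := fun e he => by
    show e⁻¹ * (g * e * g⁻¹) = 1
    rw [(hgE e he).eq, mul_inv_cancel_right, inv_mul_cancel]
  have hEconj : ∀ {y e : G}, (∀ s ∈ P ⊓ C.L v, y * s * y⁻¹ ∈ P ⊓ C.L v) → e ∈ E →
      y * e * y⁻¹ ∈ E := fun {y e} hy he => H.mem_E_of_sq (hy e (H.E_le_S he)) (by
    rw [show y * e * y⁻¹ * (y * e * y⁻¹) = y * (e * e) * y⁻¹ by group, H.isE.mul_self C he]; group)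
  -- `g` commutes with the lifts of the two-point stabiliser
  have hlift : ∀ (y : G), y ∈ C.L v → y • a = a → y • b = b →
      (∀ s ∈ P ⊓ C.L v, y * s * y⁻¹ ∈ P ⊓ C.L v) → ∀ s ∈ P ⊓ C.L v,
      ζ (y * s * y⁻¹) = y * ζ s * y⁻¹ := by
    intro y hy hya hyb hyS s hs
    set y' := g * y * g⁻¹ with hy'def
    have hy'L : y' ∈ C.L v := C.conj_mem_L_of_commute hgv hy
    set x := y'⁻¹ * y with hx
    have hy'a : y' • a = a := by rw [hy'def, mul_smul, mul_smul, inv_smul_eq_iff.2 hga.symm, hya, hga]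
    have hy'b : y' • b = b := by rw [hy'def, mul_smul, mul_smul, inv_smul_eq_iff.2 hgb.symm, hyb, hgb]
    have hodd := Md.odd_fix x (mul_mem (inv_mem hy'L) hy)
      (by rw [hx, mul_smul, hya, inv_smul_eq_iff, hy'a]) (by rw [hx, mul_smul, hyb, inv_smul_eq_iff, hy'b])
    have hxE : ∀ e ∈ E, x * e * x⁻¹ = e := by
      intro e he
      have hge : g⁻¹ * (y * e * y⁻¹) * g = y * e * y⁻¹ := by
        rw [mul_assoc, ← (hgE _ (hEconj hyS he)).eq, inv_mul_cancel_left]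
      calc x * e * x⁻¹ = g * (y⁻¹ * (g⁻¹ * (y * e * y⁻¹) * g) * y) * g⁻¹ := by
            simp only [hx, hy'def]; group
        _ = g * e * g⁻¹ := by rw [hge]; group
        _ = e := by rw [(hgE e he).eq, mul_inv_cancel_right]
    have hxs : ∀ r ∈ P ⊓ C.L v, x * r * x⁻¹ = r := by
      intro r hr
      obtain ⟨e, he, hxr⟩ : ∃ e ∈ E, x * r * x⁻¹ = r * e := by
        -- `g` is trivial modulo `E`, so `x` is
        have hr' := hyS r hr
        have h1 : g⁻¹ * (y * r * y⁻¹) * g = y * r * y⁻¹ * ζ (y * r * y⁻¹) := by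
          have e1 : g * (y * r * y⁻¹) * g⁻¹ = y * r * y⁻¹ * ζ (y * r * y⁻¹) := by simp only [hζ]; group
          have e2 : g⁻¹ * ζ (y * r * y⁻¹) * g = ζ (y * r * y⁻¹) := by
            rw [mul_assoc, ← (hgE _ (htriv _ hr')).eq, inv_mul_cancel_left]
          have e3 : y * r * y⁻¹ = g⁻¹ * (y * r * y⁻¹) * g * (g⁻¹ * ζ (y * r * y⁻¹) * g) := by
            conv_lhs => rw [show y * r * y⁻¹ = g⁻¹ * (g * (y * r * y⁻¹) * g⁻¹) * g by group, e1]
            group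
          rw [e2] at e3
          have hz : ζ (y * r * y⁻¹) * ζ (y * r * y⁻¹) = 1 := H.isE.mul_self C (htriv _ hr')
          have e4 := mul_inv_eq_iff_eq_mul.2 e3
          rw [inv_eq_of_mul_eq_one_right hz] at e4
          exact e4.symm
        refine ⟨ζ r * (g * (y⁻¹ * ζ (y * r * y⁻¹) * y) * g⁻¹), mul_mem (htriv r hr) ?_, ?_⟩
        · have hyinv : ∀ t ∈ P ⊓ C.L v, y⁻¹ * t * y⁻¹⁻¹ ∈ P ⊓ C.L v := fun t ht => by
            have hmap : (P ⊓ C.L v).map (MulAut.conj y).toMonoidHom = P ⊓ C.L v :=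
              eq_of_le_of_card_ge (by rintro _ ⟨u, hu, rfl⟩; exact hyS u hu)
                (card_map_of_injective (MulAut.conj y).injective).ge
            obtain ⟨u, hu, rfl⟩ := hmap.ge ht
            show y⁻¹ * (y * u * y⁻¹) * y⁻¹⁻¹ ∈ _
            rwa [show y⁻¹ * (y * u * y⁻¹) * y⁻¹⁻¹ = u by group]
          have he' := hEconj hyinv (htriv _ hr')
          rw [inv_inv] at he'
          rw [(hgE _ he').eq, mul_inv_cancel_right]
          exact he'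
        · calc x * r * x⁻¹ = g * (y⁻¹ * (g⁻¹ * (y * r * y⁻¹) * g) * y) * g⁻¹ := by
                simp only [hx, hy'def]; group
            _ = g * (y⁻¹ * (y * r * y⁻¹ * ζ (y * r * y⁻¹)) * y) * g⁻¹ := by rw [h1]
            _ = g * r * g⁻¹ * (g * (y⁻¹ * ζ (y * r * y⁻¹) * y) * g⁻¹) := by group
            _ = _ := by rw [show g * r * g⁻¹ = r * ζ r by simp only [hζ]; group, mul_assoc]
      have hpow : ∀ n : ℕ, x ^ n * r * (x ^ n)⁻¹ = r * e ^ n := fun n => by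
        induction n with
        | zero => simp
        | succ n ih =>
          rw [pow_succ', show x * x ^ n * r * (x * x ^ n)⁻¹ = x * (x ^ n * r * (x ^ n)⁻¹) * x⁻¹ by group,
            ih, show x * (r * e ^ n) * x⁻¹ = x * r * x⁻¹ * (x * e ^ n * x⁻¹) by group, hxr,
            hxE _ (pow_mem he n), mul_assoc, ← pow_succ']
      obtain ⟨l, hl⟩ := hodd
      have h2 := hpow (orderOf x)
      rw [pow_orderOf_eq_one, inv_one, mul_one, one_mul, hl, pow_succ, pow_mul, sq, H.isE.mul_self C he,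
        one_pow, one_mul, left_eq_mul] at h2
      rw [hxr, h2, mul_one]
    calc ζ (y * s * y⁻¹) = (y * s * y⁻¹)⁻¹ * (y' * (g * s * g⁻¹) * y'⁻¹) := by
          simp only [hζ, hy'def]; group
      _ = (y * s * y⁻¹)⁻¹ * (y' * (x * (g * s * g⁻¹) * x⁻¹) * y'⁻¹) := by
          rw [hxs (g * s * g⁻¹) ?_]
          rw [show g * s * g⁻¹ = s * ζ s by simp only [hζ]; group]
          exact mul_mem hs (H.E_le_S (htriv s hs))
      _ = _ := by simp only [hζ, hx]; group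
  -- transport to the kernel of the set-up
  classical
  set f : C.LQ v → C.LQ v := fun x => if hx : x ∈ Md.T then
    C.toLQ v ⟨ζ (Md.pr.symm ⟨x, hx⟩), (H.E_le_S (htriv _ (Md.pr.symm ⟨x, hx⟩).2)).2⟩ else 1 with hf
  have hfS : ∀ s : ↥(P ⊓ C.L v), f (Md.pr s) = Md.pr ⟨ζ s, H.E_le_S (htriv _ s.2)⟩ := fun s => by
    show (if hx : (Md.pr s : C.LQ v) ∈ Md.T then
      C.toLQ v ⟨ζ (Md.pr.symm ⟨_, hx⟩), (H.E_le_S (htriv _ (Md.pr.symm ⟨_, hx⟩).2)).2⟩ else 1) = _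
    rw [dif_pos (Md.pr s).2, Md.pr_eq ⟨ζ s, _⟩]
    refine congrArg _ (Subtype.ext (congrArg (fun u : ↥(P ⊓ C.L v) => ζ (u : G)) ?_))
    exact Md.pr.symm_apply_apply s
  suffices hzero : ∀ x ∈ Md.T, f x = 1 by
    have hcomm : ∀ s ∈ P, s ∈ C.L v → Commute g s := by
      intro s hs hsL
      have h := hzero _ (Md.pr ⟨s, hs, hsL⟩).2
      rw [hfS] at h
      have h1 : ζ s = 1 := congrArg Subtype.val (Md.pr.injective ((Subtype.ext h).trans (map_one Md.pr).symm))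
      exact mul_inv_eq_iff_eq_mul.1 (inv_mul_eq_one.1 h1).symm
    obtain ⟨e, he, hefix⟩ := H.bad.exists_fix_all C H.hp H.va H.isE H.two H.eP H.fix H.max hga hgv hcomm
    have he1 : e = 1 := by
      have hb := hefix b H.vb
      rw [mul_smul, hgb] at hb
      by_contra h1
      exact H.ne (C.fix_unique (H.isE.mem e he h1).1.1 hb (H.Ea he))
    have := hefix c hc
    rwa [he1, one_mul] at this
  intro x₀ hx₀
  refine Md.S.eq_one_of_equivariant (by rwa [Md.card_T, Md.card_Z]) f ?_ ?_ ?_ ?_ hx₀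
  · intro x hx
    obtain ⟨s, hs⟩ := Md.pr.surjective ⟨x, hx⟩
    rw [show x = (Md.pr s : C.LQ v) by rw [hs], hfS]
    exact (Md.mem_Z _).2 (htriv _ s.2)
  · intro x hx x' hx'
    obtain ⟨s, hs⟩ := Md.pr.surjective ⟨x, hx⟩
    obtain ⟨s', hs'⟩ := Md.pr.surjective ⟨x', hx'⟩
    rw [show x = (Md.pr s : C.LQ v) by rw [hs], show x' = (Md.pr s' : C.LQ v) by rw [hs'],
      ← Subgroup.coe_mul, ← map_mul, hfS, hfS, hfS, ← Subgroup.coe_mul, ← map_mul]
    exact congrArg (fun u => (Md.pr u : C.LQ v)) (Subtype.ext (hζmul s s.2 s' s'.2))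
  · intro z hz
    obtain ⟨s, hs⟩ := Md.pr.surjective ⟨z, Md.S.Z_le hz⟩
    have hzs : z = (Md.pr s : C.LQ v) := by rw [hs]
    rw [hzs] at hz ⊢
    rw [hfS, show (⟨ζ s, H.E_le_S (htriv _ s.2)⟩ : ↥(P ⊓ C.L v)) = 1 from
      Subtype.ext (hζE _ ((Md.mem_Z s).1 hz)), map_one, Subgroup.coe_one]
  · intro k hk x hx
    obtain ⟨y, hy, hya, hyb, hyS, q, hq, hyq⟩ := Md.lift k hk
    obtain ⟨s, hs⟩ := Md.pr.surjective ⟨x, hx⟩
    rw [show x = (Md.pr s : C.LQ v) by rw [hs]]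
    have hconj : ∀ r : ↥(P ⊓ C.L v), (Md.pr ⟨y * r * y⁻¹, hyS r r.2⟩ : C.LQ v) =
        q * (k * (q⁻¹ * Md.pr r * q) * k⁻¹) * q⁻¹ := fun r => by
      rw [Md.pr_eq, Md.pr_eq, show (⟨y * r * y⁻¹, (hyS r r.2).2⟩ : ↥(C.L v)) =
        ⟨y, hy⟩ * ⟨r, r.2.2⟩ * ⟨y, hy⟩⁻¹ from rfl, map_mul, map_mul, map_inv, hyq]
      group
    have hfT : ∀ {w : C.LQ v}, w ∈ Md.T → f w ∈ Md.S.Z := fun {w} hw => by
      obtain ⟨r, hr⟩ := Md.pr.surjective ⟨w, hw⟩
      rw [show w = (Md.pr r : C.LQ v) by rw [hr], hfS]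
      exact (Md.mem_Z _).2 (htriv _ r.2)
    have hfmul : ∀ {w w' : C.LQ v}, w ∈ Md.T → w' ∈ Md.T → f (w * w') = f w * f w' := fun {w w'} hw hw' => by
      obtain ⟨r, hr⟩ := Md.pr.surjective ⟨w, hw⟩
      obtain ⟨r', hr'⟩ := Md.pr.surjective ⟨w', hw'⟩
      rw [show w = (Md.pr r : C.LQ v) by rw [hr], show w' = (Md.pr r' : C.LQ v) by rw [hr'],
        ← Subgroup.coe_mul, ← map_mul, hfS, hfS, hfS, ← Subgroup.coe_mul, ← map_mul]
      exact congrArg (fun u => (Md.pr u : C.LQ v)) (Subtype.ext (hζmul r r.2 r' r'.2))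
    -- `f` forgets conjugation inside the kernel
    have hfc : ∀ {w : C.LQ v}, w ∈ Md.T → f (q * w * q⁻¹) = f w := fun {w} hw => by
      have h1 := hfmul (mul_mem (mul_mem hq hw) (inv_mem hq)) hq
      rw [show q * w * q⁻¹ * q = q * w by group, hfmul hq hw,
        Md.S.central _ (hfT hq) _ (Md.S.Z_le (hfT hw)), mul_left_inj] at h1
      exact h1.symm
    have h1 := hlift y hy hya hyb hyS s s.2
    have h2 : f (Md.pr ⟨y * s * y⁻¹, hyS s s.2⟩) = k * f (Md.pr s) * k⁻¹ := by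
      rw [hfS, hfS, show (⟨ζ (y * s * y⁻¹), _⟩ : ↥(P ⊓ C.L v)) =
        ⟨y * ζ s * y⁻¹, hyS _ (H.E_le_S (htriv _ s.2))⟩ from Subtype.ext h1]
      rw [hconj ⟨ζ s, H.E_le_S (htriv _ s.2)⟩]
      have hz := (Md.mem_Z ⟨ζ s, H.E_le_S (htriv _ s.2)⟩).2 (htriv _ s.2)
      rw [show q⁻¹ * (Md.pr ⟨ζ s, H.E_le_S (htriv _ s.2)⟩ : C.LQ v) * q =
        (Md.pr ⟨ζ s, H.E_le_S (htriv _ s.2)⟩ : C.LQ v) by
          rw [mul_assoc, Md.S.central _ hz q hq, inv_mul_cancel_left]]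
      have hz' : k * (Md.pr ⟨ζ s, H.E_le_S (htriv _ s.2)⟩ : C.LQ v) * k⁻¹ ∈ Md.S.Z := by
        refine (Md.S.mem_Z _).2 ⟨Md.S.setup.conj_mem k hk.1 _ (Md.S.Z_le hz), ?_⟩
        calc k * (Md.pr ⟨ζ s, H.E_le_S (htriv _ s.2)⟩ : C.LQ v) * k⁻¹ *
              (k * (Md.pr ⟨ζ s, H.E_le_S (htriv _ s.2)⟩ : C.LQ v) * k⁻¹) =
              k * ((Md.pr ⟨ζ s, H.E_le_S (htriv _ s.2)⟩ : C.LQ v) * Md.pr ⟨ζ s, H.E_le_S (htriv _ s.2)⟩) * k⁻¹ := by group
          _ = 1 := by rw [Md.S.Z_sq hz]; group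
      rw [← Md.S.central _ hz' q hq, mul_inv_cancel_right]
    have hw1 : q⁻¹ * (Md.pr s : C.LQ v) * q ∈ Md.T := mul_mem (mul_mem (inv_mem hq) (Md.pr s).2) hq
    have hw2 := Md.S.setup.conj_mem k hk.1 _ hw1
    rw [hconj, hfc hw2] at h2
    -- replace the inner conjugation
    have hkq : k * q * k⁻¹ ∈ Md.T := Md.S.setup.conj_mem k hk.1 q hq
    have hk' : k * (Md.pr s : C.LQ v) * k⁻¹ = k * q * k⁻¹ *
        (k * (q⁻¹ * Md.pr s * q) * k⁻¹) * (k * q * k⁻¹)⁻¹ := by group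
    rw [hk', hfmul (mul_mem hkq hw2) (inv_mem hkq), hfmul hkq hw2,
      Md.S.central _ (hfT hkq) _ (Md.S.Z_le (hfT hw2)), mul_assoc,
      ← hfmul hkq (inv_mem hkq), mul_inv_cancel, h2]
    have hone : f 1 = 1 := by
      have := hfmul (one_mem Md.T) (one_mem Md.T)
      rwa [one_mul, left_eq_mul] at this
    rw [hone, mul_one]

end Typ

end Ctx

end CfsgLib.Criterion
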