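import Cfsg.Agent.Criterion.ClosedCtx
import Cfsg.Agent.Criterion.TypeModel
import Cfsg.Agent.Criterion.Types

/-!
# The strong embedding criterion: the kernel on the fixed points and its graph map

Let `P` be a largest 2-group fixing `a` and centralising the bad involution `u`.  Then `P ∩ L_u` is
transitive on the other fixed points of `u`, and a 2-element at `a` centralising `u` and that group
differs only by an element of `E` from one fixing all fixed points of `u`.  Hence, if `P` also is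
largest for `v` and `u = v x`, the kernel on the fixed points of `v` has a homomorphism to `E`
sending `v` to `x`.
-/

set_option autoImplicit false
set_option linter.style.haveILetI false
set_option linter.unusedSectionVars false

namespace CfsgLib.Recog.RankOneSuzuki

open MulAction CfsgLib.Recog.RankOne

variable {G Ω : Type*} [Group G] [MulAction G Ω] [Finite G] {a : Ω} {t : G} {Q : Subgroup G}

namespace Data

variable (S : Data a t Q)

/-- An element of `Q` centralising `Q` lies in `Z`. -/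
theorem mem_Z_of_central [FaithfulSMul G Ω] {x : G} (hx : x ∈ Q) (h : ∀ y ∈ Q, Commute x y) :
    x ∈ S.Z := by
  by_cases hcomm : ∀ x ∈ Q, ∀ y ∈ Q, x * y = y * x
  · exact S.le_Z_of_abelian hcomm hx
  push Not at hcomm
  obtain ⟨P, hP, hSz⟩ := S.exists_sylow_suzuki hcomm
  obtain ⟨hiff, -⟩ := Cfsg.Agent.S1137.result hSz
  by_cases hx1 : x = 1
  · rw [hx1]; exact one_mem _
  let x' : ↥(P : Subgroup ↥Q) := ⟨⟨x, hx⟩, hP ▸ Subgroup.mem_top _⟩
  have hc : x' ∈ Subgroup.center ↥(P : Subgroup ↥Q) := Subgroup.mem_center_iff.2 fun y =>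
    Subtype.ext (Subtype.ext (h _ y.1.2).eq.symm)
  have h2 := ((hiff x').2 ⟨hc, fun e => hx1 (congrArg (fun w : ↥(P : Subgroup ↥Q) => (w : G)) e)⟩).2
  exact (S.mem_Z x).2 ⟨hx, congrArg (fun w : ↥(P : Subgroup ↥Q) => (w : G)) h2⟩

/-- If an automorphism keeping the two-point stabiliser is on `Q` conjugation by `s ∈ Q`, then `s` lies
in `Z`. -/
theorem mem_Z_of_twist [FaithfulSMul G Ω] (σ : G →* G)
    (hD : ∀ y ∈ stabilizer G a ⊓ stabilizer G (t • a), σ y ∈ stabilizer G a ⊓ stabilizer G (t • a))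
    {s : G} (hs : s ∈ Q) (hσ : ∀ y ∈ Q, σ y = s * y * s⁻¹) : s ∈ S.Z := by
  have hQ2 := S.isPGroup_Q
  obtain ⟨k, hk, hk1⟩ := S.exists_K_ne
  have hks : k * s * k⁻¹ ∈ Q := S.conj_Q hk hs
  set κ := σ k * k⁻¹ with hκdef
  have hκ : κ ∈ stabilizer G a ⊓ stabilizer G (t • a) :=
    mul_mem (hD k (S.K_le hk)) (inv_mem (S.K_le hk))
  set q₀ := s * (k * s * k⁻¹)⁻¹ with hq₀
  have hq₀Q : q₀ ∈ Q := mul_mem hs (inv_mem hks)
  have hconj : ∀ y ∈ Q, κ * y * κ⁻¹ = q₀ * y * q₀⁻¹ := by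
    intro y hy
    have hu : k⁻¹ * ((k * s * k⁻¹)⁻¹ * y * (k * s * k⁻¹)) * k ∈ Q :=
      S.conj_Q' hk (mul_mem (mul_mem (inv_mem hks) hy) hks)
    have h1 := hσ _ (S.conj_Q hk hu)
    rw [map_mul, map_mul, map_inv, hσ _ hu] at h1
    calc κ * y * κ⁻¹ = σ k * (s * (k⁻¹ * ((k * s * k⁻¹)⁻¹ * y * (k * s * k⁻¹)) * k) * s⁻¹) * (σ k)⁻¹ := by
          rw [hκdef]; group
      _ = s * (k * (k⁻¹ * ((k * s * k⁻¹)⁻¹ * y * (k * s * k⁻¹)) * k) * k⁻¹) * s⁻¹ := h1
      _ = q₀ * y * q₀⁻¹ := by rw [hq₀]; group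
  have hcent : ∀ y ∈ Q, Commute q₀ y := by
    obtain ⟨i, hi⟩ := hQ2 ⟨q₀, hq₀Q⟩
    have hi' : q₀ ^ 2 ^ i = 1 := congrArg Subtype.val hi
    have hodd : Odd (orderOf κ) := S.setup.odd_card.of_dvd_nat (Subgroup.orderOf_dvd_natCard _ hκ)
    obtain ⟨m, hm⟩ := hodd
    intro y hy
    have hpow : ∀ n : ℕ, κ ^ n * y * (κ ^ n)⁻¹ = q₀ ^ n * y * (q₀ ^ n)⁻¹ := by
      intro n
      induction n with
      | zero => simp
      | succ n ih =>
        calc κ ^ (n + 1) * y * (κ ^ (n + 1))⁻¹ = κ * (κ ^ n * y * (κ ^ n)⁻¹) * κ⁻¹ := by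
              rw [pow_succ']; group
          _ = q₀ * (q₀ ^ n * y * (q₀ ^ n)⁻¹) * q₀⁻¹ := by
              rw [ih]
              exact hconj _ (mul_mem (mul_mem (pow_mem hq₀Q n) hy) (inv_mem (pow_mem hq₀Q n)))
          _ = _ := by rw [pow_succ']; group
    have h1 : Commute (q₀ ^ orderOf κ) y := by
      have h := hpow (orderOf κ)
      rw [pow_orderOf_eq_one, one_mul, inv_one, mul_one] at h
      exact mul_inv_eq_iff_eq_mul.1 h.symm
    have hcop : (orderOf κ).Coprime (orderOf q₀) :=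
      ((Nat.coprime_two_left.2 ⟨m, hm⟩).symm.pow_right i).coprime_dvd_right
        (orderOf_dvd_of_pow_eq_one hi')
    obtain ⟨n, hn⟩ := exists_pow_eq_self_of_coprime hcop
    rw [← hn]
    exact h1.pow_left n
  have hqZ := S.mem_Z_of_central hq₀Q hcent
  refine S.mem_Z_of_comm hk hk1 hs ?_
  rw [show s⁻¹ * (k * s * k⁻¹) = s⁻¹ * q₀⁻¹ * s by rw [hq₀]; group,
    mul_assoc, S.central _ (inv_mem hqZ) s hs, inv_mul_cancel_left]
  exact inv_mem hqZ

end Data

end CfsgLib.Recog.RankOneSuzuki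

namespace CfsgLib.Criterion

open Subgroup CfsgLib.Invol CfsgLib.Bender

universe u

variable {G : Type u} [Group G] [Finite G]

/-- A power of a product with a normalised left factor. -/
theorem exists_mul_pow {T : Subgroup G} {d : G} (hd : ∀ x ∈ T, d * x * d⁻¹ ∈ T) {q : G}
    (hq : q ∈ T) (n : ℕ) : ∃ q' ∈ T, (q * d) ^ n = q' * d ^ n := by
  induction n with
  | zero => exact ⟨1, one_mem _, by simp⟩
  | succ n ih =>
    obtain ⟨q', hq', e⟩ := ih
    refine ⟨q * (d * q' * d⁻¹), mul_mem hq (hd q' hq'), ?_⟩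
    rw [pow_succ', e, pow_succ']; group

/-- The index in a normal subgroup divides the index. -/
theorem relIndex_dvd_index_of_normal_right {M : Type*} [Group M] [Finite M] (P N : Subgroup M)
    [N.Normal] : P.relIndex N ∣ P.index := by
  have h : ∀ {A B : Subgroup M}, A ≤ B → Nat.card A * A.relIndex B = Nat.card B := fun {A B} hAB => by
    rw [← relIndex_bot_left, ← relIndex_bot_left B]
    exact relIndex_mul_relIndex _ _ _ bot_le hAB
  have h1 := h (inf_le_right : P ⊓ N ≤ N)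
  have h2 := h (le_sup_left : P ≤ P ⊔ N)
  have h3 := h (inf_le_left : P ⊓ N ≤ P)
  have h4 := h (le_sup_right : N ≤ P ⊔ N)
  rw [inf_relIndex_right] at h1
  rw [inf_relIndex_left] at h3
  rw [relIndex_sup_right] at h4
  have h5 : P.relIndex (P ⊔ N) = P.relIndex N := by
    refine Nat.eq_of_mul_eq_mul_left (Nat.card_pos : 0 < Nat.card P) ?_
    rw [h2, ← h4, ← h1, ← h3]
    ring
  exact h5 ▸ relIndex_dvd_index_of_le le_sup_left

namespace Ctx

variable (C : Ctx G)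

/-- An element centralising `v` normalises the local group. -/
theorem conj_mem_L_of_commute {v g : G} (hg : Commute g v) {y : G} (hy : y ∈ C.L v) :
    g * y * g⁻¹ ∈ C.L v := by
  induction hy using closure_induction with
  | mem y hy => exact subset_closure ⟨C.conj_mem_Z hy.1 g, (hg.mul_left hy.2).mul_left hg.inv_left⟩
  | one => simp
  | mul y y' _ _ h h' => rw [← conj_mul]; exact mul_mem h h'
  | inv y _ h => rw [← conj_inv]; exact inv_mem h

/-- A 2-element of the local group fixing all fixed points is trivial. -/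
theorem Bad.eq_one_of_mem_Om {u : G} (hu : C.Bad u) {x : G} (hx : x ∈ C.Om u) {i : ℕ}
    (h : x ^ 2 ^ i = 1) : x = 1 :=
  Consumers.eq_one_of_two_of_odd ((hu.odd_Om C).of_dvd_nat (orderOf_dvd_natCard _ hx)) h

/-- Elements of the local group and of the kernel on the fixed points in a 2-group commute. -/
theorem Bad.commute_kernel {v : G} (hv : C.Bad v) {P : Subgroup G} (hP : IsPGroup 2 P) {s r : G}
    (hs : s ∈ P) (hsL : s ∈ C.L v) (hr : r ∈ P) (hrv : Commute r v)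
    (hfix : ∀ c : C.Pt, v • c = c → r • c = c) : Commute s r := by
  obtain ⟨i, hi⟩ := hP ⟨s * r * s⁻¹ * r⁻¹, mul_mem (mul_mem (mul_mem hs hr) (inv_mem hs)) (inv_mem hr)⟩
  refine mul_inv_eq_iff_eq_mul.1 (mul_inv_eq_one.1 (hv.eq_one_of_mem_Om C (C.mem_Om.2 ⟨?_, fun c hc => ?_⟩)
    (congrArg Subtype.val hi)))
  · rw [show s * r * s⁻¹ * r⁻¹ = s * (r * s⁻¹ * r⁻¹) by group]
    exact mul_mem hsL (C.conj_mem_L_of_commute hrv (inv_mem hsL))
  · have hc' : v • (s⁻¹ • c) = s⁻¹ • c := by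
      rw [smul_smul, ← (C.commute_of_mem_L hsL).inv_left.eq, mul_smul, hc]
    rw [mul_smul, mul_smul, mul_smul, inv_smul_eq_iff.2 (hfix c hc).symm, hfix _ hc', smul_inv_smul]

/-- A largest 2-group at `a` centralising `u` meets the local group in a group transitive on the other
fixed points of `u`. -/
theorem Bad.exists_two_move {u : G} (hu : C.Bad u) (hp : PairRank ↥(C.L u)) {a : C.Pt}
    (ha : u • a = a) {E : Subgroup G} (hE : C.IsE u a E) {P : Subgroup G} (hP : IsPGroup 2 P)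
    (hPa : ∀ g ∈ P, g • a = a ∧ Commute g u)
    (hmax : ∀ P' : Subgroup G, IsPGroup 2 P' → (∀ g ∈ P', g • a = a ∧ Commute g u) →
      Nat.card P' ≤ Nat.card P) {c d : C.Pt} (hc : u • c = c) (hd : u • d = d) (hca : c ≠ a)
    (hda : d ≠ a) : ∃ s ∈ P, s ∈ C.L u ∧ s • c = d := by
  classical
  haveI : Fact (Nat.Prime 2) := ⟨Nat.prime_two⟩
  set N := C.L u ⊓ MulAction.stabilizer G a with hN
  set M := centralizer ({u} : Set G) ⊓ MulAction.stabilizer G a with hM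
  have hNM : N ≤ M := fun y hy =>
    ⟨mem_centralizer_singleton_iff.2 (C.commute_of_mem_L hy.1).eq, hy.2⟩
  have hPM : P ≤ M := fun g hg => ⟨mem_centralizer_singleton_iff.2 (hPa g hg).2.eq, (hPa g hg).1⟩
  haveI : (N.subgroupOf M).Normal := ⟨fun x hx g => by
    rw [mem_subgroupOf, hN, mem_inf, coe_mul, coe_mul, coe_inv] at *
    exact ⟨C.conj_mem_L_of_commute (mem_centralizer_singleton_iff.1 g.2.1) hx.1,
      mul_mem (mul_mem g.2.2 hx.2) (inv_mem g.2.2)⟩⟩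
  obtain ⟨R, hR⟩ := (hP.of_equiv (subgroupOfEquivOfLe hPM).symm).exists_le_sylow
  have hRP : (R : Subgroup ↥M) = P.subgroupOf M := by
    refine (eq_of_le_of_card_ge hR ?_).symm
    rw [Nat.card_congr (subgroupOfEquivOfLe hPM).toEquiv,
      ← card_map_of_injective (K := (R : Subgroup ↥M)) M.subtype_injective]
    refine hmax _ (R.isPGroup'.map _) ?_
    rintro _ ⟨y, -, rfl⟩
    exact ⟨y.2.2, mem_centralizer_singleton_iff.1 y.2.1⟩
  have hoddi : Odd (P.relIndex N) := by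
    refine (Nat.odd_iff.2 (Nat.two_dvd_ne_zero.1 R.not_dvd_index)).of_dvd_nat ?_
    rw [hRP, ← relIndex_subgroupOf hNM]
    exact relIndex_dvd_index_of_normal_right _ _
  set π := QuotientGroup.mk' (Cfsg.oddCore ↥(C.L u)) with hπ
  obtain ⟨K, hfa, T, t, S, hT, -, hK⟩ := hu.exists_setup C hp ha hE
  haveI := hfa
  let ι : (↥(C.L u) ⧸ Cfsg.oddCore ↥(C.L u)) ⧸ K :=
    (((1 : ↥(C.L u) ⧸ Cfsg.oddCore ↥(C.L u)) : (↥(C.L u) ⧸ Cfsg.oddCore ↥(C.L u)) ⧸ K))
  set PL := P.subgroupOf (C.L u) with hPL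
  set A := PL.map π with hA
  have hA2 : IsPGroup 2 A :=
    (hP.comap_of_injective (C.L u).subtype (C.L u).subtype_injective).map π
  have hAK : A ≤ K := by
    rintro _ ⟨y, hy, rfl⟩
    rw [hK]
    exact mem_map_of_mem _ (C.mem_LH.2 (hPa y hy).1)
  have hO : Cfsg.oddCore ↥(C.L u) ≤ C.LH u a := hu.oddCore_le_LH C hp ha
  have hTKle : T ≤ K := fun x hx => StrongEmbed.smul_mk_one_iff.1 (S.setup.le hx)
  have hAT : A = T := by
    refine eq_of_le_of_card_ge (fun x hx => ?_) ?_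
    · have hxK := hAK hx
      obtain ⟨q, hq, d, hd, e⟩ := Recog.RankOne.exists_mul S.setup
        (StrongEmbed.smul_mk_one_iff.2 hxK)
      subst e
      obtain ⟨i, hi⟩ := hA2 ⟨q * d, hx⟩
      obtain ⟨q', hq', e⟩ := exists_mul_pow (T := T) (S.setup.conj_mem d hd.1) hq (2 ^ i)
      rw [show (q * d) ^ 2 ^ i = 1 from congrArg Subtype.val hi] at e
      have h1 : d ^ 2 ^ i = 1 := by
        refine Recog.RankOne.eq_one_of_mem_D S.setup ?_ (pow_mem hd.2 _)
        rw [eq_inv_of_mul_eq_one_right e.symm]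
        exact inv_mem hq'
      rw [show d = 1 from Consumers.eq_one_of_two_of_odd
        (S.setup.odd_card.of_dvd_nat (Subgroup.orderOf_dvd_natCard _ hd)) h1, mul_one]
      exact hq
    · obtain ⟨n, hn⟩ := IsPGroup.iff_card.1 S.isPGroup_Q
      have hdvd : P.relIndex N = PL.relIndex (C.LH u a) := by
        rw [hN, ← relIndex_subgroupOf (inf_le_left : C.L u ⊓ MulAction.stabilizer G a ≤ C.L u),
          inf_subgroupOf_left]
        rfl
      have h1 : A.relIndex ((C.LH u a).map π) ∣ PL.relIndex (C.LH u a) := by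
        rw [hA, relIndex_map_map, sup_eq_left.2 (show π.ker ≤ C.LH u a by
          rw [hπ, QuotientGroup.ker_mk']; exact hO)]
        exact relIndex_dvd_of_le_left _ le_sup_left
      rw [← hdvd, ← hK] at h1
      have h2 : Nat.card A * A.relIndex K = Nat.card K := by
        rw [← relIndex_bot_left, ← relIndex_bot_left K]
        exact relIndex_mul_relIndex _ _ _ bot_le hAK
      rw [hn]
      refine Nat.le_of_dvd Nat.card_pos ((Nat.Coprime.pow_left n
        (Nat.coprime_two_left.2 (hoddi.of_dvd_nat h1))).dvd_of_dvd_mul_right ?_)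
      rw [h2, ← hn]
      exact card_dvd_of_le hTKle
  obtain ⟨l, hl, hlc⟩ := C.exists_mem_L_move hu ha hc
  obtain ⟨m, hm, hmd⟩ := C.exists_mem_L_move hu ha hd
  have hne : ∀ {l : G} (hl : l ∈ C.L u), l • a ≠ a → π ⟨l, hl⟩ • ι ≠ ι := by
    intro l hl hla h
    have h1 := StrongEmbed.smul_mk_one_iff.1 h
    rw [hK, ← mem_comap, comap_map_eq_self (by rw [hπ, QuotientGroup.ker_mk']; exact hO)] at h1
    exact hla (C.mem_LH.1 h1)
  obtain ⟨q₁, hq₁, e₁⟩ := Recog.RankOne.exists_mem_smul S.setup (hne hl (hlc ▸ hca))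
  obtain ⟨q₂, hq₂, e₂⟩ := Recog.RankOne.exists_mem_smul S.setup (hne hm (hmd ▸ hda))
  obtain ⟨y, hy, hyq⟩ : q₂ * q₁⁻¹ ∈ A := hAT.ge (mul_mem hq₂ (inv_mem hq₁))
  refine ⟨y, hy, y.2, ?_⟩
  have h3 : π (y * ⟨l, hl⟩) • ι = π ⟨m, hm⟩ • ι := by
    rw [map_mul, hyq, mul_smul, ← e₁, ← e₂, mul_smul, inv_smul_smul]
  have h4 : (π ⟨m, hm⟩)⁻¹ * π (y * ⟨l, hl⟩) ∈ K := by
    refine StrongEmbed.smul_mk_one_iff.1 ?_
    show ((π ⟨m, hm⟩)⁻¹ * π (y * ⟨l, hl⟩)) • ι = ι
    rw [mul_smul, h3, inv_smul_smul]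
  rw [← map_inv, ← map_mul, hK, ← mem_comap,
    comap_map_eq_self (by rw [hπ, QuotientGroup.ker_mk']; exact hO)] at h4
  have h5 := C.mem_LH.1 h4
  rw [coe_mul, coe_inv, coe_mul, mul_smul, mul_smul, inv_smul_eq_iff] at h5
  show (y : G) • c = d
  rw [← hlc, ← hmd]
  exact h5

/-- An element at `a` centralising `u` and the 2-group transitive on its other fixed points differs
only by an element of `E` from one fixing all of them. -/
theorem Bad.exists_fix_all {u : G} (hu : C.Bad u) (hp : PairRank ↥(C.L u)) {a : C.Pt}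
    (ha : u • a = a) {E : Subgroup G} (hE : C.IsE u a E) {P : Subgroup G} (hP : IsPGroup 2 P)
    (hEP : E ≤ P) (hPa : ∀ g ∈ P, g • a = a ∧ Commute g u)
    (hmax : ∀ P' : Subgroup G, IsPGroup 2 P' → (∀ g ∈ P', g • a = a ∧ Commute g u) →
      Nat.card P' ≤ Nat.card P) {r : G} (hra : r • a = a) (hru : Commute r u)
    (hrS : ∀ s ∈ P, s ∈ C.L u → Commute r s) :
    ∃ e ∈ E, ∀ c : C.Pt, u • c = c → (e * r) • c = c := by
  classical
  haveI : Fact (Nat.Prime 2) := ⟨Nat.prime_two⟩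
  set O := Cfsg.oddCore ↥(C.L u) with hOdef
  set π := QuotientGroup.mk' O with hπ
  obtain ⟨K, hfa, T, t, S, hT, -, hK⟩ := hu.exists_setup C hp ha hE
  haveI := hfa
  have hO : O ≤ C.LH u a := hu.oddCore_le_LH C hp ha
  obtain ⟨t₀, ht₀⟩ := QuotientGroup.mk'_surjective O t
  set d := (t₀ : G) • a with hd
  have hud : u • d = d := by rw [hd, smul_smul, ← (C.commute_of_mem_L t₀.2).eq, mul_smul, ha]
  have hKiff : ∀ y : ↥(C.L u), π y ∈ K ↔ (y : G) • a = a := fun y => by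
    rw [hK, ← mem_comap, comap_map_eq_self (by rw [hπ, QuotientGroup.ker_mk']; exact hO), C.mem_LH]
  have hda : d ≠ a := fun h => S.setup.not_mem (by
    rw [← ht₀]
    exact StrongEmbed.smul_mk_one_iff.2 ((hKiff t₀).2 h))
  have hrd : u • (r • d) = r • d := by rw [smul_smul, ← hru.eq, mul_smul, hud]
  obtain ⟨s, hs, hsL, hsd⟩ := hu.exists_two_move C hp ha hE hP hPa hmax hud hrd hda
    fun h => hda (smul_left_cancel r (h.trans hra.symm))
  set g := s⁻¹ * r with hg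
  have hga : g • a = a := by rw [hg, mul_smul, hra, inv_smul_eq_iff.2 (hPa s hs).1.symm]
  have hgd : g • d = d := by rw [hg, mul_smul, ← hsd, inv_smul_smul]
  have hgu : Commute g u := (hPa s hs).2.inv_left.mul_left hru
  let α : ↥(C.L u) →* ↥(C.L u) := MonoidHom.mk'
    (fun y => ⟨g * (y : G) * g⁻¹, C.conj_mem_L_of_commute hgu y.2⟩)
    fun x y => Subtype.ext (by simp [mul_assoc])
  have hαO : O ≤ O.comap α := fun y hy => by
    rw [mem_comap, hOdef, hu.oddCore_eq_fixKer C hp] at *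
    refine C.mem_fixKer.2 fun c hc => ?_
    show (g * (y : G) * g⁻¹) • c = c
    have hc' : u • (g⁻¹ • c) = g⁻¹ • c := by rw [smul_smul, ← hgu.inv_left.eq, mul_smul, hc]
    rw [mul_smul, mul_smul, C.mem_fixKer.1 hy _ hc', smul_inv_smul]
  set σ := QuotientGroup.map O O α hαO with hσdef
  have hσ : ∀ y : ↥(C.L u), σ (π y) = π (α y) := fun y => rfl
  -- `σ` keeps the two-point stabiliser
  have hstab : ∀ y : ↥(C.L u), π y ∈ MulAction.stabilizer (↥(C.L u) ⧸ O) (t •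
      ((1 : ↥(C.L u) ⧸ O) : (↥(C.L u) ⧸ O) ⧸ K)) ↔ (y : G) • d = d := by
    intro y
    rw [MulAction.mem_stabilizer_iff, ← ht₀, smul_smul, ← inv_smul_eq_iff, smul_smul,
      ← map_inv, ← map_mul, ← map_mul]
    refine (Iff.trans StrongEmbed.smul_mk_one_iff (hKiff _)).trans ?_
    rw [coe_mul, coe_inv, coe_mul, mul_smul, mul_smul, inv_smul_eq_iff]
  have hD : ∀ x ∈ MulAction.stabilizer (↥(C.L u) ⧸ O) ((1 : ↥(C.L u) ⧸ O) : (↥(C.L u) ⧸ O) ⧸ K) ⊓
      MulAction.stabilizer (↥(C.L u) ⧸ O) (t • ((1 : ↥(C.L u) ⧸ O) : (↥(C.L u) ⧸ O) ⧸ K)),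
      σ x ∈ MulAction.stabilizer (↥(C.L u) ⧸ O) ((1 : ↥(C.L u) ⧸ O) : (↥(C.L u) ⧸ O) ⧸ K) ⊓
        MulAction.stabilizer (↥(C.L u) ⧸ O) (t • ((1 : ↥(C.L u) ⧸ O) : (↥(C.L u) ⧸ O) ⧸ K)) := by
    intro x hx
    obtain ⟨y, rfl⟩ := QuotientGroup.mk'_surjective O x
    obtain ⟨h1, h2⟩ := mem_inf.1 hx
    rw [← hπ] at h1 h2 ⊢
    have h1' := (hKiff y).1 (StrongEmbed.smul_mk_one_iff.1 h1)
    have h2' := (hstab y).1 h2
    rw [hσ]
    refine mem_inf.2 ⟨StrongEmbed.smul_mk_one_iff.2 ((hKiff _).2 ?_), (hstab _).2 ?_⟩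
    · show (g * (y : G) * g⁻¹) • a = a
      rw [mul_smul, mul_smul, inv_smul_eq_iff.2 hga.symm, h1', hga]
    · show (g * (y : G) * g⁻¹) • d = d
      rw [mul_smul, mul_smul, inv_smul_eq_iff.2 hgd.symm, h2', hgd]
  -- the image of `P ∩ L` is `T`
  set PL := P.subgroupOf (C.L u) with hPL
  have hmemT : ∀ y ∈ PL, π y ∈ T := by
    intro y hy
    obtain ⟨q, hq, x, hx, e⟩ := Recog.RankOne.exists_mul S.setup
      (StrongEmbed.smul_mk_one_iff.2 ((hKiff y).2 (hPa y hy).1))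
    obtain ⟨i, hi⟩ := hP ⟨(y : G), hy⟩
    obtain ⟨q', hq', e'⟩ := exists_mul_pow (T := T) (S.setup.conj_mem x hx.1) hq (2 ^ i)
    rw [← e, ← map_pow, show y ^ 2 ^ i = 1 from Subtype.ext (by
      rw [coe_pow]; exact congrArg Subtype.val hi), map_one] at e'
    have h1 : x ^ 2 ^ i = 1 := by
      refine Recog.RankOne.eq_one_of_mem_D S.setup ?_ (pow_mem hx.2 _)
      rw [eq_inv_of_mul_eq_one_right e'.symm]
      exact inv_mem hq'
    rw [e, show x = 1 from Consumers.eq_one_of_two_of_odd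
      (S.setup.odd_card.of_dvd_nat (Subgroup.orderOf_dvd_natCard _ hx)) h1, mul_one]
    exact hq
  have hsurj : ∀ q ∈ T, ∃ y ∈ PL, π y = q := by
    intro q hq
    have hqd : u • (((Quotient.out q : ↥(C.L u)) : G) • d) = ((Quotient.out q : ↥(C.L u)) : G) • d := by
      rw [smul_smul, ← (C.commute_of_mem_L (Quotient.out q : ↥(C.L u)).2).eq, mul_smul, hud]
    set q₀ : ↥(C.L u) := Quotient.out q
    have hq₀ : π q₀ = q := QuotientGroup.out_eq' q
    have hq₀a : (q₀ : G) • a = a :=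
      (hKiff q₀).1 (hq₀.symm ▸ StrongEmbed.smul_mk_one_iff.1 (S.setup.le hq))
    obtain ⟨y, hy, hyL, hyd⟩ := hu.exists_two_move C hp ha hE hP hPa hmax hud hqd hda
      fun h => hda (smul_left_cancel (q₀ : G) (h.trans hq₀a.symm))
    refine ⟨⟨y, hyL⟩, hy, ?_⟩
    refine (inv_mul_eq_one.1 (Recog.RankOne.eq_one_of_mem_D S.setup
      (mul_mem (inv_mem (hmemT ⟨y, hyL⟩ hy)) (hq₀.symm ▸ hq)) ?_)).trans hq₀
    rw [← map_inv, ← map_mul, ← MulAction.mem_stabilizer_iff, hstab, coe_mul, coe_inv, mul_smul, inv_smul_eq_iff]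
    exact hyd.symm
  have hσT : ∀ x ∈ T, σ x = (π ⟨s, hsL⟩)⁻¹ * x * ((π ⟨s, hsL⟩)⁻¹)⁻¹ := by
    intro x hx
    obtain ⟨y, hy, rfl⟩ := hsurj x hx
    rw [hσ, ← map_inv, ← map_inv, ← map_mul, ← map_mul]
    refine congrArg π (Subtype.ext ?_)
    show g * (y : G) * g⁻¹ = s⁻¹ * (y : G) * s⁻¹⁻¹
    rw [hg, show s⁻¹ * r * (y : G) * (s⁻¹ * r)⁻¹ = s⁻¹ * (r * (y : G) * r⁻¹) * s⁻¹⁻¹ by group,
      mul_inv_eq_iff_eq_mul.2 (hrS y hy y.2).eq]
  have hsZ := inv_mem (S.mem_Z_of_twist σ hD (inv_mem (hmemT ⟨s, hsL⟩ hs)) hσT)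
  rw [inv_inv] at hsZ
  -- `s` is central in `P ∩ L` and has square one
  have hO2 : ∀ y : ↥(C.L u), (y : G) ∈ P → π y = 1 → (y : G) = 1 := by
    intro y hy h
    obtain ⟨i, hi⟩ := hP ⟨(y : G), hy⟩
    refine hu.eq_one_of_mem_Om C (i := i) ⟨y, ?_, rfl⟩ (congrArg Subtype.val hi)
    have := (QuotientGroup.eq_one_iff y).1 h
    rwa [hOdef, hu.oddCore_eq_fixKer C hp] at this
  have hss : s * s = 1 := hO2 (⟨s, hsL⟩ * ⟨s, hsL⟩) (mul_mem hs hs) (by
    rw [map_mul]; exact S.Z_sq hsZ)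
  have hsE : s ∈ E := by
    by_cases hs1 : s = 1
    · rw [hs1]; exact one_mem _
    exact hE.mem_of_two C (hu.mem_Ea C hsL (orderOf_eq_two hss hs1) (hPa s hs).1) hP hEP hs
  have hcent : ∀ y ∈ P, y ∈ C.L u → Commute s y := by
    intro y hy hyL
    refine mul_inv_eq_iff_eq_mul.1 (mul_inv_eq_one.1 (hO2
      (⟨s, hsL⟩ * ⟨y, hyL⟩ * ⟨s, hsL⟩⁻¹ * ⟨y, hyL⟩⁻¹)
      (mul_mem (mul_mem (mul_mem hs hy) (inv_mem hs)) (inv_mem hy)) ?_))
    rw [map_mul, map_mul, map_mul, map_inv, map_inv,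
      S.central _ hsZ _ (hmemT ⟨y, hyL⟩ hy)]
    group
  refine ⟨s, hsE, fun c hc => ?_⟩
  have hfd : (s * r) • d = d := by rw [mul_smul, ← hsd, smul_smul, hss, one_smul]
  by_cases hca : c = a
  · rw [hca, mul_smul, hra, (hPa s hs).1]
  obtain ⟨y, hy, hyL, rfl⟩ := hu.exists_two_move C hp ha hE hP hPa hmax hud hc hda hca
  rw [smul_smul, ((hcent y hy hyL).mul_left (hrS y hy hyL)).eq, mul_smul, hfd]

/-- **The graph map**: when `P` is largest at `a` for `v` and for `v x`, the kernel `R` on the fixed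
points of `v` has a homomorphism into `E` sending `v` to `x`. -/
theorem Bad.exists_graph {v : G} (hv : C.Bad v) (hf : ∀ v : G, orderOf v = 2 → ∃ c : C.Pt, v • c ≠ c)
    {a b : C.Pt} (hba : b ≠ a) (hvb : v • b = b) (ha : v • a = a) {E : Subgroup G} (hE : C.IsE v a E)
    {x : G} (hx : x ∈ E) (hx1 : x ≠ 1) (hp' : PairRank ↥(C.L (v * x))) (hE' : C.IsE (v * x) a E)
    {P : Subgroup G} (hP : IsPGroup 2 P) (hEP : E ≤ P)
    (hPa : ∀ g ∈ P, g • a = a ∧ Commute g v ∧ Commute g x)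
    (hmax : ∀ P' : Subgroup G, IsPGroup 2 P' → (∀ g ∈ P', g • a = a ∧ Commute g (v * x)) →
      Nat.card P' ≤ Nat.card P)
    {R : Subgroup G} (hRP : R ≤ P) (hvR : v ∈ R)
    (hR : ∀ g ∈ R, ∀ c : C.Pt, v • c = c → g • c = c) :
    ∃ ψ : ↥R → G, (∀ r, ψ r ∈ E) ∧ (∀ r r', ψ (r * r') = ψ r * ψ r') ∧
      (∀ (r : ↥R) (c : C.Pt), (v * x) • c = c → (ψ r * (r : G)) • c = c) ∧ ψ ⟨v, hvR⟩ = x := by
  classical
  haveI : Fact (Nat.Prime 2) := ⟨Nat.prime_two⟩
  have hxZ := hE.mem x hx hx1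
  obtain ⟨hu, hua, -, -⟩ : C.Bad (v * x) ∧ (v * x) • a = a ∧ True ∧ True :=
    ⟨hv.mul_bad C (hf v hv.1) ⟨hxZ.1.1, hxZ.2⟩, by rw [mul_smul, hxZ.1.2, ha], trivial, trivial⟩
  have hPu : ∀ g ∈ P, g • a = a ∧ Commute g (v * x) := fun g hg =>
    ⟨(hPa g hg).1, (hPa g hg).2.1.mul_right (hPa g hg).2.2⟩
  -- members of `E` at `b`
  have hEb : ∀ e ∈ E, e • b = b → e = 1 := fun e he h => by
    by_contra h1
    exact hba (C.fix_unique (hE.mem e he h1).1.1 h (hE.mem e he h1).1.2)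
  have hRS : ∀ r ∈ R, ∀ s ∈ P, s ∈ C.L (v * x) → Commute r s := by
    intro r hr s hs hsL
    set y := r * s * r⁻¹ * s⁻¹ with hy
    have hrP := hRP hr
    have hyP : y ∈ P := mul_mem (mul_mem (mul_mem hrP hs) (inv_mem hrP)) (inv_mem hs)
    have hyL : y ∈ C.L (v * x) :=
      mul_mem (C.conj_mem_L_of_commute (hPu r hrP).2 hsL) (inv_mem hsL)
    have hyR : ∀ c : C.Pt, v • c = c → y • c = c := by
      intro c hc
      have hc' : v • (s⁻¹ • c) = s⁻¹ • c := by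
        rw [smul_smul, ← (hPa s hs).2.1.inv_left.eq, mul_smul, hc]
      rw [hy, mul_smul, mul_smul, mul_smul, inv_smul_eq_iff.2 (hR r hr _ hc').symm, smul_inv_smul,
        hR r hr c hc]
    refine mul_inv_eq_iff_eq_mul.1 (mul_inv_eq_one.1 (?_ : y = 1))
    by_contra hy1
    -- the involution among the powers of `y`
    obtain ⟨i, hi⟩ := hP ⟨y, hyP⟩
    obtain ⟨l, -, hl⟩ := (Nat.dvd_prime_pow Nat.prime_two).1
      (orderOf_dvd_of_pow_eq_one (show y ^ 2 ^ i = 1 from congrArg Subtype.val hi))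
    have hl0 : l ≠ 0 := fun h => hy1 (orderOf_eq_one_iff.1 (by rw [hl, h, pow_zero]))
    have hw : orderOf (y ^ 2 ^ (l - 1)) = 2 := by
      rw [orderOf_pow' _ (by positivity), hl, Nat.gcd_eq_right (pow_dvd_pow 2 (Nat.sub_le l 1)),
        Nat.pow_div (Nat.sub_le l 1) two_pos, show l - (l - 1) = 1 by omega, pow_one]
    have hwE : y ^ 2 ^ (l - 1) ∈ E := hE'.mem_of_two C
      (hu.mem_Ea C (pow_mem hyL _) hw (hPa _ (pow_mem hyP _)).1) hP hEP (pow_mem hyP _)
    exact ne_one hw (hEb _ hwE (MulAction.mem_stabilizer_iff.1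
      (pow_mem (MulAction.mem_stabilizer_iff.2 (hyR b hvb)) _)))
  have hex : ∀ r : ↥R, ∃ e ∈ E, ∀ c : C.Pt, (v * x) • c = c → (e * (r : G)) • c = c := fun r =>
    hu.exists_fix_all C hp' hua hE' hP hEP hPu hmax (hPa r (hRP r.2)).1 (hPu r (hRP r.2)).2
      fun s hs hsL => hRS r r.2 s hs hsL
  choose ψ hψE hψ using hex
  obtain ⟨c, hca, hc⟩ := hu.exists_other C a
  have huniq : ∀ (r : G) (e e' : G), e ∈ E → e' ∈ E → (e * r) • c = c → (e' * r) • c = c → e = e' := by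
    intro r e e' he he' h h'
    by_contra hne
    have h1 : e * e' ≠ 1 := fun h1 =>
      hne (mul_right_cancel (b := e') (h1.trans (hE.mul_self C he').symm))
    refine hca (C.fix_unique (hE.mem _ (mul_mem he he') h1).1.1 ?_ (hE.mem _ (mul_mem he he') h1).1.2)
    have e1 : r • c = e' • c := by
      rw [mul_smul] at h'
      calc r • c = e' • e' • r • c := by rw [smul_smul, hE.mul_self C he', one_smul]
        _ = e' • c := by rw [h']
    rw [mul_smul] at h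
    rw [mul_smul, ← e1, h]
  have hRE : ∀ r ∈ R, ∀ e ∈ E, Commute r e := fun r hr e he => by
    by_cases h : e = 1
    · rw [h]; exact Commute.one_right r
    exact hRS r hr e (hEP he) (C.mem_L_of_Ea (hE'.mem e he h))
  refine ⟨ψ, hψE, fun r r' => ?_, hψ, ?_⟩
  · refine huniq ((r * r' : ↥R) : G) _ _ (hψE _) (mul_mem (hψE r) (hψE r')) (hψ _ c hc) ?_
    rw [Subgroup.coe_mul, show ψ r * ψ r' * ((r : G) * r') = ψ r * (ψ r' * r) * r' by group,
      ← (hRE r r.2 _ (hψE r')).eq,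
      show ψ r * ((r : G) * ψ r') * r' = ψ r * r * (ψ r' * r') by group, mul_smul, hψ r' c hc, hψ r c hc]
  · refine huniq v _ x (hψE _) hx (hψ ⟨v, hvR⟩ c hc) ?_
    rw [hxZ.2.eq, hc]

end Ctx

end CfsgLib.Criterion
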