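import Cfsg.Agent.Criterion.TypeKernel

/-!
# The strong embedding criterion: elements without fixed classes, thin local groups

When the elements fixing all fixed points of `v` are trivial and there is no crossing member, an
element fixing `a` and `b`, centralising `v` and fixing no member at `a` centralising `v` fixes no
third point: at a fixed point of `v` the regular 2-group gives it a fixed member, at a moved point
the only swapper centralising `v` is fixed.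
-/

set_option autoImplicit false
set_option linter.style.haveILetI false
set_option linter.unusedSectionVars false

namespace CfsgLib.Criterion

open Subgroup CfsgLib.Invol CfsgLib.Bender

universe u

variable {G : Type u} [Group G] [Finite G]

namespace Ctx

variable (C : Ctx G)

/-- A 2-element of the local group at `a` is determined by the image of a further fixed point when
no element but `1` fixes all fixed points. -/
theorem Bad.eq_of_two_at {v : G} (hv : C.Bad v) (hp : PairRank ↥(C.L v)) {a b : C.Pt}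
    (ha : v • a = a) (hb : v • b = b) (hab : b ≠ a) {E : Subgroup G} (hE : C.IsE v a E)
    (hO : ∀ o ∈ C.Om v, o = 1) {s s' : G} (hs : s ∈ C.L v) (hs' : s' ∈ C.L v) (hsa : s • a = a)
    (hs'a : s' • a = a) {i i' : ℕ} (h2 : s ^ 2 ^ i = 1) (h2' : s' ^ 2 ^ i' = 1)
    (h : s • b = s' • b) : s = s' := by
  obtain ⟨K, hfa, T, t, S, -, -, hK⟩ := hv.exists_setup C hp ha hE
  haveI := hfa
  set π := QuotientGroup.mk' (Cfsg.oddCore ↥(C.L v)) with hπ
  have hO' : Cfsg.oddCore ↥(C.L v) ≤ C.LH v a := hv.oddCore_le_LH C hp ha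
  have hKiff : ∀ y : ↥(C.L v), π y ∈ K ↔ (y : G) • a = a := fun y => by
    rw [hK, ← mem_comap, comap_map_eq_self (by rw [hπ, QuotientGroup.ker_mk']; exact hO'), C.mem_LH]
  have hmemT : ∀ (y : ↥(C.L v)) (i : ℕ), (y : G) • a = a → y ^ 2 ^ i = 1 → π y ∈ T := by
    intro y i hya hy
    obtain ⟨q, hq, d, hd, e⟩ := Recog.RankOne.exists_mul S.setup
      (StrongEmbed.smul_mk_one_iff.2 ((hKiff y).2 hya))
    obtain ⟨q', hq', e'⟩ := exists_mul_pow (T := T) (S.setup.conj_mem d hd.1) hq (2 ^ i)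
    rw [← e, ← map_pow, hy, map_one] at e'
    have h1 : d ^ 2 ^ i = 1 := by
      refine Recog.RankOne.eq_one_of_mem_D S.setup ?_ (pow_mem hd.2 _)
      rw [eq_inv_of_mul_eq_one_right e'.symm]
      exact inv_mem hq'
    rw [e, show d = 1 from Consumers.eq_one_of_two_of_odd
      (S.setup.odd_card.of_dvd_nat (Subgroup.orderOf_dvd_natCard _ hd)) h1, mul_one]
    exact hq
  set k : ↥(C.L v) := ⟨s', hs'⟩⁻¹ * ⟨s, hs⟩ with hk
  have hkT : π k ∈ T := by
    rw [hk, map_mul, map_inv]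
    exact mul_mem (inv_mem (hmemT ⟨s', hs'⟩ i' hs'a (Subtype.ext h2')))
      (hmemT ⟨s, hs⟩ i hsa (Subtype.ext h2))
  obtain ⟨l, hl, hlb⟩ := C.exists_mem_L_move hv ha hb
  set l' : ↥(C.L v) := ⟨l, hl⟩ with hl'
  let ι : (↥(C.L v) ⧸ Cfsg.oddCore ↥(C.L v)) ⧸ K :=
    (((1 : ↥(C.L v) ⧸ Cfsg.oddCore ↥(C.L v)) : (↥(C.L v) ⧸ Cfsg.oddCore ↥(C.L v)) ⧸ K))
  have hne : π l' • ι ≠ ι := fun e => hab (by
    rw [← hlb]; exact (hKiff l').1 (StrongEmbed.smul_mk_one_iff.1 e))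
  have hfix : π k • π l' • ι = π l' • ι := by
    have h1 : (π l')⁻¹ * π k * π l' ∈ K := by
      rw [← map_inv, ← map_mul, ← map_mul, hKiff]
      show (l⁻¹ * (s'⁻¹ * s) * l) • a = a
      rw [mul_smul, mul_smul, hlb, mul_smul, h, inv_smul_smul, inv_smul_eq_iff, hlb]
    have h2 : ((π l')⁻¹ * π k * π l') • ι = ι := StrongEmbed.smul_mk_one_iff.2 h1
    rwa [mul_smul, mul_smul, inv_smul_eq_iff] at h2
  have h1 := (QuotientGroup.eq_one_iff _).1 (Recog.RankOne.eq_one_of_fix S.setup hkT hne hfix)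
  rw [hv.oddCore_eq_fixKer C hp] at h1
  exact (inv_mul_eq_one.1 (hO _ ⟨k, h1, rfl⟩ : s'⁻¹ * s = 1)).symm

/-- An element centralising `v`, fixing `a` and `b` and no member at `a` centralising `v` fixes no
further fixed point of `v`. -/
theorem Bad.eq_of_thin_fixed {v : G} (hv : C.Bad v) (hp : PairRank ↥(C.L v)) {a b : C.Pt}
    (ha : v • a = a) (hb : v • b = b) (hab : b ≠ a) {E : Subgroup G} (hE : C.IsE v a E)
    (hO : ∀ o ∈ C.Om v, o = 1) {g : G} (hgv : Commute g v) (hga : g • a = a) (hgb : g • b = b)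
    (hfree : ∀ x ∈ C.Ea v a, ¬ Commute g x) {c : C.Pt} (hvc : v • c = c) (hgc : g • c = c) :
    c = a ∨ c = b := by
  haveI : Fact (Nat.Prime 2) := ⟨Nat.prime_two⟩
  refine or_iff_not_imp_left.2 fun hca => ?_
  obtain ⟨S, hS⟩ := hv.exists_reg C hp ha
  obtain ⟨s, hs, hsb⟩ := hS.trans b c hb hab hvc hca
  obtain ⟨i, hi⟩ := hS.two ⟨s, hs⟩
  have hi' : s ^ 2 ^ i = 1 := congrArg Subtype.val hi
  have hgs : g * s * g⁻¹ = s := by
    refine hv.eq_of_two_at C hp ha hb hab hE hO (i := i) (i' := i)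
      (C.conj_mem_L_of_commute hgv (hS.le hs)) (hS.le hs) ?_ (hS.fix s hs) ?_ hi' ?_
    · rw [mul_smul, mul_smul, inv_smul_eq_iff.2 hga.symm, hS.fix s hs, hga]
    · rw [conj_pow, hi', mul_one, mul_inv_cancel]
    · rw [mul_smul, mul_smul, inv_smul_eq_iff.2 hgb.symm, hsb, hgc]
  by_contra hcb
  have hs1 : s ≠ 1 := fun h => hcb (by rw [← hsb, h, one_smul])
  obtain ⟨k, hk⟩ := IsPGroup.iff_orderOf.1 hS.two ⟨s, hs⟩
  rw [← Subgroup.orderOf_coe] at hk
  obtain ⟨l, rfl⟩ := Nat.exists_eq_succ_of_ne_zero fun h : k = 0 =>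
    hs1 (orderOf_eq_one_iff.1 (by simpa [h] using hk))
  have hu : orderOf (s ^ 2 ^ l) = 2 := by
    rw [orderOf_pow' s (pow_ne_zero _ two_ne_zero), hk, Nat.gcd_eq_right (pow_dvd_pow 2 l.le_succ),
      pow_succ, Nat.mul_div_cancel_left _ (pow_pos two_pos _)]
  refine hfree _ (hv.mem_Ea C (pow_mem (hS.le hs) _) hu
    (MulAction.mem_stabilizer_iff.1 (pow_mem (MulAction.mem_stabilizer_iff.2 (hS.fix s hs)) _))) ?_
  exact (show Commute g s from mul_inv_eq_iff_eq_mul.1 hgs).pow_right _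

/-- **Thin semiregularity**: without crossing members and with only `1` fixing all fixed points of
`v`, an element centralising `v`, fixing `a`, `b` and no member at `a` centralising `v` fixes no
third point. -/
theorem Bad.no_third_of_thin {v : G} (hv : C.Bad v)
    (hf : ∀ v : G, orderOf v = 2 → ∃ c : C.Pt, v • c ≠ c) (hp : PairRank ↥(C.L v)) {a b : C.Pt}
    (ha : v • a = a) (hb : v • b = b) (hab : b ≠ a) {E : Subgroup G} (hE : C.IsE v a E)
    (h0 : C.Cross v a = ∅) (hO : ∀ o ∈ C.Om v, o = 1) {g : G} (hgv : Commute g v) (hga : g • a = a)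
    (hgb : g • b = b) (hfree : ∀ x ∈ C.Ea v a, ¬ Commute g x) {c : C.Pt} (hgc : g • c = c) :
    c = a ∨ c = b := by
  by_cases hvc : v • c = c
  · exact hv.eq_of_thin_fixed C hp ha hb hab hE hO hgv hga hgb hfree hvc hgc
  exfalso
  obtain ⟨x, hx, hxv⟩ := C.exists_commute_at (mul_self_eq_one hv.1) ha
  have hxE : x ∈ C.Ea v a := ⟨hx, hxv⟩
  obtain ⟨hv', ha', hx', hp'⟩ := hv.mul_Ea C hf hp ha hxE
  have hj : Nat.card (C.cls v a x) = 1 := by
    refine Nat.card_eq_one_iff_unique.2 ⟨⟨fun y y' => Subtype.ext ?_⟩,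
      ⟨⟨x, hxE, by rw [C.mul_self_Z hx.1, orderOf_one]; exact odd_one⟩⟩⟩
    have key : ∀ y : C.cls v a x, x = y.1 := fun y =>
      (eq_inv_of_mul_eq_one_left (hO _ ((hv.odd_iff C hp ha hxE y.2.1).1 y.2.2))).trans
        (C.inv_Z y.2.1.1.1)
    exact (key y).symm.trans (key y')
  obtain ⟨-, h2⟩ := hv.count C hf hp ha hxE hE hvc
  have hq := Bad.one_lt_E C hxE hE
  have hj' := Bad.card_cls_pos C hx'
  have h3 : Nat.card (C.Cross v a) = 0 := by rw [h0]; exact Nat.card_of_isEmpty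
  rw [h3, add_zero, hj, mul_one] at h2
  have hr : Nat.card (C.CX v c) = 1 :=
    Nat.eq_of_mul_eq_mul_right (Nat.mul_pos (show 0 < Nat.card E - 1 by omega) hj')
      (by rw [h2, one_mul])
  obtain ⟨hsub, ⟨⟨w, hwX, hwv⟩⟩⟩ := Nat.card_eq_one_iff_unique.1 hr
  have hmem : g * w * g⁻¹ ∈ C.CX v c := by
    refine ⟨?_, (hgv.mul_left hwv).mul_left hgv.inv_left⟩
    have := C.conj_mem_X (g := g) hwX
    rwa [smul_smul, hgv.eq, mul_smul, hgc] at this
  have hgw : Commute g w :=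
    mul_inv_eq_iff_eq_mul.1 (congrArg Subtype.val (hsub.elim ⟨_, hmem⟩ ⟨w, hwX, hwv⟩))
  obtain ⟨p, hwp⟩ := C.exists_fix hwX.1
  have hvp : v • p = p := C.smul_eq_of_commute_Z hwX.1 hwv hwp
  have hgp : g • p = p := C.smul_eq_of_commute_Z hwX.1 hgw.symm hwp
  rcases hv.eq_of_thin_fixed C hp ha hb hab hE hO hgv hga hgb hfree hvp hgp with rfl | rfl
  · exact hfree w ⟨⟨hwX.1, hwp⟩, hwv⟩ hgw
  · have h1 : v • (w • a) = w • a := by rw [smul_smul, ← hwv.eq, mul_smul, ha]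
    have h2 : g • (w • a) = w • a := by rw [smul_smul, hgw.eq, mul_smul, hga]
    rcases hv.eq_of_thin_fixed C hp ha hb hab hE hO hgv hga hgb hfree h1 h2 with h | h
    · exact hab (C.fix_unique hwX.1 hwp h)
    · exact hab (smul_left_cancel w (hwp.trans h.symm))

/-- **A torus in the local group, on classes**: an element of odd order fixing `a` and `b` whose
powers are transitive on the classes at `a`, a power fixing a class only if its exponent is divisible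
by `q - 1`. -/
theorem Bad.exists_torus_class {v : G} (hv : C.Bad v) (hp : PairRank ↥(C.L v)) {a b : C.Pt}
    (ha : v • a = a) (hb : v • b = b) (hab : b ≠ a) {E : Subgroup G} (hE : C.IsE v a E) :
    ∃ t ∈ C.L v, t • a = a ∧ t • b = b ∧ Odd (orderOf t) ∧
      (∀ x ∈ C.Ea v a, ∀ y ∈ C.Ea v a,
        ∃ k : ℕ, Odd (orderOf (t ^ k * x * (t ^ k)⁻¹ * y))) ∧
      ∀ x ∈ C.Ea v a, ∀ k : ℕ, Odd (orderOf (t ^ k * x * (t ^ k)⁻¹ * x)) → Nat.card E - 1 ∣ k := by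
  haveI : Fact (Nat.Prime 2) := ⟨Nat.prime_two⟩
  obtain ⟨K, hfa, T, w, S, -, hZ, hK⟩ := hv.exists_setup C hp ha hE
  haveI := hfa
  set π := QuotientGroup.mk' (Cfsg.oddCore ↥(C.L v)) with hπ
  have hO : Cfsg.oddCore ↥(C.L v) ≤ C.LH v a := hv.oddCore_le_LH C hp ha
  have hKiff : ∀ y : ↥(C.L v), π y ∈ K ↔ (y : G) • a = a := fun y => by
    rw [hK, ← mem_comap, comap_map_eq_self (by rw [hπ, QuotientGroup.ker_mk']; exact hO), C.mem_LH]
  -- the classes are the involutions of the centre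
  have hxZ : ∀ (x : G) (hx : x ∈ C.Ea v a),
      π ⟨x, C.mem_L_of_Ea hx⟩ ∈ S.Z ∧ π ⟨x, C.mem_L_of_Ea hx⟩ ≠ 1 := by
    intro x hx
    have hsq : π ⟨x, C.mem_L_of_Ea hx⟩ * π ⟨x, C.mem_L_of_Ea hx⟩ = 1 := by
      rw [← map_mul, show (⟨x, C.mem_L_of_Ea hx⟩ : ↥(C.L v)) * ⟨x, C.mem_L_of_Ea hx⟩ = 1 from
        Subtype.ext (C.mul_self_Z hx.1.1), map_one]
    refine ⟨(S.mem_Z _).2 ⟨Recog.RankOne.mem_Q S.setup
      (StrongEmbed.smul_mk_one_iff.2 ((hKiff _).2 hx.1.2)) hsq, hsq⟩, fun h => ?_⟩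
    have h1 := IsoApps.odd_of_mem_oddCore ((QuotientGroup.eq_one_iff _).1 h)
    rw [← Subgroup.orderOf_coe, C.orderOf_Z hx.1.1] at h1
    exact absurd h1 (by decide)
  have hodd_iff : ∀ (x : G) (hx : x ∈ C.Ea v a) (y : G) (hy : y ∈ C.Ea v a),
      Odd (orderOf (x * y)) ↔ π ⟨x, C.mem_L_of_Ea hx⟩ = π ⟨y, C.mem_L_of_Ea hy⟩ := by
    intro x hx y hy
    rw [hv.odd_iff C hp ha hx hy, hπ, QuotientGroup.mk'_apply, QuotientGroup.mk'_apply,
      QuotientGroup.eq, hv.oddCore_eq_fixKer C hp]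
    have e : ((⟨x, C.mem_L_of_Ea hx⟩ : ↥(C.L v))⁻¹ * ⟨y, C.mem_L_of_Ea hy⟩ : ↥(C.L v)) =
        ⟨x * y, mul_mem (C.mem_L_of_Ea hx) (C.mem_L_of_Ea hy)⟩ := Subtype.ext (by
      show x⁻¹ * y = x * y
      rw [C.inv_Z hx.1.1])
    rw [e]
    exact ⟨fun ⟨o, ho, h⟩ => by
      rwa [← show o = ⟨x * y, mul_mem (C.mem_L_of_Ea hx) (C.mem_L_of_Ea hy)⟩ from Subtype.ext h],
      fun h => ⟨_, h, rfl⟩⟩
  -- a lift of the generator of the torus
  obtain ⟨⟨k₀, hk₀⟩, hgen⟩ := S.K_cyclic.exists_generator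
  have hnat : ∀ k ∈ S.K, ∃ n : ℕ, k₀ ^ n = k := fun k hk => by
    obtain ⟨n, hn⟩ := Submonoid.mem_powers_iff _ _ |>.1 (mem_powers_iff_mem_zpowers.2 (hgen ⟨k, hk⟩))
    exact ⟨n, congrArg Subtype.val hn⟩
  obtain ⟨y₀, hy₀, hy₀k⟩ : k₀ ∈ (C.LH v a).map π :=
    hK ▸ StrongEmbed.smul_mk_one_iff.1 (MulAction.mem_stabilizer_iff.1 (S.K_le hk₀).1)
  have hy₀a : (y₀ : G) • a = a := C.mem_LH.1 hy₀
  obtain ⟨R, hR⟩ := hv.exists_reg C hp ha
  obtain ⟨r, hr, hrb⟩ := hR.trans ((y₀ : G) • b) b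
    (by rw [smul_smul, ← (C.commute_of_mem_L y₀.2).eq, mul_smul, hb])
    (fun h => hab (smul_left_cancel (y₀ : G) (h.trans hy₀a.symm))) hb hab
  set t : ↥(C.L v) := ⟨r, hR.le hr⟩ * y₀ with ht
  have hta : (t : G) • a = a := by
    show (r * (y₀ : G)) • a = a
    rw [mul_smul, hy₀a, hR.fix r hr]
  have htb : (t : G) • b = b := by
    show (r * (y₀ : G)) • b = b
    rw [mul_smul, hrb]
  have hrT : π ⟨r, hR.le hr⟩ ∈ T := by
    obtain ⟨i, hi⟩ := hR.two ⟨r, hr⟩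
    obtain ⟨q, hq, d, hd, e⟩ := Recog.RankOne.exists_mul S.setup
      (StrongEmbed.smul_mk_one_iff.2 ((hKiff ⟨r, hR.le hr⟩).2 (hR.fix r hr)))
    obtain ⟨q', hq', e'⟩ := exists_mul_pow (T := T) (S.setup.conj_mem d hd.1) hq (2 ^ i)
    rw [← e, ← map_pow, show (⟨r, hR.le hr⟩ : ↥(C.L v)) ^ 2 ^ i = 1 from
      Subtype.ext (congrArg Subtype.val hi : r ^ 2 ^ i = 1), map_one] at e'
    have h1 : d ^ 2 ^ i = 1 := by
      refine Recog.RankOne.eq_one_of_mem_D S.setup ?_ (pow_mem hd.2 _)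
      rw [eq_inv_of_mul_eq_one_right e'.symm]
      exact inv_mem hq'
    rw [e, show d = 1 from Consumers.eq_one_of_two_of_odd
      (S.setup.odd_card.of_dvd_nat (Subgroup.orderOf_dvd_natCard _ hd)) h1, mul_one]
    exact hq
  have htπ : ∀ n : ℕ, ∃ g ∈ T, π (t ^ n) = g * k₀ ^ n := by
    intro n
    induction n with
    | zero => exact ⟨1, one_mem _, by rw [pow_zero, pow_zero, map_one, one_mul]⟩
    | succ n ih =>
      obtain ⟨g, hg, e⟩ := ih
      refine ⟨g * (k₀ ^ n * π ⟨r, hR.le hr⟩ * (k₀ ^ n)⁻¹),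
        mul_mem hg (S.conj_Q (pow_mem hk₀ n) hrT), ?_⟩
      rw [pow_succ, map_mul, e, ht, map_mul, hy₀k, pow_succ]
      group
  have hact : ∀ (n : ℕ) (x : G) (hx : x ∈ C.Ea v a)
      (hx' : (t : G) ^ n * x * ((t : G) ^ n)⁻¹ ∈ C.Ea v a),
      π ⟨_, C.mem_L_of_Ea hx'⟩ = k₀ ^ n * π ⟨x, C.mem_L_of_Ea hx⟩ * (k₀ ^ n)⁻¹ := by
    intro n x hx hx'
    obtain ⟨g, hg, e⟩ := htπ n
    rw [show (⟨_, C.mem_L_of_Ea hx'⟩ : ↥(C.L v)) = t ^ n * ⟨x, C.mem_L_of_Ea hx⟩ * (t ^ n)⁻¹ from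
      Subtype.ext (by simp), map_mul, map_mul, map_inv, e]
    set z := k₀ ^ n * π ⟨x, C.mem_L_of_Ea hx⟩ * (k₀ ^ n)⁻¹ with hz
    have hc : z * g = g * z := S.central z (S.conj_Z (pow_mem hk₀ n) (hxZ x hx).1) g hg
    calc g * k₀ ^ n * π ⟨x, C.mem_L_of_Ea hx⟩ * (g * k₀ ^ n)⁻¹ = g * z * g⁻¹ := by rw [hz]; group
      _ = z := by rw [← hc, mul_inv_cancel_right]
  have hmem : ∀ (n : ℕ) {x : G}, x ∈ C.Ea v a → (t : G) ^ n * x * ((t : G) ^ n)⁻¹ ∈ C.Ea v a := by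
    intro n x hx
    have := C.conj_mem_Ea_L (g := (t : G) ^ n) (pow_mem t.2 n) hx
    rwa [MulAction.mem_stabilizer_iff.1 (pow_mem (MulAction.mem_stabilizer_iff.2 hta) n)] at this
  refine ⟨t, t.2, hta, htb, ?_, fun x hx y hy => ?_, fun x hx n hn => ?_⟩
  · rw [← Nat.not_even_iff_odd]
    intro hev
    have h2 : orderOf ((t : G) ^ (orderOf (t : G) / 2)) = 2 := by
      rw [orderOf_pow' _ (by have := orderOf_pos (t : G); obtain ⟨m, hm⟩ := hev; omega),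
        Nat.gcd_eq_right (Nat.div_dvd_of_dvd hev.two_dvd), Nat.div_div_self hev.two_dvd]
      exact (orderOf_pos (t : G)).ne'
    refine hab (C.fix_unique (hv.mem_Z_of_mem_L C (pow_mem t.2 _) h2) ?_ ?_)
    · exact MulAction.mem_stabilizer_iff.1 (pow_mem (MulAction.mem_stabilizer_iff.2 htb) _)
    · exact MulAction.mem_stabilizer_iff.1 (pow_mem (MulAction.mem_stabilizer_iff.2 hta) _)
  · obtain ⟨k, hk, hkk⟩ := S.trans _ (hxZ x hx).1 (hxZ x hx).2 _ (hxZ y hy).1 (hxZ y hy).2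
    obtain ⟨n, hn⟩ := hnat _ (inv_mem hk)
    refine ⟨n, (hodd_iff _ (hmem n hx) y hy).2 ?_⟩
    rw [hact n x hx (hmem n hx), hn, inv_inv, hkk]
  · have h1 := (hodd_iff _ (hmem n hx) x hx).1 hn
    rw [hact n x hx (hmem n hx)] at h1
    have hk1 : k₀ ^ n = 1 := by
      by_contra hne
      exact (hxZ x hx).2 (S.fpf _ (pow_mem hk₀ n) hne _ (S.Z_le (hxZ x hx).1)
        (mul_inv_eq_iff_eq_mul.1 h1))
    have hcard : orderOf k₀ = Nat.card E - 1 := by
      rw [← hZ, ← S.card_K, Nat.add_sub_cancel, ← orderOf_eq_card_of_forall_mem_zpowers hgen,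
        ← Subgroup.orderOf_coe]
    rw [← hcard]
    exact orderOf_dvd_of_pow_eq_one hk1

end Ctx

end CfsgLib.Criterion
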