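import Cfsg.Agent.Criterion.TypeCount
import Cfsg.Agent.Criterion.TypeTorus
import Cfsg.Agent.Criterion.TypeShift

/-!
# The strong embedding criterion: the lines at `a` and their translations

With a kernel `R` of order four or more every element of `R` has on each line `Fix (v y)` one partner
in `E`, and `y ↦` partner is conjugation by a power of the torus.  From this some element at `a`
centralises `E`, acts trivially on `R E / E` and moves `v`.
-/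

set_option autoImplicit false
set_option linter.style.haveILetI false
set_option linter.unusedSectionVars false

namespace CfsgLib.Criterion

open Subgroup CfsgLib.Invol CfsgLib.Bender

universe u

variable {G : Type u} [Group G] [Finite G]

namespace Ctx

variable (C : Ctx G)

namespace Kern

variable {C} {v : G} {a b : C.Pt} {D E R : Subgroup G} (K : C.Kern v a b D E R)
include K

/-- Each element of `R` has a partner on some line at `a`. -/
theorem exists_graph_one : ∃ x ∈ E, x ≠ 1 ∧ ∀ r ∈ R, ∃ f ∈ E, r * f ∈ C.fixAll (v * x) := by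
  obtain ⟨x₀, hx₀, hx₀v⟩ := C.exists_commute_at K.vv K.va
  obtain ⟨P, E', x, hP, hDP, hPa, hmax, hE', -, hEP, -, hx, hx1, hPx⟩ :=
    K.bad.exists_big_two C K.va K.isE (Bad.one_lt_E C ⟨hx₀, hx₀v⟩ K.isE) K.maxPair.two
      fun g hg => ⟨(K.maxPair.fix g hg).1, (K.maxPair.fix g hg).2.2⟩
  obtain ⟨-, -, -, hpu⟩ := K.bad.mul_Ea C K.hf K.hp K.va (hE'.mem x hx hx1)
  obtain ⟨ψ, hψE, -, hψf, -⟩ := K.bad.exists_graph C K.hf K.ne.symm K.vb K.va hE' hx hx1 hpu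
    (K.bad.isE_mul C K.hf K.hp K.va hE' hx hx1) hP hEP
    (fun g hg => ⟨(hPa g hg).1, (hPa g hg).2, hPx g hg⟩)
    (K.bad.max_two_mul C K.hf K.hp K.va hE' hx hmax) (K.le.trans hDP) K.mem
    fun g hg c hc => K.fix hg hc
  have hEE : ∀ f ∈ E', f ∈ E := fun f hf => by
    by_cases h : f = 1
    · rw [h]; exact one_mem _
    · exact K.ea_mem_E (hE'.mem f hf h)
  refine ⟨x, hEE x hx, hx1, fun r hr => ⟨ψ ⟨r, hr⟩, hEE _ (hψE _), fun c hc => ?_⟩⟩
  have hcomm : Commute r (ψ ⟨r, hr⟩) := K.fixAll_E (fun c hc => K.fix hr hc) (hEE _ (hψE _))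
  rw [hcomm.eq]
  exact hψf ⟨r, hr⟩ c hc

/-- An element of the local group centralises `R`. -/
theorem R_comm_L {r l : G} (hr : r ∈ R) (hl : l ∈ C.L v) : Commute r l :=
  K.fixAll_L (fun _ hc => K.fix hr hc) hl

/-- Each element of `R` has a partner on every line through a fixed point of `v`. -/
theorem graph_at {p : C.Pt} (hp : v • p = p) {w : G} (hw : w ∈ C.Za p) {r : G} (hr : r ∈ R) :
    ∃ f : G, (f = 1 ∨ f ∈ C.Za p) ∧ r * f ∈ C.fixAll (v * w) := by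
  obtain ⟨x, hx, hx1, hg⟩ := K.exists_graph_one
  obtain ⟨f, hf, hrf⟩ := hg r hr
  obtain ⟨l, hl, hla⟩ := C.exists_mem_L_move K.bad K.va hp
  have hw' : l⁻¹ * w * l ∈ C.Za a := by
    have := C.conj_mem_Za (g := l⁻¹) hw
    rwa [← hla, inv_smul_smul, inv_inv] at this
  obtain ⟨m, hm, hma, hmx⟩ := K.bad.exists_conj_at C (K.isE.mem x hx hx1)
    (K.isE.mem _ (K.mem_E_iff.2 (Or.inr hw')) (ne_one (C.orderOf_Z hw'.1)))
  have hk : l * m ∈ C.L v := mul_mem hl hm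
  have hkw : (l * m) * (v * x) * (l * m)⁻¹ = v * w := by
    calc (l * m) * (v * x) * (l * m)⁻¹ = (l * m) * v * (l * m)⁻¹ * (l * (m * x * m⁻¹) * l⁻¹) := by group
      _ = v * w := by rw [C.L_conj_eq hk, hmx]; group
  refine ⟨(l * m) * f * (l * m)⁻¹, ?_, fun c hc => ?_⟩
  · rcases K.mem_E_iff.1 hf with rfl | h
    · left; group
    · right
      have := C.conj_mem_Za (g := l * m) h
      rwa [mul_smul l m a, hma, hla] at this
  · rw [← hkw, C.conj_fixed] at hc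
    have h := hrf _ hc
    rw [show r * (l * m * f * (l * m)⁻¹) = (l * m) * (r * f) * (l * m)⁻¹ from ?_, C.conj_fixed]
    · exact h
    · calc r * (l * m * f * (l * m)⁻¹) = r * (l * m) * f * (l * m)⁻¹ := by group
        _ = (l * m) * r * f * (l * m)⁻¹ := by rw [(K.R_comm_L hr hk).eq]
        _ = _ := by group

theorem bad_mul {y : G} (hy : y ∈ E) (hy1 : y ≠ 1) : C.Bad (v * y) :=
  (K.bad.mul_Ea C K.hf K.hp K.va (K.isE.mem y hy hy1)).1

theorem mul_fix_a {y : G} (hy : y ∈ E) : (v * y) • a = a := by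
  rw [mul_smul, K.isE.le_stab C hy, K.va]

/-- A line at `a` leaves `Fix v` off `a`. -/
theorem line_moved {y : G} (hy : y ∈ E) (hy1 : y ≠ 1) {c : C.Pt} (hc : (v * y) • c = c)
    (hca : c ≠ a) : v • c ≠ c := fun h =>
  hca (K.eq_of_fix_mul K.vv (K.isE.mem y hy hy1).1 h hc)

/-- Only the identity of `E` fixes a line at `a` point by point. -/
theorem eq_one_of_line {y e : G} (hy : y ∈ E) (hy1 : y ≠ 1) (he : e ∈ E)
    (h : e ∈ C.fixAll (v * y)) : e = 1 := by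
  obtain ⟨c, hca, hc⟩ := (K.bad_mul hy hy1).exists_other C a
  exact K.isE.free C he hca (h c hc)

/-- The partner is unique. -/
theorem graph_unique {y : G} (hy : y ∈ E) (hy1 : y ≠ 1) {r f f' : G} (hf : f ∈ E) (hf' : f' ∈ E)
    (h : r * f ∈ C.fixAll (v * y)) (h' : r * f' ∈ C.fixAll (v * y)) : f = f' := by
  refine inv_mul_eq_one.1 (K.eq_one_of_line hy hy1 (mul_mem (inv_mem hf) hf') ?_)
  rw [show f⁻¹ * f' = (r * f)⁻¹ * (r * f') by group]
  exact mul_mem (inv_mem h) h'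

/-- Different elements of `R` have different partners. -/
theorem graph_inj {y : G} (hy : y ∈ E) (hy1 : y ≠ 1) {r r' f : G} (hr : r ∈ R) (hr' : r' ∈ R)
    (h : r * f ∈ C.fixAll (v * y)) (h' : r' * f ∈ C.fixAll (v * y)) : r = r' := by
  by_contra hne
  have hm : r * r'⁻¹ ∈ C.fixAll (v * y) := by
    rw [show r * r'⁻¹ = (r * f) * (r' * f)⁻¹ by group]
    exact mul_mem h (inv_mem h')
  obtain ⟨c, hca, hc⟩ := (K.bad_mul hy hy1).exists_other C a
  exact K.line_moved hy hy1 hc hca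
    ((K.fixed _ (mul_mem hr (inv_mem hr')) (fun e => hne (mul_inv_eq_one.1 e)) c).1 (hm c hc))

/-- The partner at `a` lies in `E`, and is trivial only for the identity. -/
theorem graph {y : G} (hy : y ∈ E) (hy1 : y ≠ 1) {r : G} (hr : r ∈ R) :
    ∃ f ∈ E, r * f ∈ C.fixAll (v * y) ∧ (r ≠ 1 → f ≠ 1) := by
  obtain ⟨f, hf, h⟩ := K.graph_at K.va (K.isE.mem y hy hy1).1 hr
  refine ⟨f, K.mem_E_iff.2 hf, h, fun hr1 hf1 => hr1 ?_⟩
  subst hf1
  exact K.graph_inj hy hy1 hr (one_mem _) h (by rw [one_mul]; exact one_mem _)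

/-- `v` is the partner of itself. -/
theorem mem_fixAll_self (y : G) : v * y ∈ C.fixAll (v * y) := fun _ hc => hc

/-- Two lines at `a` with one further common point are equal. -/
theorem line_inj {y y' : G} (hy : y ∈ E) (hy' : y' ∈ E) {c : C.Pt} (hca : c ≠ a)
    (hc : (v * y) • c = c) (hc' : (v * y') • c = c) : y = y' := by
  refine inv_mul_eq_one.1 (K.isE.free C (mul_mem (inv_mem hy) hy') hca ?_)
  rw [mul_smul, inv_smul_eq_iff]
  rw [mul_smul] at hc hc'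
  exact smul_left_cancel v (hc'.trans hc.symm)

/-- **The torus**: its powers are transitive on `E` without the identity, and one fixing a member
centralises `E`. -/
theorem exists_torus : ∃ t ∈ C.L v, t • a = a ∧ t • b = b ∧
    (∀ x ∈ E, x ≠ 1 → ∀ y ∈ E, y ≠ 1 → ∃ n : ℕ, t ^ n * x * (t ^ n)⁻¹ = y) ∧
    ∀ n : ℕ, ∀ x ∈ E, x ≠ 1 → t ^ n * x * (t ^ n)⁻¹ = x → ∀ y ∈ E, t ^ n * y * (t ^ n)⁻¹ = y := by
  obtain ⟨t, ht, hta, htb, -, htr, -⟩ :=
    K.bad.exists_torus_class C K.hp K.va K.vb K.ne.symm K.isE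
  have hEa : ∀ (n : ℕ) {x : G}, x ∈ E → t ^ n * x * (t ^ n)⁻¹ ∈ E := fun n x hx =>
    K.conj_E (MulAction.mem_stabilizer_iff.1
      (pow_mem (MulAction.mem_stabilizer_iff.2 hta) n)) hx
  have htr' : ∀ x ∈ E, x ≠ 1 → ∀ y ∈ E, y ≠ 1 → ∃ n : ℕ, t ^ n * x * (t ^ n)⁻¹ = y := by
    intro x hx hx1 y hy hy1
    obtain ⟨n, hn⟩ := htr x (K.isE.mem x hx hx1) y (K.isE.mem y hy hy1)
    have h1 : t ^ n * x * (t ^ n)⁻¹ ≠ 1 := fun h => hx1 (conj_eq_one_iff.1 h)
    have h2 := K.Om_one ((K.bad.odd_iff C K.hp K.va (K.isE.mem _ (hEa n hx) h1)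
      (K.isE.mem y hy hy1)).1 hn)
    exact ⟨n, (eq_inv_of_mul_eq_one_left h2).trans
      (inv_eq_of_mul_eq_one_right (K.isE.mul_self C hy))⟩
  refine ⟨t, ht, hta, htb, htr', fun n x hx hx1 hfix y hy => ?_⟩
  by_cases hy1 : y = 1
  · rw [hy1]; group
  obtain ⟨i, rfl⟩ := htr' x hx hx1 y hy hy1
  calc t ^ n * (t ^ i * x * (t ^ i)⁻¹) * (t ^ n)⁻¹
      = (t ^ n * t ^ i) * x * (t ^ n * t ^ i)⁻¹ := by group
    _ = t ^ i * (t ^ n * x * (t ^ n)⁻¹) * (t ^ i)⁻¹ := by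
        rw [← pow_add, add_comm, pow_add]; group
    _ = _ := by rw [hfix]

/-- **The partners are scalars.** -/
theorem exists_scalar {t : G} (ht : t ∈ C.L v)
    (htr : ∀ x ∈ E, x ≠ 1 → ∀ y ∈ E, y ≠ 1 → ∃ n : ℕ, t ^ n * x * (t ^ n)⁻¹ = y)
    {r : G} (hr : r ∈ R) (hr1 : r ≠ 1) :
    ∃ j : ℕ, ∀ y ∈ E, y ≠ 1 → r * (t ^ j * y * (t ^ j)⁻¹) ∈ C.fixAll (v * y) := by
  obtain ⟨x, hx, hx1, -⟩ := K.exists_graph_one
  obtain ⟨f, hf, hrf, hf1⟩ := K.graph hx hx1 hr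
  obtain ⟨j, rfl⟩ := htr x hx hx1 f hf (hf1 hr1)
  refine ⟨j, fun y hy hy1 c hc => ?_⟩
  obtain ⟨i, rfl⟩ := htr x hx hx1 y hy hy1
  have hi : t ^ i ∈ C.L v := pow_mem ht i
  have e1 : v * (t ^ i * x * (t ^ i)⁻¹) = t ^ i * (v * x) * (t ^ i)⁻¹ := by
    calc v * (t ^ i * x * (t ^ i)⁻¹) = v * t ^ i * x * (t ^ i)⁻¹ := by group
      _ = t ^ i * v * x * (t ^ i)⁻¹ := by rw [(C.commute_of_mem_L hi).eq]
      _ = _ := by group
  have e2 : r * (t ^ j * (t ^ i * x * (t ^ i)⁻¹) * (t ^ j)⁻¹) =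
      t ^ i * (r * (t ^ j * x * (t ^ j)⁻¹)) * (t ^ i)⁻¹ := by
    calc r * (t ^ j * (t ^ i * x * (t ^ i)⁻¹) * (t ^ j)⁻¹)
        = r * ((t ^ j * t ^ i) * x * (t ^ j * t ^ i)⁻¹) := by group
      _ = r * ((t ^ i * t ^ j) * x * (t ^ i * t ^ j)⁻¹) := by rw [← pow_add, add_comm, pow_add]
      _ = r * t ^ i * (t ^ j * x * (t ^ j)⁻¹) * (t ^ i)⁻¹ := by group
      _ = t ^ i * r * (t ^ j * x * (t ^ j)⁻¹) * (t ^ i)⁻¹ := by rw [(K.R_comm_L hr hi).eq]
      _ = _ := by group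
  rw [e1, C.conj_fixed] at hc
  rw [e2, C.conj_fixed]
  exact hrf _ hc

set_option maxHeartbeats 1000000 in
/-- **A translation centralising `E`**: an element at `a` centralising `E`, trivial on `R E / E`, that
moves `v`. -/
theorem exists_translation : ∃ g : G, g • a = a ∧ (∀ e ∈ E, Commute g e) ∧
    (∀ r ∈ R, g * r * g⁻¹ * r ∈ E) ∧ g * v * g⁻¹ * v ≠ 1 := by
  classical
  obtain ⟨t, ht, hta, -, htr, -⟩ := K.exists_torus
  have htn : ∀ n : ℕ, t ^ n ∈ C.L v := fun n => pow_mem ht n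
  have hta' : ∀ n : ℕ, (t ^ n) • a = a := fun n =>
    MulAction.mem_stabilizer_iff.1 (pow_mem (MulAction.mem_stabilizer_iff.2 hta) n)
  -- a largest 2-group and the shifts above it
  obtain ⟨E', P, hTyp, hcard⟩ := C.exists_typ K.bad K.faith K.pair K.maxPair K.isE
  have hE'E : E' = E := eq_of_le_of_card_ge (fun f hf => by
    by_cases h : f = 1
    · rw [h]; exact one_mem _
    · exact K.ea_mem_E (hTyp.isE.mem f hf h)) hcard.ge
  subst hE'E
  obtain ⟨T, hT, hPT, hTM, hshift, -⟩ := hTyp.exists_shift_group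
  obtain ⟨c, hc, hc1, -⟩ := K.exists_graph_one
  obtain ⟨h, hhT, hhv⟩ := hshift c hc
  obtain ⟨hha, hhE, -⟩ := hTM h hhT
  have hha' : h⁻¹ • a = a := inv_smul_eq_iff.2 hha.symm
  -- the shifted kernel inside `P`
  set Q := (P ⊓ C.fixAll (v * c)).map (MulAut.conj h⁻¹).toMonoidHom with hQdef
  have hQ : Q = R := by
    refine K.two_fixAll ((hTyp.two.to_le inf_le_left).map _) ?_ fun r hr => ?_
    · rintro _ ⟨z, hz, rfl⟩ d hd
      have h1 : (v * c) • h • d = h • d := by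
        rw [← hhv, mul_smul, mul_smul, inv_smul_smul, hd]
      show (h⁻¹ * z * h⁻¹⁻¹) • d = d
      rw [inv_inv, mul_smul, mul_smul, (mem_inf.1 hz).2 _ h1, inv_smul_smul]
    · refine ⟨h * r * h⁻¹, mem_inf.2 ⟨?_, fun d hd => ?_⟩, show h⁻¹ * (h * r * h⁻¹) * h⁻¹⁻¹ = r by group⟩
      · have hcc : h⁻¹ * c * h ∈ E' := by
          have := K.conj_E hha' hc
          rwa [inv_inv] at this
        refine hTyp.mem_P hT hPT (mul_mem (mul_mem hhT (hPT (hTyp.le (K.le hr)))) (inv_mem hhT))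
          (by rw [mul_smul, mul_smul, hha', K.fix hr K.va, hha]) ?_
        have h1 := (Commute.conj_iff h).2 (K.comm_v hr)
        have h2 := (Commute.conj_iff h).2 (K.fixAll_E (fun d hd => K.fix hr hd) hcc)
        rw [hhv] at h1
        rw [show h * (h⁻¹ * c * h) * h⁻¹ = c by group] at h2
        have h3 := h1.mul_right h2
        rwa [mul_assoc v c c, K.isE.mul_self C hc, mul_one] at h3
      · rw [← hhv] at hd
        rw [C.conj_fixed] at hd ⊢
        exact K.fix hr hd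
  -- an element of `R` other than `1`, `v` and its preimage
  obtain ⟨r', hr', hr'1, hr'v⟩ : ∃ r' ∈ R, r' ≠ 1 ∧ r' ≠ v := by
    by_contra hno
    push Not at hno
    have hle : Nat.card R ≤ Nat.card ({1, v} : Set G) :=
      Nat.card_le_card_of_injective (fun z : R => (⟨(z : G), by
        by_cases h1 : (z : G) = 1
        · exact Or.inl h1
        · exact Or.inr (hno z z.2 h1)⟩ : ({1, v} : Set G))) fun z w e =>
        Subtype.ext (congrArg Subtype.val e :)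
    have h2 : Nat.card ({1, v} : Set G) = 2 := by
      rw [Nat.card_coe_set_eq, Set.ncard_pair (ne_one K.bad.1).symm]
    have := K.big
    omega
  obtain ⟨j', hj'⟩ := K.exists_scalar ht htr hr' hr'1
  set f := t ^ j' * c * (t ^ j')⁻¹ with hfdef
  have hfE : f ∈ E' := K.conj_E (hta' j') hc
  have hrin : ∀ {z e : G}, z ∈ R → e ∈ E' → z * e ∈ C.fixAll (v * c) → h⁻¹ * (z * e) * h ∈ R :=
    fun {z e} hz he hze => by
      rw [← hQ]
      exact ⟨z * e, mem_inf.2 ⟨mul_mem (hTyp.le (K.le hz)) (hTyp.eP he), hze⟩, by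
        show h⁻¹ * (z * e) * h⁻¹⁻¹ = _
        rw [inv_inv]⟩
  set r := h⁻¹ * (r' * f) * h with hrdef
  have hr : r ∈ R := hrin hr' hfE (hj' c hc hc1)
  have hr1 : r ≠ 1 := fun e => by
    have e1 : r' * f = 1 := by
      calc r' * f = h * r * h⁻¹ := by rw [hrdef]; group
        _ = 1 := by rw [e]; group
    have e2 : r' * f ∈ C.fixAll (v * c) ∧ (1 : G) * 1 ∈ C.fixAll (v * c) :=
      ⟨hj' c hc hc1, by rw [one_mul]; exact one_mem _⟩
    obtain ⟨f', hf', hrf', hf'1⟩ := K.graph hc hc1 hr'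
    obtain rfl : f = f' := K.graph_unique hc hc1 hfE hf' e2.1 hrf'
    have e3 : r' = f := (eq_inv_of_mul_eq_one_left e1).trans
      (inv_eq_of_mul_eq_one_right (K.isE.mul_self C hfE))
    exact hf'1 hr'1 (K.isE.free C hfE K.ne.symm (by rw [← e3]; exact K.fix hr' K.vb))
  obtain ⟨j, hj⟩ := K.exists_scalar ht htr hr hr1
  -- `h` carries the scalar of `r` to that of `r'`
  have hscal : ∀ y ∈ E', h * (t ^ j * y * (t ^ j)⁻¹) * h⁻¹ =
      t ^ j' * (h * y * h⁻¹) * (t ^ j')⁻¹ := by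
    intro y hy
    by_cases hy1 : y = 1
    · rw [hy1]; group
    set y' := h * y * h⁻¹ with hy'def
    have hy' : y' ∈ E' := K.conj_E hha hy
    have hyj : h * (t ^ j * y * (t ^ j)⁻¹) * h⁻¹ ∈ E' := K.conj_E hha (K.conj_E (hta' j) hy)
    have hz : r' * (f * (h * (t ^ j * y * (t ^ j)⁻¹) * h⁻¹)) ∈ C.fixAll (v * (c * y')) := by
      intro d hd
      have e1 : v * (c * y') = h * (v * y) * h⁻¹ := by
        rw [hy'def, ← mul_assoc, ← hhv]; group
      have e2 : r' * (f * (h * (t ^ j * y * (t ^ j)⁻¹) * h⁻¹)) =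
          h * (r * (t ^ j * y * (t ^ j)⁻¹)) * h⁻¹ := by rw [hrdef]; group
      rw [e1, C.conj_fixed] at hd
      rw [e2, C.conj_fixed]
      exact hj y hy hy1 _ hd
    have hyy : c * y' = 1 → c = y' := fun e =>
      (eq_inv_of_mul_eq_one_left e).trans (inv_eq_of_mul_eq_one_right (K.isE.mul_self C hy'))
    by_cases h1 : c * y' = 1
    · rw [h1, mul_one] at hz
      have h2 : f * (h * (t ^ j * y * (t ^ j)⁻¹) * h⁻¹) = 1 := by
        refine K.isE.free C (mul_mem hfE hyj) K.ne.symm ?_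
        have := hz b K.vb
        rw [mul_smul] at this
        exact smul_left_cancel r' (this.trans (K.fix hr' K.vb).symm)
      rw [eq_inv_of_mul_eq_one_right h2, inv_eq_of_mul_eq_one_right (K.isE.mul_self C hfE), hfdef,
        hyy h1]
    · have h2 := K.graph_unique (mul_mem hc hy') h1 (mul_mem hfE hyj)
        (K.conj_E (hta' j') (mul_mem hc hy')) hz (hj' (c * y') (mul_mem hc hy') h1)
      refine mul_left_cancel (h2.trans ?_)
      rw [hfdef]; group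
  -- the translation
  refine ⟨(t ^ j')⁻¹ * h * t ^ j * h⁻¹, ?_, fun e he => ?_, fun r₂ hr₂ => ?_, fun hv1 => ?_⟩
  · rw [mul_smul, mul_smul, mul_smul, hha', hta' j, hha, inv_smul_eq_iff, hta' j']
  · have he' : h⁻¹ * e * h ∈ E' := by
      have := K.conj_E hha' he
      rwa [inv_inv] at this
    refine mul_inv_eq_iff_eq_mul.1 ?_
    calc (t ^ j')⁻¹ * h * t ^ j * h⁻¹ * e * ((t ^ j')⁻¹ * h * t ^ j * h⁻¹)⁻¹
        = (t ^ j')⁻¹ * (h * (t ^ j * (h⁻¹ * e * h) * (t ^ j)⁻¹) * h⁻¹) * t ^ j' := by group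
      _ = (t ^ j')⁻¹ * (t ^ j' * (h * (h⁻¹ * e * h) * h⁻¹) * (t ^ j')⁻¹) * t ^ j' := by
          rw [hscal _ he']
      _ = e := by group
  · obtain ⟨f₂, hf₂, hrf₂, -⟩ := K.graph hc hc1 hr₂
    have hr₃ := hrin hr₂ hf₂ hrf₂
    set r₃ := h⁻¹ * (r₂ * f₂) * h with hr₃def
    have he' : h⁻¹ * f₂ * h ∈ E' := by
      have := K.conj_E hha' hf₂
      rwa [inv_inv] at this
    set e := h * (t ^ j * (h⁻¹ * f₂ * h) * (t ^ j)⁻¹) * h⁻¹ with hedef
    have heE : e ∈ E' := K.conj_E hha (K.conj_E (hta' j) he')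
    have hmem : (t ^ j')⁻¹ * (f₂ * e) * t ^ j' ∈ E' := by
      have := K.conj_E (g := (t ^ j')⁻¹) (inv_smul_eq_iff.2 (hta' j').symm) (mul_mem hf₂ heE)
      rwa [inv_inv] at this
    have hff : f₂⁻¹ = f₂ := inv_eq_of_mul_eq_one_right (K.isE.mul_self C hf₂)
    have hcr : r₃ * t ^ j = t ^ j * r₃ := (K.R_comm_L hr₃ (htn j)).eq
    have hcr' : (t ^ j')⁻¹ * r₂ = r₂ * (t ^ j')⁻¹ :=
      ((K.R_comm_L hr₂ (htn j')).inv_right.eq).symm
    have key : (t ^ j')⁻¹ * h * t ^ j * h⁻¹ * r₂ * ((t ^ j')⁻¹ * h * t ^ j * h⁻¹)⁻¹ =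
        r₂ * ((t ^ j')⁻¹ * (f₂ * e) * t ^ j') := by
      calc (t ^ j')⁻¹ * h * t ^ j * h⁻¹ * r₂ * ((t ^ j')⁻¹ * h * t ^ j * h⁻¹)⁻¹
          = (t ^ j')⁻¹ * h * (t ^ j * r₃) * (h⁻¹ * f₂⁻¹ * h) * (t ^ j)⁻¹ * h⁻¹ * t ^ j' := by
            rw [hr₃def]; group
        _ = (t ^ j')⁻¹ * h * (r₃ * t ^ j) * (h⁻¹ * f₂ * h) * (t ^ j)⁻¹ * h⁻¹ * t ^ j' := by
            rw [hcr, hff]
        _ = (t ^ j')⁻¹ * r₂ * (f₂ * e) * t ^ j' := by rw [hr₃def, hedef]; group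
        _ = r₂ * ((t ^ j')⁻¹ * (f₂ * e) * t ^ j') := by rw [hcr']; group
    rw [key, mul_assoc, ← (K.fixAll_E (fun d hd => K.fix hr₂ hd) hmem).eq, ← mul_assoc, K.sq r₂ hr₂,
      one_mul]
    exact hmem
  · -- it moves `v`
    have hc' : h⁻¹ * c * h ∈ E' := by
      have := K.conj_E hha' hc
      rwa [inv_inv] at this
    have hv3 : h⁻¹ * v * h = v * (h⁻¹ * c * h) := by
      calc h⁻¹ * v * h = h⁻¹ * (v * c * c) * h := by rw [mul_assoc v, K.isE.mul_self C hc, mul_one]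
        _ = h⁻¹ * (h * v * h⁻¹ * c) * h := by rw [hhv]
        _ = v * (h⁻¹ * c * h) := by group
    set F := t ^ j * (h⁻¹ * c * h) * (t ^ j)⁻¹ with hF
    have e1 : (t ^ j')⁻¹ * h * t ^ j * h⁻¹ * v * ((t ^ j')⁻¹ * h * t ^ j * h⁻¹)⁻¹ =
        v * ((t ^ j')⁻¹ * c * t ^ j' * c) := by
      calc (t ^ j')⁻¹ * h * t ^ j * h⁻¹ * v * ((t ^ j')⁻¹ * h * t ^ j * h⁻¹)⁻¹
          = (t ^ j')⁻¹ * h * t ^ j * (h⁻¹ * v * h) * (t ^ j)⁻¹ * h⁻¹ * t ^ j' := by group
        _ = (t ^ j')⁻¹ * h * (t ^ j * v) * (h⁻¹ * c * h) * (t ^ j)⁻¹ * h⁻¹ * t ^ j' := by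
            rw [hv3]; group
        _ = (t ^ j')⁻¹ * h * (v * t ^ j) * (h⁻¹ * c * h) * (t ^ j)⁻¹ * h⁻¹ * t ^ j' := by
            rw [(C.commute_of_mem_L (htn j)).eq]
        _ = (t ^ j')⁻¹ * (h * v * h⁻¹) * (h * F * h⁻¹) * t ^ j' := by rw [hF]; group
        _ = (t ^ j')⁻¹ * v * (c * (t ^ j' * c * (t ^ j')⁻¹)) * t ^ j' := by
            rw [hhv, hF, hscal _ hc']; group
        _ = v * (t ^ j')⁻¹ * (c * (t ^ j' * c * (t ^ j')⁻¹)) * t ^ j' := by
            rw [(C.commute_of_mem_L (htn j')).inv_left.eq]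
        _ = v * ((t ^ j')⁻¹ * c * t ^ j' * c) := by group
    have hcE : (t ^ j')⁻¹ * c * t ^ j' ∈ E' := by
      have := K.conj_E (g := (t ^ j')⁻¹) (inv_smul_eq_iff.2 (hta' j').symm) hc
      rwa [inv_inv] at this
    set e₀ := (t ^ j')⁻¹ * c * t ^ j' * c with he₀
    have he₀E : e₀ ∈ E' := mul_mem hcE hc
    rw [e1, mul_assoc, (K.isE.commute_v C he₀E).eq, ← mul_assoc, K.vv, one_mul, he₀] at hv1
    have h4 : (t ^ j')⁻¹ * c * t ^ j' = c :=
      (eq_inv_of_mul_eq_one_left hv1).trans (inv_eq_of_mul_eq_one_right (K.isE.mul_self C hc))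
    have h5 : f = c := by
      calc f = t ^ j' * ((t ^ j')⁻¹ * c * t ^ j') * (t ^ j')⁻¹ := by rw [hfdef, h4]
        _ = c := by group
    have h6 : r' * f ∈ C.fixAll (v * c) := hj' c hc hc1
    rw [h5] at h6
    exact hr'v (K.graph_inj hc hc1 hr' K.mem h6 (K.mem_fixAll_self c))

end Kern

end Ctx

end CfsgLib.Criterion
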