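import Cfsg.Agent.Criterion.TypeKernel
import Cfsg.Agent.Criterion.Count

/-!
# The strong embedding criterion: shifts and the largest 2-group at a bad involution

At a point a bad involution `v` is conjugate to every `v y`, `y ∈ E`.  A largest 2-group `P` at `a`
centralising `v` normalises one of the elementary groups and centralises one of its involutions `x`, so
the graph map sends the kernel on the fixed points into that group: `v` is no square in that kernel.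
-/

set_option autoImplicit false
set_option linter.style.haveILetI false
set_option linter.unusedSectionVars false

namespace CfsgLib.Criterion

open Subgroup CfsgLib.Invol CfsgLib.Bender

universe u

variable {G : Type u} [Group G] [Finite G]

namespace Ctx

variable (C : Ctx G)

/-- **The shift**: `v` is conjugate at `a` to its product with any element of `E`. -/
theorem Bad.exists_shift {v : G} (hv : C.Bad v) (hf : ∀ v : G, orderOf v = 2 → ∃ c : C.Pt, v • c ≠ c)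
    (hp : PairRank ↥(C.L v)) {a : C.Pt} (ha : v • a = a) {E : Subgroup G} (hE : C.IsE v a E)
    {y : G} (hy : y ∈ E) : ∃ g : G, g • a = a ∧ g * v * g⁻¹ = v * y := by
  by_cases hy1 : y = 1
  · exact ⟨1, one_smul _ _, by rw [hy1]; group⟩
  obtain ⟨x₁, hx₁, x₂, hx₂, hne, hc⟩ := hv.exists_pair C hp ha
  obtain ⟨e₁, he₁, he₁1, ho₁⟩ := hE.cover x₁ hx₁
  obtain ⟨e₂, he₂, he₂1, ho₂⟩ := hE.cover x₂ hx₂
  obtain ⟨x, hx, hx1, hxy⟩ : ∃ x ∈ E, x ≠ 1 ∧ x ≠ y := by
    by_cases h : e₁ = y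
    · refine ⟨e₂, he₂, he₂1, fun h2 => hne ?_⟩
      -- otherwise the commuting members lie in one class
      have h12 : e₁ = e₂ := h.trans h2.symm
      have hm : x₁ * x₂ ∈ C.Om v := by
        have k1 := (hv.odd_iff C hp ha hx₁ (hE.mem e₁ he₁ he₁1)).1 ho₁
        have k2 := (hv.odd_iff C hp ha hx₂ (hE.mem e₂ he₂ he₂1)).1 ho₂
        rw [← h12] at k2
        have k3 := mul_mem k1 (inv_mem k2)
        rwa [mul_inv_rev, mul_assoc x₁, mul_inv_cancel_left, C.inv_Z hx₂.1.1] at k3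
      rw [← C.inv_Z hx₂.1.1]
      exact eq_inv_of_mul_eq_one_left (hv.eq_one_of_mem_Om C hm (i := 1) (by
        rw [pow_one, pow_two, hc.symm.mul_mul_mul_comm, C.mul_self_Z hx₁.1.1, C.mul_self_Z hx₂.1.1,
          one_mul]))
    · exact ⟨e₁, he₁, he₁1, h⟩
  -- `x'` with `x x' = y`
  have hx' : x * y ∈ E := mul_mem hx hy
  have hx'1 : x * y ≠ 1 := fun h =>
    hxy (mul_right_cancel (b := y) (h.trans (hE.mul_self C hy).symm))
  have hxE := hE.mem x hx hx1
  have hx'E := hE.mem _ hx' hx'1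
  obtain ⟨hu, hua, -, -⟩ := hv.mul_Ea C hf hp ha hxE
  have hxu : x ∈ C.Ea (v * x) a := ⟨hxE.1, hxE.2.mul_right (Commute.refl x)⟩
  have hx'u : x * y ∈ C.Ea (v * x) a := ⟨hx'E.1, hx'E.2.mul_right (hE.commute C hx' hx)⟩
  obtain ⟨g, hgL, hga, hgx⟩ := hu.exists_conj_at C hxu hx'u
  refine ⟨g, hga, ?_⟩
  have hgu : g * (v * x) * g⁻¹ = v * x :=
    mul_inv_eq_iff_eq_mul.2 (C.commute_of_mem_L hgL).eq
  calc g * v * g⁻¹ = g * (v * x) * g⁻¹ * (g * x * g⁻¹)⁻¹ := by group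
    _ = v * x * (x * y)⁻¹ := by rw [hgu, hgx]
    _ = v * y := by
      rw [mul_inv_rev, hE.commute C hx hy |>.inv_inv.eq.symm, mul_assoc, mul_inv_cancel_left,
        inv_eq_of_mul_eq_one_right (hE.mul_self C hy)]

/-- A largest 2-group at `a` centralising `v` above a given one, with an elementary group of `v` inside
and a nontrivial element of that group it centralises. -/
theorem Bad.exists_big_two {v : G} (hv : C.Bad v) {a : C.Pt} (ha : v • a = a) {E : Subgroup G}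
    (hE : C.IsE v a E) (hE1 : 1 < Nat.card E) {D : Subgroup G} (hD : IsPGroup 2 D)
    (hDa : ∀ g ∈ D, g • a = a ∧ Commute g v) :
    ∃ (P E' : Subgroup G) (x : G), IsPGroup 2 P ∧ D ≤ P ∧ (∀ g ∈ P, g • a = a ∧ Commute g v) ∧
      (∀ P' : Subgroup G, IsPGroup 2 P' → (∀ g ∈ P', g • a = a ∧ Commute g v) →
        Nat.card P' ≤ Nat.card P) ∧
      C.IsE v a E' ∧ Nat.card E' = Nat.card E ∧ E' ≤ P ∧ P ≤ normalizer (E' : Set G) ∧
      x ∈ E' ∧ x ≠ 1 ∧ ∀ g ∈ P, Commute g x := by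
  classical
  haveI : Fact (Nat.Prime 2) := ⟨Nat.prime_two⟩
  set M := centralizer ({v} : Set G) ⊓ MulAction.stabilizer G a with hM
  have hmem : ∀ g : G, g ∈ M ↔ g • a = a ∧ Commute g v := fun g => by
    rw [hM, mem_inf, mem_centralizer_singleton_iff, MulAction.mem_stabilizer_iff, and_comm]
    rfl
  have hEM : E ≤ M := fun e he => (hmem e).2 ⟨hE.le_stab C he, by
    by_cases h : e = 1
    · rw [h]; exact Commute.one_left v
    · exact (hE.mem e he h).2⟩
  have hDM : D ≤ M := fun g hg => (hmem g).2 (hDa g hg)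
  obtain ⟨R₁, hR₁⟩ := ((hE.isPGroup C).of_equiv (subgroupOfEquivOfLe hEM).symm).exists_le_sylow
  obtain ⟨R, hR⟩ := (hD.of_equiv (subgroupOfEquivOfLe hDM).symm).exists_le_sylow
  obtain ⟨m, hm⟩ := MulAction.exists_smul_eq ↥M R₁ R
  set P := (R : Subgroup ↥M).map M.subtype with hPdef
  have hPa : ∀ g ∈ P, g • a = a ∧ Commute g v := by
    rintro _ ⟨y, -, rfl⟩
    exact (hmem _).1 y.2
  obtain ⟨hma, hmv⟩ := (hmem (m : G)).1 m.2
  set E' := E.map (MulAut.conj (m : G)).toMonoidHom with hE'def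
  have hmv' : (m : G) * v * (m : G)⁻¹ = v := mul_inv_eq_iff_eq_mul.2 hmv.eq
  have hE' : C.IsE v a E' := by
    refine ⟨?_, fun x hx => ?_⟩
    · rintro _ ⟨e, he, rfl⟩ hne
      have h1 := C.conj_mem_Ea (g := (m : G)) (hE.mem e he fun h => hne (by rw [h, map_one]))
      rw [hmv', hma] at h1
      exact h1
    · have h1 := C.conj_mem_Ea (g := (m : G)⁻¹) hx
      rw [inv_smul_eq_iff.2 hma.symm, inv_inv,
        show (m : G)⁻¹ * v * m = v by rw [mul_assoc, ← hmv.eq, inv_mul_cancel_left]] at h1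
      obtain ⟨e, he, he1, ho⟩ := hE.cover _ h1
      refine ⟨_, ⟨e, he, rfl⟩, fun h => he1 ((MulAut.conj (m : G)).injective (h.trans (map_one _).symm)), ?_⟩
      rw [← orderOf_conj_eq (m : G), show (m : G) * ((m : G)⁻¹ * x * m * e) * (m : G)⁻¹ =
        x * ((m : G) * e * (m : G)⁻¹) by group] at ho
      exact ho
  have hEP : E' ≤ P := by
    rintro _ ⟨e, he, rfl⟩
    refine ⟨m * ⟨e, hEM he⟩ * m⁻¹, ?_, rfl⟩
    rw [← hm, Sylow.coe_subgroup_smul]
    exact Subgroup.smul_mem_pointwise_smul _ (MulAut.conj m) _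
      (hR₁ (show (⟨e, hEM he⟩ : ↥M) ∈ E.subgroupOf M from he))
  have hP2 : IsPGroup 2 P := R.isPGroup'.map _
  have hPE : ∀ g ∈ P, ∀ e ∈ E', g * e * g⁻¹ ∈ E' := by
    intro g hg e he
    by_cases h : e = 1
    · rw [h, mul_one, mul_inv_cancel]; exact one_mem _
    have h1 := C.conj_mem_Ea (g := g) (hE'.mem e he h)
    rw [(hPa g hg).1, mul_inv_eq_iff_eq_mul.2 (hPa g hg).2.eq] at h1
    exact hE'.mem_of_two C h1 hP2 hEP (mul_mem (mul_mem hg (hEP he)) (inv_mem hg))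
  -- a fixed element of `E'`
  letI : MulAction ↥P ↥E' :=
    { smul := fun g e => ⟨(g : G) * e * (g : G)⁻¹, hPE g g.2 e e.2⟩
      one_smul := fun e => Subtype.ext (show ((1 : ↥P) : G) * e * ((1 : ↥P) : G)⁻¹ = e by simp)
      mul_smul := fun g g' e => Subtype.ext (show ((g * g' : ↥P) : G) * e * ((g * g' : ↥P) : G)⁻¹ =
        (g : G) * ((g' : G) * e * (g' : G)⁻¹) * (g : G)⁻¹ by rw [Subgroup.coe_mul]; group) }
  have hE'card : Nat.card E' = Nat.card E := card_map_of_injective (MulAut.conj (m : G)).injective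
  obtain ⟨n, hn⟩ := IsPGroup.iff_card.1 (hE'.isPGroup C)
  have h2 : 2 ∣ Nat.card E' := by
    rw [hn]
    refine dvd_pow_self 2 fun h => ?_
    rw [h, pow_zero, hE'card] at hn
    omega
  obtain ⟨x, hx, hx1⟩ := hP2.exists_fixed_point_of_prime_dvd_card_of_fixed_point _ h2
    (a := (1 : ↥E')) fun g => Subtype.ext (show (g : G) * ((1 : ↥E') : G) * (g : G)⁻¹ = _ by simp)
  refine ⟨P, E', x, hP2, fun g hg => ⟨⟨g, hDM hg⟩, hR hg, rfl⟩, hPa, fun P' hP' hP'a => ?_, hE',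
    hE'card, hEP, fun g hg => ?_, x.2, fun h => hx1 (Subtype.ext h.symm), fun g hg => ?_⟩
  · have hP'M : P' ≤ M := fun g hg => (hmem g).2 (hP'a g hg)
    obtain ⟨R', hR'⟩ := (hP'.of_equiv (subgroupOfEquivOfLe hP'M).symm).exists_le_sylow
    rw [hPdef, card_map_of_injective M.subtype_injective, Sylow.card_eq_multiplicity,
      ← Sylow.card_eq_multiplicity R']
    exact (Nat.card_congr (subgroupOfEquivOfLe hP'M).toEquiv).ge.trans (card_le_of_le hR')
  · refine mem_normalizer_iff_map_conj_eq.2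
      (eq_of_le_of_card_ge ?_ (card_map_of_injective (MulAut.conj g).injective).ge)
    rintro _ ⟨e, he, rfl⟩
    exact hPE g hg e he
  · exact mul_inv_eq_iff_eq_mul.1 (congrArg Subtype.val (hx ⟨g, hg⟩))

/-- The elementary group of `v` at `a` also serves its product with one of its involutions. -/
theorem Bad.isE_mul {v : G} (hv : C.Bad v) (hf : ∀ v : G, orderOf v = 2 → ∃ c : C.Pt, v • c ≠ c)
    (hp : PairRank ↥(C.L v)) {a : C.Pt} (ha : v • a = a) {E' : Subgroup G} (hE' : C.IsE v a E')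
    {x : G} (hx : x ∈ E') (hx1 : x ≠ 1) : C.IsE (v * x) a E' := by
  obtain ⟨hu, hua, hxu, hpu⟩ := hv.mul_Ea C hf hp ha (hE'.mem x hx hx1)
  obtain ⟨Eu, hEu, -⟩ := hu.exists_E C hpu hua hxu
  have hmem : ∀ e ∈ E', e ≠ 1 → e ∈ C.Ea (v * x) a := fun e he h =>
    ⟨(hE'.mem e he h).1, (hE'.mem e he h).2.mul_right (hE'.commute C he hx)⟩
  refine ⟨hmem, fun y hy => ?_⟩
  have hex : ∀ e : ↥E', ∃ f : ↥Eu, ((e : G) = 1 → f = 1) ∧ ((e : G) ≠ 1 → (f : G) ≠ 1 ∧
      (e : G) * f ∈ C.Om (v * x)) := fun e => by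
    by_cases h : (e : G) = 1
    · exact ⟨1, fun _ => rfl, fun h' => absurd h h'⟩
    obtain ⟨f, hf', hf1, ho⟩ := hEu.cover _ (hmem e e.2 h)
    exact ⟨⟨f, hf'⟩, fun h' => absurd h' h, fun _ =>
      ⟨hf1, (hu.odd_iff C hpu hua (hmem e e.2 h) (hEu.mem f hf' hf1)).1 ho⟩⟩
  choose φ hφ1 hφ using hex
  have hinj : Function.Injective φ := by
    intro e e' h
    by_cases h1 : (e : G) = 1
    · by_cases h2 : (e' : G) = 1
      · exact Subtype.ext (h1.trans h2.symm)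
      exact absurd (congrArg Subtype.val (h ▸ hφ1 e h1)) (hφ e' h2).1
    by_cases h2 : (e' : G) = 1
    · exact absurd (congrArg Subtype.val (h.symm ▸ hφ1 e' h2)) (hφ e h1).1
    have k := mul_mem (hφ e h1).2 (inv_mem (hφ e' h2).2)
    rw [← h, mul_inv_rev, mul_assoc, mul_inv_cancel_left] at k
    refine Subtype.ext (mul_inv_eq_one.1 (hu.eq_one_of_mem_Om C k (i := 1) ?_))
    rw [pow_one, pow_two, (hE'.commute C e.2 (inv_mem e'.2)).symm.mul_mul_mul_comm,
      hE'.mul_self C e.2, hE'.mul_self C (inv_mem e'.2), one_mul]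
  have hle : Nat.card Eu ≤ Nat.card E' := le_of_eq (hv.card_E_mul C hf hp ha (hE'.mem x hx hx1) hE' hEu)
  obtain ⟨f, hf', hf1, ho⟩ := hEu.cover y hy
  obtain ⟨e, he⟩ := (hinj.bijective_of_nat_card_le hle).2 ⟨f, hf'⟩
  have he1 : (e : G) ≠ 1 := fun h =>
    hf1 (congrArg Subtype.val (he.symm.trans (hφ1 e h)))
  refine ⟨e, e.2, he1, (hu.odd_iff C hpu hua hy (hmem e e.2 he1)).2 ?_⟩
  have k := mul_mem ((hu.odd_iff C hpu hua hy (hEu.mem f hf' hf1)).1 ho) (inv_mem (hφ e he1).2)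
  rwa [show (φ e : G) = f from congrArg Subtype.val he, mul_inv_rev, mul_assoc, mul_inv_cancel_left,
    C.inv_Z (hmem e e.2 he1).1.1] at k

/-- A largest 2-group at `a` centralising `v` is also largest for the products with the elementary
group. -/
theorem Bad.max_two_mul {v : G} (hv : C.Bad v) (hf : ∀ v : G, orderOf v = 2 → ∃ c : C.Pt, v • c ≠ c)
    (hp : PairRank ↥(C.L v)) {a : C.Pt} (ha : v • a = a) {E' : Subgroup G} (hE' : C.IsE v a E')
    {x : G} (hx : x ∈ E') {P : Subgroup G}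
    (hmax : ∀ P' : Subgroup G, IsPGroup 2 P' → (∀ g ∈ P', g • a = a ∧ Commute g v) →
      Nat.card P' ≤ Nat.card P) :
    ∀ P' : Subgroup G, IsPGroup 2 P' → (∀ k ∈ P', k • a = a ∧ Commute k (v * x)) →
      Nat.card P' ≤ Nat.card P := fun P' hP' hP'a => by
  obtain ⟨g, hga, hg⟩ := hv.exists_shift C hf hp ha hE' hx
  rw [← card_map_of_injective (f := (MulAut.conj g⁻¹).toMonoidHom) (K := P') (MulAut.conj g⁻¹).injective]
  refine hmax _ (hP'.map _) ?_
  rintro _ ⟨k, hk, rfl⟩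
  refine ⟨?_, ?_⟩
  · show (g⁻¹ * k * g⁻¹⁻¹) • a = a
    rw [inv_inv, mul_smul, mul_smul, hga, (hP'a k hk).1, inv_smul_eq_iff.2 hga.symm]
  · have h1 := (Commute.conj_iff g⁻¹).2 (hP'a k hk).2
    rwa [← hg, show g⁻¹ * (g * v * g⁻¹) * g⁻¹⁻¹ = v by group] at h1

/-- **`v` is no square in the kernel on its fixed points.** -/
theorem Bad.no_sqrt_kernel {v : G} (hv : C.Bad v) (hf : ∀ v : G, orderOf v = 2 → ∃ c : C.Pt, v • c ≠ c)
    (hp : PairRank ↥(C.L v)) {a : C.Pt} (ha : v • a = a) {E : Subgroup G} (hE : C.IsE v a E)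
    {D : Subgroup G} (hD : IsPGroup 2 D) (hDa : ∀ g ∈ D, g • a = a ∧ Commute g v) {r : G}
    (hr : r ∈ D) (hfix : ∀ c : C.Pt, v • c = c → r • c = c) : r * r ≠ v := by
  intro hrr
  obtain ⟨e₀, he₀, he₀1, -⟩ := hE.cover _
    (show (C.exists_commute_at (mul_self_eq_one hv.1) ha).choose ∈ C.Ea v a from
      ⟨(C.exists_commute_at (mul_self_eq_one hv.1) ha).choose_spec.1,
        (C.exists_commute_at (mul_self_eq_one hv.1) ha).choose_spec.2⟩)
  obtain ⟨P, E', x, hP, hDP, hPa, hmax, hE', hcard, hEP, -, hx, hx1, hPx⟩ :=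
    hv.exists_big_two C ha hE (Finite.one_lt_card_iff_nontrivial.2
      ⟨⟨⟨e₀, he₀⟩, 1, fun h => he₀1 (congrArg Subtype.val h)⟩⟩) hD hDa
  obtain ⟨hu, hua, hxu, hpu⟩ := hv.mul_Ea C hf hp ha (hE'.mem x hx hx1)
  obtain ⟨b, hba, hvb⟩ := hv.exists_other C a
  have hE'u := hv.isE_mul C hf hp ha hE' hx hx1
  have hmax' := hv.max_two_mul C hf hp ha hE' hx hmax
  set R : Subgroup G := (⨅ (c : C.Pt) (_ : v • c = c), MulAction.stabilizer G c) ⊓ P with hR
  have hRmem : ∀ k : G, k ∈ R ↔ (∀ c : C.Pt, v • c = c → k • c = c) ∧ k ∈ P := fun k => by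
    simp [hR, mem_iInf]
  have hvP : v ∈ P := by
    have := hrr ▸ mul_mem (hDP hr) (hDP hr)
    exact this
  have hvR : v ∈ R := (hRmem v).2 ⟨fun _ h => h, hvP⟩
  have hrR : r ∈ R := (hRmem r).2 ⟨hfix, hDP hr⟩
  obtain ⟨ψ, hψE, hψm, -, hψv⟩ := hv.exists_graph C hf hba hvb ha hE' hx hx1 hpu hE'u hP hEP
    (fun k hk => ⟨(hPa k hk).1, (hPa k hk).2, hPx k hk⟩) hmax' (R := R) (fun k hk => ((hRmem k).1 hk).2)
    hvR (fun k hk => ((hRmem k).1 hk).1)
  refine hx1 ?_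
  rw [← hψv, show (⟨v, hvR⟩ : ↥R) = ⟨r, hrR⟩ * ⟨r, hrR⟩ from Subtype.ext hrr.symm, hψm,
    hE'.mul_self C (hψE _)]

end Ctx

end CfsgLib.Criterion
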