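import Cfsg.Agent.Criterion.TypeLines
import Mathlib.Data.Nat.Factorization.Induction

/-!
# The strong embedding criterion: the normaliser of a large kernel centralises it

An element `h` at `a`, `b` centralising `E` and normalising `R` without centralising it gives, with a
power of the torus, an element `k` of odd prime power order fixing every line at `a` and no nontrivial
element of `E` or `R`.  It commutes with a 2-element translation, so fixes a point off `Fix v` fixed by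
that translation; its line passes through neither `a` nor `b`.
-/

set_option autoImplicit false
set_option linter.style.haveILetI false
set_option linter.unusedSectionVars false

namespace CfsgLib.Criterion

open Subgroup CfsgLib.Invol CfsgLib.Bender

universe u

variable {G : Type u} [Group G] [Finite G]

/-- Two coprime powers in a subgroup put the element there. -/
theorem mem_of_coprime_pow {H : Subgroup G} {g : G} {m n : ℕ} (h : Nat.Coprime m n) (hm : g ^ m ∈ H)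
    (hn : g ^ n ∈ H) : g ∈ H := by
  have h1 : g = (g ^ m) ^ Nat.gcdA m n * (g ^ n) ^ Nat.gcdB m n := by
    rw [← zpow_natCast g m, ← zpow_mul, ← zpow_natCast g n, ← zpow_mul, ← zpow_add,
      ← Nat.gcd_eq_gcd_ab, h.gcd_eq_one, Nat.cast_one, zpow_one]
  rw [h1]
  exact mul_mem (zpow_mem hm _) (zpow_mem hn _)

/-- An element outside a subgroup has a power of prime power order outside it. -/
theorem exists_primePow_not_mem {H : Subgroup G} : ∀ (N : ℕ) {g : G}, orderOf g = N → g ∉ H →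
    ∃ (n p l : ℕ), p.Prime ∧ g ^ n ∉ H ∧ (g ^ n) ^ p ^ l = 1 := by
  intro N
  induction N using Nat.recOnPrimeCoprime with
  | zero => exact fun {g} h => absurd h (orderOf_pos g).ne'
  | @prime_pow p l hp =>
    exact fun {g} h hg => ⟨1, p, l, hp, by rwa [pow_one], by rw [pow_one, ← h, pow_orderOf_eq_one]⟩
  | @coprime a b ha hb hab iha ihb =>
    intro g h hg
    have key : ∀ {a b : ℕ}, 1 < a → orderOf g = a * b → orderOf (g ^ a) = b := by
      intro a b ha h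
      rw [orderOf_pow' g (by omega), h, Nat.gcd_eq_right (dvd_mul_right a b),
        Nat.mul_div_cancel_left _ (by omega)]
    by_cases hga : g ^ a ∈ H
    · obtain ⟨n, p, l, hp, h1, h2⟩ := iha (key hb (h.trans (mul_comm a b)))
        (fun hgb => hg (mem_of_coprime_pow hab hga hgb))
      exact ⟨b * n, p, l, hp, by rwa [pow_mul], by rwa [pow_mul g b n]⟩
    · obtain ⟨n, p, l, hp, h1, h2⟩ := ihb (key ha h) hga
      exact ⟨a * n, p, l, hp, by rwa [pow_mul], by rwa [pow_mul g a n]⟩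

/-- A set of size prime to `p` invariant under an element of `p`-power order has a fixed element. -/
theorem exists_fixed_of_pow {α : Type*} [Finite α] {p l : ℕ} (hp : p.Prime) {f : α → α}
    (hf : ∀ x, f^[p ^ l] x = x) (h : ¬ p ∣ Nat.card α) : ∃ x, f x = x := by
  haveI := Fact.mk hp
  let e : Equiv.Perm α :=
    { toFun := f
      invFun := f^[p ^ l - 1]
      left_inv := fun x => by
        show f^[p ^ l - 1] (f x) = x
        rw [← Function.iterate_succ_apply, Nat.succ_eq_add_one,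
          Nat.sub_add_cancel (Nat.one_le_pow _ _ hp.pos), hf]
      right_inv := fun x => by
        show f (f^[p ^ l - 1] x) = x
        rw [← Function.iterate_succ_apply' f, Nat.succ_eq_add_one,
          Nat.sub_add_cancel (Nat.one_le_pow _ _ hp.pos), hf] }
  have he : e ^ p ^ l = 1 := Equiv.ext fun x => by
    rw [Equiv.Perm.coe_pow]
    exact hf x
  have hP : IsPGroup p ↥(zpowers e) := by
    obtain ⟨k, -, hk⟩ := (Nat.dvd_prime_pow hp).1 (orderOf_dvd_of_pow_eq_one he)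
    exact IsPGroup.of_card (n := k) (by rw [Nat.card_zpowers, hk])
  obtain ⟨x, hx⟩ := hP.nonempty_fixed_point_of_prime_not_dvd_card α h
  exact ⟨x, hx ⟨e, mem_zpowers e⟩⟩

theorem iterate_conj (k : G) (n : ℕ) (g : G) :
    (fun x : G => k * x * k⁻¹)^[n] g = k ^ n * g * (k ^ n)⁻¹ := by
  induction n with
  | zero => simp
  | succ n ih => rw [Function.iterate_succ_apply', ih, pow_succ']; group

theorem iterate_smul {X : Type*} [MulAction G X] (k : G) (n : ℕ) (x : X) :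
    (fun y : X => k • y)^[n] x = k ^ n • x := by
  induction n with
  | zero => simp
  | succ n ih => rw [Function.iterate_succ_apply', ih, pow_succ', mul_smul]

theorem not_dvd_two_pow {p : ℕ} (hp : p.Prime) (hp2 : p ≠ 2) (m : ℕ) : ¬ p ∣ 2 ^ m := fun h =>
  hp2 ((Nat.prime_dvd_prime_iff_eq hp Nat.prime_two).1 (hp.dvd_of_dvd_pow h))

namespace Ctx

variable (C : Ctx G)

namespace Kern

variable {C} {v : G} {a b : C.Pt} {D E R : Subgroup G} (K : C.Kern v a b D E R)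
include K

/-- An element at `a` centralising `v` and `E` and normalising `R` centralises it. -/
theorem cent_R {g : G} (hga : g • a = a) (hgv : Commute g v) (hgE : ∀ e ∈ E, Commute g e)
    {r : G} (hr : r ∈ R) (hgr : g * r * g⁻¹ ∈ R) : Commute g r := by
  obtain ⟨y, hy, hy1, -⟩ := K.exists_graph_one
  obtain ⟨f, hf, hrf, -⟩ := K.graph hy hy1 hr
  refine mul_inv_eq_iff_eq_mul.1 (K.graph_inj hy hy1 hgr hr (f := f) ?_ hrf)
  have h1 : g * f * g⁻¹ = f := mul_inv_eq_iff_eq_mul.2 (hgE f hf).eq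
  have h2 := C.conj_mem_fixAll (hgv.mul_right (hgE y hy)) hrf
  rw [show g * (r * f) * g⁻¹ = g * r * g⁻¹ * (g * f * g⁻¹) by group, h1] at h2
  exact h2

/-- A 2-element at `a`, `b` centralising `E` and normalising `R` centralises it. -/
theorem two_cent_R {g : G} (hga : g • a = a) (hgb : g • b = b) (hgE : ∀ e ∈ E, Commute g e)
    (hgR : ∀ r ∈ R, g * r * g⁻¹ ∈ R) {i : ℕ} (h2 : g ^ 2 ^ i = 1) {r : G} (hr : r ∈ R) :
    Commute g r := by
  haveI : Fact (Nat.Prime 2) := ⟨Nat.prime_two⟩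
  set M := (MulAction.stabilizer G a ⊓ MulAction.stabilizer G b) ⊓ normalizer (R : Set G) with hM
  set N := M ⊓ centralizer (E : Set G) with hN
  have hgM : g ∈ N := mem_inf.2 ⟨mem_inf.2 ⟨mem_inf.2 ⟨MulAction.mem_stabilizer_iff.2 hga,
    MulAction.mem_stabilizer_iff.2 hgb⟩, Closed.mem_normalizer_of_conj hgR⟩,
    mem_centralizer_iff.2 fun e he => (hgE e he).eq.symm⟩
  have hDM : D ≤ M := fun d hd => mem_inf.2 ⟨mem_inf.2
    ⟨MulAction.mem_stabilizer_iff.2 (K.maxPair.fix d hd).1,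
      MulAction.mem_stabilizer_iff.2 (K.maxPair.fix d hd).2.1⟩,
    Closed.mem_normalizer_of_conj fun r hr => K.ker _
      (mul_mem (mul_mem hd (K.le hr)) (inv_mem hd))
      (C.conj_mem_fixAll (K.maxPair.fix d hd).2.2 fun c hc => K.fix hr hc)⟩
  have hn : M ≤ normalizer (N : Set G) := fun m hm => Closed.mem_normalizer_of_conj fun x hx => by
    refine mem_inf.2 ⟨mul_mem (mul_mem hm (mem_inf.1 hx).1) (inv_mem hm),
      mem_centralizer_iff.2 fun e he => ?_⟩
    have he' : m⁻¹ * e * m ∈ E := by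
      have := K.conj_E (g := m⁻¹)
        (inv_smul_eq_iff.2 (MulAction.mem_stabilizer_iff.1 (mem_inf.1 (mem_inf.1 hm).1).1).symm) he
      rwa [inv_inv] at this
    have hc : Commute x (m⁻¹ * e * m) := (mem_centralizer_iff.1 (mem_inf.1 hx).2 _ he').symm
    have := (Commute.conj_iff m).2 hc
    rw [show m * (m⁻¹ * e * m) * m⁻¹ = e by group] at this
    exact this.eq.symm
  have hP : IsPGroup 2 ↥(zpowers g) := by
    obtain ⟨k, -, hk⟩ := (Nat.dvd_prime_pow Nat.prime_two).1 (orderOf_dvd_of_pow_eq_one h2)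
    exact IsPGroup.of_card (n := k) (by rw [Nat.card_zpowers, hk])
  obtain ⟨m, hm, hmg⟩ := K.card_le_inf (M := M) inf_le_left hDM (N := N) inf_le_left hn hP
    (zpowers_le.2 hgM)
  obtain ⟨hdD, hdN⟩ := mem_inf.1 (hmg g (mem_zpowers g))
  obtain ⟨hda, -, hdv⟩ := K.maxPair.fix _ hdD
  have hr' : m * r * m⁻¹ ∈ R := (mem_normalizer_iff.1 (mem_inf.1 hm).2 r).1 hr
  have hc : Commute (m * g * m⁻¹) (m * r * m⁻¹) := K.cent_R hda hdv
    (fun e he => (mem_centralizer_iff.1 (mem_inf.1 hdN).2 e he).symm) hr'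
    ((mem_normalizer_iff.1 (mem_inf.1 (mem_inf.1 hdN).1).2 _).1 hr')
  exact (Commute.conj_iff m).1 hc

/-- One swapper at a moved point centralises `v`. -/
theorem CX_unique {c : C.Pt} (hvc : v • c ≠ c) {w w' : G} (hw : w ∈ C.CX v c)
    (hw' : w' ∈ C.CX v c) : w = w' := by
  obtain ⟨x, hx, hxv⟩ := C.exists_commute_at K.vv K.va
  have hxE : x ∈ C.Ea v a := ⟨hx, hxv⟩
  obtain ⟨hv', ha', hx', hp'⟩ := K.bad.mul_Ea C K.hf K.hp K.va hxE
  have hj : Nat.card (C.cls v a x) = 1 := by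
    refine Nat.card_eq_one_iff_unique.2 ⟨⟨fun y y' => Subtype.ext ?_⟩,
      ⟨⟨x, hxE, by rw [C.mul_self_Z hx.1, orderOf_one]; exact odd_one⟩⟩⟩
    have key : ∀ y : C.cls v a x, x = y.1 := fun y =>
      (eq_inv_of_mul_eq_one_left (K.Om_one ((K.bad.odd_iff C K.hp K.va hxE y.2.1).1 y.2.2))).trans
        (C.inv_Z y.2.1.1.1)
    exact (key y).symm.trans (key y')
  obtain ⟨-, h2⟩ := K.bad.count C K.hf K.hp K.va hxE K.isE hvc
  have hq := Bad.one_lt_E C hxE K.isE
  have hj' := Bad.card_cls_pos C hx'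
  have h3 : Nat.card (C.Cross v a) = 0 := by
    rw [K.cross_eq_empty]; exact Nat.card_of_isEmpty
  rw [h3, add_zero, hj, mul_one] at h2
  have hr : Nat.card (C.CX v c) = 1 :=
    Nat.eq_of_mul_eq_mul_right (Nat.mul_pos (show 0 < Nat.card E - 1 by omega) hj')
      (by rw [h2, one_mul])
  exact congrArg Subtype.val ((Nat.card_eq_one_iff_unique.1 hr).1.elim ⟨w, hw⟩ ⟨w', hw'⟩ :)

/-- Swappers of `a`, `b` are determined by the image of one member at `b`. -/
theorem link_inj {f s s' : G} (hf : f ∈ C.Za b) (hs : s ∈ C.X a b) (hs' : s' ∈ C.X a b)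
    (h : s * f * s⁻¹ = s' * f * s'⁻¹) : s = s' := by
  have hmap : ∀ w ∈ C.X a b, w * f * w⁻¹ ∈ C.Za a := fun w hw => by
    have := C.conj_mem_Za (g := w) hf
    rwa [(C.X_symm hw).2] at this
  let Φ : C.X a b → C.Za a := fun w => ⟨w.1 * f * w.1⁻¹, hmap w.1 w.2⟩
  have hsurj : Function.Surjective Φ := by
    rintro ⟨y, hy⟩
    obtain ⟨w, hw, e⟩ := C.exists_link hf hy K.ne.symm
    exact ⟨⟨w, C.X_symm hw⟩, Subtype.ext e⟩
  have hbij := hsurj.bijective_of_nat_card_le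
    (le_of_eq (by rw [C.card_X K.ne, C.card_Za a]))
  exact congrArg Subtype.val (hbij.1 (Subtype.ext h : Φ ⟨s, hs⟩ = Φ ⟨s', hs'⟩) :)

/-- An element keeping `Fix v`, fixing `a`, `b` and no nontrivial element of `E` fixes no other fixed
point of `v`. -/
theorem eq_ab {k : G} (hka : k • a = a) (hkb : k • b = b) (hkF : k ∈ C.fixStab v)
    (hfE : ∀ e ∈ E, Commute k e → e = 1) {c : C.Pt} (hvc : v • c = c) (hkc : k • c = c) :
    c = a ∨ c = b := by
  haveI : Fact (Nat.Prime 2) := ⟨Nat.prime_two⟩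
  refine or_iff_not_imp_left.2 fun hca => ?_
  obtain ⟨S, hS⟩ := K.bad.exists_reg C K.hp K.va
  obtain ⟨s, hs, hsb⟩ := hS.trans b c K.vb K.ne.symm hvc hca
  obtain ⟨i, hi⟩ := hS.two ⟨s, hs⟩
  have hi' : s ^ 2 ^ i = 1 := congrArg Subtype.val hi
  have hkL : ∀ l ∈ C.L v, k * l * k⁻¹ ∈ C.L v := by
    intro l hl
    induction hl using closure_induction with
    | mem y hy =>
      obtain ⟨p, hp⟩ := C.exists_fix hy.1
      exact C.mem_L (C.conj_mem_Z hy.1 k) (K.za_comm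
        (C.fixStab_apply hkF (C.smul_eq_of_commute_Z hy.1 hy.2 hp)) (C.conj_mem_Za ⟨hy.1, hp⟩))
    | one => simp
    | mul x y _ _ hx hy => rw [conj_mul.symm]; exact mul_mem hx hy
    | inv x _ hx => rw [← conj_inv]; exact inv_mem hx
  have hks : k * s * k⁻¹ = s := by
    refine K.bad.eq_of_two_at C K.hp K.va K.vb K.ne.symm K.isE (fun o ho => K.Om_one ho) (i := i)
      (i' := i) (hkL s (hS.le hs)) (hS.le hs) ?_ (hS.fix s hs) ?_ hi' ?_
    · rw [mul_smul, mul_smul, inv_smul_eq_iff.2 hka.symm, hS.fix s hs, hka]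
    · rw [conj_pow, hi', mul_one, mul_inv_cancel]
    · rw [mul_smul, mul_smul, inv_smul_eq_iff.2 hkb.symm, hsb, hkc]
  by_contra hcb
  have hs1 : s ≠ 1 := fun h => hcb (by rw [← hsb, h, one_smul])
  obtain ⟨m, hm⟩ := IsPGroup.iff_orderOf.1 hS.two ⟨s, hs⟩
  rw [← Subgroup.orderOf_coe] at hm
  obtain ⟨l, rfl⟩ := Nat.exists_eq_succ_of_ne_zero fun h : m = 0 =>
    hs1 (orderOf_eq_one_iff.1 (by simpa [h] using hm))
  have hu : orderOf (s ^ 2 ^ l) = 2 := by
    rw [orderOf_pow' s (pow_ne_zero _ two_ne_zero), hm, Nat.gcd_eq_right (pow_dvd_pow 2 l.le_succ),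
      pow_succ, Nat.mul_div_cancel_left _ (pow_pos two_pos _)]
  exact ne_one hu (hfE _ (K.ea_mem_E (K.bad.mem_Ea C (pow_mem (hS.le hs) _) hu
    (MulAction.mem_stabilizer_iff.1 (pow_mem (MulAction.mem_stabilizer_iff.2 (hS.fix s hs)) _))))
    ((show Commute k s from mul_inv_eq_iff_eq_mul.1 hks).pow_right _))

/-- A 2-element fixing `a` and one more point and a commuting element of odd prime power order fixing
`a` have a common further fixed point. -/
theorem exists_common {n k : G} {i : ℕ} (hn2 : n ^ 2 ^ i = 1) (hn1 : n ≠ 1) (hna : n • a = a)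
    {q : C.Pt} (hqa : q ≠ a) (hnq : n • q = q) {p l : ℕ} (hp : p.Prime) (hp2 : p ≠ 2)
    (hk : k ^ p ^ l = 1) (hka : k • a = a) (hkn : Commute k n) :
    ∃ c : C.Pt, c ≠ a ∧ n • c = c ∧ k • c = c := by
  classical
  haveI : Fact (Nat.Prime 2) := ⟨Nat.prime_two⟩
  obtain ⟨e, -, he⟩ := (Nat.dvd_prime_pow Nat.prime_two).1 (orderOf_dvd_of_pow_eq_one hn2)
  have he0 : e ≠ 0 := fun h => hn1 (orderOf_eq_one_iff.1 (by rw [he, h, pow_zero]))
  set σ := n ^ 2 ^ (e - 1) with hσ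
  have hσ2 : orderOf σ = 2 := by
    rw [hσ, orderOf_pow' _ (by positivity), he, Nat.gcd_eq_right (pow_dvd_pow 2 (Nat.sub_le e 1)),
      Nat.pow_div (Nat.sub_le e 1) two_pos, show e - (e - 1) = 1 by omega, pow_one]
  have hσfix : ∀ c : C.Pt, n • c = c → σ • c = c := fun c h =>
    MulAction.mem_stabilizer_iff.1 (pow_mem (MulAction.mem_stabilizer_iff.2 h) _)
  have hσa := hσfix a hna
  have hσb : C.Bad σ := ⟨hσ2, a, q, hqa.symm, hσa, hσfix q hnq⟩
  obtain ⟨x, hx, hxσ⟩ := C.exists_commute_at (mul_self_eq_one hσ2) hσa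
  obtain ⟨E', hE', -⟩ := hσb.exists_E C (K.pair σ hσb) hσa (x := x) ⟨hx, hxσ⟩
  set W := MulAction.stabilizer G a ⊓ centralizer {σ} with hW
  have hnW : zpowers n ≤ W := zpowers_le.2 (mem_inf.2 ⟨MulAction.mem_stabilizer_iff.2 hna,
    mem_centralizer_singleton_iff.2 ((Commute.refl n).pow_right _).eq⟩)
  obtain ⟨S, hS⟩ := ((IsPGroup.of_card (p := 2) (n := e) (G := ↥(zpowers n))
    (by rw [Nat.card_zpowers, he])).of_equiv (subgroupOfEquivOfLe hnW).symm).exists_le_sylow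
  set P := (S : Subgroup ↥W).map W.subtype with hP
  have hnP : n ∈ P := ⟨⟨n, hnW (mem_zpowers n)⟩, hS (mem_zpowers n), rfl⟩
  have hPW : ∀ g ∈ P, g • a = a ∧ Commute g σ := by
    rintro _ ⟨g, -, rfl⟩
    exact ⟨MulAction.mem_stabilizer_iff.1 (mem_inf.1 g.2).1,
      mem_centralizer_singleton_iff.1 (mem_inf.1 g.2).2⟩
  have hmax : ∀ P' : Subgroup G, IsPGroup 2 P' → (∀ g ∈ P', g • a = a ∧ Commute g σ) →
      Nat.card P' ≤ Nat.card P := by
    intro P' hP' hfix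
    have hle : P' ≤ W := fun g hg => mem_inf.2 ⟨MulAction.mem_stabilizer_iff.2 (hfix g hg).1,
      mem_centralizer_singleton_iff.2 (hfix g hg).2.eq⟩
    obtain ⟨T, hT⟩ := (hP'.of_equiv (subgroupOfEquivOfLe hle).symm).exists_le_sylow
    rw [hP, card_map_of_injective W.subtype_injective, S.card_eq_multiplicity,
      ← T.card_eq_multiplicity, ← Nat.card_congr (subgroupOfEquivOfLe hle).toEquiv]
    exact Nat.le_of_dvd Nat.card_pos (card_dvd_of_le hT)
  have hP2 : IsPGroup 2 P := S.2.map _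
  have hreg : C.Reg σ a (P ⊓ C.L σ) :=
    { le := inf_le_right
      fix := fun s hs => (hPW s hs.1).1
      two := hP2.to_le inf_le_left
      trans := fun c d hc hca hd hda => by
        obtain ⟨s, hs, hsL, e⟩ :=
          hσb.exists_two_move C (K.pair σ hσb) hσa hE' hP2 hPW hmax hc hd hca hda
        exact ⟨s, ⟨hs, hsL⟩, e⟩ }
  let β := {d : C.Pt // n • d = d ∧ d ≠ a}
  have hnconj : ∀ s ∈ P ⊓ C.L σ, n * s * n⁻¹ ∈ P ⊓ C.L σ := fun s hs =>
    mem_inf.2 ⟨mul_mem (mul_mem hnP (mem_inf.1 hs).1) (inv_mem hnP),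
      C.conj_mem_L_of_commute (hPW n hnP).2 (mem_inf.1 hs).2⟩
  let Φ : ↥((P ⊓ C.L σ) ⊓ centralizer {n}) → β := fun s => ⟨(s : G) • q, by
    rw [smul_smul, ← (mem_centralizer_singleton_iff.1 (mem_inf.1 s.2).2), mul_smul, hnq],
    fun h => hqa (smul_left_cancel (s : G) (h.trans (hreg.fix _ (mem_inf.1 s.2).1).symm))⟩
  have hΦ : Function.Bijective Φ := by
    refine ⟨fun s t h => ?_, fun d => ?_⟩
    · have h1 : (s : G) • q = (t : G) • q := congrArg Subtype.val h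
      exact Subtype.ext (inv_mul_eq_one.1 (hσb.reg_free C hreg
        (mul_mem (inv_mem (mem_inf.1 t.2).1) (mem_inf.1 s.2).1) hqa
        (by rw [mul_smul, h1, inv_smul_smul]))).symm
    · obtain ⟨s, hs, e⟩ := hreg.trans q d.1 (hσfix q hnq) hqa (hσfix d.1 d.2.1) d.2.2
      have h1 : (n * s * n⁻¹) • q = d.1 := by
        rw [mul_smul, mul_smul, inv_smul_eq_iff.2 hnq.symm, e, d.2.1]
      have h2 := hσb.reg_free C hreg (mul_mem (inv_mem hs) (hnconj s hs)) hqa
        (by rw [mul_smul, h1, ← e, inv_smul_smul])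
      have h3 : n * s * n⁻¹ = s := (inv_mul_eq_one.1 h2).symm
      exact ⟨⟨s, mem_inf.2 ⟨hs, mem_centralizer_singleton_iff.2
        (mul_inv_eq_iff_eq_mul.1 h3).symm⟩⟩, Subtype.ext e⟩
  obtain ⟨m, hm⟩ := IsPGroup.iff_card.1
    ((hP2.to_le inf_le_left).to_le (inf_le_left : (P ⊓ C.L σ) ⊓ centralizer {n} ≤ P ⊓ C.L σ))
  let f : β → β := fun d => ⟨k • d.1, by rw [smul_smul, ← hkn.eq, mul_smul, d.2.1],
    fun h => d.2.2 (smul_left_cancel k (h.trans hka.symm))⟩
  obtain ⟨⟨c, hc, hca⟩, e'⟩ := exists_fixed_of_pow (f := f) hp (l := l) (fun d => Subtype.ext (by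
      have hval : ∀ (m : ℕ) (d : β), (f^[m] d).1 = k ^ m • d.1 := fun m => by
        induction m with
        | zero => simp
        | succ m ih => intro d; rw [Function.iterate_succ_apply', pow_succ', mul_smul, ← ih d]
      rw [hval, hk, one_smul]))
    (by rw [← Nat.card_eq_of_bijective Φ hΦ, hm]; exact not_dvd_two_pow hp hp2 m)
  exact ⟨c, hca, hc, congrArg Subtype.val e'⟩

/-- The powers of an element keeping the lines at `a` keep them. -/
theorem line_pow {k : G} (hline : ∀ y ∈ E, y ≠ 1 → ∀ c : C.Pt, (v * y) • c = c →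
    (v * y) • k • c = k • c) : ∀ (n : ℕ), ∀ y ∈ E, y ≠ 1 → ∀ c : C.Pt, (v * y) • c = c →
    (v * y) • k ^ n • c = k ^ n • c := by
  intro n
  induction n with
  | zero => simp
  | succ n ih =>
    intro y hy hy1 c hc
    rw [pow_succ', mul_smul k]
    exact hline y hy hy1 _ (ih y hy hy1 c hc)

/-- Conjugation by an element keeping the lines at `a` permutes the partners. -/
theorem conj_graph {k : G} (hline : ∀ y ∈ E, y ≠ 1 → ∀ c : C.Pt, (v * y) • c = c →
    (v * y) • k • c = k • c) {y g : G} (hy : y ∈ E) (hy1 : y ≠ 1) (hg : g ∈ C.fixAll (v * y)) :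
    k * g * k⁻¹ ∈ C.fixAll (v * y) := by
  intro c hc
  have h1 : k⁻¹ = k ^ (orderOf k - 1) := inv_eq_of_mul_eq_one_right (by
    rw [← pow_succ', Nat.sub_add_cancel (orderOf_pos k), pow_orderOf_eq_one])
  have h2 : (v * y) • k⁻¹ • c = k⁻¹ • c := by rw [h1]; exact K.line_pow hline _ y hy hy1 c hc
  rw [mul_smul, mul_smul, hg _ h2, smul_inv_smul]

/-- An element fixing all fixed lines and one point of the line of a member at `b` is absurd. -/
theorem false_of_line_b {k w : G} (hka : k • a = a) (hkb : k • b = b) (hkF : k ∈ C.fixStab v)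
    (hkv : k * v * k⁻¹ ∈ R) (hfE : ∀ e ∈ E, Commute k e → e = 1)
    (hline : ∀ y ∈ E, y ≠ 1 → ∀ c : C.Pt, (v * y) • c = c → (v * y) • k • c = k • c)
    (hw : w ∈ C.Za b) (hwg : k * v * k⁻¹ * (k * w * k⁻¹) ∈ C.fixAll (v * w)) : False := by
  obtain ⟨w₀, hw₀, hw₀v⟩ := C.exists_swap_commute K.vv K.ne (Or.inl ⟨K.va, K.vb⟩)
  have hw₀L : w₀ ∈ C.L v := C.mem_L hw₀.1 hw₀v
  have hy : w₀ * w * w₀⁻¹ ∈ C.Za a := by
    have := C.conj_mem_Za (g := w₀) hw
    rwa [(C.X_symm hw₀).2] at this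
  set y := w₀ * w * w₀⁻¹ with hydef
  have hyE : y ∈ E := K.mem_E_iff.2 (Or.inr hy)
  have hy1 : y ≠ 1 := ne_one (C.orderOf_Z hy.1)
  have hkya : k * y * k⁻¹ ∈ E := K.conj_E hka hyE
  have hkw : k * w * k⁻¹ ∈ C.Za b := by
    have := C.conj_mem_Za (g := k) hw
    rwa [hkb] at this
  have hwf : w₀ * (k * w * k⁻¹) * w₀⁻¹ ∈ E := by
    refine K.mem_E_iff.2 (Or.inr ?_)
    have := C.conj_mem_Za (g := w₀) hkw
    rwa [(C.X_symm hw₀).2] at this
  have h1 : k * v * k⁻¹ * (k * y * k⁻¹) ∈ C.fixAll (v * y) := by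
    have h := K.conj_graph hline hyE hy1 (K.mem_fixAll_self y)
    rwa [show k * (v * y) * k⁻¹ = k * v * k⁻¹ * (k * y * k⁻¹) by group] at h
  have h2 : k * v * k⁻¹ * (w₀ * (k * w * k⁻¹) * w₀⁻¹) ∈ C.fixAll (v * y) := by
    intro c hc
    have e1 : v * y = w₀ * (v * w) * w₀⁻¹ := by
      calc v * y = v * w₀ * w * w₀⁻¹ := by rw [hydef]; group
        _ = _ := by rw [← hw₀v.eq]; group
    have e2 : k * v * k⁻¹ * (w₀ * (k * w * k⁻¹) * w₀⁻¹) =
        w₀ * (k * v * k⁻¹ * (k * w * k⁻¹)) * w₀⁻¹ := by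
      calc k * v * k⁻¹ * (w₀ * (k * w * k⁻¹) * w₀⁻¹)
          = k * v * k⁻¹ * w₀ * (k * w * k⁻¹) * w₀⁻¹ := by group
        _ = w₀ * (k * v * k⁻¹) * (k * w * k⁻¹) * w₀⁻¹ := by rw [(K.R_comm_L hkv hw₀L).eq]
        _ = _ := by group
    rw [e1, C.conj_fixed] at hc
    rw [e2, C.conj_fixed]
    exact hwg _ hc
  have h3 := K.graph_unique hyE hy1 hkya hwf h1 h2
  have hs : k * w₀ * k⁻¹ ∈ C.X a b := by
    have := C.conj_mem_X (g := k) hw₀
    rwa [hka, hkb] at this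
  have h4 : k * w₀ * k⁻¹ = w₀ := K.link_inj hkw hs hw₀ (by
    calc k * w₀ * k⁻¹ * (k * w * k⁻¹) * (k * w₀ * k⁻¹)⁻¹ = k * y * k⁻¹ := by rw [hydef]; group
      _ = _ := h3)
  obtain ⟨p, hp⟩ := C.exists_fix hw₀.1
  rcases K.eq_ab hka hkb hkF hfE (C.smul_eq_of_commute_Z hw₀.1 hw₀v hp)
    (C.smul_eq_of_commute_Z hw₀.1 (show Commute w₀ k from (mul_inv_eq_iff_eq_mul.1 h4).symm) hp)
    with rfl | rfl
  · exact K.ne (hp.symm.trans hw₀.2)
  · exact K.ne ((C.X_symm hw₀).2.symm.trans hp)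

set_option maxHeartbeats 1000000 in
/-- An element keeping all lines at `a` and commuting with a translation that moves `v` is absurd. -/
theorem false_of_moved {k n : G} {p l i : ℕ} (hp : p.Prime) (hp2 : p ≠ 2) (hk : k ^ p ^ l = 1)
    (hka : k • a = a) (hkb : k • b = b) (hkF : k ∈ C.fixStab v) (hkR : ∀ r ∈ R, k * r * k⁻¹ ∈ R)
    (hfE : ∀ e ∈ E, Commute k e → e = 1)
    (hline : ∀ y ∈ E, y ≠ 1 → ∀ c : C.Pt, (v * y) • c = c → (v * y) • k • c = k • c)
    (hn : n ^ 2 ^ i = 1) (hna : n • a = a) (hnE : ∀ e ∈ E, Commute n e)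
    (hnv : n * v * n⁻¹ * v ∈ E) (hnv1 : n * v * n⁻¹ * v ≠ 1) (hkn : Commute k n) : False := by
  classical
  haveI : Fact (Nat.Prime 2) := ⟨Nat.prime_two⟩
  set c₀ := n * v * n⁻¹ * v with hc₀
  have hnv' : n * v * n⁻¹ = v * c₀ := by
    rw [← (K.isE.commute_v C hnv).eq, hc₀, mul_assoc _ v v, K.vv, mul_one]
  have hn1 : n ≠ 1 := fun h => hnv1 (by rw [hc₀, h, one_mul, inv_one, mul_one, K.vv])
  have hnfix : ∀ c : C.Pt, v • c = c → (v * c₀) • n • c = n • c := fun c hc => by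
    rw [← hnv', mul_smul, mul_smul, inv_smul_smul, hc]
  have hmove : ∀ c : C.Pt, v • c = c → c ≠ a → v • n • c ≠ n • c := fun c hc hca =>
    K.line_moved hnv hnv1 (hnfix c hc) fun h => hca (smul_left_cancel n (h.trans hna.symm))
  -- the image of `b`
  have hb1 : v • n • b ≠ n • b := hmove b K.vb K.ne.symm
  have hnn : n • n • b = b := by
    have hvv : v • n • n • b = n • n • b := by
      have e : (n * n) * v * (n * n)⁻¹ = v := by
        calc (n * n) * v * (n * n)⁻¹ = n * (n * v * n⁻¹) * n⁻¹ := by group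
          _ = n * v * n⁻¹ * (n * c₀ * n⁻¹) := by
            conv_lhs => rw [hnv']
            group
          _ = v := by
            rw [hnv', mul_inv_eq_iff_eq_mul.2 (hnE c₀ hnv).eq, mul_assoc,
              K.isE.mul_self C hnv, mul_one]
      rw [smul_smul n n b, smul_smul]
      conv_lhs => rw [← e]
      rw [mul_assoc, inv_mul_cancel, mul_one, mul_smul, K.vb]
    have hkk : k • n • n • b = n • n • b := by
      rw [smul_smul n n b, smul_smul, (hkn.mul_right hkn).eq, mul_smul, hkb]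
    exact (K.eq_ab hka hkb hkF hfE hvv hkk).resolve_left fun h =>
      K.ne.symm (smul_left_cancel n (smul_left_cancel n
        (h.trans (show a = n • n • a by rw [hna, hna]))))
  -- a swapper of `b` and its image fixed by `n`
  have hne : b ≠ n • b := fun h => hb1 (by rw [← h, K.vb])
  have hXn : ∀ w ∈ C.X b (n • b), n * w * n⁻¹ ∈ C.X b (n • b) := fun w hw => by
    have := C.conj_mem_X (g := n) hw
    rw [hnn] at this
    exact C.X_symm this
  let f : C.X b (n • b) → C.X b (n • b) := fun w => ⟨n * w.1 * n⁻¹, hXn _ w.2⟩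
  obtain ⟨⟨w', hw'⟩, hfix⟩ := exists_fixed_of_pow (f := f) Nat.prime_two (l := i)
    (fun w => Subtype.ext (by
      have hval : ∀ (m : ℕ) (w : C.X b (n • b)), (f^[m] w).1 = n ^ m * w.1 * (n ^ m)⁻¹ := fun m => by
        induction m with
        | zero => simp
        | succ m ih =>
          intro w
          rw [Function.iterate_succ_apply']
          show n * (f^[m] w).1 * n⁻¹ = _
          rw [ih w, pow_succ']; group
      rw [hval, hn, one_mul, inv_one, mul_one]))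
    (by rw [C.card_X hne]; exact (C.odd_Za C.base).not_two_dvd_nat)
  have hw'n : Commute w' n :=
    ((mul_inv_eq_iff_eq_mul.1 (congrArg Subtype.val hfix)).symm : w' * n = n * w')
  obtain ⟨q, hq⟩ := C.exists_fix hw'.1
  have hqa : q ≠ a := by
    rintro rfl
    exact hb1 (by
      rw [← hw'.2, smul_smul, ← (K.za_comm K.va ⟨hw'.1, hq⟩).eq, mul_smul, K.vb])
  -- a point fixed by both
  obtain ⟨c, hca, hnc, hkc⟩ := K.exists_common hn hn1 hna hqa
    (C.smul_eq_of_commute_Z hw'.1 hw'n hq) hp hp2 hk hka hkn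
  have hvc : v • c ≠ c := fun h => hmove c h hca (by rw [hnc]; exact h)
  obtain ⟨w, hwX, hwv⟩ := C.exists_swap_commute K.vv (Ne.symm hvc)
    (Or.inr ⟨rfl, by rw [smul_smul, K.vv, one_smul]⟩)
  obtain ⟨p', hp'⟩ := C.exists_fix hwX.1
  have hvp : v • p' = p' := C.smul_eq_of_commute_Z hwX.1 hwv hp'
  have hvwc : (v * w) • c = c := by rw [mul_smul, hwX.2, smul_smul, K.vv, one_smul]
  -- it is fixed by `k` up to the graph
  set v' := k * v * k⁻¹ with hv'
  have hv'R : v' ∈ R := hkR v K.mem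
  have hkc' : k⁻¹ • c = c := inv_smul_eq_iff.2 hkc.symm
  obtain ⟨f', hf', hgr⟩ := K.graph_at hvp (show w ∈ C.Za p' from ⟨hwX.1, hp'⟩) hv'R
  have hv'f : (v' * f') • c = c := hgr c hvwc
  have hf'Z : f' ∈ C.Za p' := hf'.resolve_left fun h => hvc (by
    rw [h, mul_one, hv', C.conj_fixed, hkc'] at hv'f
    exact hv'f)
  have hv'f' : Commute v' f' := K.R_comm_L hv'R (C.mem_L hf'Z.1 (K.za_comm hvp hf'Z))
  have hcx : k⁻¹ * f' * k ∈ C.CX v c := by
    refine ⟨⟨?_, ?_⟩, ?_⟩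
    · have := C.conj_mem_Z hf'Z.1 k⁻¹
      rwa [inv_inv] at this
    · have h1 : f' • c = v' • c := by
        conv_rhs => rw [← hv'f, smul_smul, ← mul_assoc, K.sq v' hv'R, one_mul]
      rw [mul_smul, mul_smul, hkc, h1, hv', mul_smul, mul_smul, hkc', inv_smul_smul]
    · have h1 := (Commute.conj_iff k⁻¹).2 hv'f'.symm
      rwa [inv_inv, hv', show k⁻¹ * (k * v * k⁻¹) * k = v by group] at h1
  have hfw : k * w * k⁻¹ = f' := by rw [K.CX_unique hvc ⟨hwX, hwv⟩ hcx]; group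
  have hkp : k • p' = p' := by
    refine C.fix_unique hf'Z.1 ?_ hf'Z.2
    rw [← hfw, mul_smul, mul_smul, inv_smul_smul, hp']
  rcases K.eq_ab hka hkb hkF hfE hvp hkp with rfl | rfl
  · -- at `a` the translation fixes the line
    have hwE : w ∈ E := K.mem_E_iff.2 (Or.inr ⟨hwX.1, hp'⟩)
    have h2 : (v * (c₀ * w)) • c = c := by
      have e : v * (c₀ * w) = n * (v * w) * n⁻¹ := by
        calc v * (c₀ * w) = n * v * n⁻¹ * w := by rw [← mul_assoc, ← hnv']
          _ = n * v * (n⁻¹ * w) := by group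
          _ = n * v * (w * n⁻¹) := by rw [(hnE w hwE).inv_left.eq]
          _ = _ := by group
      rw [e, C.conj_fixed, inv_smul_eq_iff.2 hnc.symm]
      exact hvwc
    exact hnv1 (mul_eq_right.1 (K.line_inj (mul_mem hnv hwE) hwE hca h2 hvwc))
  · exact K.false_of_line_b hka hkb hkF hv'R hfE hline ⟨hwX.1, hp'⟩ (hfw.symm ▸ hgr)

/-- The elements at `a` centralising `E` and trivial on `R E / E`. -/
def transGroup (_K : C.Kern v a b D E R) : Subgroup G :=
  let M₀ : Submonoid G :=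
    { carrier := {g | g • a = a ∧ (∀ e ∈ E, Commute g e) ∧ ∀ r ∈ R, g * r * g⁻¹ * r ∈ E}
      one_mem' := ⟨one_smul _ a, fun e _ => Commute.one_left e, fun r hr => by
        rw [one_mul, inv_one, mul_one, _K.sq r hr]; exact one_mem _⟩
      mul_mem' := by
        rintro g h ⟨hga, hgE, hgR⟩ ⟨hha, hhE, hhR⟩
        refine ⟨by rw [mul_smul, hha, hga], fun e he => (hgE e he).mul_left (hhE e he),
          fun r hr => ?_⟩
        have h1 : g * (h * r * h⁻¹ * r) * g⁻¹ = h * r * h⁻¹ * r :=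
          mul_inv_eq_iff_eq_mul.2 (hgE _ (hhR r hr)).eq
        have := mul_mem (hhR r hr) (hgR r hr)
        rw [← h1, show g * (h * r * h⁻¹ * r) * g⁻¹ * (g * r * g⁻¹ * r) =
          g * h * r * (g * h)⁻¹ * (g * (r * r) * g⁻¹ * r) by group, _K.sq r hr,
          mul_one, mul_inv_cancel, one_mul] at this
        exact this }
  { M₀ with
    inv_mem' := fun {g} hg => by
      show g⁻¹ ∈ M₀
      exact (Submonoid.powers_le.2 hg) (mem_powers_iff_mem_zpowers.2 (inv_mem (mem_zpowers g))) }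

theorem mem_transGroup {g : G} : g ∈ K.transGroup ↔
    g • a = a ∧ (∀ e ∈ E, Commute g e) ∧ ∀ r ∈ R, g * r * g⁻¹ * r ∈ E := Iff.rfl

/-- The displacement of `v` is additive. -/
theorem trans_mul {g h : G} (hg : g ∈ K.transGroup) (hh : h ∈ K.transGroup) :
    g * h * v * (g * h)⁻¹ * v = (h * v * h⁻¹ * v) * (g * v * g⁻¹ * v) := by
  have h1 : g * (h * v * h⁻¹ * v) * g⁻¹ = h * v * h⁻¹ * v :=
    mul_inv_eq_iff_eq_mul.2 ((K.mem_transGroup.1 hg).2.1 _ ((K.mem_transGroup.1 hh).2.2 v K.mem)).eq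
  conv_rhs => rw [← h1]
  rw [show g * (h * v * h⁻¹ * v) * g⁻¹ * (g * v * g⁻¹ * v) =
    g * h * v * (g * h)⁻¹ * (g * (v * v) * g⁻¹ * v) by group, K.vv, mul_one, mul_inv_cancel, one_mul]

/-- An odd power has the same displacement. -/
theorem trans_pow {g : G} (hg : g ∈ K.transGroup) : ∀ m : ℕ,
    g ^ m * v * (g ^ m)⁻¹ * v = (g * v * g⁻¹ * v) ^ m := by
  intro m
  induction m with
  | zero => simp [K.vv]
  | succ m ih => rw [pow_succ g m, K.trans_mul (pow_mem hg m) hg, ih, ← pow_succ']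

/-- An element of it centralising `v` centralises `R`. -/
theorem trans_cent {g : G} (hg : g ∈ K.transGroup) (hgv : Commute g v) {r : G} (hr : r ∈ R) :
    Commute g r := by
  obtain ⟨-, hgE, hgR⟩ := K.mem_transGroup.1 hg
  have h1 : (g * r * g⁻¹ * r) • b = b := by
    rw [mul_smul, K.fix hr K.vb]
    exact C.conj_mem_fixAll hgv (fun c hc => K.fix hr hc) b K.vb
  have h2 := K.isE.free C (hgR r hr) K.ne.symm h1
  exact mul_inv_eq_iff_eq_mul.1
    ((eq_inv_of_mul_eq_one_left h2).trans (inv_eq_of_mul_eq_one_right (K.sq r hr)))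

set_option maxHeartbeats 1000000 in
/-- An element of odd prime power order keeping the lines at `a`, normalising `R` and fixing no
nontrivial member of `E` does not exist. -/
theorem false_of_keep {k : G} {p l : ℕ} (hp : p.Prime) (hp2 : p ≠ 2) (hk : k ^ p ^ l = 1)
    (hka : k • a = a) (hkF : k ∈ C.fixStab v) (hkR : ∀ r ∈ R, k * r * k⁻¹ ∈ R)
    (hfE : ∀ e ∈ E, Commute k e → e = 1)
    (hline : ∀ y ∈ E, y ≠ 1 → ∀ c : C.Pt, (v * y) • c = c → (v * y) • k • c = k • c) : False := by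
  classical
  haveI := Fact.mk hp
  obtain ⟨g, hga, hgE, hgR, hg1⟩ := K.exists_translation
  set M := K.transGroup with hM
  have hgM : g ∈ M := K.mem_transGroup.2 ⟨hga, hgE, hgR⟩
  have hkR' : ∀ r ∈ R, k⁻¹ * r * k ∈ R := fun r hr => by
    have := (mem_normalizer_iff.1 (inv_mem (Closed.mem_normalizer_of_conj hkR)) r).1 hr
    rwa [inv_inv] at this
  have hka' : k⁻¹ • a = a := inv_smul_eq_iff.2 hka.symm
  have hkM : ∀ x ∈ M, k * x * k⁻¹ ∈ M := by
    intro x hx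
    obtain ⟨hxa, hxE, hxR⟩ := K.mem_transGroup.1 hx
    refine K.mem_transGroup.2 ⟨by rw [mul_smul, mul_smul, hka', hxa, hka], fun e he => ?_,
      fun r hr => ?_⟩
    · have he' := K.conj_E hka' he
      rw [inv_inv] at he'
      have := (Commute.conj_iff k).2 (hxE _ he')
      rwa [show k * (k⁻¹ * e * k) * k⁻¹ = e by group] at this
    · have := K.conj_E hka (hxR _ (hkR' r hr))
      rwa [show k * (x * (k⁻¹ * r * k) * x⁻¹ * (k⁻¹ * r * k)) * k⁻¹ =
        k * x * k⁻¹ * r * (k * x * k⁻¹)⁻¹ * r by group] at this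
  -- `k` fixes the displacement
  have hδ : ∀ x ∈ M, k * x * k⁻¹ * v * (k * x * k⁻¹)⁻¹ * v = x * v * x⁻¹ * v := by
    intro x hx
    obtain ⟨hxa, -, hxR⟩ := K.mem_transGroup.1 hx
    have hx' := hkM x hx
    set e := x * v * x⁻¹ * v with he
    set e' := k * x * k⁻¹ * v * (k * x * k⁻¹)⁻¹ * v with he'
    have heE : e ∈ E := hxR v K.mem
    have he'E : e' ∈ E := (K.mem_transGroup.1 hx').2.2 v K.mem
    have hev : ∀ {e : G}, e ∈ E → ∀ z : G, e = z * v * z⁻¹ * v → ∀ c : C.Pt, v • c = c →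
        (v * e) • z • c = z • c := by
      intro e he z hz c hc
      rw [← (K.isE.commute_v C he).eq, hz, mul_assoc _ v v, K.vv, mul_one, mul_smul, mul_smul,
        inv_smul_smul, hc]
    obtain ⟨d, hda, hd⟩ := K.bad.exists_other C a
    have h1 : (v * e) • x • d = x • d := hev heE x he d hd
    have h2 : (v * e) • k • x • d = k • x • d := by
      by_cases h : e = 1
      · rw [h, mul_one] at h1 ⊢
        exact C.fixStab_apply hkF h1
      · exact hline e heE h _ h1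
    have hd' : v • k • d = k • d := C.fixStab_apply hkF hd
    have h3 : (v * e') • k • x • d = k • x • d := by
      have := hev he'E _ he' _ hd'
      rwa [show (k * x * k⁻¹) • k • d = k • x • d by
        rw [mul_smul, mul_smul, inv_smul_smul]] at this
    exact K.line_inj he'E heE (fun h => hda (smul_left_cancel x (smul_left_cancel k
      (h.trans (show a = k • x • a by rw [hxa, hka]))))) h3 h2
  -- the kernel of the displacement, extended by `k`
  set M0 := M ⊓ centralizer {v} with hM0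
  have hM0iff : ∀ x ∈ M, x ∈ M0 ↔ x * v * x⁻¹ * v = 1 := fun x hx => by
    rw [hM0, mem_inf, mem_centralizer_singleton_iff, and_iff_right hx]
    refine ⟨fun h => by rw [mul_inv_eq_iff_eq_mul.2 h, K.vv], fun h => ?_⟩
    have := (eq_inv_of_mul_eq_one_left h).trans (inv_eq_of_mul_eq_one_right K.vv)
    exact mul_inv_eq_iff_eq_mul.1 this
  have hM0k : ∀ x ∈ M0, k * x * k⁻¹ ∈ M0 := fun x hx =>
    (hM0iff _ (hkM x (mem_inf.1 hx).1)).2
      ((hδ x (mem_inf.1 hx).1).trans ((hM0iff _ (mem_inf.1 hx).1).1 hx))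
  have hkn0 : k ∈ normalizer (M0 : Set G) := Closed.mem_normalizer_of_conj hM0k
  have hM0pow : ∀ (j : ℕ), ∀ x ∈ M0, (k ^ j)⁻¹ * x * k ^ j ∈ M0 := fun j x hx => by
    have := (mem_normalizer_iff.1 (inv_mem (pow_mem hkn0 j)) x).1 hx
    rwa [inv_inv] at this
  let K₀ : Submonoid G :=
    { carrier := {x | ∃ j : ℕ, ∃ m ∈ M0, x = k ^ j * m}
      one_mem' := ⟨0, 1, one_mem _, by simp⟩
      mul_mem' := by
        rintro _ _ ⟨j, m, hm, rfl⟩ ⟨j', m', hm', rfl⟩
        exact ⟨j + j', (k ^ j')⁻¹ * m * k ^ j' * m', mul_mem (hM0pow j' m hm) hm',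
          by rw [pow_add]; group⟩ }
  let K0 : Subgroup G :=
    { K₀ with
      inv_mem' := fun {x} hx => by
        show x⁻¹ ∈ K₀
        exact (Submonoid.powers_le.2 hx) (mem_powers_iff_mem_zpowers.2 (inv_mem (mem_zpowers x))) }
  have hK0mem : ∀ {x : G}, x ∈ K0 ↔ ∃ j : ℕ, ∃ m ∈ M0, x = k ^ j * m := Iff.rfl
  have hkK0 : k ∈ K0 := hK0mem.2 ⟨1, 1, one_mem _, by simp⟩
  have hM0K0 : M0 ≤ K0 := fun x hx => hK0mem.2 ⟨0, x, hx, by simp⟩
  have hconjk : ∀ x ∈ M, x * k * x⁻¹ * k⁻¹ ∈ M0 := by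
    intro x hx
    rw [show x * k * x⁻¹ * k⁻¹ = x * (k * x⁻¹ * k⁻¹) by group]
    have hm := mul_mem hx (hkM _ (inv_mem hx))
    refine (hM0iff _ hm).2 ?_
    rw [K.trans_mul hx (hkM _ (inv_mem hx)), hδ _ (inv_mem hx), ← K.trans_mul hx (inv_mem hx),
      mul_inv_cancel, inv_one, one_mul, mul_one, K.vv]
  have hxM0 : ∀ x ∈ M, ∀ m ∈ M0, x * m * x⁻¹ ∈ M0 := fun x hx m hm => by
    have hm' := (mem_inf.1 hm).1
    have hxm := mul_mem (mul_mem hx hm') (inv_mem hx)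
    refine (hM0iff _ hxm).2 ?_
    rw [K.trans_mul (mul_mem hx hm') (inv_mem hx), K.trans_mul hx hm', (hM0iff m hm').1 hm, one_mul,
      ← K.trans_mul hx (inv_mem hx), mul_inv_cancel, inv_one, one_mul, mul_one, K.vv]
  have hMn : ∀ x ∈ M, x ∈ normalizer (K0 : Set G) := by
    refine fun x hx => Closed.mem_normalizer_of_conj ?_
    intro y hy
    obtain ⟨j, m, hm, rfl⟩ := hK0mem.1 hy
    rw [show x * (k ^ j * m) * x⁻¹ = (x * k * x⁻¹) ^ j * (x * m * x⁻¹) by rw [conj_pow]; group]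
    refine mul_mem (pow_mem ?_ j) (hM0K0 (hxM0 x hx m hm))
    rw [show x * k * x⁻¹ = x * k * x⁻¹ * k⁻¹ * k by group]
    exact mul_mem (hM0K0 (hconjk x hx)) hkK0
  -- a Sylow subgroup containing `k` and an element normalising it
  have hPk : IsPGroup p ↥(zpowers k) := by
    obtain ⟨e, -, he⟩ := (Nat.dvd_prime_pow hp).1 (orderOf_dvd_of_pow_eq_one hk)
    exact IsPGroup.of_card (n := e) (by rw [Nat.card_zpowers, he])
  obtain ⟨S, hS⟩ := (hPk.of_equiv (subgroupOfEquivOfLe (zpowers_le.2 hkK0)).symm).exists_le_sylow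
  set SG := (S : Subgroup ↥K0).map K0.subtype with hSG
  have hSGK : SG ≤ K0 := map_subtype_le _
  have hkS : k ∈ SG := ⟨⟨k, hkK0⟩, hS (mem_zpowers k), rfl⟩
  set S' := SG.map (MulAut.conj g).toMonoidHom with hS'
  have hS'K : S' ≤ K0 := by
    rintro _ ⟨y, hy, rfl⟩
    exact (mem_normalizer_iff.1 (hMn g hgM) y).1 (hSGK hy)
  obtain ⟨S₁, hS₁⟩ := (((S.2.map K0.subtype).map (MulAut.conj g).toMonoidHom).of_equiv
    (subgroupOfEquivOfLe hS'K).symm).exists_le_sylow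
  obtain ⟨m₁, hm₁⟩ := MulAction.exists_smul_eq ↥K0 S₁ S
  obtain ⟨j, m, hm, hjm⟩ := hK0mem.1 m₁.2
  have hmg : ∀ y ∈ SG, (m * g) * y * (m * g)⁻¹ ∈ SG := by
    intro y hy
    have h1 : (⟨g * y * g⁻¹, hS'K ⟨y, hy, rfl⟩⟩ : ↥K0) ∈ (S₁ : Subgroup ↥K0) :=
      hS₁ (show g * y * g⁻¹ ∈ S' from ⟨y, hy, rfl⟩)
    have h2 : m₁ * ⟨g * y * g⁻¹, hS'K ⟨y, hy, rfl⟩⟩ * m₁⁻¹ ∈ (S : Subgroup ↥K0) := by
      rw [← hm₁, Sylow.coe_subgroup_smul]
      exact Subgroup.smul_mem_pointwise_smul _ (MulAut.conj m₁) _ h1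
    have h3 : (m₁ : G) * (g * y * g⁻¹) * (m₁ : G)⁻¹ ∈ SG := ⟨_, h2, rfl⟩
    have h4 := mul_mem (mul_mem (inv_mem (pow_mem hkS j)) h3) (pow_mem hkS j)
    rwa [hjm, show (k ^ j)⁻¹ * (k ^ j * m * (g * y * g⁻¹) * (k ^ j * m)⁻¹) * k ^ j =
      m * g * y * (m * g)⁻¹ by group] at h4
  -- its 2-part
  set n' := m * g with hn'
  have hn'M : n' ∈ M := mul_mem (mem_inf.1 hm).1 hgM
  obtain ⟨e, o, ho, hord⟩ := Nat.exists_eq_two_pow_mul_odd (orderOf_pos n').ne'
  set n := n' ^ o with hn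
  have hnM : n ∈ M := pow_mem hn'M o
  have hnS : ∀ y ∈ SG, n * y * n⁻¹ ∈ SG := fun y hy =>
    (mem_normalizer_iff.1 (pow_mem (Closed.mem_normalizer_of_conj hmg) o) y).1 hy
  have hn2 : n ^ 2 ^ e = 1 := by rw [hn, ← pow_mul, mul_comm, ← hord, pow_orderOf_eq_one]
  have hnδ : n * v * n⁻¹ * v = g * v * g⁻¹ * v := by
    rw [hn, K.trans_pow hn'M, hn', K.trans_mul (mem_inf.1 hm).1 hgM, (hM0iff m (mem_inf.1 hm).1).1 hm,
      mul_one]
    obtain ⟨o', rfl⟩ := ho
    rw [pow_succ, pow_mul, pow_two, K.isE.mul_self C (hgR v K.mem), one_pow, one_mul]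
  -- an element of the coset of `k` commuting with it
  let X := {x : G // x ∈ SG ∧ k⁻¹ * x ∈ M0}
  have hXn : ∀ x : G, x ∈ SG ∧ k⁻¹ * x ∈ M0 →
      n * x * n⁻¹ ∈ SG ∧ k⁻¹ * (n * x * n⁻¹) ∈ M0 := by
    rintro x ⟨hx, hx'⟩
    refine ⟨hnS x hx, ?_⟩
    rw [show k⁻¹ * (n * x * n⁻¹) =
      (k⁻¹ * (n * k * n⁻¹ * k⁻¹) * k) * (n * (k⁻¹ * x) * n⁻¹) by group]
    refine mul_mem ?_ (hxM0 n hnM _ hx')
    have := hM0pow 1 _ (hconjk n hnM)
    rwa [pow_one] at this
  let f : X → X := fun x => ⟨n * x.1 * n⁻¹, hXn _ x.2⟩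
  have hcard : Nat.card X = Nat.card ↥(SG ⊓ M0) := Nat.card_congr
    { toFun := fun x => ⟨k⁻¹ * x.1, mem_inf.2 ⟨mul_mem (inv_mem hkS) x.2.1, x.2.2⟩⟩
      invFun := fun y => ⟨k * y.1, mul_mem hkS (mem_inf.1 y.2).1, by rw [inv_mul_cancel_left]; exact (mem_inf.1 y.2).2⟩
      left_inv := fun x => Subtype.ext (mul_inv_cancel_left k x.1)
      right_inv := fun y => Subtype.ext (inv_mul_cancel_left k y.1) }
  have hodd : ¬ 2 ∣ Nat.card X := by
    obtain ⟨s, hs⟩ := IsPGroup.iff_card.1 ((S.2.map K0.subtype).to_le (inf_le_left : SG ⊓ M0 ≤ SG))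
    rw [hcard, hs]
    exact fun h => hp2 ((Nat.prime_dvd_prime_iff_eq Nat.prime_two hp).1
      (Nat.prime_two.dvd_of_dvd_pow h)).symm
  obtain ⟨⟨k₁, hk₁S, hk₁m⟩, hfix⟩ := exists_fixed_of_pow (f := f) Nat.prime_two (l := e)
    (fun x => Subtype.ext (by
      have hval : ∀ (m : ℕ) (x : X), (f^[m] x).1 = n ^ m * x.1 * (n ^ m)⁻¹ := fun m => by
        induction m with
        | zero => simp
        | succ m ih =>
          intro x
          rw [Function.iterate_succ_apply']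
          show n * (f^[m] x).1 * n⁻¹ = _
          rw [ih x, pow_succ']; group
      rw [hval, hn2, one_mul, inv_one, mul_one])) hodd
  have hk₁n : Commute k₁ n :=
    ((mul_inv_eq_iff_eq_mul.1 (congrArg Subtype.val hfix)).symm : k₁ * n = n * k₁)
  set m₂ := k⁻¹ * k₁ with hm₂
  have hk₁eq : k₁ = k * m₂ := (mul_inv_cancel_left k k₁).symm
  obtain ⟨l₁, hl₁⟩ := (S.2.map K0.subtype) ⟨k₁, hk₁S⟩
  have hk₁p : k₁ ^ p ^ l₁ = 1 := congrArg Subtype.val hl₁
  obtain ⟨hm₂M, hm₂v⟩ := mem_inf.1 hk₁m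
  have hm₂v' : Commute m₂ v := mem_centralizer_singleton_iff.1 hm₂v
  obtain ⟨hm₂a, hm₂E, -⟩ := K.mem_transGroup.1 hm₂M
  have hk₁a : k₁ • a = a := by rw [hk₁eq, mul_smul, hm₂a, hka]
  -- a further fixed point of it
  obtain ⟨SR, hSR⟩ := K.bad.exists_reg C K.hp K.va
  have hk₁F : k₁ ∈ C.fixStab v :=
    hk₁eq ▸ mul_mem hkF (C.mem_fixStab_of_commute (fun _ => Iff.rfl) hm₂v')
  let β := {c : C.Pt // v • c = c ∧ c ≠ a}
  let f₁ : β → β := fun c => ⟨k₁ • c.1, C.fixStab_apply hk₁F c.2.1,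
    fun h => c.2.2 (smul_left_cancel k₁ (h.trans hk₁a.symm))⟩
  obtain ⟨⟨b₁, hb₁, hb₁a⟩, hfb⟩ := exists_fixed_of_pow (f := f₁) hp (l := l₁)
    (fun c => Subtype.ext (by
      have hval : ∀ (m : ℕ) (c : β), (f₁^[m] c).1 = k₁ ^ m • c.1 := fun m => by
        induction m with
        | zero => simp
        | succ m ih => intro c; rw [Function.iterate_succ_apply', pow_succ', mul_smul, ← ih c]
      rw [hval, hk₁p, one_smul]))
    (by
      obtain ⟨s, hs⟩ := (haveI : Fact (Nat.Prime 2) := ⟨Nat.prime_two⟩; IsPGroup.iff_card.1 hSR.two)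
      rw [K.bad.card_reg C K.va hSR] at hs
      show ¬ p ∣ C.qn v a
      rw [hs]
      exact not_dvd_two_pow hp hp2 s)
  obtain ⟨s, hs, hsb⟩ := hSR.trans b b₁ K.vb K.ne.symm hb₁ hb₁a
  have hsa : s • a = a := hSR.fix s hs
  have hsa' : s⁻¹ • a = a := inv_smul_eq_iff.2 hsa.symm
  have hsv : Commute s v := C.commute_of_mem_L (hSR.le hs)
  obtain ⟨-, hnE, -⟩ := K.mem_transGroup.1 hnM
  have hna : n • a = a := (K.mem_transGroup.1 hnM).1
  have hsE : ∀ {e : G}, e ∈ E → s * e * s⁻¹ ∈ E := fun he => K.conj_E hsa he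
  have hsE' : ∀ {e : G}, e ∈ E → s⁻¹ * e * s ∈ E := fun he => by
    have := K.conj_E hsa' he
    rwa [inv_inv] at this
  have hsR : ∀ r ∈ R, s⁻¹ * r * s = r := fun r hr => by
    rw [mul_assoc, (K.R_comm_L hr (hSR.le hs)).eq, inv_mul_cancel_left]
  refine K.false_of_moved (k := s⁻¹ * k₁ * s) (n := s⁻¹ * n * s) (i := e) hp hp2 (l := l₁) ?_ ?_ ?_ ?_
    (fun r hr => ?_) (fun e he hce => ?_) (fun y hy hy1 c hc => ?_) ?_ ?_ (fun e he => ?_) ?_ ?_ ?_
  · rw [show s⁻¹ * k₁ * s = s⁻¹ * k₁ * s⁻¹⁻¹ by group, conj_pow, hk₁p]; group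
  · rw [mul_smul, mul_smul, hsa, hk₁a, hsa']
  · have hfb' : k₁ • b₁ = b₁ := congrArg Subtype.val hfb
    rw [mul_smul, mul_smul, hsb, hfb', ← hsb, inv_smul_smul]
  · exact mul_mem (mul_mem (inv_mem (C.mem_fixStab_of_commute (fun _ => Iff.rfl) hsv)) hk₁F)
      (C.mem_fixStab_of_commute (fun _ => Iff.rfl) hsv)
  · have h1 : s⁻¹ * k₁ * s * r * (s⁻¹ * k₁ * s)⁻¹ = s⁻¹ * (k₁ * (s * r * s⁻¹) * k₁⁻¹) * s := by group
    rw [h1, mul_inv_eq_iff_eq_mul.2 (K.R_comm_L hr (hSR.le hs)).symm.eq, hk₁eq,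
      show k * m₂ * r * (k * m₂)⁻¹ = k * (m₂ * r * m₂⁻¹) * k⁻¹ by group,
      mul_inv_eq_iff_eq_mul.2 (K.trans_cent hm₂M hm₂v' hr).eq, hsR _ (hkR r hr)]
    exact hkR r hr
  · have h1 := (Commute.conj_iff s).2 hce
    rw [show s * (s⁻¹ * k₁ * s) * s⁻¹ = k₁ by group] at h1
    have h2 : Commute k (s * e * s⁻¹) := by
      have h3 : k = k₁ * m₂⁻¹ := by rw [hk₁eq, mul_inv_cancel_right]
      rw [h3]
      exact h1.mul_left (hm₂E _ (hsE he)).inv_left
    exact conj_eq_one_iff.1 (hfE _ (hsE he) h2)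
  · have e1 : v * y = s⁻¹ * (v * (s * y * s⁻¹)) * s⁻¹⁻¹ := by
      calc v * y = s⁻¹ * (s * v) * y := by group
        _ = s⁻¹ * (v * s) * y := by rw [hsv.eq]
        _ = _ := by group
    rw [e1, C.conj_fixed, inv_inv] at hc ⊢
    rw [mul_smul (s⁻¹ * k₁) s, mul_smul s⁻¹ k₁, smul_inv_smul]
    have h1 := hline _ (hsE hy) (fun h => hy1 (conj_eq_one_iff.1 h)) _
      (show (v * (s * y * s⁻¹)) • m₂ • s • c = m₂ • s • c by
        rw [smul_smul _ m₂, ← (hm₂v'.mul_right (hm₂E _ (hsE hy))).eq, mul_smul, hc])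
    rwa [smul_smul k m₂, ← hk₁eq] at h1
  · rw [show s⁻¹ * n * s = s⁻¹ * n * s⁻¹⁻¹ by group, conj_pow, hn2]; group
  · rw [mul_smul, mul_smul, hsa, hna, hsa']
  · have := (Commute.conj_iff s⁻¹).2 (hnE _ (hsE he))
    rwa [inv_inv, show s⁻¹ * (s * e * s⁻¹) * s = e by group] at this
  · rw [show s⁻¹ * n * s * v * (s⁻¹ * n * s)⁻¹ * v = s⁻¹ * (n * (s * v * s⁻¹) * n⁻¹) * s * v by group,
      mul_inv_eq_iff_eq_mul.2 hsv.eq, mul_assoc _ s v, hsv.eq,
      show s⁻¹ * (n * v * n⁻¹) * (v * s) = s⁻¹ * (n * v * n⁻¹ * v) * s by group, hnδ]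
    exact hsE' (hgR v K.mem)
  · rw [show s⁻¹ * n * s * v * (s⁻¹ * n * s)⁻¹ * v = s⁻¹ * (n * (s * v * s⁻¹) * n⁻¹) * s * v by group,
      mul_inv_eq_iff_eq_mul.2 hsv.eq, mul_assoc _ s v, hsv.eq,
      show s⁻¹ * (n * v * n⁻¹) * (v * s) = s⁻¹ * (n * v * n⁻¹ * v) * s by group, hnδ]
    intro h
    refine hg1 ?_
    calc g * v * g⁻¹ * v = s * (s⁻¹ * (g * v * g⁻¹ * v) * s) * s⁻¹ := by group
      _ = 1 := by rw [h]; group
  · have := (Commute.conj_iff s⁻¹).2 hk₁n
    rwa [inv_inv] at this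

set_option maxHeartbeats 1000000 in
/-- **The normaliser of the kernel in the centraliser of `E` at `a`, `b` centralises it.** -/
theorem noh : ∀ h : G, h • a = a → h • b = b → (∀ e ∈ E, Commute h e) →
    (∀ r ∈ R, h * r * h⁻¹ ∈ R) → ∀ r ∈ R, Commute h r := by
  classical
  intro h₀ h₀a h₀b h₀E h₀R r₀ hr₀
  by_contra hno
  set H := centralizer (R : Set G) with hH
  have hHmem : ∀ {g : G}, g ∈ H ↔ ∀ r ∈ R, Commute g r := fun {g} => by
    rw [hH, mem_centralizer_iff]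
    exact ⟨fun h r hr => (h r hr).symm, fun h r hr => (h r hr).eq.symm⟩
  have hpowE : ∀ {g : G}, (∀ e ∈ E, Commute g e) → ∀ m : ℕ, ∀ e ∈ E, Commute (g ^ m) e :=
    fun hg m e he => (hg e he).pow_left m
  have hpowR : ∀ {g : G}, (∀ r ∈ R, g * r * g⁻¹ ∈ R) → ∀ m : ℕ, ∀ r ∈ R,
      g ^ m * r * (g ^ m)⁻¹ ∈ R := fun hg m r hr =>
    (mem_normalizer_iff.1 (pow_mem (Closed.mem_normalizer_of_conj hg) m) r).1 hr
  have hpowfix : ∀ {g : G} {c : C.Pt}, g • c = c → ∀ m : ℕ, g ^ m • c = c := fun hg m =>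
    MulAction.mem_stabilizer_iff.1 (pow_mem (MulAction.mem_stabilizer_iff.2 hg) m)
  -- reduce to odd order
  obtain ⟨e, o, ho, hord⟩ := Nat.exists_eq_two_pow_mul_odd (orderOf_pos h₀).ne'
  have h2part : h₀ ^ o ∈ H := hHmem.2 fun r hr => K.two_cent_R (hpowfix h₀a o) (hpowfix h₀b o)
    (hpowE h₀E o) (hpowR h₀R o) (i := e) (by rw [← pow_mul, mul_comm, ← hord, pow_orderOf_eq_one]) hr
  set h := h₀ ^ 2 ^ e with hh
  have hhH : h ∉ H := fun hm => hno (hHmem.1 (mem_of_coprime_pow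
    ((Nat.coprime_two_left.2 ho).pow_left e) hm h2part) r₀ hr₀)
  have hhodd : Odd (orderOf h) := by
    rw [hh, orderOf_pow' _ (by positivity), hord, Nat.gcd_eq_right (dvd_mul_right _ _),
      Nat.mul_div_cancel_left _ (by positivity)]
    exact ho
  have hha := hpowfix h₀a (2 ^ e)
  have hhb := hpowfix h₀b (2 ^ e)
  have hhE := hpowE h₀E (2 ^ e)
  have hhR := hpowR h₀R (2 ^ e)
  rw [← hh] at hha hhb hhE hhR
  have hhv : ¬ Commute h v := fun hc => hhH (hHmem.2 fun r hr => K.cent_R hha hc hhE hr (hhR r hr))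
  set v' := h * v * h⁻¹ with hv'
  have hv'R : v' ∈ R := hhR v K.mem
  have hv'1 : v' ≠ 1 := fun e => ne_one K.bad.1 (conj_eq_one_iff.1 e)
  have hv'v : v' ≠ v := fun e => hhv (mul_inv_eq_iff_eq_mul.1 e)
  have hhF : h ∈ C.fixStab v := C.mem_fixStab.2 fun c => by
    have h1 := K.fixed v' hv'R hv'1 (h • c)
    rw [hv', C.conj_fixed, inv_smul_smul] at h1
    exact h1
  -- correct it by the torus
  obtain ⟨t, ht, hta, -, htr, htfix⟩ := K.exists_torus
  have htn : ∀ n : ℕ, t ^ n ∈ C.L v := fun n => pow_mem ht n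
  obtain ⟨x, hx, hx1, -⟩ := K.exists_graph_one
  obtain ⟨j, hj⟩ := K.exists_scalar ht htr hv'R hv'1
  set y := t ^ j * x * (t ^ j)⁻¹ with hy
  have hyE : y ∈ E := K.conj_E (hpowfix hta j) hx
  have hy1 : y ≠ 1 := fun e => hx1 (conj_eq_one_iff.1 e)
  have hyx : y ≠ x := fun e => hv'v (K.graph_inj hx hx1 hv'R K.mem
    (f := x) (by have := hj x hx hx1; rwa [← hy, e] at this) (K.mem_fixAll_self x))
  have hconj : h * (v * y) * h⁻¹ = v' * y := by
    rw [hv', ← mul_inv_eq_iff_eq_mul.2 (hhE y hyE).eq]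
    simp only [mul_assoc, inv_mul_cancel_left]
    rw [← mul_assoc h y, ← mul_assoc (h * y), mul_inv_eq_iff_eq_mul.2 (hhE y hyE).eq]
  -- `h` maps the line of `y` onto that of `x`
  have hmap : ∀ c : C.Pt, (v * y) • c = c → (v * x) • h • c = h • c := by
    have hsub : ∀ d : C.Pt, (v * x) • d = d → (v * y) • h⁻¹ • d = h⁻¹ • d := fun d hd =>
      (C.conj_fixed h (v * y) d).1 (hconj.symm ▸ hj x hx hx1 d hd)
    let Φ : {c : C.Pt // (v * x) • c = c} → {c : C.Pt // (v * y) • c = c} := fun c =>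
      ⟨h⁻¹ • c.1, hsub _ c.2⟩
    have hinj : Function.Injective Φ := fun c d e =>
      Subtype.ext (smul_left_cancel h⁻¹ (congrArg Subtype.val e))
    have hcard : ∀ z : G, z ∈ E → z ≠ 1 →
        Nat.card {c : C.Pt // (v * z) • c = c} = C.qn v a + 1 := fun z hz hz1 => by
      rw [← K.bad.qn_mul C K.hf K.hp K.va (K.isE.mem z hz hz1), ← C.fn_eq (K.mul_fix_a hz)]
      rfl
    have hbij := hinj.bijective_of_nat_card_le
      (le_of_eq ((hcard y hyE hy1).trans (hcard x hx hx1).symm))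
    intro c hc
    obtain ⟨d, hd⟩ := hbij.2 ⟨c, hc⟩
    have hd' : h⁻¹ • d.1 = c := congrArg Subtype.val hd
    rw [← hd', smul_inv_smul]
    exact d.2
  set k := t ^ j * h with hk
  have hka : k • a = a := by rw [hk, mul_smul, hha, hpowfix hta j]
  have hkE : ∀ z ∈ E, k * z * k⁻¹ = t ^ j * z * (t ^ j)⁻¹ := fun z hz => by
    calc k * z * k⁻¹ = t ^ j * (h * z * h⁻¹) * (t ^ j)⁻¹ := by rw [hk]; group
      _ = _ := by rw [mul_inv_eq_iff_eq_mul.2 (hhE z hz).eq]
  have hkR : ∀ r ∈ R, k * r * k⁻¹ = h * r * h⁻¹ := fun r hr => by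
    calc k * r * k⁻¹ = t ^ j * (h * r * h⁻¹) * (t ^ j)⁻¹ := by rw [hk]; group
      _ = _ := mul_inv_eq_iff_eq_mul.2 (K.R_comm_L (hhR r hr) (htn j)).symm.eq
  have hkF : k ∈ C.fixStab v :=
    mul_mem (C.mem_fixStab_of_commute (fun _ => Iff.rfl) (C.commute_of_mem_L (htn j))) hhF
  have hline : ∀ z ∈ E, z ≠ 1 → ∀ c : C.Pt, (v * z) • c = c → (v * z) • k • c = k • c := by
    intro z hz hz1 c hc
    obtain ⟨i, rfl⟩ := htr y hyE hy1 z hz hz1
    -- `h` commutes with `t ^ i` up to elements of the local group centralising `E`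
    set m := t ^ i with hm
    have hmv : m * v * m⁻¹ = v := C.L_conj_eq (htn i)
    have e1 : v * (m * y * m⁻¹) = m * (v * y) * m⁻¹ := by
      calc v * (m * y * m⁻¹) = m * v * m⁻¹ * (m * y * m⁻¹) := by rw [hmv]
        _ = _ := by group
    have h1 : (v' * (m * y * m⁻¹)) • h • c = h • c := by
      have e : h * (v * (m * y * m⁻¹)) * h⁻¹ = v' * (m * y * m⁻¹) := by
        have hz' := mul_inv_eq_iff_eq_mul.2 (hhE _ hz).eq
        calc h * (v * (m * y * m⁻¹)) * h⁻¹ = h * v * h⁻¹ * (h * (m * y * m⁻¹) * h⁻¹) := by group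
          _ = _ := by rw [hz', hv']
      rw [← e, mul_smul, mul_smul, inv_smul_smul, hc]
    have e2 : v' * (m * y * m⁻¹) = m * (v' * y) * m⁻¹ := by
      calc v' * (m * y * m⁻¹) = v' * m * y * m⁻¹ := by group
        _ = m * v' * y * m⁻¹ := by rw [(K.R_comm_L hv'R (htn i)).eq]
        _ = _ := by group
    rw [e2, C.conj_fixed, ← hconj, C.conj_fixed] at h1
    have h2 := hmap _ h1
    rw [smul_inv_smul] at h2
    -- so `h c` lies on the line of `m x m⁻¹`
    have h3 : (t ^ j * (m * (v * x) * m⁻¹) * (t ^ j)⁻¹) • k • c = k • c := by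
      rw [C.conj_fixed, hk, mul_smul (t ^ j) h c, inv_smul_smul, C.conj_fixed]
      exact h2
    have e3 : v * (m * y * m⁻¹) = t ^ j * (m * (v * x) * m⁻¹) * (t ^ j)⁻¹ := by
      rw [e1, hy, hm]
      calc t ^ i * (v * (t ^ j * x * (t ^ j)⁻¹)) * (t ^ i)⁻¹
          = t ^ i * (v * t ^ j) * x * (t ^ j)⁻¹ * (t ^ i)⁻¹ := by group
        _ = t ^ i * (t ^ j * v) * x * (t ^ j)⁻¹ * (t ^ i)⁻¹ := by
            rw [(C.commute_of_mem_L (htn j)).eq]
        _ = (t ^ i * t ^ j) * (v * x) * (t ^ i * t ^ j)⁻¹ := by group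
        _ = (t ^ j * t ^ i) * (v * x) * (t ^ j * t ^ i)⁻¹ := by rw [← pow_add, add_comm, pow_add]
        _ = _ := by group
    rw [e3]
    exact h3
  -- powers of `k`
  have hkEn : ∀ (n : ℕ), ∀ z ∈ E, k ^ n * z * (k ^ n)⁻¹ = t ^ (j * n) * z * (t ^ (j * n))⁻¹ := by
    intro n
    induction n with
    | zero => simp
    | succ n ih =>
      intro z hz
      calc k ^ (n + 1) * z * (k ^ (n + 1))⁻¹ = k * (k ^ n * z * (k ^ n)⁻¹) * k⁻¹ := by
            rw [pow_succ']; group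
        _ = k * (t ^ (j * n) * z * (t ^ (j * n))⁻¹) * k⁻¹ := by rw [ih z hz]
        _ = t ^ j * (t ^ (j * n) * z * (t ^ (j * n))⁻¹) * (t ^ j)⁻¹ :=
            hkE _ (K.conj_E (hpowfix hta _) hz)
        _ = (t ^ j * t ^ (j * n)) * z * (t ^ j * t ^ (j * n))⁻¹ := by group
        _ = _ := by rw [← pow_add, show j + j * n = j * (n + 1) by ring]
  have hkRn : ∀ (n : ℕ), ∀ r ∈ R, k ^ n * r * (k ^ n)⁻¹ = h ^ n * r * (h ^ n)⁻¹ := by
    intro n
    induction n with
    | zero => simp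
    | succ n ih =>
      intro r hr
      calc k ^ (n + 1) * r * (k ^ (n + 1))⁻¹ = k * (k ^ n * r * (k ^ n)⁻¹) * k⁻¹ := by
            rw [pow_succ']; group
        _ = h * (h ^ n * r * (h ^ n)⁻¹) * h⁻¹ := by rw [ih r hr, hkR _ (hpowR hhR n r hr)]
        _ = _ := by rw [pow_succ']; group
  have hkH : k ∉ H := fun hm => hhH (hHmem.2 fun r hr => by
    have := hkR r hr
    rw [mul_inv_eq_iff_eq_mul.2 (hHmem.1 hm r hr).eq] at this
    exact mul_inv_eq_iff_eq_mul.1 this.symm)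
  obtain ⟨n, p, l, hp, hnH, hnp⟩ := exists_primePow_not_mem (orderOf k) rfl hkH
  have hline' := K.line_pow hline n
  have hknR : ∀ r ∈ R, k ^ n * r * (k ^ n)⁻¹ ∈ R := fun r hr => by
    rw [hkRn n r hr]; exact hpowR hhR n r hr
  have hfE : ∀ z ∈ E, Commute (k ^ n) z → z = 1 := by
    intro z hz hc
    by_contra hz1
    have hall : ∀ y ∈ E, Commute (k ^ n) y := fun y hy => mul_inv_eq_iff_eq_mul.1 (by
      rw [hkEn n y hy]
      exact htfix (j * n) z hz hz1 (by rw [← hkEn n z hz, mul_inv_eq_iff_eq_mul.2 hc.eq]) y hy)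
    refine hnH (hHmem.2 fun r hr => mul_inv_eq_iff_eq_mul.1 ?_)
    obtain ⟨f, hf, hrf, -⟩ := K.graph hx hx1 hr
    refine K.graph_inj hx hx1 (hknR r hr) hr (f := f) ?_ hrf
    have h1 := K.conj_graph hline' hx hx1 hrf
    rwa [show k ^ n * (r * f) * (k ^ n)⁻¹ = k ^ n * r * (k ^ n)⁻¹ * (k ^ n * f * (k ^ n)⁻¹) by group,
      mul_inv_eq_iff_eq_mul.2 (hall f hf).eq] at h1
  have hp2 : p ≠ 2 := by
    rintro rfl
    refine hnH (hHmem.2 fun r hr => mul_inv_eq_iff_eq_mul.1 ?_)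
    rw [hkRn n r hr]
    refine mul_inv_eq_iff_eq_mul.2 ?_
    have h1 : Commute (h ^ (n * 2 ^ l)) r := mul_inv_eq_iff_eq_mul.1 (by
      rw [← hkRn _ r hr, pow_mul, hnp, one_mul, inv_one, mul_one])
    have h2 : h ^ n ∈ centralizer {r} := mem_of_coprime_pow (m := 2 ^ l) (n := orderOf h)
      ((Nat.coprime_two_left.2 hhodd).pow_left l)
      (mem_centralizer_singleton_iff.2 (by rw [← pow_mul]; exact h1.eq))
      (by rw [← pow_mul, mul_comm, pow_mul, pow_orderOf_eq_one, one_pow]; exact one_mem _)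
    exact mem_centralizer_singleton_iff.1 h2
  exact K.false_of_keep hp hp2 hnp (hpowfix hka n) (pow_mem hkF n) hknR hfE hline'

end Kern

end Ctx

end CfsgLib.Criterion
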