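import Cfsg.Agent.Criterion.TypeSzModel
import Cfsg.Agent.Criterion.TypeAlg

/-!
# The strong embedding criterion: the pair group of Suzuki type is the kernel

For `Q = q ^ 2` an element `g` of `D` acts on `P ⊓ L_v` trivially on `E` (`q` is not a square), so
modulo `E`; the resulting map to `E` commutes with the torus, so would make squaring additive unless
trivial.  So `g` fixes all fixed points of `v`.
-/

set_option autoImplicit false
set_option linter.style.haveILetI false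
set_option linter.unusedSectionVars false

namespace CfsgLib.Recog.RankOneSuzuki

open MulAction CfsgLib.Recog.RankOne

variable {G Ω : Type*} [Group G] [MulAction G Ω] [Finite G] {a : Ω} {t : G} {Q : Subgroup G}

/-- **A twist is trivial**: for `|Q| = q ^ 2` and `L` everything, an endomorphism keeping the two-point
stabiliser, trivial on `Z` and moving elements of `Q` only modulo `Z`, is trivial on `Q`. -/
theorem Data.eq_self_of_twist [FaithfulSMul G Ω] (S : Data a t Q)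
    (hcard : Nat.card Q = Nat.card S.Z ^ 2) (htop : S.L = ⊤) (σ : G →* G)
    (hD : ∀ y ∈ stabilizer G a ⊓ stabilizer G (t • a), σ y ∈ stabilizer G a ⊓ stabilizer G (t • a))
    (hZ : ∀ z ∈ S.Z, σ z = z) (hQ : ∀ x ∈ Q, x⁻¹ * σ x ∈ S.Z) : ∀ x ∈ Q, σ x = x := by
  have hsplit := S.isSplit_of_card (S.r_not_mem_Z_of_sq hcard) hcard
  have hcK : ∀ {k l : G}, k ∈ S.K → l ∈ S.K → k * l = l * k := fun {k l} hk hl => by
    haveI := S.K_cyclic
    exact congrArg Subtype.val (IsMulCommutative.is_comm.comm (⟨k, hk⟩ : S.K) ⟨l, hl⟩)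
  obtain ⟨z₀, hz₀, hz₀1, -⟩ := S.exists_two
  -- `σ` centralises `K`
  have hσK : ∀ k ∈ S.K, σ k = k := by
    intro k hk
    have hm := mul_mem (hD k (S.K_le hk)) (inv_mem (S.K_le hk))
    have hκ : σ k * k⁻¹ ∈ S.K :=
      S.mem_L_D hsplit (htop ▸ Subgroup.mem_top _) hm.1 hm.2
    by_contra hne
    refine hz₀1 (S.fpf _ hκ (fun e => hne (mul_inv_eq_one.1 e)) z₀ (S.Z_le hz₀) ?_)
    have h1 := S.conj_Z' hk hz₀
    have h2 : σ k * (k⁻¹ * z₀ * k) * (σ k)⁻¹ = z₀ := by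
      calc σ k * (k⁻¹ * z₀ * k) * (σ k)⁻¹ = σ (k * (k⁻¹ * z₀ * k) * k⁻¹) := by
            rw [map_mul, map_mul, map_inv, hZ _ h1]
        _ = σ z₀ := by congr 1; group
        _ = z₀ := hZ _ hz₀
    refine mul_inv_eq_iff_eq_mul.1 ?_
    calc σ k * k⁻¹ * z₀ * (σ k * k⁻¹)⁻¹ = σ k * (k⁻¹ * z₀ * k) * (σ k)⁻¹ := by group
      _ = z₀ := h2
  obtain ⟨x₁, hx₁, y₁, hy₁, hne⟩ := S.not_comm_of_sq hcard
  have hna : ∃ x ∈ Q, ∃ y ∈ Q, x * y ≠ y * x := ⟨x₁, hx₁, y₁, hy₁, hne⟩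
  set ζ : G → G := fun x => x⁻¹ * σ x with hζ
  -- `ζ` on a coset of `Z`
  have hζmul : ∀ {x z : G}, x ∈ Q → z ∈ S.Z → ζ (x * z) = ζ x := by
    intro x z hx hz
    show (x * z)⁻¹ * σ (x * z) = x⁻¹ * σ x
    rw [map_mul, hZ z hz, mul_inv_rev, mul_assoc z⁻¹, ← mul_assoc x⁻¹ (σ x) z,
      ← S.central z hz _ (S.Z_le (hQ x hx)), inv_mul_cancel_left]
  have hζK : ∀ {k x : G}, k ∈ S.K → ζ (k * x * k⁻¹) = k * ζ x * k⁻¹ := by
    intro k x hk
    show (k * x * k⁻¹)⁻¹ * σ (k * x * k⁻¹) = k * (x⁻¹ * σ x) * k⁻¹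
    rw [map_mul, map_mul, map_inv, hσK k hk]
    group
  have hζh : ∀ {x y : G}, x ∈ Q → y ∈ Q → ζ (x * y) = ζ x * ζ y := by
    intro x y hx hy
    show (x * y)⁻¹ * σ (x * y) = x⁻¹ * σ x * (y⁻¹ * σ y)
    rw [map_mul, mul_inv_rev, mul_assoc y⁻¹, ← mul_assoc x⁻¹, ← mul_assoc y⁻¹,
      show y⁻¹ * (x⁻¹ * σ x) = (x⁻¹ * σ x) * y⁻¹ from
        (S.central _ (hQ x hx) _ (inv_mem hy)).symm, mul_assoc]
  have hxZ : x₁ ∉ S.Z := fun h => hne (S.central x₁ h y₁ hy₁)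
  -- elements off `Z` are moved to a coset of a fixed one
  have hco : ∀ {x : G}, x ∈ Q → x ∉ S.Z → ∃ k ∈ S.K,
      ζ x = k * ζ x₁ * k⁻¹ ∧ x * x = k * (x₁ * x₁) * k⁻¹ := by
    intro x hx hxnZ
    obtain ⟨k, hk, hkx⟩ := S.exists_K_coset hcard hx₁ hxZ hx hxnZ
    refine ⟨k, hk, ?_, ?_⟩
    · have h := hζmul (S.conj_Q hk hx₁) hkx
      rwa [mul_inv_cancel_left, hζK hk] at h
    · have h := S.sq_mul_Z (S.conj_Q hk hx₁) hkx
      rw [mul_inv_cancel_left] at h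
      rw [h]; group
  have hζZ : ∀ z ∈ S.Z, ζ z = 1 := fun z hz => by
    show z⁻¹ * σ z = 1
    rw [hZ z hz, inv_mul_cancel]
  have h11 : ζ x₁ = 1 := by
    by_contra h
    have hsq1 : x₁ * x₁ ≠ 1 := fun e => hxZ ((S.mem_Z _).2 ⟨hx₁, e⟩)
    obtain ⟨k₀, hk₀, e₀⟩ := S.trans _ (hQ x₁ hx₁) h _ (S.sq_mem_Z hna x₁ hx₁) hsq1
    have hsqeq : ∀ x ∈ Q, x * x = k₀⁻¹ * ζ x * k₀ := by
      intro x hx
      by_cases hxnZ : x ∈ S.Z
      · rw [S.Z_sq hxnZ, hζZ x hxnZ]; group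
      obtain ⟨k, hk, h1, h2⟩ := hco hx hxnZ
      rw [h2, h1, ← e₀]
      calc k * (k₀⁻¹ * ζ x₁ * k₀) * k⁻¹ = (k * k₀⁻¹) * ζ x₁ * (k * k₀⁻¹)⁻¹ := by group
        _ = (k₀⁻¹ * k) * ζ x₁ * (k₀⁻¹ * k)⁻¹ := by rw [hcK hk (inv_mem hk₀)]
        _ = _ := by group
    refine hne ?_
    have h3 : x₁ * y₁ * (x₁ * y₁) = x₁ * x₁ * (y₁ * y₁) := by
      rw [hsqeq _ (mul_mem hx₁ hy₁), hsqeq x₁ hx₁, hsqeq y₁ hy₁, hζh hx₁ hy₁]
      group
    calc x₁ * y₁ = x₁⁻¹ * (x₁ * x₁ * (y₁ * y₁)) * y₁⁻¹ := by group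
      _ = y₁ * x₁ := by rw [← h3]; group
  intro x hx
  by_cases hxnZ : x ∈ S.Z
  · exact hZ x hxnZ
  obtain ⟨k, -, h1, -⟩ := hco hx hxnZ
  rw [h11, mul_one, mul_inv_cancel] at h1
  exact (inv_mul_eq_one.1 h1).symm

end CfsgLib.Recog.RankOneSuzuki

namespace CfsgLib.Criterion

open Subgroup CfsgLib.Invol CfsgLib.Bender

universe u

variable {G : Type u} [Group G] [Finite G]

namespace Ctx

variable {C : Ctx G} {v : G} {a b : C.Pt} {D E P : Subgroup G} (K : C.Typ v a b D E P)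
include K

/-- `P` normalises `P ⊓ L_v`. -/
theorem Typ.conj_S_sz {g s : G} (hg : g ∈ P) (hs : s ∈ P ⊓ C.L v) : g * s * g⁻¹ ∈ P ⊓ C.L v :=
  mem_inf.2 ⟨mul_mem (mul_mem hg hs.1) (inv_mem hg), C.conj_mem_L_of_commute (K.fix g hg).2 hs.2⟩

/-- An element of `P` centralising `E` moves elements of `P ⊓ L_v` only modulo `E`. -/
theorem Typ.conj_mod (hS : C.SqFacts v E P) {g s : G} (hg : g ∈ P) (hgE : ∀ e ∈ E, Commute g e)
    (hs : s ∈ P ⊓ C.L v) : s⁻¹ * (g * s * g⁻¹) ∈ E := by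
  refine hS.inj s hs _ (K.conj_S_sz hg hs) ?_
  calc s * s = g * (s * s) * g⁻¹ := (mul_inv_eq_iff_eq_mul.2 (hgE _ (hS.sq s hs)).eq).symm
    _ = _ := by group

/-- Elements of `P` centralise `E` for `Q = q ^ 2`. -/
theorem Typ.comm_E (hS : C.SqFacts v E P) {g : G} (hg : g ∈ P) : ∀ e ∈ E, Commute g e := by
  classical
  obtain ⟨i, hi⟩ := K.two ⟨g, hg⟩
  have hi' : g ^ 2 ^ i = 1 := congrArg Subtype.val hi
  clear hi
  induction i generalizing g with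
  | zero =>
    rw [pow_zero, pow_one] at hi'
    exact fun e _ => by rw [hi']; exact Commute.one_left e
  | succ i ih =>
    have hgg : ∀ e ∈ E, Commute (g * g) e :=
      ih (mul_mem hg hg) (by rw [← pow_two, ← pow_mul, ← pow_succ']; exact hi')
    set W := P ⊓ C.L v
    let σ : MulAut ↥W :=
      { toFun := fun s => ⟨g * s * g⁻¹, K.conj_S_sz hg s.2⟩
        invFun := fun s => ⟨g⁻¹ * s * g, by
          have h := K.conj_S_sz (inv_mem hg) s.2
          rwa [inv_inv] at h⟩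
        left_inv := fun s => Subtype.ext (show g⁻¹ * (g * s * g⁻¹) * g = s by group)
        right_inv := fun s => Subtype.ext (show g * (g⁻¹ * s * g) * g⁻¹ = s by group)
        map_mul' := fun s s' => Subtype.ext (show g * (s * s') * g⁻¹ = g * s * g⁻¹ * (g * s' * g⁻¹) by
          group) }
    have hE : ∀ {x : ↥W}, x ∈ E.subgroupOf W ↔ (x : G) ∈ E := Iff.rfl
    have h := TypeAlg.fix_of_involutive (P := ↥W) (Z := E.subgroupOf W) (E := E.subgroupOf W)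
      (fun x hx => mem_center_iff.2 fun y => Subtype.ext (hS.central x (hE.1 hx) y y.2).eq.symm)
      (fun x hx => Subtype.ext (K.isE.mul_self C (hE.1 hx))) le_rfl (fun x => hE.2 (hS.sq x x.2))
      (fun x hx => by
        obtain ⟨s, hs, e⟩ := hS.sqrt _ (hE.1 hx)
        exact ⟨⟨s, hs⟩, Subtype.ext e⟩)
      (fun x y e => hE.2 (hS.inj x x.2 y y.2 (congrArg Subtype.val e)))
      (fun x y hx hy e => hE.2 (hS.ker x x.2 y y.2 (fun h => hx (hE.2 h)) (fun h => hy (hE.2 h))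
        (congrArg Subtype.val e.eq)))
      (fun n hn => hS.nonsq n (by
        rw [hn]
        exact Nat.card_congr (subgroupOfEquivOfLe (fun e he => K.E_le_S he : E ≤ W)).toEquiv))
      σ fun x hx => Subtype.ext (show g * (g * x * g⁻¹) * g⁻¹ = x by
        rw [show g * (g * (x : G) * g⁻¹) * g⁻¹ = g * g * x * (g * g)⁻¹ by group,
          mul_inv_eq_iff_eq_mul.2 (hgg x (hE.1 hx)).eq])
    exact fun e he => mul_inv_eq_iff_eq_mul.1 (congrArg Subtype.val (h ⟨e, K.E_le_S he⟩ (hE.2 he)))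

/-- **The pair group is the kernel**: for `Q = q ^ 2` its elements fix all fixed points of `v`. -/
theorem Typ.fixAll_of_D (hQ : C.qn v a = Nat.card E ^ 2) {g : G} (hg : g ∈ D) {c : C.Pt}
    (hc : v • c = c) : g • c = c := by
  classical
  haveI : Fact (Nat.Prime 2) := ⟨Nat.prime_two⟩
  have hS := K.sqFacts C hQ
  set W := P ⊓ C.L v with hW
  suffices hcom : ∀ s ∈ W, Commute g s by
    by_cases hca : c = a
    · rw [hca, (K.maxPair.fix g hg).1]
    obtain ⟨s, hs, hsL, rfl⟩ := K.trans K.vb hc K.ne hca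
    rw [smul_smul, (hcom s ⟨hs, hsL⟩).eq, mul_smul, K.fix_b hg]
  set O := Cfsg.oddCore ↥(C.L v) with hOdef
  set π := QuotientGroup.mk' O with hπ
  obtain ⟨K', hfa, T, t, S, hT, hZ, hK'⟩ := K.bad.exists_setup C K.hp K.va K.isE
  haveI := hfa
  have hO : O ≤ C.LH v a := K.bad.oddCore_le_LH C K.hp K.va
  obtain ⟨t₀, ht₀⟩ := QuotientGroup.mk'_surjective O t
  set d := (t₀ : G) • a with hd
  have hvd : v • d = d := by rw [hd, smul_smul, ← (C.commute_of_mem_L t₀.2).eq, mul_smul, K.va]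
  have hKiff : ∀ y : ↥(C.L v), π y ∈ K' ↔ (y : G) • a = a := fun y => by
    rw [hK', ← mem_comap, comap_map_eq_self (by rw [hπ, QuotientGroup.ker_mk']; exact hO), C.mem_LH]
  have hda : d ≠ a := fun h => S.setup.not_mem (by
    rw [← ht₀]
    exact StrongEmbed.smul_mk_one_iff.2 ((hKiff t₀).2 h))
  obtain ⟨s₀, hs₀P, hs₀L, hs₀d⟩ := K.trans K.vb hvd K.ne hda
  set g' := s₀ * g * s₀⁻¹ with hg'
  have hg'P : g' ∈ P := mul_mem (mul_mem hs₀P (K.le hg)) (inv_mem hs₀P)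
  obtain ⟨hg'a, hg'v⟩ := K.fix g' hg'P
  have hg'd : g' • d = d := by
    rw [hg', mul_smul, mul_smul, ← hs₀d, inv_smul_smul, K.fix_b hg]
  suffices hcom' : ∀ s ∈ W, Commute g' s by
    intro s hs
    have h := (Commute.conj_iff s₀⁻¹).2 (hcom' _ (K.conj_S_sz hs₀P hs))
    rwa [hg', show s₀⁻¹ * (s₀ * g * s₀⁻¹) * s₀⁻¹⁻¹ = g by group,
      show s₀⁻¹ * (s₀ * s * s₀⁻¹) * s₀⁻¹⁻¹ = s by group] at h
  -- conjugation on the local group
  let α : ↥(C.L v) →* ↥(C.L v) := MonoidHom.mk'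
    (fun y => ⟨g' * (y : G) * g'⁻¹, C.conj_mem_L_of_commute hg'v y.2⟩)
    fun x y => Subtype.ext (by simp [mul_assoc])
  have hαO : O ≤ O.comap α := fun y hy => by
    rw [mem_comap, hOdef, K.bad.oddCore_eq_fixKer C K.hp] at *
    refine C.mem_fixKer.2 fun c hc => ?_
    show (g' * (y : G) * g'⁻¹) • c = c
    have hc' : v • (g'⁻¹ • c) = g'⁻¹ • c := by rw [smul_smul, ← hg'v.inv_left.eq, mul_smul, hc]
    rw [mul_smul, mul_smul, C.mem_fixKer.1 hy _ hc', smul_inv_smul]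
  set σ := QuotientGroup.map O O α hαO with hσdef
  have hσ : ∀ y : ↥(C.L v), σ (π y) = π (α y) := fun y => rfl
  have hstab : ∀ y : ↥(C.L v), π y ∈ MulAction.stabilizer (↥(C.L v) ⧸ O) (t •
      ((1 : ↥(C.L v) ⧸ O) : (↥(C.L v) ⧸ O) ⧸ K')) ↔ (y : G) • d = d := by
    intro y
    rw [MulAction.mem_stabilizer_iff, ← ht₀, smul_smul, ← inv_smul_eq_iff, smul_smul,
      ← map_inv, ← map_mul, ← map_mul]
    refine (Iff.trans StrongEmbed.smul_mk_one_iff (hKiff _)).trans ?_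
    rw [coe_mul, coe_inv, coe_mul, mul_smul, mul_smul, inv_smul_eq_iff]
  have hD : ∀ x ∈ MulAction.stabilizer (↥(C.L v) ⧸ O) ((1 : ↥(C.L v) ⧸ O) : (↥(C.L v) ⧸ O) ⧸ K') ⊓
      MulAction.stabilizer (↥(C.L v) ⧸ O) (t • ((1 : ↥(C.L v) ⧸ O) : (↥(C.L v) ⧸ O) ⧸ K')),
      σ x ∈ MulAction.stabilizer (↥(C.L v) ⧸ O) ((1 : ↥(C.L v) ⧸ O) : (↥(C.L v) ⧸ O) ⧸ K') ⊓
        MulAction.stabilizer (↥(C.L v) ⧸ O) (t • ((1 : ↥(C.L v) ⧸ O) : (↥(C.L v) ⧸ O) ⧸ K')) := by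
    intro x hx
    obtain ⟨y, rfl⟩ := QuotientGroup.mk'_surjective O x
    obtain ⟨h1, h2⟩ := mem_inf.1 hx
    rw [← hπ] at h1 h2 ⊢
    have h1' := (hKiff y).1 (StrongEmbed.smul_mk_one_iff.1 h1)
    have h2' := (hstab y).1 h2
    rw [hσ]
    refine mem_inf.2 ⟨StrongEmbed.smul_mk_one_iff.2 ((hKiff _).2 ?_), (hstab _).2 ?_⟩
    · show (g' * (y : G) * g'⁻¹) • a = a
      rw [mul_smul, mul_smul, inv_smul_eq_iff.2 hg'a.symm, h1', hg'a]
    · show (g' * (y : G) * g'⁻¹) • d = d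
      rw [mul_smul, mul_smul, inv_smul_eq_iff.2 hg'd.symm, h2', hg'd]
  -- the image of `P ⊓ L` is `T`
  let ι : ↥W →* ↥(C.L v) ⧸ O := π.comp (Subgroup.inclusion inf_le_right)
  have hWp : IsPGroup 2 ↥W := K.two.to_le inf_le_left
  have hι : Function.Injective ι := by
    refine (injective_iff_map_eq_one ι).2 fun s hs => Subtype.ext ?_
    have h2 := IsoApps.odd_of_mem_oddCore ((QuotientGroup.eq_one_iff _).1 hs)
    rw [← Subgroup.orderOf_coe] at h2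
    obtain ⟨i, hi⟩ := hWp s
    exact Consumers.eq_one_of_two_of_odd h2 (congrArg Subtype.val hi)
  have hmemT : ∀ s, ι s ∈ T := by
    intro s
    obtain ⟨q, hq, x, hx, e⟩ := Recog.RankOne.exists_mul S.setup
      (StrongEmbed.smul_mk_one_iff.2 ((hKiff (Subgroup.inclusion inf_le_right s)).2 (K.fix s s.2.1).1))
    obtain ⟨i, hi⟩ := hWp s
    obtain ⟨q', hq', e'⟩ := exists_mul_pow (T := T) (S.setup.conj_mem x hx.1) hq (2 ^ i)
    have hpow : (q * x) ^ 2 ^ i = 1 := by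
      rw [← e]
      show ι s ^ 2 ^ i = 1
      rw [← map_pow, hi, map_one]
    rw [hpow] at e'
    have h1 : x ^ 2 ^ i = 1 := by
      refine Recog.RankOne.eq_one_of_mem_D S.setup ?_ (pow_mem hx.2 _)
      rw [eq_inv_of_mul_eq_one_right e'.symm]
      exact inv_mem hq'
    show π (Subgroup.inclusion inf_le_right s) ∈ T
    rw [e, show x = 1 from Consumers.eq_one_of_two_of_odd
      (S.setup.odd_card.of_dvd_nat (Subgroup.orderOf_dvd_natCard _ hx)) h1, mul_one]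
    exact hq
  have hsurj : ∀ x ∈ T, ∃ s, ι s = x := by
    have hle : ι.range ≤ T := by rintro _ ⟨s, rfl⟩; exact hmemT s
    have heq : ι.range = T := eq_of_le_of_card_ge hle (by
      rw [Nat.card_congr (MonoidHom.ofInjective hι).toEquiv.symm, hT]
      exact K.card_S.ge)
    exact fun x hx => heq.ge hx
  have hισ : ∀ s : ↥W, σ (ι s) = ι ⟨g' * s * g'⁻¹, K.conj_S_sz hg'P s.2⟩ := fun s => rfl
  have hιE : ∀ s : ↥W, ι s ∈ S.Z ↔ (s : G) ∈ E := fun s => by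
    rw [S.mem_Z, and_iff_right (hmemT s), ← map_mul, map_eq_one_iff ι hι]
    exact ⟨fun e => K.mem_E_of_sq s.2 (congrArg Subtype.val e),
      fun he => Subtype.ext (K.isE.mul_self C he)⟩
  have hg'E := K.comm_E hS hg'P
  haveI := (K.bad.quot_three C K.hp).isSimpleGroup
  have hXev : Even (Nat.card (↥(C.L v) ⧸ Cfsg.oddCore ↥(C.L v))) :=
    even_iff_two_dvd.2 ((even_iff_two_dvd.1 S.setup.even_card).trans (Subgroup.card_subgroup_dvd_card _))
  have htop : S.L = ⊤ := S.L_normal.eq_bot_or_eq_top.resolve_left fun hb => by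
    have := S.L_index_odd
    rw [hb, index_bot] at this
    exact Nat.not_even_iff_odd.2 this hXev
  have key := S.eq_self_of_twist (by rw [hT, hQ, hZ]) htop σ hD
    (fun z hz => by
      obtain ⟨s, rfl⟩ := hsurj z (S.Z_le hz)
      rw [hισ]
      exact congrArg ι (Subtype.ext (mul_inv_eq_iff_eq_mul.2 (hg'E _ ((hιE s).1 hz)).eq)))
    (fun x hx => by
      obtain ⟨s, rfl⟩ := hsurj x hx
      rw [hισ, ← map_inv, ← map_mul, hιE]
      exact K.conj_mod hS hg'P hg'E s.2)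
  intro s hs
  have h := key (ι ⟨s, hs⟩) (hmemT _)
  rw [hισ] at h
  exact mul_inv_eq_iff_eq_mul.1 (congrArg Subtype.val (hι h))

end Ctx

end CfsgLib.Criterion
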