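import Cfsg.Agent.Criterion.Types
import Cfsg.Agent.Suzuki.Centralizers
import Cfsg.Agent.Suzuki.LieModel
import Cfsg.Agent.Suzuki.Sylow

/-!
# The strong embedding criterion: arithmetic of a crossed bad involution of Suzuki or unitary type

With a crossing member at a largest two-point stabiliser `n = 1 + q Q t` and
`(q t - 1) d = (Q + 1) (q - 1) i`, so `q ∣ d - i`; for `Q = q ^ 2` the orbit length `d` divides the order
of a maximal torus of the Suzuki group, which leaves `(i, d) = (l + 1, q + l + 1)`, `l ^ 2 = 2 q`.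
-/

set_option autoImplicit false
set_option linter.style.haveILetI false
set_option linter.unusedSectionVars false

namespace CfsgLib.Criterion

open Subgroup CfsgLib.Invol CfsgLib.Bender

universe u

variable {G : Type u} [Group G] [Finite G]

namespace Ctx

variable (C : Ctx G)

/-- The orbit length of `p` under the stabiliser of `c` in the local group of `v`. -/
noncomputable def dn (v : G) (c p : C.Pt) : ℕ :=
  Nat.card {q : C.Pt // ∃ y ∈ C.L v ⊓ MulAction.stabilizer G c, y • p = q}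

/-- The arithmetic of a crossed bad involution. -/
theorem Bad.cross_arith {v : G} (hv : C.Bad v) (hf : ∀ v : G, orderOf v = 2 → ∃ c : C.Pt, v • c ≠ c)
    (hp : PairRank ↥(C.L v)) {a b : C.Pt} {D : Subgroup G} (hM : C.MaxPair v a b D) {E : Subgroup G}
    (hE : C.IsE v a E) (hne : (C.Cross v a).Nonempty) {c : C.Pt} (hc : v • c ≠ c) {w : G}
    (hwX : w ∈ C.CX v c) {p : C.Pt} (hp' : w • p = p) :
    ∃ i t : ℕ, 0 < i ∧ i < C.dn v c p ∧ C.dn v c p ≤ C.fn v ∧
      Nat.card C.Pt = 1 + Nat.card E * C.qn v a * t ∧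
      ((Nat.card E : ℤ) * t - 1) * C.dn v c p = ((C.qn v a : ℤ) + 1) * ((Nat.card E : ℤ) - 1) * i ∧
      (Nat.card E : ℤ) ∣ (C.dn v c p : ℤ) - i ∧ (i = 1 → ∀ o ∈ C.Om v, o • c = c) := by
  have ha := (hM.fix v hM.mem).1
  obtain ⟨x, hx, hxv⟩ := C.exists_commute_at (mul_self_eq_one hv.1) ha
  have hxE : x ∈ C.Ea v a := ⟨hx, hxv⟩
  obtain ⟨h1, h2⟩ := hv.count C hf hp ha hxE hE hc
  obtain ⟨i, hi, hd, hri, hi1⟩ := hv.orbit_data_at C hf hp hxE hc hwX hp'
  obtain ⟨t, ht⟩ := hv.dvd_of_cross C hf hp hM hE hne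
  obtain ⟨hq4, hQ⟩ := hv.qn_cases C hp ha hE
  have hqQ : Nat.card E ∣ C.qn v a := by
    rcases hQ with e | e | e <;> rw [e]
    exacts [dvd_pow_self _ two_ne_zero, dvd_pow_self _ (by norm_num)]
  have hA : 0 < Nat.card (C.Cross v a) := by
    haveI := hne.to_subtype
    exact Nat.card_pos
  have hn : C.fn v ≤ Nat.card C.Pt := Finite.card_subtype_le _
  have hQ0 : 0 < C.qn v a := by rcases hQ with e | e | e <;> rw [e] <;> positivity
  have hj := Bad.card_cls_pos C hxE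
  rw [C.fn_eq ha] at h1 hn
  change Nat.card (C.CX v c) * i = Nat.card (C.cls v a x) * C.dn v c p at hri
  refine ⟨i, t, hi, ?_, hd, ?_⟩
  all_goals
    generalize Nat.card E = q at *
    generalize Nat.card (C.CX v c) = r at *
    generalize Nat.card (C.cls v a x) = j at *
    generalize Nat.card (C.cls (v * x) a x) = j' at *
    generalize Nat.card C.Pt = n at *
    generalize C.qn v a = Q at *
    generalize C.dn v c p = d at *
  · have hrj : j < r := by
      by_contra hle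
      have h3 : r * ((q - 1) * j') ≤ j * ((q - 1) * j') := Nat.mul_le_mul_right _ (not_lt.1 hle)
      have h4 : (q - 1) * j * j' = j * ((q - 1) * j') := by ring
      omega
    by_contra hle
    have h3 : j * d ≤ j * i := Nat.mul_le_mul_left _ (not_lt.1 hle)
    have h4 : j * i < r * i := Nat.mul_lt_mul_of_pos_right hrj hi
    omega
  · have hn' : n = 1 + q * Q * t := by omega
    have h1' : ((n : ℤ) - (Q + 1)) * r = ((Q : ℤ) + 1) * (((q : ℤ) - 1) * j) * Q := by
      have h3 := congrArg (Nat.cast : ℕ → ℤ) h1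
      push_cast [Nat.cast_sub hn, Nat.cast_sub (show 1 ≤ q by omega)] at h3
      linarith
    have h5 : ((q : ℤ) * t - 1) * d = ((Q : ℤ) + 1) * ((q : ℤ) - 1) * i := by
      have hri' : (r : ℤ) * i = j * d := by exact_mod_cast hri
      have hQj : (Q : ℤ) * j ≠ 0 := by positivity
      refine mul_right_cancel₀ hQj ?_
      calc ((q : ℤ) * t - 1) * d * (Q * j) = ((n : ℤ) - (Q + 1)) * (j * d) := by rw [hn']; push_cast; ring
        _ = ((n : ℤ) - (Q + 1)) * r * i := by rw [← hri']; ring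
        _ = _ := by rw [h1']; ring
    refine ⟨hn', h5, ?_, hi1⟩
    obtain ⟨Q', hQ'⟩ := hqQ
    refine ⟨(t : ℤ) * d - i - Q' * ((q : ℤ) - 1) * i, ?_⟩
    rw [hQ', Nat.cast_mul] at h5
    linear_combination (-1 : ℤ) * h5

/-- The stabiliser of a moved point in the local group of a bad involution has odd order. -/
theorem Bad.odd_stab_moved {v : G} (hv : C.Bad v) {c : C.Pt} (hc : v • c ≠ c) :
    Odd (Nat.card ↥(C.L v ⊓ MulAction.stabilizer G c)) := by
  haveI : Fact (Nat.Prime 2) := ⟨Nat.prime_two⟩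
  rw [← Nat.not_even_iff_odd]
  intro hev
  obtain ⟨s, hs⟩ := exists_prime_orderOf_dvd_card'
    (G := ↥(C.L v ⊓ MulAction.stabilizer G c)) 2 hev.two_dvd
  rw [← Subgroup.orderOf_coe] at hs
  exact hc (C.smul_eq_of_commute_Z (hv.mem_Z_of_mem_L C s.2.1 hs) (C.commute_of_mem_L s.2.1) s.2.2)

/-- For `Q = q ^ 2` the local group is a Suzuki group, and `d` divides the order of a maximal torus. -/
theorem Bad.suzuki_orbit {v : G} (hv : C.Bad v) (hp : PairRank ↥(C.L v)) {a : C.Pt} (ha : v • a = a)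
    {E : Subgroup G} (hE : C.IsE v a E) (hQ : C.qn v a = Nat.card E ^ 2) :
    ∃ m : ℕ, 1 ≤ m ∧ Nat.card E = 2 ^ (2 * m + 1) ∧
      ∀ c : C.Pt, v • c ≠ c → ∀ w ∈ C.CX v c, ∀ p : C.Pt, w • p = p →
        ∃ k ∈ CfsgLib.Suzuki.torusOrders m, C.dn v c p ∣ k := by
  haveI : Fact (Nat.Prime 2) := ⟨Nat.prime_two⟩
  obtain ⟨K, hfa, T, t, S, hT, hZ, -⟩ := hv.exists_setup C hp ha hE
  haveI := hfa
  have hT2 : Nat.card T = Nat.card S.Z ^ 2 := by rw [hT, hQ, hZ]
  have hcomm : ¬ ∀ x ∈ T, ∀ y ∈ T, x * y = y * x := fun hc => by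
    have h1 := card_le_of_le (S.le_Z_of_abelian hc)
    have h4 := S.four_le
    rw [hT2] at h1
    nlinarith
  push Not at hcomm
  obtain ⟨F, iF, iFF, m, hm, hcF, ⟨e₀⟩⟩ :=
    S.isoSuzuki_L (S.isSplit_of_card (S.r_not_mem_Z_of_sq hT2) hT2) S.isPGroup_Q hcomm
  set π := QuotientGroup.mk' (Cfsg.oddCore ↥(C.L v))
  haveI := (hv.quot_three C hp).isSimpleGroup
  have hXev : Even (Nat.card (↥(C.L v) ⧸ Cfsg.oddCore ↥(C.L v))) :=
    even_iff_two_dvd.2 ((even_iff_two_dvd.1 S.setup.even_card).trans (Subgroup.card_subgroup_dvd_card _))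
  have htop : S.L = ⊤ := S.L_normal.eq_bot_or_eq_top.resolve_left fun hb => by
    have := S.L_index_odd
    rw [hb, index_bot] at this
    exact Nat.not_even_iff_odd.2 this hXev
  have hF : CfsgLib.Suzuki.IsSzField F m := ⟨hm, by rw [Nat.card_eq_fintype_card, hcF]⟩
  let e : (↥(C.L v) ⧸ Cfsg.oddCore ↥(C.L v)) ≃* CfsgLib.Suzuki.SzG F m :=
    ((Subgroup.topEquiv.symm.trans (MulEquiv.subgroupCongr htop.symm)).trans e₀).trans
      (CfsgLib.Suzuki.lieEquiv hF).symm
  obtain ⟨l, hl⟩ := IsPGroup.iff_card.1 (hE.isPGroup C)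
  have hq : Nat.card E = 2 ^ (2 * m + 1) := by
    have h1 := Recog.RankOne.card_group S.setup
    have h2 : Nat.card (↥(C.L v) ⧸ Cfsg.oddCore ↥(C.L v)) =
        Nat.card F ^ 2 * (Nat.card F ^ 2 + 1) * (Nat.card F - 1) := by
      rw [Nat.card_congr e.toEquiv]
      exact CfsgLib.Suzuki.card_Sz hF
    have hF2 : Nat.card F = 2 ^ (2 * m + 1) := hF.card
    have hev : Even (Nat.card F) := by rw [hF2]; exact even_two.pow_of_ne_zero (by omega)
    have hodd1 : Odd ((Nat.card F ^ 2 + 1) * (Nat.card F - 1)) :=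
      ((hev.pow_of_ne_zero two_ne_zero).add_one).mul (by
        obtain ⟨k, hk⟩ := hev
        have := Nat.card_pos (α := F)
        exact ⟨k - 1, by omega⟩)
    rw [h2, hT2, hZ, hl, hF2, ← pow_mul, ← pow_mul, mul_assoc, mul_assoc] at h1
    rw [hF2, ← pow_mul] at hodd1
    have hle1 : (2 ^ (l * 2)) ∣ 2 ^ ((2 * m + 1) * 2) :=
      (Nat.Coprime.pow_left _ (Nat.coprime_two_left.2 hodd1)).dvd_of_dvd_mul_right ⟨_, h1⟩
    have hodd2 : Odd (Nat.card ↥(MulAction.stabilizer (↥(C.L v) ⧸ Cfsg.oddCore ↥(C.L v))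
        ((1 : (↥(C.L v) ⧸ Cfsg.oddCore ↥(C.L v))) : (↥(C.L v) ⧸ Cfsg.oddCore ↥(C.L v)) ⧸ K) ⊓ MulAction.stabilizer (↥(C.L v) ⧸ Cfsg.oddCore ↥(C.L v)) (t • ((1 : (↥(C.L v) ⧸ Cfsg.oddCore ↥(C.L v))) : (↥(C.L v) ⧸ Cfsg.oddCore ↥(C.L v)) ⧸ K))) * (2 ^ (l * 2) + 1)) := by
      refine S.setup.odd_card.mul (Even.add_one (even_two.pow_of_ne_zero ?_))
      intro h0
      have h4 := S.four_le
      have : l = 0 := by omega
      rw [hZ, hl, this] at h4
      norm_num at h4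
    have hle2 : 2 ^ ((2 * m + 1) * 2) ∣ 2 ^ (l * 2) :=
      (Nat.Coprime.pow_left _ (Nat.coprime_two_left.2 hodd2)).dvd_of_dvd_mul_right ⟨_, h1.symm⟩
    have h3 := Nat.pow_right_injective le_rfl (Nat.dvd_antisymm hle1 hle2)
    rw [hl, show l = 2 * m + 1 by omega]
  refine ⟨m, hm, hq, fun c hc w hw p hp' => ?_⟩
  obtain ⟨hwX, hwv⟩ := hw
  have hwL : w ∈ C.L v := C.mem_L hwX.1 hwv
  set Y := C.L v ⊓ MulAction.stabilizer G c with hY
  let f : ↥Y →* CfsgLib.Suzuki.SzG F m :=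
    e.toMonoidHom.comp (π.comp (Subgroup.inclusion inf_le_left))
  have hoddY : Odd (Nat.card ↥f.range) :=
    (hv.odd_stab_moved C hc).of_dvd_nat (card_range_dvd f)
  set w' : CfsgLib.Suzuki.SzG F m := e (π ⟨w, hwL⟩) with hw'
  have hw'2 : w' * w' = 1 := by
    rw [hw', ← map_mul, ← map_mul, show (⟨w, hwL⟩ : ↥(C.L v)) * ⟨w, hwL⟩ = 1 from
      Subtype.ext (C.mul_self_Z hwX.1), map_one, map_one]
  have hw'1 : w' ≠ 1 := fun h => by
    rw [hw', map_eq_one_iff e e.injective] at h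
    have h1 := IsoApps.odd_of_mem_oddCore ((QuotientGroup.eq_one_iff _).1 h)
    rw [← Subgroup.orderOf_coe, C.orderOf_Z hwX.1] at h1
    exact absurd h1 (by decide)
  have hnorm : ∀ y ∈ f.range, w' * y * w' ∈ f.range := by
    rintro _ ⟨y, rfl⟩
    refine ⟨⟨w * y * w, mul_mem (mul_mem hwL y.2.1) hwL, ?_⟩, ?_⟩
    · show (w * y * w) • c = c
      have hyvc : (y : G) • (v • c) = v • c := by
        rw [smul_smul, (C.commute_of_mem_L y.2.1).eq, mul_smul, y.2.2]
      rw [mul_smul, mul_smul, hwX.2, hyvc, (C.X_symm hwX).2]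
    · show e (π (⟨w, hwL⟩ * ⟨y, y.2.1⟩ * ⟨w, hwL⟩)) = w' * e (π ⟨y, y.2.1⟩) * w'
      rw [map_mul, map_mul, map_mul, map_mul]
  -- the centraliser of an involution is a 2-group
  have hfree : ∀ x ∈ f.range, w' * x * w' = x → x = 1 := by
    intro x hx hxw
    have hxC : x ∈ Subgroup.centralizer ({w'} : Set (CfsgLib.Suzuki.SzG F m)) := by
      refine mem_centralizer_singleton_iff.2 ?_
      calc x * w' = w' * x * w' * w' := by rw [hxw]
        _ = w' * x := by rw [mul_assoc, hw'2, mul_one]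
    rcases CfsgLib.Suzuki.centralizer_cases hF hw'1 with ⟨g, -, hg⟩ | ⟨-, hk⟩
    · obtain ⟨i, hi⟩ := CfsgLib.Suzuki.isPGroup_unip hF ⟨_, hg x hxC⟩
      have hi' : (g * x * g⁻¹) ^ 2 ^ i = 1 := congrArg Subtype.val hi
      rw [conj_pow, conj_eq_one_iff] at hi'
      exact Consumers.eq_one_of_two_of_odd (hoddY.of_dvd_nat (orderOf_dvd_natCard _ hx)) hi'
    · refine absurd ?_ (CfsgLib.Suzuki.torusOrders_odd hF hk)
      rw [← orderOf_eq_two hw'2 hw'1]
      exact orderOf_dvd_natCard _ (mem_centralizer_singleton_iff.2 rfl)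
  let φ : ↥f.range →* ↥f.range :=
    { toFun := fun x => ⟨w' * x * w', hnorm x x.2⟩
      map_one' := Subtype.ext (show w' * 1 * w' = 1 by rw [mul_one, hw'2])
      map_mul' := fun x y => Subtype.ext (show w' * (x.1 * y.1) * w' = w' * x.1 * w' * (w' * y.1 * w') by
        rw [show w' * x.1 * w' * (w' * y.1 * w') = w' * x.1 * (w' * w') * y.1 * w' by group, hw'2]
        group) }
  have hφ : MonoidHom.FixedPointFree φ := fun x hx =>
    Subtype.ext (hfree x x.2 (congrArg Subtype.val hx))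
  have hφ2 : Function.Involutive φ := fun x => Subtype.ext (by
    show w' * (w' * x.1 * w') * w' = x.1
    rw [show w' * (w' * x.1 * w') * w' = w' * w' * x.1 * (w' * w') by group, hw'2, one_mul, mul_one])
  have hdvd : C.dn v c p ∣ Nat.card ↥f.range := by
    have hker : Nat.card ↥f.ker ∣ Nat.card ↥(Y ⊓ MulAction.stabilizer G p) := by
      rw [← card_map_of_injective (K := f.ker) Y.subtype_injective]
      refine card_dvd_of_le ?_
      rintro _ ⟨y, hy, rfl⟩
      refine ⟨y.2, ?_⟩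
      have h1 : π ⟨y, y.2.1⟩ = 1 := e.injective (by rw [map_one]; exact hy)
      have h2 := (QuotientGroup.eq_one_iff _).1 h1
      rw [hv.oddCore_eq_fixKer C hp] at h2
      exact C.mem_fixKer.1 h2 p (C.smul_eq_of_commute_Z hwX.1 hwv hp')
    have h3 : C.dn v c p * Nat.card ↥(Y ⊓ MulAction.stabilizer G p) = Nat.card ↥f.range * Nat.card ↥f.ker := by
      rw [dn, card_orbit_sub, ← f.ker.index_mul_card, index_ker]
    obtain ⟨k, hk⟩ := hker
    rw [hk, ← mul_assoc, mul_right_comm] at h3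
    exact ⟨k, (Nat.eq_of_mul_eq_mul_right Nat.card_pos h3).symm⟩
  by_cases hbot : ∀ x ∈ f.range, x = 1
  · refine ⟨2 ^ (2 * m + 1) - 1, Set.mem_insert _ _, hdvd.trans ?_⟩
    rw [(Subgroup.eq_bot_iff_forall _).2 hbot, card_bot]
    exact one_dvd _
  · push Not at hbot
    obtain ⟨y, hy, hy1⟩ := hbot
    rcases CfsgLib.Suzuki.centralizer_cases hF hy1 with ⟨g, hgy, -⟩ | ⟨-, hk⟩
    · refine absurd ?_ hy1
      obtain ⟨i, hi⟩ := CfsgLib.Suzuki.isPGroup_unip hF ⟨_, hgy⟩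
      have hi' : (g * y * g⁻¹) ^ 2 ^ i = 1 := congrArg Subtype.val hi
      rw [conj_pow, conj_eq_one_iff] at hi'
      exact Consumers.eq_one_of_two_of_odd (hoddY.of_dvd_nat (orderOf_dvd_natCard _ hy)) hi'
    · refine ⟨_, hk, hdvd.trans (card_dvd_of_le fun x hx => mem_centralizer_singleton_iff.2 ?_)⟩
      exact congrArg Subtype.val (hφ.commute_all_of_involutive hφ2 ⟨x, hx⟩ ⟨y, hy⟩).eq

/-- For `Q = q ^ 2` only one pair `(i, d)` remains. -/
theorem Bad.suzuki_cross {v : G} (hv : C.Bad v) (hf : ∀ v : G, orderOf v = 2 → ∃ c : C.Pt, v • c ≠ c)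
    (hp : PairRank ↥(C.L v)) {a b : C.Pt} {D : Subgroup G} (hM : C.MaxPair v a b D) {E : Subgroup G}
    (hE : C.IsE v a E) (hne : (C.Cross v a).Nonempty) (hQ : C.qn v a = Nat.card E ^ 2) :
    ∃ m : ℕ, 1 ≤ m ∧ Nat.card E = 2 ^ (2 * m + 1) ∧
      (Nat.card C.Pt : ℤ) = 1 + (Nat.card E : ℤ) ^ 2 *
        (1 + ((Nat.card E : ℤ) - 2 ^ (m + 1) + 1) * ((Nat.card E : ℤ) - 1) * (2 ^ (m + 1) + 1)) ∧
      ∀ c : C.Pt, v • c ≠ c → ∀ w ∈ C.CX v c, ∀ p : C.Pt, w • p = p →
        C.dn v c p = Nat.card E + 2 ^ (m + 1) + 1 := by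
  have ha := (hM.fix v hM.mem).1
  obtain ⟨m, hm, hq, hdiv⟩ := hv.suzuki_orbit C hp ha hE hQ
  have key : ∀ c : C.Pt, v • c ≠ c → ∀ w ∈ C.CX v c, ∀ p : C.Pt, w • p = p →
      C.dn v c p = Nat.card E + 2 ^ (m + 1) + 1 ∧
      (Nat.card C.Pt : ℤ) = 1 + (Nat.card E : ℤ) ^ 2 *
        (1 + ((Nat.card E : ℤ) - 2 ^ (m + 1) + 1) * ((Nat.card E : ℤ) - 1) * (2 ^ (m + 1) + 1)) := by
    intro c hc w hw p hp'
    obtain ⟨i, t, hi, hid, -, hn, h5, hdi, -⟩ := hv.cross_arith C hf hp hM hE hne hc hw hp'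
    obtain ⟨k, hk, hdk⟩ := hdiv c hc w hw p hp'
    rw [hQ] at hn h5
    simp only [CfsgLib.Suzuki.torusOrders, Set.mem_insert_iff, Set.mem_singleton_iff, ← hq] at hk
    rw [show ((2 : ℤ) ^ (m + 1)) = ((2 ^ (m + 1) : ℕ) : ℤ) by push_cast; rfl]
    have hsq : 2 ^ (m + 1) * 2 ^ (m + 1) = 2 * Nat.card E := by
      rw [hq, ← pow_add, ← pow_succ']; ring_nf
    have h4 : 4 ≤ 2 ^ (m + 1) := le_trans (by norm_num : 4 ≤ 2 ^ 2) (Nat.pow_le_pow_right two_pos (by omega))
    generalize Nat.card E = q at *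
    generalize (2 : ℕ) ^ (m + 1) = l at *
    generalize Nat.card C.Pt = n at *
    generalize C.dn v c p = d at *
    have hlq : l + 1 < q := by nlinarith
    have hle : d ≤ q + l + 1 := by
      have hk' : k ≤ q + l + 1 := by
        rcases hk with rfl | rfl | rfl <;> omega
      rcases Nat.eq_zero_or_pos k with rfl | hk0
      · omega
      · exact (Nat.le_of_dvd hk0 hdk).trans hk'
    obtain ⟨s, hs⟩ := hdi
    have hs1 : s = 1 := by
      have h10 : 0 < s := pos_of_mul_pos_right (show (0 : ℤ) < q * s by rw [← hs]; omega) (by positivity)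
      have h11 : s < 2 := lt_of_mul_lt_mul_left
        (show (q : ℤ) * s < q * 2 by rw [← hs]; omega) (by positivity)
      omega
    rw [hs1, mul_one] at hs
    have hdq : q < d := by omega
    have hkk : k = q + l + 1 := by
      rcases hk with rfl | rfl | rfl
      · have := Nat.le_of_dvd (by omega) hdk; omega
      · rfl
      · have := Nat.le_of_dvd (by omega) hdk; omega
    have hdeq : d = q + l + 1 := by
      obtain ⟨u, hu⟩ := hdk
      rcases Nat.lt_or_ge u 2 with h2 | h2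
      · interval_cases u <;> omega
      · have : d * 2 ≤ d * u := Nat.mul_le_mul_left _ h2
        omega
    refine ⟨hdeq, ?_⟩
    have hi' : (i : ℤ) = l + 1 := by omega
    have hl2 : (l : ℤ) * l = 2 * q := by exact_mod_cast hsq
    have h5' : ((q : ℤ) * t - 1) * ((q : ℤ) + l + 1) =
        ((q : ℤ) - l + 1) * ((q : ℤ) - 1) * (l + 1) * ((q : ℤ) + l + 1) := by
      rw [hi', hdeq] at h5
      push_cast at h5
      linear_combination h5 + (((q : ℤ) - 1) * ((l : ℤ) + 1)) * hl2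
    have h7 := mul_right_cancel₀ (by positivity) h5'
    rw [hn]
    push_cast
    linear_combination (q : ℤ) ^ 2 * h7
  obtain ⟨c₀, hc₀⟩ := hf v hv.1
  obtain ⟨w₀, hw₀, hwv₀⟩ := C.exists_swap_commute (mul_self_eq_one hv.1) (Ne.symm hc₀)
    (Or.inr ⟨rfl, by rw [smul_smul, mul_self_eq_one hv.1, one_smul]⟩)
  obtain ⟨p₀, hp₀⟩ := C.exists_fix hw₀.1
  exact ⟨m, hm, hq, (key c₀ hc₀ w₀ ⟨hw₀, hwv₀⟩ p₀ hp₀).2, fun c hc w hw p hp' => (key c hc w hw p hp').1⟩

end Ctx

end CfsgLib.Criterion
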