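import Cfsg.Agent.Criterion.TypeShift
import Cfsg.Agent.Criterion.TypesArith
import Cfsg.Agent.Suzuki.SylowAut

/-!
# The strong embedding criterion: the regular 2-group of a Suzuki local group

For `Q = q ^ 2` the group `P ⊓ L_v` is a Sylow 2-subgroup of a Suzuki group: it is determined modulo
`E` by squares, squaring is onto `E`, two elements outside `E` commute only modulo `E`, and `q` is not
a square.
-/

set_option autoImplicit false
set_option linter.style.haveILetI false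
set_option linter.unusedSectionVars false

namespace CfsgLib.Suzuki

variable {F : Type*} [Field F] {m : ℕ} (h : IsSzField F m)

include h

/-- Only `0` and `1` are fixed by the twisting automorphism. -/
theorem eq_zero_or_one_of_sg_eq {x : F} (hx : sg m x = x) : x = 0 ∨ x = 1 := by
  have h2 := h.sg_sg x
  rw [hx, hx] at h2
  rcases eq_or_ne x 0 with h0 | h0
  · exact Or.inl h0
  · exact Or.inr (mul_left_cancel₀ h0 (by rw [mul_one, ← sq, ← h2]))

/-- The first coordinate vanishes exactly on the elements of square one. -/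
theorem sq_eq_one_iff {u : unip h} : u * u = 1 ↔ fstC h u = 0 := by
  obtain ⟨a, b, rfl⟩ := exists_uU h u
  rw [fstC_uU, uU_mul, ← uU_zero h]
  constructor
  · intro e
    have h1 := (uU_inj h e).2
    have : (fun x : F => sg m x * x) a = (fun x : F => sg m x * x) 0 := by
      have := h.charP
      simp only [CharTwo.add_self_eq_zero, zero_add] at h1
      simpa using h1
    exact (bijective_norm_map h).1 this
  · rintro rfl
    have := h.charP
    simp [CharTwo.add_self_eq_zero]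

/-- The square determines the first coordinate. -/
theorem fstC_eq_of_sq {u w : unip h} (e : u * u = w * w) : fstC h u = fstC h w := by
  obtain ⟨a, b, rfl⟩ := exists_uU h u
  obtain ⟨c, d, rfl⟩ := exists_uU h w
  have := h.charP
  rw [uU_mul, uU_mul] at e
  have h1 := (uU_inj h e).2
  simp only [CharTwo.add_self_eq_zero, zero_add] at h1
  rw [fstC_uU, fstC_uU]
  exact (bijective_norm_map h).1 h1

/-- Two elements off the centre commute only with equal first coordinates. -/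
theorem fstC_eq_of_commute {u w : unip h} (hu : fstC h u ≠ 0) (hw : fstC h w ≠ 0)
    (e : Commute u w) : fstC h u = fstC h w := by
  obtain ⟨a, b, rfl⟩ := exists_uU h u
  obtain ⟨c, d, rfl⟩ := exists_uU h w
  rw [fstC_uU] at hu hw
  rw [fstC_uU, fstC_uU]
  have e' : uU h a b * uU h c d = uU h c d * uU h a b := e.eq
  rw [uU_mul, uU_mul] at e'
  have h1 : sg m a * c = sg m c * a := by
    have h2 := (uU_inj h e').2
    linear_combination h2
  have h2 : sg m (a / c) = a / c := by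
    rw [div_eq_mul_inv, sg_mul, sg_inv, ← div_eq_mul_inv, ← div_eq_mul_inv,
      div_eq_div_iff (sg_ne_zero hw) hw, h1]
    ring
  rcases eq_zero_or_one_of_sg_eq h h2 with h3 | h3
  · exact absurd ((div_eq_zero_iff.1 h3).resolve_right hw) hu
  · exact (div_eq_one_iff_eq hw).1 h3

/-- The product with the inverse of an element with the same first coordinate has square one. -/
theorem inv_mul_sq_of_fstC {u w : unip h} (e : fstC h u = fstC h w) :
    u⁻¹ * w * (u⁻¹ * w) = 1 := by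
  have := h.charP
  refine (sq_eq_one_iff h).2 ?_
  have h1 : fstC h u + fstC h (u⁻¹ * w) = fstC h w := by
    rw [← fstC_mul, mul_inv_cancel_left]
  rw [e] at h1
  exact left_eq_add.1 h1.symm

end CfsgLib.Suzuki

namespace CfsgLib.Criterion

open Subgroup CfsgLib.Invol CfsgLib.Bender

universe u

variable {G : Type u} [Group G] [Finite G]

namespace Ctx

variable (C : Ctx G)

/-- **The model**: the regular 2-group embeds in the unipotent group over a field with `q` elements. -/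
theorem Typ.exists_unip {v : G} {a b : C.Pt} {D E P : Subgroup G} (K : C.Typ v a b D E P)
    (hQ : C.qn v a = Nat.card E ^ 2) :
    ∃ (F : Type) (_ : Field F) (m : ℕ) (h : Suzuki.IsSzField F m),
      Nat.card E = Nat.card F ∧
        ∃ φ : ↥(P ⊓ C.L v) →* Suzuki.unip h, Function.Bijective φ := by
  haveI : Fact (Nat.Prime 2) := ⟨Nat.prime_two⟩
  obtain ⟨K', hfa, T, t, S, hT, hZ, -⟩ := K.bad.exists_setup C K.hp K.va K.isE
  haveI := hfa
  have hT2 : Nat.card T = Nat.card S.Z ^ 2 := by rw [hT, hQ, hZ]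
  obtain ⟨F, iF, iFF, m, hm, hcF, ⟨e₀⟩⟩ :=
    S.isoSuzuki_L (S.isSplit_of_card (S.r_not_mem_Z_of_sq hT2) hT2) S.isPGroup_Q
      (S.not_comm_of_sq hT2)
  set π := QuotientGroup.mk' (Cfsg.oddCore ↥(C.L v))
  haveI := (K.bad.quot_three C K.hp).isSimpleGroup
  have hXev : Even (Nat.card (↥(C.L v) ⧸ Cfsg.oddCore ↥(C.L v))) :=
    even_iff_two_dvd.2 ((even_iff_two_dvd.1 S.setup.even_card).trans (Subgroup.card_subgroup_dvd_card _))
  have htop : S.L = ⊤ := S.L_normal.eq_bot_or_eq_top.resolve_left fun hb => by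
    have := S.L_index_odd
    rw [hb, index_bot] at this
    exact Nat.not_even_iff_odd.2 this hXev
  have hF : Suzuki.IsSzField F m := ⟨hm, by rw [Nat.card_eq_fintype_card, hcF]⟩
  let e : (↥(C.L v) ⧸ Cfsg.oddCore ↥(C.L v)) ≃* Suzuki.SzG F m :=
    ((Subgroup.topEquiv.symm.trans (MulEquiv.subgroupCongr htop.symm)).trans e₀).trans
      (Suzuki.lieEquiv hF).symm
  set W := P ⊓ C.L v with hW
  let f : ↥W →* Suzuki.SzG F m :=
    e.toMonoidHom.comp (π.comp (Subgroup.inclusion inf_le_right))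
  have hWp : IsPGroup 2 ↥W := K.two.to_le inf_le_left
  have hfinj : Function.Injective f := by
    refine (injective_iff_map_eq_one f).2 fun s hs => Subtype.ext ?_
    have h1 : π (Subgroup.inclusion inf_le_right s) = 1 := e.injective (by rw [map_one]; exact hs)
    have h2 := IsoApps.odd_of_mem_oddCore ((QuotientGroup.eq_one_iff _).1 h1)
    rw [← Subgroup.orderOf_coe] at h2
    obtain ⟨i, hi⟩ := hWp s
    exact Consumers.eq_one_of_two_of_odd h2 (congrArg Subtype.val hi)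
  haveI := hF.finite
  haveI := Suzuki.finite_G hF
  obtain ⟨g, hg⟩ := Suzuki.exists_conj_le_unip hF (P := f.range)
    (hWp.of_surjective f.rangeRestrict f.rangeRestrict_surjective)
  obtain ⟨l, hl⟩ := IsPGroup.iff_card.1 (K.isE.isPGroup C)
  have hq : l = 2 * m + 1 := by
    have h1 := Recog.RankOne.card_group S.setup
    have h2 : Nat.card (↥(C.L v) ⧸ Cfsg.oddCore ↥(C.L v)) =
        Nat.card F ^ 2 * (Nat.card F ^ 2 + 1) * (Nat.card F - 1) := by
      rw [Nat.card_congr e.toEquiv]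
      exact Suzuki.card_Sz hF
    have hev : Even (Nat.card F) := by rw [hF.card]; exact even_two.pow_of_ne_zero (by omega)
    have hodd1 : Odd ((Nat.card F ^ 2 + 1) * (Nat.card F - 1)) :=
      ((hev.pow_of_ne_zero two_ne_zero).add_one).mul (by
        obtain ⟨k, hk⟩ := hev
        have := Nat.card_pos (α := F)
        exact ⟨k - 1, by omega⟩)
    rw [h2, hT2, hZ, hl, hF.card, ← pow_mul, ← pow_mul, mul_assoc, mul_assoc] at h1
    rw [hF.card, ← pow_mul] at hodd1
    have hle1 : (2 ^ (l * 2)) ∣ 2 ^ ((2 * m + 1) * 2) :=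
      (Nat.Coprime.pow_left _ (Nat.coprime_two_left.2 hodd1)).dvd_of_dvd_mul_right ⟨_, h1⟩
    have hodd2 : Odd (Nat.card ↥(MulAction.stabilizer (↥(C.L v) ⧸ Cfsg.oddCore ↥(C.L v))
        ((1 : (↥(C.L v) ⧸ Cfsg.oddCore ↥(C.L v))) : (↥(C.L v) ⧸ Cfsg.oddCore ↥(C.L v)) ⧸ K') ⊓
        MulAction.stabilizer (↥(C.L v) ⧸ Cfsg.oddCore ↥(C.L v)) (t •
          ((1 : (↥(C.L v) ⧸ Cfsg.oddCore ↥(C.L v))) : (↥(C.L v) ⧸ Cfsg.oddCore ↥(C.L v)) ⧸ K'))) *
        (2 ^ (l * 2) + 1)) := by
      refine S.setup.odd_card.mul (Even.add_one (even_two.pow_of_ne_zero ?_))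
      intro h0
      have h4 := S.four_le
      have : l = 0 := by omega
      rw [hZ, hl, this] at h4
      norm_num at h4
    have hle2 : 2 ^ ((2 * m + 1) * 2) ∣ 2 ^ (l * 2) :=
      (Nat.Coprime.pow_left _ (Nat.coprime_two_left.2 hodd2)).dvd_of_dvd_mul_right ⟨_, h1.symm⟩
    have h3 := Nat.pow_right_injective le_rfl (Nat.dvd_antisymm hle1 hle2)
    omega
  have hqF : Nat.card E = Nat.card F := by rw [hl, hF.card, hq]
  let φ : ↥W →* Suzuki.unip hF := MonoidHom.mk' (fun s => ⟨g * f s * g⁻¹, hg _ ⟨s, rfl⟩⟩)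
    fun s s' => Subtype.ext (show g * f (s * s') * g⁻¹ = g * f s * g⁻¹ * (g * f s' * g⁻¹) by
      rw [map_mul]; exact conj_mul.symm)
  have hφ : Function.Injective φ := fun s s' hs => hfinj (by
    have h1 : g * f s * g⁻¹ = g * f s' * g⁻¹ := congrArg Subtype.val hs
    exact mul_left_cancel (mul_right_cancel h1))
  refine ⟨F, iF, m, hF, hqF, φ, hφ.bijective_of_nat_card_le ?_⟩
  rw [Suzuki.card_unip hF, ← hqF, K.card_S, hQ]

/-- **Squares and commutators** in `P ⊓ L_v` for `Q = q ^ 2`. -/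
structure SqFacts (v : G) (E P : Subgroup G) : Prop where
  sq : ∀ s ∈ P ⊓ C.L v, s * s ∈ E
  sqrt : ∀ e ∈ E, ∃ s ∈ P ⊓ C.L v, s * s = e
  inj : ∀ s ∈ P ⊓ C.L v, ∀ s' ∈ P ⊓ C.L v, s * s = s' * s' → s⁻¹ * s' ∈ E
  ker : ∀ s ∈ P ⊓ C.L v, ∀ s' ∈ P ⊓ C.L v, s ∉ E → s' ∉ E → Commute s s' → s⁻¹ * s' ∈ E
  central : ∀ e ∈ E, ∀ s ∈ P ⊓ C.L v, Commute e s
  nonsq : ∀ n : ℕ, n * n ≠ Nat.card E

theorem Typ.sqFacts {v : G} {a b : C.Pt} {D E P : Subgroup G} (K : C.Typ v a b D E P)
    (hQ : C.qn v a = Nat.card E ^ 2) : C.SqFacts v E P := by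
  obtain ⟨F, iF, m, h, hq, φ, hφ⟩ := K.exists_unip C hQ
  have hE : ∀ s : ↥(P ⊓ C.L v), (s : G) ∈ E ↔ Suzuki.fstC h (φ s) = 0 := fun s => by
    rw [← Suzuki.sq_eq_one_iff h, ← map_mul, map_eq_one_iff φ hφ.1]
    exact ⟨fun he => Subtype.ext (K.isE.mul_self C he),
      fun e => K.mem_E_of_sq s.2 (congrArg Subtype.val e)⟩
  have hinv : ∀ s s' : ↥(P ⊓ C.L v), Suzuki.fstC h (φ s) = Suzuki.fstC h (φ s') →
      ((s : G))⁻¹ * s' ∈ E := fun s s' e =>
    K.mem_E_of_sq (mul_mem (inv_mem s.2) s'.2) (congrArg Subtype.val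
      (hφ.1 (by rw [map_mul, map_mul, map_inv, map_one]; exact Suzuki.inv_mul_sq_of_fstC h e) :
        s⁻¹ * s' * (s⁻¹ * s') = 1))
  refine
    { sq := fun s hs => (hE (⟨s, hs⟩ * ⟨s, hs⟩)).2 ?_
      sqrt := fun e he => ?_
      inj := fun s hs s' hs' e => hinv ⟨s, hs⟩ ⟨s', hs'⟩ (Suzuki.fstC_eq_of_sq h (by
        rw [← map_mul, ← map_mul]
        exact congrArg φ (Subtype.ext e)))
      ker := fun s hs s' hs' h1 h2 e => hinv ⟨s, hs⟩ ⟨s', hs'⟩ (Suzuki.fstC_eq_of_commute h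
        (fun h0 => h1 ((hE ⟨s, hs⟩).2 h0)) (fun h0 => h2 ((hE ⟨s', hs'⟩).2 h0))
        ((show Commute (⟨s, hs⟩ : ↥(P ⊓ C.L v)) ⟨s', hs'⟩ from Subtype.ext e.eq).map φ))
      central := fun e he s hs => ?_
      nonsq := fun n hn => ?_ }
  · rw [map_mul, Suzuki.fstC_mul]
    have := h.charP
    exact CharTwo.add_self_eq_zero _
  · have h0 := (hE ⟨e, K.E_le_S he⟩).1 he
    obtain ⟨a', b', e'⟩ := Suzuki.exists_uU h (φ ⟨e, K.E_le_S he⟩)
    obtain ⟨x, hx⟩ := (Suzuki.bijective_norm_map h).2 b'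
    obtain ⟨s, hs⟩ := hφ.2 (Suzuki.uU h x 0)
    refine ⟨s, s.2, congrArg Subtype.val (hφ.1 ?_ : s * s = (⟨e, K.E_le_S he⟩ : ↥(P ⊓ C.L v)))⟩
    rw [e', Suzuki.fstC_uU] at h0
    have := h.charP
    rw [map_mul, hs, Suzuki.uU_mul, e', h0, CharTwo.add_self_eq_zero, add_zero, zero_add]
    exact congrArg _ hx
  · have hc := mem_center_iff.1 ((Suzuki.mem_center_iff_fstC h).2 ((hE ⟨e, K.E_le_S he⟩).1 he))
      (φ ⟨s, hs⟩)
    rw [← map_mul, ← map_mul] at hc
    exact (congrArg Subtype.val (hφ.1 hc)).symm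
  · rw [hq, h.card] at hn
    obtain ⟨k, -, rfl⟩ := (Nat.dvd_prime_pow Nat.prime_two).1 (Dvd.intro n hn)
    rw [← pow_add] at hn
    have := Nat.pow_right_injective le_rfl hn
    omega

end Ctx

end CfsgLib.Criterion
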