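import Cfsg.Agent.Criterion.TypeSzTorus
import Cfsg.Agent.Criterion.TypeCross
import Cfsg.Agent.Criterion.TypeAlg

/-!
# The strong embedding criterion: the normaliser of the translations of Suzuki type fixes `v E`

Four does not divide the group induced on `T / E` by the normaliser of `T` at `a`; its torus fixes only
`1` and `v E`; so by the orbit lemma it fixes `v E`.
-/

set_option autoImplicit false
set_option linter.style.haveILetI false
set_option linter.unusedSectionVars false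

namespace CfsgLib.Criterion

open Subgroup CfsgLib.Invol CfsgLib.Bender
open scoped Pointwise

universe u

variable {G : Type u} [Group G] [Finite G]

namespace Ctx

variable {C : Ctx G} {v : G} {a b : C.Pt} {D E P T : Subgroup G}

namespace SzT

variable (K : C.SzT v a b D E P T)
include K

/-- Four times `q Q` does not divide `n - 1`, and for `q = 8` it is at most `57 q Q`. -/
theorem count : ¬ 4 * (Nat.card E * C.qn v a) ∣ Nat.card C.Pt - 1 ∧
    (Nat.card E = 8 → Nat.card C.Pt - 1 ≤ 57 * (8 * 64)) := by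
  have hv := K.typ.bad
  have hE := K.typ.isE
  have hva := K.typ.va
  have hpos : 0 < Nat.card E * C.qn v a := by
    rw [K.qn]; exact Nat.mul_pos Nat.card_pos (pow_pos Nat.card_pos _)
  rcases Set.eq_empty_or_nonempty (C.Cross v a) with h0 | hne
  · obtain ⟨t, hn, ht⟩ := hv.exists_t_uncrossed C K.typ.hf K.typ.hp hva hE (Or.inl K.qn) h0
    refine ⟨fun h => ?_, fun h8 => ?_⟩
    · rw [hn, Nat.add_sub_cancel_left, mul_comm 4, Nat.mul_dvd_mul_iff_left hpos] at h
      obtain ⟨l, rfl⟩ := ht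
      omega
    · obtain ⟨x, hx, hxv⟩ := C.exists_commute_at K.typ.vv hva
      have h1 := hv.count_of_cross_empty C K.typ.hf K.typ.hp hva (⟨hx, hxv⟩ : x ∈ C.Ea v a) hE h0
      rw [h1, K.qn, h8]
      norm_num
  · obtain ⟨t, hn, ht⟩ := hv.exists_t_suzuki C K.typ.hf K.typ.hp K.typ.maxPair hE hne K.qn
    refine ⟨fun h => ?_, fun h8 => ?_⟩
    · rw [hn, Nat.add_sub_cancel_left, mul_comm 4, Nat.mul_dvd_mul_iff_left hpos] at h
      omega
    · obtain ⟨m, -, hq, h1, -⟩ := hv.suzuki_cross C K.typ.hf K.typ.hp K.typ.maxPair hE hne K.qn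
      rw [h8] at hq h1
      obtain rfl : m = 1 := by
        have h3 := Nat.pow_right_injective le_rfl ((show (8 : ℕ) = 2 ^ 3 by norm_num).symm.trans hq)
        omega
      push_cast at h1
      omega

/-- An element of odd order of `M` normalising `T` whose powers move `E` semiregularly. -/
theorem exists_torus_T : ∃ m ∈ K.M, Odd (orderOf m) ∧ (∀ g ∈ T, m * g * m⁻¹ ∈ T) ∧
    ∀ (k : ℕ) (x : G), x ∈ E → x ≠ 1 → m ^ k * x * (m ^ k)⁻¹ = x → Nat.card E - 1 ∣ k := by
  classical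
  obtain ⟨t, htM, hstab⟩ := K.exists_torus_E
  obtain ⟨u, hu, huT⟩ := K.exists_conj_T (K.two.map (MulAut.conj t).toMonoidHom)
    (by rintro _ ⟨g, hg, rfl⟩; exact K.conj_M1 htM (K.T_le_M1 hg))
    (card_map_of_injective (MulAut.conj t).injective)
  set m := u * t with hm
  have hmM : m ∈ K.M := mul_mem (mem_inf.1 hu).1 htM
  have hmT : ∀ g ∈ T, m * g * m⁻¹ ∈ T := fun g hg => by
    have := huT _ ⟨g, hg, rfl⟩
    simpa [hm, mul_assoc] using this
  have hpow : ∀ (k : ℕ), ∀ x ∈ E, m ^ k * x * (m ^ k)⁻¹ = t ^ k * x * (t ^ k)⁻¹ := by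
    intro k
    induction k with
    | zero => simp
    | succ k ih =>
      intro x hx
      have hy : t ^ (k + 1) * x * (t ^ (k + 1))⁻¹ ∈ E := ((pow_mem htM (k + 1)).2.1 x).2 hx
      calc m ^ (k + 1) * x * (m ^ (k + 1))⁻¹ = u * t * (m ^ k * x * (m ^ k)⁻¹) * (u * t)⁻¹ := by
            rw [pow_succ', ← hm]; group
        _ = u * (t ^ (k + 1) * x * (t ^ (k + 1))⁻¹) * u⁻¹ := by rw [ih x hx, pow_succ']; group
        _ = _ := mul_inv_eq_iff_eq_mul.2 (mem_centralizer_iff.1 (mem_inf.1 hu).2 _ hy).symm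
  obtain ⟨i, o, ho, hio⟩ := Nat.exists_eq_pow_mul_and_not_dvd (orderOf_pos m).ne' 2 (by norm_num)
  refine ⟨m ^ 2 ^ i, pow_mem hmM _, ?_, fun g hg => ?_, fun k x hx hx1 h => ?_⟩
  · rw [orderOf_pow' _ (by positivity), hio, Nat.gcd_eq_right (dvd_mul_right _ _),
      Nat.mul_div_cancel_left _ (by positivity)]
    exact Nat.odd_iff.2 (Nat.two_dvd_ne_zero.1 ho)
  · clear hio
    induction i generalizing g with
    | zero => simpa using hmT g hg
    | succ i ih =>
      have h2 : ∀ g ∈ T, ∀ n : ℕ, m ^ n * g * (m ^ n)⁻¹ ∈ T := by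
        intro g hg n
        induction n with
        | zero => simpa using hg
        | succ n ihn => rw [pow_succ']; simpa [mul_assoc] using hmT _ ihn
      exact h2 g hg _
  · rw [← pow_mul, hpow _ x hx] at h
    have hodd : Odd (Nat.card E - 1) := by
      obtain ⟨e, he⟩ := IsPGroup.iff_card.1 (K.typ.isE.isPGroup C)
      have h8 := K.eight_le
      rw [he] at h8 ⊢
      rcases e with _ | e
      · norm_num at h8
      · exact ⟨2 ^ e - 1, by have := Nat.one_le_two_pow (n := e); rw [pow_succ]; omega⟩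
    exact (Nat.Coprime.pow_right i (Nat.coprime_two_right.2 hodd)).dvd_of_dvd_mul_left
      (hstab _ x hx hx1 h)

/-- A power of the torus fixing a nontrivial element of `E` centralises `E`. -/
theorem torus_comm {m : G} (hm : m ∈ K.M)
    (hstab : ∀ (k : ℕ) (x : G), x ∈ E → x ≠ 1 → m ^ k * x * (m ^ k)⁻¹ = x → Nat.card E - 1 ∣ k)
    {i : ℕ} {x : G} (hx : x ∈ E) (hx1 : x ≠ 1) (h : m ^ i * x * (m ^ i)⁻¹ = x) :
    ∀ y ∈ E, Commute (m ^ i) y := by
  classical
  let f : Fin (Nat.card E - 1) → {y : E // y ≠ 1} := fun k =>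
    ⟨⟨m ^ (k : ℕ) * x * (m ^ (k : ℕ))⁻¹, ((pow_mem hm (k : ℕ)).2.1 x).2 hx⟩,
      fun e => hx1 (conj_eq_one_iff.1 (congrArg Subtype.val e))⟩
  have hkey : ∀ k l : Fin (Nat.card E - 1), (k : ℕ) ≤ l → f k = f l → k = l := by
    intro k l hkl e
    have e' : m ^ (k : ℕ) * x * (m ^ (k : ℕ))⁻¹ = m ^ (l : ℕ) * x * (m ^ (l : ℕ))⁻¹ :=
      congrArg (fun z : {y : E // y ≠ 1} => (z.1 : G)) e
    obtain ⟨d, hd⟩ := Nat.exists_eq_add_of_le hkl
    rw [hd, pow_add] at e'
    have e'' : m ^ d * x * (m ^ d)⁻¹ = x := by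
      rw [show m ^ (k : ℕ) * m ^ d * x * (m ^ (k : ℕ) * m ^ d)⁻¹ =
        m ^ (k : ℕ) * (m ^ d * x * (m ^ d)⁻¹) * (m ^ (k : ℕ))⁻¹ by group] at e'
      exact (mul_left_cancel (mul_right_cancel e')).symm
    have hd0 : d = 0 := Nat.eq_zero_of_dvd_of_lt (hstab d x hx hx1 e'') (by
      have := l.isLt; omega)
    exact Fin.ext (by omega)
  have hinj : Function.Injective f := fun k l e => by
    rcases le_total (k : ℕ) l with hkl | hkl
    exacts [hkey k l hkl e, (hkey l k hkl e.symm).symm]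
  haveI := Fintype.ofFinite E
  have hsur := (hinj.bijective_of_nat_card_le (by
    rw [Nat.card_eq_fintype_card, Fintype.card_subtype_compl, Fintype.card_subtype_eq,
      Nat.card_fin, Nat.card_eq_fintype_card])).2
  intro y hy
  by_cases hy1 : y = 1
  · rw [hy1]; exact Commute.one_right _
  obtain ⟨k, hk⟩ := hsur ⟨⟨y, hy⟩, fun e => hy1 (congrArg Subtype.val e)⟩
  have hk' : m ^ (k : ℕ) * x * (m ^ (k : ℕ))⁻¹ = y :=
    congrArg (fun z : {y : E // y ≠ 1} => (z.1 : G)) hk
  rw [← hk']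
  have := (Commute.conj_iff (m ^ (k : ℕ))).2 (mul_inv_eq_iff_eq_mul.1 h : Commute (m ^ i) x)
  rwa [mul_inv_eq_iff_eq_mul.2 ((Commute.refl m).pow_pow _ _).eq] at this

/-- An element of `M` acting trivially on `g E` fixes the shift of `g`. -/
theorem fix_shift {j g y : G} (hj : j ∈ K.M) (hg : g ∈ T) (h : g⁻¹ * (j * g * j⁻¹) ∈ E)
    (hy : y ∈ E) (ey : g * v * g⁻¹ = v * y) : j * y * j⁻¹ = y := by
  obtain ⟨y₁, hy₁, e₁⟩ := K.shift_M (inv_mem hj)
  rw [inv_inv] at e₁
  set e := g⁻¹ * (j * g * j⁻¹)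
  have h1 : j * g * j⁻¹ * v * (j * g * j⁻¹)⁻¹ = v * y := by
    rw [show j * g * j⁻¹ = g * e from (mul_inv_cancel_left g _).symm, ← ey]
    calc g * e * v * (g * e)⁻¹ = g * (e * v * e⁻¹) * g⁻¹ := by group
      _ = g * v * g⁻¹ := by rw [mul_inv_eq_iff_eq_mul.2 (K.typ.Ev h).eq]
  have h2 : j * g * j⁻¹ * v * (j * g * j⁻¹)⁻¹ = v * (j * y * j⁻¹) := by
    calc j * g * j⁻¹ * v * (j * g * j⁻¹)⁻¹ = j * (g * (j⁻¹ * v * j) * g⁻¹) * j⁻¹ := by group
      _ = j * ((g * v * g⁻¹) * (g * y₁ * g⁻¹)) * j⁻¹ := by rw [e₁]; group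
      _ = j * (v * (y₁ * y)) * j⁻¹ := by
        rw [ey, mul_inv_eq_iff_eq_mul.2 (K.comm_E hg y₁ hy₁).eq, mul_assoc v,
          (K.typ.isE.commute C hy hy₁).eq]
      _ = j * (j⁻¹ * v * j) * j⁻¹ * (j * y * j⁻¹) := by rw [e₁]; group
      _ = _ := by group
  exact mul_left_cancel (h2.symm.trans h1)

set_option maxHeartbeats 1000000 in
/-- **The normaliser of the translations at `a` fixes `v E`.** -/
theorem orbit {n : G} (hn : ∀ g ∈ T, n * g * n⁻¹ ∈ T) (hna : n • a = a) :
    n * v * n⁻¹ * v ∈ E := by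
  classical
  haveI : Fact (Nat.Prime 2) := ⟨Nat.prime_two⟩
  set N := normalizer (T : Set G) ⊓ MulAction.stabilizer G a with hN
  have hNT : ∀ {x g : G}, x ∈ N → g ∈ T → x * g * x⁻¹ ∈ T := fun hx hg =>
    (mem_normalizer_iff.1 (mem_inf.1 hx).1 _).1 hg
  have hnN : n ∈ N := mem_inf.2 ⟨Subgroup.mem_normalizer_fintype hn, hna⟩
  have hNE : ∀ {x e : G}, x ∈ N → e ∈ E → x * e * x⁻¹ ∈ E := fun {x e} hx he => by
    obtain ⟨s, hs, rfl⟩ := K.facts.sqrt e he
    rw [show x * (s * s) * x⁻¹ = x * s * x⁻¹ * (x * s * x⁻¹) by group]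
    exact K.sq_T (hNT hx (K.le hs.1))
  have hET : E ≤ T := K.typ.eP.trans K.le
  set E' := E.subgroupOf T with hE'
  haveI hnorm : E'.Normal := ⟨fun e he g => by
    rw [hE', mem_subgroupOf] at *
    exact (K.fix g g.2).2.1 _ he⟩
  set V := ↥T ⧸ E' with hV
  letI : CommGroup V :=
    { (inferInstance : Group V) with
      mul_comm := fun x y => by
        induction x using QuotientGroup.induction_on with | _ x => ?_
        induction y using QuotientGroup.induction_on with | _ y => ?_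
        refine (QuotientGroup.eq (s := E')).2 ?_
        show (((x : G) * y)⁻¹ * (y * x)) ∈ E
        have := K.comm_mem (inv_mem y.2) (inv_mem x.2)
        simpa [mul_assoc] using this }
  letI : Module (ZMod 2) (Additive V) := AddCommGroup.zmodModule fun x => by
    obtain ⟨g, hg⟩ := QuotientGroup.mk'_surjective E' x.toMul
    apply Additive.toMul.injective
    rw [toMul_nsmul, toMul_zero, ← hg, ← map_pow]
    exact (QuotientGroup.eq_one_iff _).2 (show ((g ^ 2 : ↥T) : G) ∈ E by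
      rw [Subgroup.coe_pow, pow_two]; exact K.sq_T g.2)
  haveI : Finite (Additive V) := inferInstanceAs (Finite V)
  haveI : Module.Finite (ZMod 2) (Additive V) := Module.Finite.of_finite
  -- the action
  let cj : ↥N → (↥T →* ↥T) := fun x => MonoidHom.mk' (fun g => ⟨x * g * (x : G)⁻¹, hNT x.2 g.2⟩)
    fun g h => Subtype.ext (by simp [mul_assoc])
  have hcj : ∀ x : ↥N, E' ≤ E'.comap (cj x) := fun x g hg => hNE x.2 hg
  let mk : ↥T → Additive V := fun g => Additive.ofMul (QuotientGroup.mk g)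
  have hmk : ∀ g h : ↥T, mk g = mk h ↔ (g : G)⁻¹ * h ∈ E := fun g h =>
    Additive.ofMul.injective.eq_iff.trans QuotientGroup.eq
  have hsurj : ∀ w : Additive V, ∃ g, mk g = w := fun w => by
    obtain ⟨g, hg⟩ := QuotientGroup.mk'_surjective E' w.toMul
    exact ⟨g, congrArg Additive.ofMul hg⟩
  let ρ₀ : ↥N →* Module.End (ZMod 2) (Additive V) :=
    { toFun := fun x => (MonoidHom.toAdditive (QuotientGroup.map E' E' (cj x) (hcj x))).toZModLinearMap 2
      map_one' := LinearMap.ext fun w => by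
        obtain ⟨g, rfl⟩ := hsurj w
        show mk (cj 1 g) = mk g
        congr 1
        exact Subtype.ext (by simp [cj])
      map_mul' := fun x y => LinearMap.ext fun w => by
        obtain ⟨g, rfl⟩ := hsurj w
        show mk (cj (x * y) g) = mk (cj x (cj y g))
        congr 1
        exact Subtype.ext (by simp [cj, mul_assoc]) }
  have hρ : ∀ (x : ↥N) (g : ↥T), ρ₀ x (mk g) = mk (cj x g) := fun _ _ => rfl
  let ψ := ρ₀.toHomUnits
  let ρ : ↥ψ.range →* Module.End (ZMod 2) (Additive V) := (Units.coeHom _).comp ψ.range.subtype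
  let vb : Additive V := mk ⟨v, K.le K.v_mem⟩
  -- four does not divide the induced group
  obtain ⟨k, hk⟩ := IsPGroup.iff_card.1 K.two
  have hTN : T ≤ N := fun g hg => mem_inf.2
    ⟨Subgroup.mem_normalizer_fintype fun h hh => mul_mem (mul_mem hg hh) (inv_mem hg), (K.fix g hg).1⟩
  have hB : ¬ 4 ∣ Nat.card ↥ψ.range := by
    intro h4
    have hle : T.subgroupOf N ≤ ψ.ker := fun x hx => by
      refine MonoidHom.mem_ker.2 (Units.ext (LinearMap.ext fun w => ?_))
      obtain ⟨g, rfl⟩ := hsurj w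
      show mk (cj x g) = mk g
      refine ((hmk _ _).2 ?_).symm
      show (g : G)⁻¹ * ((x : G) * g * (x : G)⁻¹) ∈ E
      have := K.comm_mem (inv_mem g.2) hx
      simpa [mul_assoc] using this
    have h1 : 2 ^ (k + 2) ∣ Nat.card ↥N := by
      rw [← ψ.ker.card_mul_index, index_ker, pow_add, ← hk,
        ← Nat.card_congr (subgroupOfEquivOfLe hTN).toEquiv]
      exact mul_dvd_mul (card_dvd_of_le hle) h4
    obtain ⟨W, hW⟩ := Sylow.exists_subgroup_card_pow_prime 2 h1
    have hWa : ∀ g ∈ W.map N.subtype, g • a = a := by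
      rintro _ ⟨x, -, rfl⟩
      exact (mem_inf.1 x.2).2
    have h2 := K.typ.dvd_pred (N := 4 * (Nat.card E * C.qn v a)) ((IsPGroup.of_card hW).map N.subtype)
      hWa (by
        rw [card_map_of_injective N.subtype_injective, hW, pow_add, ← hk, K.card, K.typ.card_P]
        ring)
    exact K.count.1 h2
  haveI : Finite ↥ψ.range := Finite.of_surjective _ ψ.rangeRestrict_surjective
  -- the torus
  obtain ⟨m, hmM, hmodd, hmT, hstab⟩ := K.exists_torus_T
  have hmN : m ∈ N := mem_inf.2 ⟨Subgroup.mem_normalizer_fintype hmT, hmM.1⟩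
  set mB : ↥ψ.range := ψ.rangeRestrict ⟨m, hmN⟩ with hmB
  have hmBodd : Odd (orderOf mB) := hmodd.of_dvd_nat ((orderOf_map_dvd _ _).trans
    (dvd_of_eq (Subgroup.orderOf_coe (⟨m, hmN⟩ : ↥N)).symm))
  have hρm : ∀ (i : ℕ) (g : ↥T),
      ρ (mB ^ i) (mk g) = mk ⟨m ^ i * g * (m ^ i)⁻¹, hNT (pow_mem hmN i) g.2⟩ := fun i g => by
    rw [hmB, ← map_pow]
    rfl
  have hmv : ρ mB vb = vb := by
    have h1 := hρm 1 ⟨v, K.le K.v_mem⟩
    rw [pow_one] at h1
    rw [h1, hmk]
    show (m ^ 1 * v * (m ^ 1)⁻¹)⁻¹ * v ∈ E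
    obtain ⟨y, hy, e⟩ := K.shift_M hmM
    rw [pow_one, e, mul_inv_rev, mul_assoc, inv_eq_self K.typ.bad.1, K.typ.vv, mul_one]
    exact inv_mem hy
  have hv0 : vb ≠ 0 := fun h => by
    have h1 := (hmk ⟨v, K.le K.v_mem⟩ 1).1 h
    simp only [OneMemClass.coe_one, mul_one] at h1
    exact K.v_not_E (inv_mem_iff.1 h1)
  -- a power acting trivially centralises `E`
  have hone : ∀ i : ℕ, mB ^ i = 1 → ∀ y ∈ E, Commute (m ^ i) y := by
    intro i hi y hy
    obtain ⟨g, hg, ey⟩ := K.shift y hy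
    have h1 : ρ (mB ^ i) (mk ⟨g, hg⟩) = mk ⟨g, hg⟩ := by rw [hi, map_one]; rfl
    rw [hρm] at h1
    exact mul_inv_eq_iff_eq_mul.1
      (K.fix_shift (pow_mem hmM i) hg ((hmk ⟨g, hg⟩ _).1 h1.symm) hy ey)
  have hzero : ∀ g : ↥T, (g : G) ∈ E → mk g = 0 := fun g hg => (hmk g 1).2 (by
    simpa using inv_mem hg)
  have hfix : ∀ i : ℕ, mB ^ i ≠ 1 → ∀ w, ρ (mB ^ i) w = w → w = 0 ∨ w = vb := by
    intro i hi w hw
    obtain ⟨⟨g, hg⟩, rfl⟩ := hsurj w
    have hnE : ¬ ∀ e ∈ E, Commute (m ^ i) e := fun hE => hi (by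
      refine Subtype.ext (Units.ext (LinearMap.ext fun w => ?_))
      obtain ⟨⟨g, hg⟩, rfl⟩ := hsurj w
      show ρ (mB ^ i) (mk ⟨g, hg⟩) = mk ⟨g, hg⟩
      rw [hρm, hmk]
      have hc := K.commute_T (pow_mem hmM i) (hmodd.of_dvd_nat (orderOf_pow_dvd i)) hE
        (fun g hg => hNT (pow_mem hmN i) hg) hg
      show (m ^ i * g * (m ^ i)⁻¹)⁻¹ * g ∈ E
      rw [mul_inv_eq_iff_eq_mul.2 hc.eq, inv_mul_cancel]
      exact one_mem _)
    have hfx : ∀ x ∈ E, m ^ i * x * (m ^ i)⁻¹ = x → x = 1 := fun x hx h => by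
      by_contra hx1
      exact hnE (K.torus_comm hmM hstab hx hx1 h)
    rw [hρm] at hw
    have hd : g⁻¹ * (m ^ i * g * (m ^ i)⁻¹) ∈ E := (hmk ⟨g, hg⟩ _).1 hw.symm
    obtain ⟨y, hy, ey⟩ := K.typ.shift_eq (K.fix g hg).2.2
    have hy1 := hfx y hy (K.fix_shift (pow_mem hmM i) hg hd hy ey)
    rw [hy1, mul_one] at ey
    have hgP : g ∈ P :=
      K.typ.mem_P K.two K.le hg (K.fix g hg).1 (mul_inv_eq_iff_eq_mul.1 ey)
    have hgg : g * g = 1 := hfx _ (K.sq_T hg) (by
      set e := g⁻¹ * (m ^ i * g * (m ^ i)⁻¹)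
      calc m ^ i * (g * g) * (m ^ i)⁻¹
          = (m ^ i * g * (m ^ i)⁻¹) * (m ^ i * g * (m ^ i)⁻¹) := by group
        _ = g * (e * g) * e := by
            rw [show m ^ i * g * (m ^ i)⁻¹ = g * e from (mul_inv_cancel_left g _).symm]; group
        _ = g * g * (e * e) := by rw [← (K.comm_E hg e hd).eq]; group
        _ = g * g := by rw [K.typ.isE.mul_self C hd, mul_one])
    obtain ⟨s, hs, ess, h⟩ := K.exists_sq hgP
    have hsE := K.typ.mem_E_of_sq hs (ess ▸ hgg)
    rcases h with h | h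
    · exact Or.inl (hzero _ (show g ∈ E by rwa [h]))
    · refine Or.inr ((hmk _ _).2 ?_)
      show g⁻¹ * v ∈ E
      rw [h, mul_inv_rev, mul_assoc, (K.typ.Ev (inv_mem hsE)).eq, inv_mul_cancel_left]
      exact inv_mem hsE
  -- sizes
  obtain ⟨e, he⟩ := IsPGroup.iff_card.1 (K.typ.isE.isPGroup C)
  have hcardV : Nat.card (Additive V) = 2 ^ (2 * e + 1) := by
    show Nat.card (↥T ⧸ E') = _
    have h1 : Nat.card (↥T ⧸ E') * Nat.card ↥E' = Nat.card ↥T :=
      (Subgroup.card_eq_card_quotient_mul_card_subgroup E').symm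
    rw [Nat.card_congr (subgroupOfEquivOfLe hET).toEquiv, K.card, K.card_P, mul_comm] at h1
    rw [Nat.eq_of_mul_eq_mul_left Nat.card_pos h1, he]
    ring
  have hdim : Module.finrank (ZMod 2) (Additive V) = 2 * e + 1 := by
    rw [Module.natCard_eq_pow_finrank (K := ZMod 2), Nat.card_zmod] at hcardV
    exact Nat.pow_right_injective le_rfl hcardV
  have hdvd : Nat.card E - 1 ∣ orderOf mB := by
    obtain ⟨x, hx, hx1⟩ : ∃ x ∈ E, x ≠ 1 := by
      have := K.eight_le
      haveI : Nontrivial E := Finite.one_lt_card_iff_nontrivial.1 (by omega)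
      obtain ⟨⟨x, hx⟩, h⟩ := exists_ne (1 : E)
      exact ⟨x, hx, fun e => h (Subtype.ext e)⟩
    exact hstab _ x hx hx1 (mul_inv_eq_iff_eq_mul.2 (hone _ (pow_orderOf_eq_one mB) x hx).eq)
  have hle := Nat.le_of_dvd (orderOf_pos mB) hdvd
  have hsmall : Module.finrank (ZMod 2) (Additive V) < orderOf mB ∨ orderOf mB = 7 ∧
      Module.finrank (ZMod 2) (Additive V) ≤ 7 ∧
      Nat.card {w : Additive V // ∃ b, ρ b vb = w} ≤ 57 := by
    rw [hdim]
    have h8 := K.eight_le
    rw [he] at h8 hle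
    rcases Nat.lt_or_ge e 4 with he4 | he4
    swap
    · left
      have h2e : ∀ n, 4 ≤ n → 2 * n + 3 ≤ 2 ^ n := by
        intro n hn
        induction n, hn using Nat.le_induction with
        | base => norm_num
        | succ n _ ih => rw [pow_succ]; omega
      have := h2e e he4
      omega
    obtain rfl : e = 3 := by interval_cases e <;> first | rfl | norm_num at h8
    norm_num at hle ⊢
    by_cases h7 : orderOf mB = 7
    swap
    · left; omega
    refine Or.inr ⟨h7, ?_⟩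
    have hq : Nat.card E = 8 := by rw [he]; norm_num
    let O := {w : Additive V // ∃ b, ρ b vb = w}
    suffices hO : Nat.card O ≤ 57 by simpa [O] using hO
    have hr : ∀ w : O, ∃ x : ↥N, mk (cj x ⟨v, K.le K.v_mem⟩) = w.1 := by
      rintro ⟨w, b', rfl⟩
      obtain ⟨x, rfl⟩ := ψ.rangeRestrict_surjective b'
      exact ⟨x, rfl⟩
    choose r hr using hr
    have hg : ∀ p : O × E, ∃ g : G, g • a = a ∧
        g * v * g⁻¹ = (r p.1 : G) * v * (r p.1 : G)⁻¹ * p.2 := by
      rintro ⟨w, x⟩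
      have hx' : (r w : G)⁻¹ * x * (r w : G) ∈ E := by
        have := hNE (inv_mem (r w).2) x.2
        rwa [inv_inv] at this
      obtain ⟨h, hh, eh⟩ := K.shift _ hx'
      refine ⟨r w * h, by rw [mul_smul, (K.fix h hh).1, (mem_inf.1 (r w).2).2], ?_⟩
      calc (r w : G) * h * v * ((r w : G) * h)⁻¹ = r w * (h * v * h⁻¹) * (r w : G)⁻¹ := by group
        _ = _ := by rw [eh]; group
    choose g hga hgv using hg
    have huT : ∀ p : O × E, g p * v * (g p)⁻¹ ∈ T := fun p => by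
      rw [hgv]; exact mul_mem (hNT (r p.1).2 (K.le K.v_mem)) (hET p.2.2)
    have hinj : Function.Injective (fun p : (O × E) × {c : C.Pt // v • c = c ∧ c ≠ a} =>
        (⟨g p.1 • p.2.1, fun e => p.2.2.2 (smul_left_cancel (g p.1) (e.trans (hga p.1).symm))⟩ :
          {c : C.Pt // c ≠ a})) := by
      rintro ⟨p, c, hc, hca⟩ ⟨p', c', hc', hca'⟩ h
      have hd : g p • c = g p' • c' := congrArg Subtype.val h
      have hu : ∀ (p : O × E) {c : C.Pt}, v • c = c →
          (g p * v * (g p)⁻¹) • (g p • c) = g p • c := fun p c hc => by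
        rw [mul_smul, mul_smul, inv_smul_smul, hc]
      have hu1 := hu p hc
      have hu2 := hu p' hc'
      rw [← hd] at hu2
      set d := g p • c with hdd
      have hda : d ≠ a := fun e => hca (smul_left_cancel (g p) (e.trans (hga p).symm))
      have heq : g p * v * (g p)⁻¹ = g p' * v * (g p')⁻¹ := by
        set u₁ := g p * v * (g p)⁻¹ with hu₁
        set u₂ := g p' * v * (g p')⁻¹ with hu₂
        by_contra hne
        set W := T ⊓ MulAction.stabilizer G d with hW
        have hmax : Nat.card ↥W ≤ Nat.card D := K.typ.maxPair.max d a hda _ (K.two.to_le inf_le_left)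
          fun x hx => ⟨hx.2, (K.fix x hx.1).1⟩
        have h1 : u₁ ≠ 1 := fun e => ne_one K.typ.bad.1 (conj_eq_one_iff.1 e)
        have h2 : u₂ ≠ 1 := fun e => ne_one K.typ.bad.1 (conj_eq_one_iff.1 e)
        have h3 : 3 ≤ Nat.card ↥W := by
          haveI := Fintype.ofFinite ↥W
          rw [Nat.card_eq_fintype_card]
          refine le_trans (le_of_eq ?_) (Finset.card_le_univ
            ({1, ⟨u₁, huT p, hu1⟩, ⟨u₂, huT p', hu2⟩} : Finset ↥W))
          rw [Finset.card_insert_of_notMem, Finset.card_insert_of_notMem, Finset.card_singleton]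
          · simpa [Subtype.ext_iff] using hne
          · simp [Subtype.ext_iff, h1.symm, h2.symm]
        rw [K.card_D] at hmax
        omega
      rw [hgv, hgv] at heq
      obtain ⟨w, x⟩ := p
      obtain ⟨w', x'⟩ := p'
      have hw : w = w' := Subtype.ext (by
        rw [← hr w, ← hr w', hmk]
        show ((r w : G) * v * (r w : G)⁻¹)⁻¹ * ((r w' : G) * v * (r w' : G)⁻¹) ∈ E
        rw [show (r w' : G) * v * (r w' : G)⁻¹ =
          (r w : G) * v * (r w : G)⁻¹ * x * (x' : G)⁻¹ from eq_mul_inv_of_mul_eq heq.symm,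
          mul_assoc _ (x : G), inv_mul_cancel_left]
        exact mul_mem x.2 (inv_mem x'.2))
      subst hw
      obtain rfl : x = x' := Subtype.ext (mul_left_cancel heq)
      exact Prod.ext rfl (Subtype.ext (smul_left_cancel _ hd))
    have hcard := Nat.card_le_card_of_injective _ hinj
    rw [Nat.card_prod, Nat.card_prod, hq] at hcard
    change Nat.card O * 8 * C.qn v a ≤ _ at hcard
    rw [K.qn, hq] at hcard
    have hn1 : Nat.card {c : C.Pt // c ≠ a} = Nat.card C.Pt - 1 := by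
      haveI := Fintype.ofFinite C.Pt
      rw [Nat.card_eq_fintype_card, Nat.card_eq_fintype_card, Fintype.card_subtype_compl,
        Fintype.card_subtype_eq]
    rw [hn1] at hcard
    have := K.count.2 hq
    norm_num at hcard
    omega
  -- the orbit lemma
  have h := TypeAlg.fixed_of_small ρ hB hmBodd hv0 hmv hfix hsmall (ψ.rangeRestrict ⟨n, hnN⟩)
  have h1 := (hmk (cj ⟨n, hnN⟩ ⟨v, K.le K.v_mem⟩) ⟨v, K.le K.v_mem⟩).1 h
  change (n * v * n⁻¹)⁻¹ * v ∈ E at h1
  rwa [show (n * v * n⁻¹)⁻¹ = n * v⁻¹ * n⁻¹ by group, inv_eq_self K.typ.bad.1] at h1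

end SzT

end Ctx

end CfsgLib.Criterion
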