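import Cfsg.Agent.Criterion.TypeSzD

/-!
# The strong embedding criterion: the translations of Suzuki type

For `Q = q ^ 2` with pair group `⟨v⟩` the translations `T` (moving `v` over `v E`) centralise `E`,
normalise `P = (P ⊓ L_v) × ⟨v⟩`, and `T / E` is elementary of order `2 q ^ 2`, `E` being the squares.
-/

set_option autoImplicit false
set_option linter.style.haveILetI false
set_option linter.unusedSectionVars false

namespace CfsgLib.Criterion

open Subgroup CfsgLib.Invol CfsgLib.Bender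

universe u

variable {G : Type u} [Group G] [Finite G]

namespace Ctx

variable (C : Ctx G)

/-- Suzuki type with pair group `⟨v⟩` and its translations `T`. -/
structure SzT (v : G) (a b : C.Pt) (D E P T : Subgroup G) : Prop where
  typ : C.Typ v a b D E P
  qn : C.qn v a = Nat.card E ^ 2
  small : ∀ g ∈ D, g = 1 ∨ g = v
  facts : C.SqFacts v E P
  two : IsPGroup 2 T
  le : P ≤ T
  fix : ∀ g ∈ T, g • a = a ∧ (∀ e ∈ E, g * e * g⁻¹ ∈ E) ∧ g * v * g⁻¹ * v ∈ E
  shift : ∀ y ∈ E, ∃ g ∈ T, g * v * g⁻¹ = v * y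
  card : Nat.card T = Nat.card E * Nat.card P

/-- Such translations exist. -/
theorem exists_szT {v : G} {a b : C.Pt} {D E : Subgroup G} (hv : C.Bad v)
    (hfaith : ∀ g : G, (∀ c : C.Pt, g • c = c) → g = 1)
    (hp : ∀ u : G, C.Bad u → PairRank ↥(C.L u)) (hM : C.MaxPair v a b D) (hE : C.IsE v a E)
    (hQ : C.qn v a = Nat.card E ^ 2)
    (hsmall : ∀ g ∈ D, (∀ c : C.Pt, v • c = c → g • c = c) → g = 1 ∨ g = v) :
    ∃ E' P T : Subgroup G, C.SzT v a b D E' P T ∧ Nat.card E' = Nat.card E := by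
  obtain ⟨E', P, K, hcard⟩ := C.exists_typ hv hfaith hp hM hE
  have hQ' : C.qn v a = Nat.card E' ^ 2 := by rw [hcard, hQ]
  obtain ⟨T, hT, hPT, hTfix, hshift, hTcard⟩ := K.exists_shift_group
  exact ⟨E', P, T, ⟨K, hQ', fun g hg => hsmall g hg fun c hc => K.fixAll_of_D hQ' hg hc,
    K.sqFacts C hQ', hT, hPT, hTfix, hshift, hTcard⟩, hcard⟩

namespace SzT

variable {C} {v : G} {a b : C.Pt} {D E P T : Subgroup G} (K : C.SzT v a b D E P T)
include K

theorem eight_le : 8 ≤ Nat.card E := by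
  obtain ⟨h4, -⟩ := K.typ.bad.qn_cases C K.typ.hp K.typ.va K.typ.isE
  obtain ⟨e, he⟩ := IsPGroup.iff_card.1 (K.typ.isE.isPGroup C)
  have h2 := K.facts.nonsq 2
  rw [he] at h4 h2 ⊢
  rcases e with _ | _ | _ | e
  · norm_num at h4
  · norm_num at h4
  · norm_num at h2
  · calc 8 = 2 ^ 3 := by norm_num
      _ ≤ _ := Nat.pow_le_pow_right two_pos (by omega)

theorem card_D : Nat.card D = 2 := by
  classical
  rw [show Nat.card D = Nat.card ({1, v} : Set G) from Nat.card_congr (Equiv.subtypeEquivRight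
    fun g => ⟨K.small g, fun h => by
      rcases h with h | h
      · rw [h]; exact one_mem _
      · rw [Set.mem_singleton_iff.1 h]; exact K.typ.maxPair.mem⟩),
    Nat.card_coe_set_eq, Set.ncard_pair (ne_one K.typ.bad.1).symm]

theorem card_P : Nat.card P = 2 * Nat.card E ^ 2 := by
  rw [K.typ.card_P, K.qn, K.card_D, mul_comm]

theorem v_mem : v ∈ P := K.typ.vP

theorem v_not_E : v ∉ E := K.typ.v_not_E

/-- `P = (P ⊓ L_v) × ⟨v⟩`. -/
theorem split {x : G} (hx : x ∈ P) : x ∈ P ⊓ C.L v ∨ x * v ∈ P ⊓ C.L v := by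
  obtain ⟨s, hs, hd⟩ := K.typ.exists_mul hx
  rcases K.small _ hd with h | h
  · left; rwa [← inv_mul_eq_one.1 h]
  · right; rwa [show x = s * v from inv_mul_eq_iff_eq_mul.1 h, mul_assoc, K.typ.vv, mul_one]

theorem commute_v {x : G} (hx : x ∈ P) : Commute x v := (K.typ.fix x hx).2

theorem sq_mul_v {x : G} (hx : x ∈ P) : x * v * (x * v) = x * x := by
  rw [show x * v * (x * v) = x * (v * x) * v by group, ← (K.commute_v hx).eq,
    show x * (x * v) * v = x * x * (v * v) by group, K.typ.vv, mul_one]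

/-- An element of `P` has the square of an element of `P ⊓ L_v`. -/
theorem exists_sq {x : G} (hx : x ∈ P) :
    ∃ s ∈ P ⊓ C.L v, x * x = s * s ∧ (x = s ∨ x = s * v) := by
  rcases K.split hx with h | h
  · exact ⟨x, h, rfl, Or.inl rfl⟩
  · exact ⟨x * v, h, (K.sq_mul_v hx).symm, Or.inr (by rw [mul_assoc, K.typ.vv, mul_one])⟩

theorem sq_P {x : G} (hx : x ∈ P) : x * x ∈ E := by
  obtain ⟨s, hs, e, -⟩ := K.exists_sq hx
  exact e ▸ K.facts.sq s hs

/-- The elements `E ∪ v E`. -/
def Zv : Subgroup ↥P where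
  carrier := {x | (x : G) ∈ E ∨ (x : G) * v ∈ E}
  one_mem' := Or.inl (one_mem E)
  mul_mem' := fun {x y} hx hy => by
    have hyv := K.commute_v y.2
    rcases hx with hx | hx <;> rcases hy with hy | hy
    · exact Or.inl (mul_mem hx hy)
    · exact Or.inr (by rw [Subgroup.coe_mul, mul_assoc]; exact mul_mem hx hy)
    · refine Or.inr ?_
      rw [Subgroup.coe_mul, mul_assoc, hyv.eq, ← mul_assoc]
      exact mul_mem hx hy
    · refine Or.inl ?_
      have h := mul_mem hx hy
      rwa [show (x : G) * v * ((y : G) * v) = x * (v * y) * v by group, ← hyv.eq,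
        show (x : G) * (y * v) * v = x * y * (v * v) by group, K.typ.vv, mul_one] at h
  inv_mem' := fun {x} hx => by
    rcases hx with hx | hx
    · exact Or.inl (inv_mem hx)
    · refine Or.inr ?_
      have h := inv_mem hx
      rwa [mul_inv_rev, inv_eq_self K.typ.bad.1, ← (K.commute_v (inv_mem x.2)).eq] at h

theorem inj_P {x y : G} (hx : x ∈ P) (hy : y ∈ P) (h : x * x = y * y) :
    x⁻¹ * y ∈ E ∨ x⁻¹ * y * v ∈ E := by
  obtain ⟨s, hs, ex, hxs⟩ := K.exists_sq hx
  obtain ⟨s', hs', ey, hys⟩ := K.exists_sq hy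
  have h1 := K.facts.inj s hs s' hs' (by rw [← ex, h, ey])
  have hc : Commute v (s⁻¹ * s') := (K.commute_v (mul_mem (inv_mem hs.1) hs'.1)).symm
  rcases hxs with rfl | rfl <;> rcases hys with rfl | rfl
  · exact Or.inl h1
  · exact Or.inr (by rwa [← mul_assoc, mul_assoc _ v v, K.typ.vv, mul_one])
  · exact Or.inr (by rwa [mul_inv_rev, inv_eq_self K.typ.bad.1, mul_assoc v, hc.eq, mul_assoc,
      K.typ.vv, mul_one])
  · refine Or.inl ?_
    rwa [mul_inv_rev, inv_eq_self K.typ.bad.1,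
      show v * s⁻¹ * (s' * v) = v * (s⁻¹ * s') * v by group, hc.eq, mul_assoc, K.typ.vv, mul_one]

theorem ker_P {x y : G} (hx : x ∈ P) (hy : y ∈ P) (h1 : ¬ (x ∈ E ∨ x * v ∈ E))
    (h2 : ¬ (y ∈ E ∨ y * v ∈ E)) (h : Commute x y) : x⁻¹ * y ∈ E ∨ x⁻¹ * y * v ∈ E := by
  obtain ⟨s, hs, -, hxs⟩ := K.exists_sq hx
  obtain ⟨s', hs', -, hys⟩ := K.exists_sq hy
  have hsE : s ∉ E := fun he => h1 (by
    rcases hxs with rfl | rfl
    · exact Or.inl he
    · exact Or.inr (by rwa [mul_assoc, K.typ.vv, mul_one]))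
  have hsE' : s' ∉ E := fun he => h2 (by
    rcases hys with rfl | rfl
    · exact Or.inl he
    · exact Or.inr (by rwa [mul_assoc, K.typ.vv, mul_one]))
  have hc : Commute s s' := by
    have hsv := K.commute_v hs.1
    have hsv' := K.commute_v hs'.1
    rcases hxs with rfl | rfl <;> rcases hys with rfl | rfl
    · exact h
    · simpa [mul_assoc, K.typ.vv] using h.mul_right hsv
    · simpa [mul_assoc, K.typ.vv] using h.mul_left hsv'.symm
    · have h' := (h.mul_right ((hsv.mul_left (Commute.refl v)))).mul_left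
        ((hsv'.symm.mul_right (Commute.refl v)).mul_right (Commute.refl v))
      simpa [mul_assoc, K.typ.vv] using h'
  have he := K.facts.ker s hs s' hs' hsE hsE' hc
  have hsq : x * x = y * y := by
    have hss : s' * s' = s * s := by
      have h3 : Commute s (s⁻¹ * s') := (K.facts.central _ he s hs).symm
      calc s' * s' = s * (s⁻¹ * s') * (s * (s⁻¹ * s')) := by group
        _ = s * ((s⁻¹ * s') * s) * (s⁻¹ * s') := by group
        _ = s * (s * (s⁻¹ * s')) * (s⁻¹ * s') := by rw [h3.eq]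
        _ = s * s * ((s⁻¹ * s') * (s⁻¹ * s')) := by group
        _ = s * s := by rw [K.typ.isE.mul_self C he, mul_one]
    rcases hxs with rfl | rfl <;> rcases hys with rfl | rfl <;>
      simp only [K.sq_mul_v hs.1, K.sq_mul_v hs'.1, hss]
  exact K.inj_P hx hy hsq

/-- Translations normalise `P`. -/
theorem conj_P {g p : G} (hg : g ∈ T) (hp : p ∈ P) : g * p * g⁻¹ ∈ P := by
  obtain ⟨hga, hgE, hgv⟩ := K.fix g hg
  obtain ⟨y, hy, ey⟩ := K.typ.shift_eq hgv
  refine K.typ.mem_P K.two K.le (mul_mem (mul_mem hg (K.le hp)) (inv_mem hg))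
    (by rw [mul_smul, mul_smul, inv_smul_eq_iff.2 hga.symm, (K.typ.fix p hp).1, hga]) ?_
  have h1 : Commute (g * p * g⁻¹) (v * y) := by
    rw [← ey]; exact (Commute.conj_iff g).2 (K.commute_v hp)
  have hy' : g⁻¹ * y * g ∈ E := by
    have := (K.fix g⁻¹ (inv_mem hg)).2.1 y hy
    rwa [inv_inv] at this
  have h2 : Commute (g * p * g⁻¹) y := by
    have := (Commute.conj_iff g).2 (K.typ.comm_E K.facts hp _ hy')
    rwa [show g * (g⁻¹ * y * g) * g⁻¹ = y by group] at this
  have h3 := h1.mul_right h2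
  rwa [mul_assoc v y y, K.typ.isE.mul_self C hy, mul_one] at h3

/-- Translations centralise `E`. -/
theorem comm_E {g : G} (hg : g ∈ T) : ∀ e ∈ E, Commute g e := by
  classical
  obtain ⟨i, hi⟩ := K.two ⟨g, hg⟩
  have hi' : g ^ 2 ^ i = 1 := congrArg Subtype.val hi
  clear hi
  induction i generalizing g with
  | zero =>
    rw [pow_zero, pow_one] at hi'
    exact fun e _ => by rw [hi']; exact Commute.one_left e
  | succ i ih =>
    have hgg : ∀ e ∈ E, Commute (g * g) e :=
      ih (mul_mem hg hg) (by rw [← pow_two, ← pow_mul, ← pow_succ']; exact hi')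
    let σ : MulAut ↥P :=
      { toFun := fun s => ⟨g * s * g⁻¹, K.conj_P hg s.2⟩
        invFun := fun s => ⟨g⁻¹ * s * g, by
          have h := K.conj_P (inv_mem hg) s.2
          rwa [inv_inv] at h⟩
        left_inv := fun s => Subtype.ext (show g⁻¹ * (g * s * g⁻¹) * g = s by group)
        right_inv := fun s => Subtype.ext (show g * (g⁻¹ * s * g) * g⁻¹ = s by group)
        map_mul' := fun s s' => Subtype.ext (show g * (s * s') * g⁻¹ = g * s * g⁻¹ * (g * s' * g⁻¹) by
          group) }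
    have h := TypeAlg.fix_of_involutive (P := ↥P) (Z := K.Zv) (E := E.subgroupOf P)
      (fun x hx => mem_center_iff.2 fun y => Subtype.ext (by
        show (y : G) * x = x * y
        rcases hx with hx | hx
        · exact (K.typ.comm_E K.facts y.2 _ hx).eq
        · have h := (K.typ.comm_E K.facts y.2 _ hx).mul_right (K.commute_v y.2)
          rw [mul_assoc, K.typ.vv, mul_one] at h
          exact h.eq))
      (fun x hx => Subtype.ext (by
        show (x : G) * x = 1
        rcases hx with hx | hx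
        · exact K.typ.isE.mul_self C hx
        · rw [← K.sq_mul_v x.2]; exact K.typ.isE.mul_self C hx))
      (fun x hx => Or.inl hx) (fun x => K.sq_P x.2)
      (fun x hx => by
        obtain ⟨s, hs, e⟩ := K.facts.sqrt (x : G) hx
        exact ⟨⟨s, hs.1⟩, Subtype.ext e⟩)
      (fun x y e => K.inj_P x.2 y.2 (congrArg Subtype.val e))
      (fun x y hx hy e => K.ker_P x.2 y.2 hx hy (congrArg Subtype.val e.eq))
      (fun n hn => K.facts.nonsq n (by
        rw [hn]; exact Nat.card_congr (subgroupOfEquivOfLe K.typ.eP).toEquiv))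
      σ fun x hx => Subtype.ext (show g * (g * x * g⁻¹) * g⁻¹ = x by
        rw [show g * (g * (x : G) * g⁻¹) * g⁻¹ = g * g * x * (g * g)⁻¹ by group,
          mul_inv_eq_iff_eq_mul.2 (hgg x hx).eq])
    exact fun e he => mul_inv_eq_iff_eq_mul.1 (congrArg Subtype.val (h ⟨e, K.typ.eP he⟩ he))

/-- Translations move elements of `P` only modulo `E ∪ v E`. -/
theorem conj_mod {g p : G} (hg : g ∈ T) (hp : p ∈ P) :
    p⁻¹ * (g * p * g⁻¹) ∈ E ∨ p⁻¹ * (g * p * g⁻¹) * v ∈ E :=
  K.inj_P hp (K.conj_P hg hp) (by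
    rw [show g * p * g⁻¹ * (g * p * g⁻¹) = g * (p * p) * g⁻¹ by group,
      mul_inv_eq_iff_eq_mul.2 (K.comm_E hg _ (K.sq_P hp)).eq])

theorem card_le_ker {s : G} (hs : s ∈ P ⊓ C.L v) (hsE : s ∉ E) :
    Nat.card {x : ↥(P ⊓ C.L v) // Commute s (x : G)} ≤ 2 * Nat.card E := by
  classical
  have h : ∀ x : {x : ↥(P ⊓ C.L v) // Commute s (x : G)}, (x.1 : G) ∈ E ∨ s⁻¹ * x.1 ∈ E := fun x => by
    by_cases hx : (x.1 : G) ∈ E
    · exact Or.inl hx
    · exact Or.inr (K.facts.ker s hs _ x.1.2 hsE hx x.2)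
  refine le_trans (Nat.card_le_card_of_injective
    (fun x => if hx : (x.1 : G) ∈ E then Sum.inl (⟨_, hx⟩ : E) else Sum.inr (⟨_, (h x).resolve_left hx⟩ : E))
    fun x y hxy => ?_) (by rw [Nat.card_sum, two_mul])
  by_cases hx : (x.1 : G) ∈ E <;> by_cases hy : (y.1 : G) ∈ E <;> simp [hx, hy] at hxy
  · exact Subtype.ext hxy
  · exact Subtype.ext hxy

/-- **`T / E` has exponent two.** -/
theorem sq_T {g : G} (hg : g ∈ T) : g * g ∈ E := by
  classical
  obtain ⟨hga, hgE, hgv⟩ := K.fix g hg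
  obtain ⟨y, hy, ey⟩ := K.typ.shift_eq hgv
  have hgy : Commute g y := K.comm_E hg y hy
  have h2 : Commute (g * g) v := by
    refine mul_inv_eq_iff_eq_mul.1 ?_
    calc g * g * v * (g * g)⁻¹ = g * (g * v * g⁻¹) * g⁻¹ := by group
      _ = g * (v * y) * g⁻¹ := by rw [ey]
      _ = (g * v * g⁻¹) * (g * y * g⁻¹) := by group
      _ = v := by rw [ey, mul_inv_eq_iff_eq_mul.2 hgy.eq, mul_assoc, K.typ.isE.mul_self C hy, mul_one]
  have hggP : g * g ∈ P := K.typ.mem_P K.two K.le (mul_mem hg hg) (by rw [mul_smul, hga, hga]) h2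
  -- the commutators of `g²` with `P ⊓ L` take two values
  obtain ⟨s', hs', hgs⟩ : ∃ s' ∈ P ⊓ C.L v, g * g = s' ∨ g * g = s' * v := by
    obtain ⟨s', hs', -, h⟩ := K.exists_sq hggP
    exact ⟨s', hs', h⟩
  have hval : ∀ x ∈ P ⊓ C.L v, x * s' = s' * x ∨ s' * x * s'⁻¹ = x * y := by
    intro x hx
    have hxv := K.commute_v hx.1
    have e1 : g * g * x * (g * g)⁻¹ = s' * x * s'⁻¹ := by
      rcases hgs with e | e <;> rw [e]
      calc s' * v * x * (s' * v)⁻¹ = s' * (v * x) * v⁻¹ * s'⁻¹ := by group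
        _ = s' * x * s'⁻¹ := by rw [← hxv.eq]; group
    set l := x⁻¹ * (g * x * g⁻¹) with hl
    have e2 : g * g * x * (g * g)⁻¹ = x * l * (g * l * g⁻¹) := by rw [hl]; group
    rcases K.conj_mod hg hx.1 with h | h
    · left
      rw [e2, mul_inv_eq_iff_eq_mul.2 (K.comm_E hg l h).eq, mul_assoc, K.typ.isE.mul_self C h,
        mul_one] at e1
      exact mul_inv_eq_iff_eq_mul.1 e1.symm |>.symm
    · right
      rw [← e1, e2]
      have hlv : g * l * g⁻¹ = l * v * (v * y) := by
        calc g * l * g⁻¹ = g * (l * v) * g⁻¹ * (g * v * g⁻¹)⁻¹ := by group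
          _ = l * v * (v * y) := by
            rw [mul_inv_eq_iff_eq_mul.2 (K.comm_E hg _ h).eq, ey, mul_inv_rev,
              inv_eq_of_mul_eq_one_right (K.typ.isE.mul_self C hy), inv_eq_self K.typ.bad.1,
              (K.typ.Ev hy).eq]
      rw [hlv, ← mul_assoc (l * v), mul_assoc l v v, K.typ.vv, mul_one, mul_assoc x, ← mul_assoc l]
      congr 1
      have hll : l * l = 1 := by
        have hlP : l ∈ P := by
          have := mul_mem (inv_mem (mem_inf.1 hx).1) (K.conj_P hg (mem_inf.1 hx).1); exact this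
        rw [← K.sq_mul_v hlP]; exact K.typ.isE.mul_self C h
      rw [hll, one_mul]
  have hs'E : s' ∈ E := by
    by_contra hsE
    -- otherwise a fibre is large
    have hcard : Nat.card ↥(P ⊓ C.L v) ≤ 2 * Nat.card {x : ↥(P ⊓ C.L v) // Commute s' (x : G)} := by
      set A := {x : ↥(P ⊓ C.L v) // Commute s' (x : G)}
      by_cases hne : ∃ x₀ : ↥(P ⊓ C.L v), ¬ Commute s' (x₀ : G)
      · obtain ⟨x₀, hx₀⟩ := hne
        have hx₀y := (hval x₀ x₀.2).resolve_left fun h => hx₀ h.symm
        refine le_trans (Nat.card_le_card_of_injective (β := A ⊕ A)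
          (fun x => if hx : Commute s' (x : G) then Sum.inl ⟨x, hx⟩ else
            Sum.inr ⟨x₀⁻¹ * x, ?_⟩) fun x z hxz => ?_) (by rw [Nat.card_sum, two_mul])
        · have hxy := (hval x x.2).resolve_left fun h => hx h.symm
          refine mul_inv_eq_iff_eq_mul.1 ?_
          show s' * ((x₀ : G)⁻¹ * x) * s'⁻¹ = (x₀ : G)⁻¹ * x
          calc s' * ((x₀ : G)⁻¹ * x) * s'⁻¹ = (s' * x₀ * s'⁻¹)⁻¹ * (s' * x * s'⁻¹) := by group
            _ = y⁻¹ * ((x₀ : G)⁻¹ * x) * y := by rw [hx₀y, hxy]; group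
            _ = _ := by
              rw [mul_assoc, ← (K.facts.central y hy _ (mul_mem (inv_mem x₀.2) x.2)).eq,
                inv_mul_cancel_left]
        · by_cases hx : Commute s' (x : G) <;> by_cases hz : Commute s' (z : G) <;>
            simp [hx, hz] at hxz
          · exact congrArg Subtype.val hxz
          · exact mul_left_cancel (congrArg Subtype.val hxz)
      · push Not at hne
        exact le_trans (Nat.card_le_card_of_injective (fun x => (⟨x, hne x⟩ : A))
          fun x z h => congrArg Subtype.val h) (Nat.le_mul_of_pos_left _ two_pos)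
    have h1 := K.card_le_ker hs' hsE
    rw [K.typ.card_S, K.qn] at hcard
    have := K.eight_le
    nlinarith
  rcases hgs with h | h
  · rwa [h]
  · exfalso
    have hgv' : Commute g v := by
      have e : v = s'⁻¹ * (g * g) := by rw [h, inv_mul_cancel_left]
      rw [e]
      exact (K.comm_E hg _ hs'E).inv_right.mul_right ((Commute.refl g).mul_right (Commute.refl g))
    have := K.sq_P (K.typ.mem_P K.two K.le hg hga hgv')
    rw [h] at this
    exact K.v_not_E ((mul_mem_cancel_left hs'E).1 this)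

/-- Translations normalise `E`: they centralise it; so commutators of translations lie in `E`. -/
theorem comm_mem {x y : G} (hx : x ∈ T) (hy : y ∈ T) : x * y * x⁻¹ * y⁻¹ ∈ E := by
  have h1 := K.sq_T (mul_mem hx hy)
  have h2 := inv_mem (K.sq_T hx)
  have h3 := inv_mem (K.sq_T hy)
  have h4 : y⁻¹ * (x * x)⁻¹ * y ∈ E := by
    rw [mul_assoc, ← (K.comm_E hy _ h2).eq, inv_mul_cancel_left]
    exact h2
  rw [show x * y * x⁻¹ * y⁻¹ = x * y * (x * y) * (y⁻¹ * (x * x)⁻¹ * y) * (y * y)⁻¹ by group]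
  exact mul_mem (mul_mem h1 h4) h3

end SzT

end Ctx

end CfsgLib.Criterion
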