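import Cfsg.Agent.Criterion.TypeSzShift
import Cfsg.Agent.Criterion.TypeTorus

/-!
# The strong embedding criterion: a torus normalising the translations of Suzuki type

Some `m` at `a` normalises `T`, keeps `E` and the coset `v E`, and a power of it fixes a nontrivial
element of `E` only if its exponent is divisible by `q - 1`.  A power of `m` of odd order centralising
`E` centralises `T`.
-/

set_option autoImplicit false
set_option linter.style.haveILetI false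
set_option linter.unusedSectionVars false

namespace CfsgLib.Criterion

open Subgroup CfsgLib.Invol CfsgLib.Bender
open scoped Pointwise

universe u

variable {G : Type u} [Group G] [Finite G]

namespace Ctx

variable {C : Ctx G} {v : G} {a b : C.Pt} {D E P T : Subgroup G}

namespace SzT

/-- The elements at `a` normalising `E` and keeping the coset `v E`. -/
def M (_K : C.SzT v a b D E P T) : Subgroup G where
  carrier := {g | g • a = a ∧ (∀ e : G, g * e * g⁻¹ ∈ E ↔ e ∈ E) ∧ g * v * g⁻¹ * v ∈ E}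
  one_mem' := ⟨one_smul _ a, fun e => by simp, by
    rw [one_mul, inv_one, mul_one, _K.typ.vv]; exact one_mem _⟩
  mul_mem' := by
    rintro g h ⟨hga, hgE, hgv⟩ ⟨hha, hhE, hhv⟩
    refine ⟨by rw [mul_smul, hha, hga], fun e => ?_, ?_⟩
    · rw [← hhE e, ← hgE (h * e * h⁻¹)]; simp [mul_assoc]
    · have := mul_mem ((hgE _).2 hhv) hgv
      rwa [show g * (h * v * h⁻¹ * v) * g⁻¹ * (g * v * g⁻¹ * v) =
        g * h * v * (g * h)⁻¹ * (g * (v * v) * g⁻¹ * v) by group, _K.typ.vv,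
        mul_one, mul_inv_cancel, one_mul] at this
  inv_mem' := by
    rintro g ⟨hga, hgE, hgv⟩
    refine ⟨by rw [inv_smul_eq_iff, hga], fun e => ?_, ?_⟩
    · rw [← hgE (g⁻¹ * e * g⁻¹⁻¹)]
      simp [mul_assoc]
    · obtain ⟨y, hy, ey⟩ := _K.typ.shift_eq hgv
      have h := (hgE (g⁻¹ * y * g)).1 (by simpa [mul_assoc] using hy)
      have e1 : g⁻¹ * v * g⁻¹⁻¹ = v * (g⁻¹ * y * g) := by
        have e2 : v = g⁻¹ * (v * y) * g := by rw [← ey]; group
        calc g⁻¹ * v * g⁻¹⁻¹ = g⁻¹ * (v * y) * g * (g⁻¹ * y⁻¹ * g) := by group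
          _ = v * (g⁻¹ * y * g) := by
            rw [← e2, inv_eq_of_mul_eq_one_right (_K.typ.isE.mul_self C hy)]
      rw [e1, ← (_K.typ.Ev h).eq, mul_assoc, _K.typ.vv, mul_one]
      exact h

variable (K : C.SzT v a b D E P T)
include K

theorem mem_M {g : G} :
    g ∈ K.M ↔ g • a = a ∧ (∀ e : G, g * e * g⁻¹ ∈ E ↔ e ∈ E) ∧ g * v * g⁻¹ * v ∈ E := Iff.rfl

theorem conj_E_iff {g : G} (hg : g ∈ T) (e : G) : g * e * g⁻¹ ∈ E ↔ e ∈ E := by
  refine ⟨fun h => ?_, (K.fix g hg).2.1 e⟩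
  have := (K.fix g⁻¹ (inv_mem hg)).2.1 _ h
  simpa [mul_assoc] using this

theorem T_le_M : T ≤ K.M := fun g hg => ⟨(K.fix g hg).1, K.conj_E_iff hg, (K.fix g hg).2.2⟩

theorem shift_M {g : G} (hg : g ∈ K.M) : ∃ y ∈ E, g * v * g⁻¹ = v * y := K.typ.shift_eq hg.2.2

/-- The translations are a largest 2-group at `a` keeping `E` and `v E`. -/
theorem card_two_le {W : Subgroup G} (hW : IsPGroup 2 W) (hWM : W ≤ K.M) :
    Nat.card W ≤ Nat.card T := by
  rw [← card_conj_sub W v, K.card]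
  refine Nat.mul_le_mul (Nat.card_le_card_of_injective (fun y => (⟨y.1 * v, ?_⟩ : E)) ?_)
    (K.typ.max _ (hW.to_le inf_le_left) fun g hg =>
      ⟨(hWM hg.1).1, mem_centralizer_singleton_iff.1 hg.2⟩)
  · obtain ⟨m, hm, e⟩ := y.2
    rw [← e]
    exact (hWM hm).2.2
  · exact fun x y h => Subtype.ext (mul_right_cancel (congrArg Subtype.val h :))

/-- The elements of `M` centralising `E`. -/
def M1 (K : C.SzT v a b D E P T) : Subgroup G := K.M ⊓ centralizer (E : Set G)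

theorem T_le_M1 : T ≤ K.M1 := fun g hg => mem_inf.2 ⟨K.T_le_M hg,
  mem_centralizer_iff.2 fun e he => (K.comm_E hg e he).eq.symm⟩

/-- Two largest 2-groups of `M1` are conjugate in it. -/
theorem exists_conj_T {T' : Subgroup G} (h2 : IsPGroup 2 T') (hle : T' ≤ K.M1)
    (hc : Nat.card T' = Nat.card T) : ∃ u ∈ K.M1, ∀ x ∈ T', u * x * u⁻¹ ∈ T := by
  haveI : Fact (Nat.Prime 2) := ⟨Nat.prime_two⟩
  have hmax : ∀ {W : Subgroup G}, IsPGroup 2 W → W ≤ K.M1 → Nat.card W = Nat.card T →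
      ∃ S : Sylow 2 ↥K.M1, (S : Subgroup ↥K.M1) = W.subgroupOf K.M1 := by
    intro W hW hWM hc
    obtain ⟨S, hS⟩ := IsPGroup.exists_le_sylow (p := 2) (hW.of_equiv (subgroupOfEquivOfLe hWM).symm)
    refine ⟨S, (eq_of_le_of_card_ge hS ?_).symm⟩
    rw [Nat.card_congr (subgroupOfEquivOfLe hWM).toEquiv, hc,
      ← card_map_of_injective K.M1.subtype_injective (K := (S : Subgroup ↥K.M1))]
    exact K.card_two_le (S.2.map _) ((map_subtype_le _).trans inf_le_left)
  obtain ⟨S, hS⟩ := hmax h2 hle hc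
  obtain ⟨S', hS'⟩ := hmax K.two K.T_le_M1 rfl
  obtain ⟨u, hu⟩ := MulAction.exists_smul_eq ↥K.M1 S S'
  refine ⟨u, u.2, fun x hx => ?_⟩
  have h1 : u * ⟨x, hle hx⟩ * u⁻¹ ∈ (S' : Subgroup ↥K.M1) := by
    rw [← hu, Sylow.coe_subgroup_smul]
    exact Subgroup.smul_mem_pointwise_smul _ (MulAut.conj u) _ (by rw [hS]; exact hx)
  rw [hS', mem_subgroupOf] at h1
  exact h1

theorem conj_M1 {g x : G} (hg : g ∈ K.M) (hx : x ∈ K.M1) : g * x * g⁻¹ ∈ K.M1 := by
  refine mem_inf.2 ⟨mul_mem (mul_mem hg (mem_inf.1 hx).1) (inv_mem hg), mem_centralizer_iff.2 fun e he => ?_⟩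
  have he' : g⁻¹ * e * g ∈ E := by
    have := ((inv_mem hg : g⁻¹ ∈ K.M).2.1 e).2 he
    rwa [inv_inv] at this
  have h := (Commute.conj_iff g).2
    (mem_centralizer_iff.1 (mem_inf.1 hx).2 _ he' : Commute (g⁻¹ * e * g) x)
  rw [show g * (g⁻¹ * e * g) * g⁻¹ = e by group] at h
  exact h.eq

/-- An element acting on `E` as a power of the torus. -/
theorem exists_torus_E : ∃ t : G, t ∈ K.M ∧
    ∀ (k : ℕ) (x : G), x ∈ E → x ≠ 1 → t ^ k * x * (t ^ k)⁻¹ = x → Nat.card E - 1 ∣ k := by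
  obtain ⟨t, ht, hta, -, -, -, hstab⟩ :=
    K.typ.bad.exists_torus_class C K.typ.hp K.typ.va K.typ.vb K.typ.ne K.typ.isE
  have hv := K.typ.bad
  have hp := K.typ.hp
  have hva := K.typ.va
  have hEK : ∀ e ∈ E, e ∈ closure (C.Ea v a) := fun e he => by
    by_cases h : e = 1
    · rw [h]; exact one_mem _
    · exact subset_closure (K.typ.isE.mem e he h)
  have hconj : ∀ e ∈ E.map (MulAut.conj t).toMonoidHom, e ∈ closure (C.Ea v a) := by
    rintro _ ⟨e, he, rfl⟩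
    by_cases h : e = 1
    · rw [h, map_one]; exact one_mem _
    · refine subset_closure ?_
      have := C.conj_mem_Ea_L ht (K.typ.isE.mem e he h)
      rw [hta] at this
      exact this
  obtain ⟨k, hk, hkE⟩ := K.typ.isE.exists_conj_max C hv hp hva ((K.typ.isE.isPGroup C).map _)
    hconj (K.typ.isE.isPGroup C) hEK
    (card_map_of_injective (MulAut.conj t).injective) rfl
  obtain ⟨hkL, hka⟩ := C.closure_Ea hk
  -- `k` moves members only modulo the kernel
  have hnor : ∀ l ∈ closure (C.Ea v a), ∀ o ∈ C.Om v, l * o * l⁻¹ ∈ C.Om v := fun l hl o ho =>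
    C.conj_mem_Om (C.commute_of_mem_L (C.closure_Ea hl).1) ho (C.closure_Ea hl).1
  have hkcom : ∀ x ∈ C.Ea v a, k * x * k⁻¹ * x⁻¹ ∈ C.Om v := by
    intro x hx
    have key : ∀ l ∈ closure (C.Ea v a), ∃ e ∈ E, l * e ∈ C.Om v := by
      intro l hl
      induction hl using closure_induction with
      | mem l hl =>
        obtain ⟨e, he, hne, hodd⟩ := K.typ.isE.cover l hl
        exact ⟨e, he, (hv.odd_iff C hp hva hl (K.typ.isE.mem e he hne)).1 hodd⟩
      | one => exact ⟨1, one_mem _, by rw [one_mul]; exact one_mem _⟩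
      | mul l l' hl hl' h h' =>
        obtain ⟨e, he, h⟩ := h
        obtain ⟨e', he', h'⟩ := h'
        refine ⟨e' * e, mul_mem he' he, ?_⟩
        have := mul_mem (hnor l hl _ h') h
        rwa [show l * (l' * e') * l⁻¹ * (l * e) = l * l' * (e' * e) by group] at this
      | inv l hl h =>
        obtain ⟨e, he, h⟩ := h
        refine ⟨e, he, ?_⟩
        have := hnor l⁻¹ (inv_mem hl) _ (inv_mem h)
        rwa [mul_inv_rev, inv_eq_of_mul_eq_one_right (K.typ.isE.mul_self C he), inv_inv,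
          show l⁻¹ * (e * l⁻¹) * l = l⁻¹ * e by group] at this
    obtain ⟨e₁, he₁, ho₁⟩ := key k hk
    obtain ⟨e₂, he₂, ho₂⟩ := key x (subset_closure hx)
    -- `k = o₁ e₁`, `x = o₂ e₂`
    set o₁ := k * e₁
    set o₂ := x * e₂
    have ek : k = o₁ * e₁ := by
      show k = k * e₁ * e₁
      rw [mul_assoc, K.typ.isE.mul_self C he₁, mul_one]
    have ex : x = o₂ * e₂ := by
      show x = x * e₂ * e₂
      rw [mul_assoc, K.typ.isE.mul_self C he₂, mul_one]
    have h1 := hnor e₁ (hEK _ he₁) _ ho₂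
    have h2 := hnor e₂ (hEK _ he₂) _ (inv_mem ho₁)
    have e12 : e₁ * e₂ = e₂ * e₁ := (K.typ.isE.commute C he₁ he₂).eq
    have goal_eq : k * x * k⁻¹ * x⁻¹ =
        o₁ * (e₁ * o₂ * e₁⁻¹) * (e₂ * o₁⁻¹ * e₂⁻¹) * o₂⁻¹ := by
      rw [ek, ex]
      calc o₁ * e₁ * (o₂ * e₂) * (o₁ * e₁)⁻¹ * (o₂ * e₂)⁻¹
          = o₁ * (e₁ * o₂ * e₁⁻¹) * (e₁ * e₂ * e₁⁻¹) * o₁⁻¹ * e₂⁻¹ * o₂⁻¹ := by group
        _ = o₁ * (e₁ * o₂ * e₁⁻¹) * (e₂ * e₁ * e₁⁻¹) * o₁⁻¹ * e₂⁻¹ * o₂⁻¹ := by rw [e12]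
        _ = _ := by group
    rw [goal_eq]
    exact mul_mem (mul_mem (mul_mem ho₁ h1) h2) (inv_mem ho₂)
  set t' := k * t with ht'
  have ht'L : t' ∈ C.L v := mul_mem hkL ht
  have ht'a : t' • a = a := by rw [ht', mul_smul, hta, hka]
  have ht'v : Commute t' v := C.commute_of_mem_L ht'L
  have hE : ∀ e ∈ E, t' * e * t'⁻¹ ∈ E := fun e he => by
    have := hkE _ ⟨e, he, rfl⟩
    simpa [ht', mul_assoc] using this
  -- the action of the powers on the classes
  have hpow : ∀ (n : ℕ), ∀ x ∈ C.Ea v a,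
      t' ^ n * x * (t' ^ n)⁻¹ * (t ^ n * x * (t ^ n)⁻¹)⁻¹ ∈ C.Om v := by
    intro n
    induction n with
    | zero => intro x _; simp
    | succ n ih =>
      intro x hx
      set A := t' ^ n * x * (t' ^ n)⁻¹ with hA
      set B := t ^ n * x * (t ^ n)⁻¹ with hB
      have hBE : B ∈ C.Ea v a := by
        have := C.conj_mem_Ea_L (pow_mem ht n) hx
        rwa [MulAction.mem_stabilizer_iff.1 (pow_mem (MulAction.mem_stabilizer_iff.2 hta) n)] at this
      have hBt : t * B * t⁻¹ ∈ C.Ea v a := by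
        have := C.conj_mem_Ea_L ht hBE
        rwa [hta] at this
      have h1 : t' * (A * B⁻¹) * t'⁻¹ ∈ C.Om v := C.conj_mem_Om ht'v (ih x hx) ht'L
      have h2 := mul_mem h1 (hkcom _ hBt)
      have eA : t' ^ (n + 1) * x * (t' ^ (n + 1))⁻¹ = t' * A * t'⁻¹ := by
        rw [hA, pow_succ']; group
      have eB : t ^ (n + 1) * x * (t ^ (n + 1))⁻¹ = t * B * t⁻¹ := by
        rw [hB, pow_succ']; group
      rw [eA, eB, show t' * A * t'⁻¹ * (t * B * t⁻¹)⁻¹ =
        t' * (A * B⁻¹) * t'⁻¹ * (k * (t * B * t⁻¹) * k⁻¹ * (t * B * t⁻¹)⁻¹) by rw [ht']; group]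
      exact h2
  refine ⟨t', ⟨ht'a, fun e => ⟨fun he => ?_, hE e⟩, ?_⟩, fun n x hx hx1 h => ?_⟩
  · -- conjugation is onto on `E`
    let f : E → E := fun y => ⟨t' * y * t'⁻¹, hE y y.2⟩
    have hf : Function.Injective f := fun y z h =>
      Subtype.ext (mul_left_cancel (mul_right_cancel (congrArg Subtype.val h :)))
    obtain ⟨⟨y, hy⟩, hye⟩ := (Finite.injective_iff_bijective.1 hf).2 ⟨_, he⟩
    have h' : t' * y * t'⁻¹ = t' * e * t'⁻¹ := congrArg Subtype.val hye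
    rwa [← mul_left_cancel (mul_right_cancel h')]
  · rw [mul_inv_eq_iff_eq_mul.2 ht'v.eq, K.typ.vv]
    exact one_mem _
  · have hxE := K.typ.isE.mem x hx hx1
    have hxn : t ^ n * x * (t ^ n)⁻¹ ∈ C.Ea v a := by
      have := C.conj_mem_Ea_L (pow_mem ht n) hxE
      rwa [MulAction.mem_stabilizer_iff.1 (pow_mem (MulAction.mem_stabilizer_iff.2 hta) n)] at this
    refine hstab x hxE n ((hv.odd_iff C hp hva hxn hxE).2 ?_)
    have := inv_mem (hpow n x hxE)
    rw [h, mul_inv_rev, inv_inv, C.inv_Z hxE.1.1] at this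
    exact this

/-- An element of odd order of `M` centralising `E` and normalising `T` centralises `T`. -/
theorem commute_T {j : G} (hj : j ∈ K.M) (hjo : Odd (orderOf j)) (hjE : ∀ e ∈ E, Commute j e)
    (hjT : ∀ g ∈ T, j * g * j⁻¹ ∈ T) {g : G} (hg : g ∈ T) : Commute j g := by
  -- an odd power of an element moved by a fixed one of 2-power order
  have hfix : ∀ {x z : G}, Commute j z → (∃ i, z ^ 2 ^ i = 1) → j * x * j⁻¹ = x * z →
      Commute j x := by
    intro x z hz ⟨i, hi⟩ h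
    have hn : ∀ n : ℕ, j ^ n * x * (j ^ n)⁻¹ = x * z ^ n := by
      intro n
      induction n with
      | zero => simp
      | succ n ih =>
        calc j ^ (n + 1) * x * (j ^ (n + 1))⁻¹ = j * (j ^ n * x * (j ^ n)⁻¹) * j⁻¹ := by
              rw [pow_succ']; group
          _ = (j * x * j⁻¹) * (j * z ^ n * j⁻¹) := by rw [ih]; group
          _ = x * z * z ^ n := by rw [h, mul_inv_eq_iff_eq_mul.2 (hz.pow_right n).eq]
          _ = x * z ^ (n + 1) := by rw [pow_succ', mul_assoc]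
    have h1 := hn (orderOf j)
    rw [pow_orderOf_eq_one, one_mul, inv_one, mul_one, left_eq_mul] at h1
    rw [Consumers.eq_one_of_two_of_odd (hjo.of_dvd_nat (orderOf_dvd_of_pow_eq_one h1)) hi,
      mul_one] at h
    exact mul_inv_eq_iff_eq_mul.1 h
  obtain ⟨y₀, hy₀, ey₀⟩ := K.shift_M hj
  have hjv : Commute j v := hfix (hjE y₀ hy₀) ⟨1, by rw [pow_one, pow_two, K.typ.isE.mul_self C hy₀]⟩ ey₀
  have hjP : ∀ p ∈ P, Commute j p := by
    intro p hp
    have hp' : j * p * j⁻¹ ∈ P := by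
      obtain ⟨hpa, hpv⟩ := K.typ.fix p hp
      refine K.typ.mem_P K.two K.le (hjT p (K.le hp))
        (by rw [mul_smul, mul_smul, inv_smul_eq_iff.2 hj.1.symm, hpa, hj.1]) ?_
      have := (Commute.conj_iff j).2 hpv
      rwa [mul_inv_eq_iff_eq_mul.2 hjv.eq] at this
    have hzP : p⁻¹ * (j * p * j⁻¹) ∈ P := mul_mem (inv_mem hp) hp'
    have hz : ∀ {z : G}, z ∈ P → (z ∈ E ∨ z * v ∈ E) → Commute j z ∧ z * z = 1 := by
      intro z hzP hz
      rcases hz with hz | hz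
      · exact ⟨hjE z hz, K.typ.isE.mul_self C hz⟩
      · refine ⟨?_, by rw [← K.sq_mul_v hzP]; exact K.typ.isE.mul_self C hz⟩
        have h := (hjE _ hz).mul_right hjv
        rwa [mul_assoc, K.typ.vv, mul_one] at h
    obtain ⟨h1, h2⟩ := hz hzP (K.inj_P hp hp' (by
      rw [show j * p * j⁻¹ * (j * p * j⁻¹) = j * (p * p) * j⁻¹ by group,
        mul_inv_eq_iff_eq_mul.2 (hjE _ (K.sq_P hp)).eq]))
    exact hfix h1 ⟨1, by rw [pow_one, pow_two, h2]⟩ (mul_inv_cancel_left p _).symm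
  obtain ⟨y, hy, ey⟩ := K.typ.shift_eq (K.fix g hg).2.2
  have hz : g⁻¹ * (j * g * j⁻¹) ∈ P := by
    have hzT := mul_mem (inv_mem hg) (hjT g hg)
    refine K.typ.mem_P K.two K.le hzT (K.fix _ hzT).1 ?_
    refine mul_inv_eq_iff_eq_mul.1 ?_
    calc g⁻¹ * (j * g * j⁻¹) * v * (g⁻¹ * (j * g * j⁻¹))⁻¹
        = g⁻¹ * (j * (g * (j⁻¹ * v * j) * g⁻¹) * j⁻¹) * g := by group
      _ = g⁻¹ * (v * y) * g := by
        rw [show j⁻¹ * v * j = v by rw [mul_assoc, ← hjv.eq, inv_mul_cancel_left], ey,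
          mul_inv_eq_iff_eq_mul.2 (hjv.mul_right (hjE y hy)).eq]
      _ = v := by rw [← ey]; group
  obtain ⟨i, hi⟩ := K.typ.two ⟨_, hz⟩
  exact hfix (hjP _ hz) ⟨i, congrArg Subtype.val hi⟩ (mul_inv_cancel_left g _).symm

end SzT

end Ctx

end CfsgLib.Criterion
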