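import Cfsg.Agent.Criterion.TypeU3Base
import Cfsg.Agent.Criterion.TypeUnitaryForm

/-!
# The strong embedding criterion: the group acting trivially on `S / E`

`N₁` consists of the elements at `a` normalising `E` and `S ∪ S v` and moving `v` inside `v E`; those of
them centralising `E` and trivial on `S / E` form a normal subgroup whose largest 2-group `T₂ ≤ T`
normalises `S`, has all squares in `E` and moves `v` over all of `v E`.
-/

set_option autoImplicit false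
set_option linter.style.haveILetI false
set_option linter.unusedSectionVars false

namespace CfsgLib.Criterion

open Subgroup CfsgLib.Invol CfsgLib.Bender

universe u

variable {G : Type u} [Group G] [Finite G]

namespace Ctx

variable {C : Ctx G}

namespace Cfg3

variable {v : G} {a b : C.Pt} {D E P : Subgroup G} (X : C.Cfg3 v a b D E P)

local notation "S" => P ⊓ C.L v
local notation "q" => Nat.card E

include X

/-- `x` lies in `S ∪ S v` with `S`-part congruent to `s` modulo `E`. -/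
def Over (_X : C.Cfg3 v a b D E P) (s x : G) : Prop := s⁻¹ * x ∈ E ∨ s⁻¹ * x * v ∈ E

theorem mul_v_mul_v {x : G} : x * v * v = x := by rw [mul_assoc, X.vv, mul_one]

/-- The elements of `S ∪ S v`. -/
def Sv (X : C.Cfg3 v a b D E P) : Subgroup G := subgroupOfClosed {x | x ∈ S ∨ x * v ∈ S}
  (Or.inl (one_mem _)) (by
    rintro g h (hg | hg) (hh | hh)
    · exact Or.inl (mul_mem hg hh)
    · exact Or.inr (by rw [mul_assoc]; exact mul_mem hg hh)
    · refine Or.inr ?_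
      rw [mul_assoc, (X.sv hh).eq, ← mul_assoc]; exact mul_mem hg hh
    · refine Or.inl ?_
      have := mul_mem hg hh
      rwa [show g * v * (h * v) = g * h by
        rw [mul_assoc g v, ← (X.sv hh).eq, mul_assoc h, X.vv, mul_one]] at this)

theorem mem_Sv_iff {x : G} : x ∈ X.Sv ↔ x ∈ S ∨ x * v ∈ S := Iff.rfl

theorem Sv_le : X.Sv ≤ P := by
  rintro x (h | h)
  · exact (mem_inf.1 h).1
  · rw [← X.mul_v_mul_v (x := x)]; exact mul_mem (mem_inf.1 h).1 X.typ.vP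

theorem Sv_comm_v {x : G} (hx : x ∈ X.Sv) : Commute x v := (X.typ.fix x (X.Sv_le hx)).2

theorem Sv_comm_E {x : G} (hx : x ∈ X.Sv) {e : G} (he : e ∈ E) : Commute x e := by
  rcases hx with h | h
  · exact (X.es he h).symm
  · rw [← X.mul_v_mul_v (x := x)]
    exact (X.es he h).symm.mul_left (X.typ.Ev he).symm

/-- The elements at `a` normalising `E` and `S ∪ S v`, moving `v` inside `v E`. -/
def N₁ (X : C.Cfg3 v a b D E P) : Subgroup G := subgroupOfClosed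
  {g | g • a = a ∧ (∀ e ∈ E, g * e * g⁻¹ ∈ E) ∧ g * v * g⁻¹ * v ∈ E ∧ ∀ s ∈ S, g * s * g⁻¹ ∈ X.Sv}
  ⟨one_smul _ a, fun e he => by simpa using he, by rw [one_mul, inv_one, mul_one, X.vv]; exact one_mem _,
    fun s hs => by simpa using (X.mem_Sv_iff.2 (Or.inl hs))⟩
  (by
    rintro g h ⟨hga, hgE, hgv, hgS⟩ ⟨hha, hhE, hhv, hhS⟩
    refine ⟨by rw [mul_smul, hha, hga], fun e he => ?_, ?_, fun s hs => ?_⟩
    · simpa [mul_assoc] using hgE _ (hhE e he)
    · have := mul_mem (hgE _ hhv) hgv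
      rwa [show g * (h * v * h⁻¹ * v) * g⁻¹ * (g * v * g⁻¹ * v) =
        g * h * v * (g * h)⁻¹ * (g * (v * v) * g⁻¹ * v) by group, X.vv,
        mul_one, mul_inv_cancel, one_mul] at this
    · have hv' : g * v * g⁻¹ ∈ X.Sv := Or.inr (X.E_S hgv)
      rcases hhS s hs with hr | hr
      · simpa [mul_assoc] using hgS _ hr
      · have := mul_mem (hgS _ hr) hv'
        rwa [show g * (h * s * h⁻¹ * v) * g⁻¹ * (g * v * g⁻¹) =
          g * h * s * (g * h)⁻¹ * (g * (v * v) * g⁻¹) by group, X.vv, mul_one, mul_inv_cancel,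
          mul_one] at this)

theorem mem_N₁ {g : G} : g ∈ X.N₁ ↔ g • a = a ∧ (∀ e ∈ E, g * e * g⁻¹ ∈ E) ∧
    g * v * g⁻¹ * v ∈ E ∧ ∀ s ∈ S, g * s * g⁻¹ ∈ X.Sv := Iff.rfl

theorem T_le : X.T ≤ X.N₁ := fun g hg =>
  ⟨(X.memT g hg).1, (X.memT g hg).2.1, (X.memT g hg).2.2, fun _ hs => X.mem_Sv hg hs⟩

theorem tor_mem {k : G} (hk : k ∈ C.Tor v a b S) : k ∈ X.N₁ := by
  obtain ⟨hkL, hka, -, hkS⟩ := hk
  refine ⟨hka, fun e he => X.typ.mem_E_of_sq (hkS e (X.E_S he)) ?_, ?_, fun s hs => Or.inl (hkS s hs)⟩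
  · rw [show k * e * k⁻¹ * (k * e * k⁻¹) = k * (e * e) * k⁻¹ by group, X.E2 he]; group
  · rw [C.L_conj_eq hkL, X.vv]; exact one_mem _

theorem conj_Sv {g : G} (hg : g ∈ X.N₁) {x : G} (hx : x ∈ X.Sv) : g * x * g⁻¹ ∈ X.Sv := by
  have hv' : g * v * g⁻¹ ∈ X.Sv := Or.inr (X.E_S hg.2.2.1)
  rcases hx with h | h
  · exact hg.2.2.2 x h
  · have := mul_mem (hg.2.2.2 _ h) hv'
    rwa [show g * (x * v) * g⁻¹ * (g * v * g⁻¹) = g * x * (v * v) * g⁻¹ by group, X.vv, mul_one] at this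

/-- The `S`-part of a conjugate. -/
noncomputable def sp (_X : C.Cfg3 v a b D E P) (g s : G) : G :=
  open scoped Classical in if g * s * g⁻¹ ∈ S then g * s * g⁻¹ else g * s * g⁻¹ * v

theorem sp_mem {g : G} (hg : g ∈ X.N₁) {s : G} (hs : s ∈ S) : X.sp g s ∈ S := by
  unfold sp; split_ifs with h
  · exact h
  · exact (hg.2.2.2 s hs).resolve_left h

theorem sp_cases (g s : G) : g * s * g⁻¹ = X.sp g s ∨ g * s * g⁻¹ = X.sp g s * v := by
  unfold sp; split_ifs with h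
  · exact Or.inl rfl
  · exact Or.inr X.mul_v_mul_v.symm

theorem sp_unique {g s r : G} (hg : g ∈ X.N₁) (hs : s ∈ S) (hr : r ∈ S)
    (h : g * s * g⁻¹ = r ∨ g * s * g⁻¹ = r * v) : X.sp g s = r := by
  rcases X.sp_cases g s with e | e <;> rcases h with h | h <;> rw [e] at h
  · exact h
  · exact absurd (h ▸ X.sp_mem hg hs) (X.Sv_excl hr)
  · exact absurd (h ▸ hr) (X.Sv_excl (X.sp_mem hg hs))
  · exact mul_right_cancel h

theorem sp_mul {g s s' : G} (hg : g ∈ X.N₁) (hs : s ∈ S) (hs' : s' ∈ S) :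
    X.sp g (s * s') = X.sp g s * X.sp g s' := by
  refine X.sp_unique hg (mul_mem hs hs') (mul_mem (X.sp_mem hg hs) (X.sp_mem hg hs')) ?_
  rw [show g * (s * s') * g⁻¹ = g * s * g⁻¹ * (g * s' * g⁻¹) by group]
  have hvc : v * X.sp g s' = X.sp g s' * v := (X.sv (X.sp_mem hg hs')).eq.symm
  rcases X.sp_cases g s with e | e <;> rcases X.sp_cases g s' with e' | e' <;> rw [e, e']
  · exact Or.inl rfl
  · exact Or.inr (mul_assoc _ _ _).symm
  · exact Or.inr (by rw [mul_assoc, hvc, ← mul_assoc])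
  · exact Or.inl (by rw [mul_assoc, ← mul_assoc v, hvc, mul_assoc _ v, X.vv, mul_one])

theorem sp_E {g e : G} (hg : g ∈ X.N₁) (he : e ∈ E) : X.sp g e = g * e * g⁻¹ :=
  X.sp_unique hg (X.E_S he) (X.E_S (hg.2.1 e he)) (Or.inl rfl)

theorem sp_inj {g s : G} (hg : g ∈ X.N₁) (hs : s ∈ S) (h : X.sp g s = 1) : s = 1 := by
  have hsq : g * (s * s) * g⁻¹ = 1 := by
    rw [show g * (s * s) * g⁻¹ = g * s * g⁻¹ * (g * s * g⁻¹) by group]
    rcases X.sp_cases g s with e | e <;> rw [e, h]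
    · rw [one_mul]
    · rw [one_mul, X.vv]
  have he := X.typ.mem_E_of_sq hs (conj_eq_one_iff.1 hsq)
  rw [X.sp_E hg he, conj_eq_one_iff] at h
  exact h

/-- The automorphism of `S` induced by an element of `N₁`. -/
noncomputable def al (g : ↥X.N₁) : MulAut ↥S :=
  MulEquiv.ofBijective
    (MonoidHom.mk' (fun s : ↥S => (⟨X.sp g s, X.sp_mem g.2 s.2⟩ : ↥S))
      fun s s' => Subtype.ext (X.sp_mul g.2 s.2 s'.2))
    (((injective_iff_map_eq_one _).2 fun s h =>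
      Subtype.ext (X.sp_inj g.2 s.2 (congrArg Subtype.val h))).bijective_of_nat_card_le le_rfl)

theorem al_apply (g : ↥X.N₁) (s : ↥S) : (X.al g s : G) = X.sp g s := rfl

theorem al_cocycle (g h : ↥X.N₁) (s : ↥S) :
    (((X.al (g * h) s)⁻¹ * X.al g (X.al h s) : ↥S) : G) ∈ E := by
  have hy : (g : G) * v * (g : G)⁻¹ * v ∈ E := g.2.2.2.1
  set y := (g : G) * v * (g : G)⁻¹ * v with hydef
  have hgv : (g : G) * v * (g : G)⁻¹ = y * v := by rw [hydef, X.mul_v_mul_v]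
  show (X.sp (g * h : G) s)⁻¹ * X.sp g (X.sp h s) ∈ E
  have hr := X.sp_mem h.2 s.2
  have hA := X.sp_mem g.2 hr
  rcases X.sp_cases (h : G) s with eh | eh
  · rw [X.sp_unique (mul_mem g.2 h.2) s.2 hA, inv_mul_cancel]
    · exact one_mem _
    · rcases X.sp_cases (g : G) (X.sp h s) with eg | eg
      · exact Or.inl (by rw [← eg, ← eh]; simp [mul_assoc])
      · exact Or.inr (by rw [← eg, ← eh]; simp [mul_assoc])
  · rw [X.sp_unique (mul_mem g.2 h.2) s.2 (mul_mem hA (X.E_S hy)), mul_inv_rev, mul_assoc,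
      inv_mul_cancel, mul_one]
    · exact inv_mem hy
    · have e0 : ((g : G) * (h : G)) * s * ((g : G) * (h : G))⁻¹ =
          (g : G) * X.sp h s * (g : G)⁻¹ * (y * v) := by
        rw [← hgv]
        calc _ = (g : G) * ((h : G) * s * (h : G)⁻¹) * (g : G)⁻¹ := by group
          _ = _ := by rw [eh]; group
      rcases X.sp_cases (g : G) (X.sp h s) with eg | eg
      · exact Or.inr (by rw [e0, eg]; simp [mul_assoc])
      · refine Or.inl ?_
        rw [e0, eg, mul_assoc _ v, ← mul_assoc v y, ← (X.typ.Ev hy).eq, mul_assoc y v v, X.vv, mul_one]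

/-- Trivial on `S / E`. -/
def Triv (_X : C.Cfg3 v a b D E P) (g : G) : Prop :=
  ∀ s ∈ S, s⁻¹ * (g * s * g⁻¹) ∈ E ∨ s⁻¹ * (g * s * g⁻¹) * v ∈ E

theorem triv_sp {g : G} (hg : g ∈ X.N₁) :
    X.Triv g ↔ ∀ s ∈ S, X.co.w (X.sp g s) = X.co.w s := by
  refine forall₂_congr fun s hs => ?_
  rw [eq_comm, X.w_eq hs (X.sp_mem hg hs)]
  constructor
  · rintro (h | h)
    · rwa [X.sp_unique hg hs (r := g * s * g⁻¹) (by
        have := mul_mem hs (X.E_S h); rwa [mul_inv_cancel_left] at this) (Or.inl rfl)]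
    · rwa [X.sp_unique hg hs (r := g * s * g⁻¹ * v) (by
        have := mul_mem hs (X.E_S h); rwa [← mul_assoc, mul_inv_cancel_left] at this)
          (Or.inr X.mul_v_mul_v.symm), ← mul_assoc]
  · intro h
    rcases X.sp_cases g s with e | e <;> rw [e]
    · exact Or.inl h
    · exact Or.inr (by rwa [← mul_assoc, X.mul_v_mul_v])

/-- An element of `N₁` trivial on `S / E` centralises `E`. -/
theorem triv_commute_E {g : G} (hg : g ∈ X.N₁) (h : X.Triv g) {e : G} (he : e ∈ E) :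
    Commute g e := by
  obtain ⟨s, hs, rfl⟩ := X.exists_sqrt he
  have hw := (X.triv_sp hg).1 h s hs
  refine mul_inv_eq_iff_eq_mul.1 ?_
  rw [← X.sp_E hg he, X.sp_mul hg hs hs]
  refine X.co.z_inj (X.sq_mem (X.sp_mem hg hs)) he ?_
  rw [X.co.z_sq _ (X.sp_mem hg hs), X.co.z_sq s hs, hw]

/-- The elements of `N₁` trivial on `S / E`. -/
def M₂ (X : C.Cfg3 v a b D E P) : Subgroup G := subgroupOfClosed {g | g ∈ X.N₁ ∧ X.Triv g}
  ⟨one_mem _, fun s _ => Or.inl (by simp)⟩ (by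
    rintro g h ⟨hg, hgt⟩ ⟨hh, hht⟩
    refine ⟨mul_mem hg hh, (X.triv_sp (mul_mem hg hh)).2 fun s hs => ?_⟩
    have hc : (X.sp (g * h) s)⁻¹ * X.sp g (X.sp h s) ∈ E := X.al_cocycle ⟨g, hg⟩ ⟨h, hh⟩ ⟨s, hs⟩
    rw [(X.w_eq (X.sp_mem (mul_mem hg hh) hs) (X.sp_mem hg (X.sp_mem hh hs))).2 hc,
      (X.triv_sp hg).1 hgt _ (X.sp_mem hh hs), (X.triv_sp hh).1 hht s hs])

theorem mem_M₂ {g : G} : g ∈ X.M₂ ↔ g ∈ X.N₁ ∧ X.Triv g := Iff.rfl

theorem M₂_normal {g x : G} (hg : g ∈ X.N₁) (hx : x ∈ X.M₂) : g * x * g⁻¹ ∈ X.M₂ := by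
  refine ⟨mul_mem (mul_mem hg hx.1) (inv_mem hg), fun s hs => ?_⟩
  have key : ∀ r ∈ X.Sv, r⁻¹ * (x * r * x⁻¹) ∈ E ∨ r⁻¹ * (x * r * x⁻¹) * v ∈ E := by
    have hvx : v * (x * v * x⁻¹) ∈ E := by
      obtain ⟨y, hy, e⟩ := X.typ.shift_eq hx.1.2.2.1
      rw [e, ← mul_assoc, X.vv, one_mul]; exact hy
    have hcomm : ∀ {w : G}, w ∈ E ∨ w * v ∈ E → Commute w v := fun {w} hw => by
      rcases hw with h | h
      · exact X.typ.Ev h
      · have := (X.typ.Ev h).mul_left (Commute.refl v)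
        rwa [X.mul_v_mul_v] at this
    intro r hr
    rcases hr with hr | hr
    · exact hx.2 r hr
    · have h1 := hx.2 _ hr
      have e0 : r⁻¹ * (x * r * x⁻¹) = (r * v)⁻¹ * (x * (r * v) * x⁻¹) * (v * (x * v * x⁻¹)) := by
        calc r⁻¹ * (x * r * x⁻¹) = r⁻¹ * (x * (r * (v * v)) * x⁻¹) := by rw [X.vv, mul_one]
          _ = v * ((r * v)⁻¹ * (x * (r * v) * x⁻¹)) * (x * v * x⁻¹) := by group
          _ = _ := by rw [← (hcomm h1).eq, mul_assoc]
      rw [e0]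
      rcases h1 with h | h
      · exact Or.inl (mul_mem h hvx)
      · refine Or.inr ?_
        rw [mul_assoc _ _ v, (X.typ.Ev hvx).eq, ← mul_assoc]
        exact mul_mem h hvx
  rcases key _ (X.conj_Sv (inv_mem hg) (Or.inl hs)) with h | h
  · refine Or.inl ?_
    have := hg.2.1 _ h
    rwa [show g * ((g⁻¹ * s * g⁻¹⁻¹)⁻¹ * (x * (g⁻¹ * s * g⁻¹⁻¹) * x⁻¹)) * g⁻¹ =
      s⁻¹ * (g * x * g⁻¹ * s * (g * x * g⁻¹)⁻¹) by group] at this
  · refine Or.inr ?_
    obtain ⟨y, hy, e⟩ := X.typ.shift_eq hg.2.2.1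
    have := mul_mem (hg.2.1 _ h) (inv_mem hy)
    rwa [show g * ((g⁻¹ * s * g⁻¹⁻¹)⁻¹ * (x * (g⁻¹ * s * g⁻¹⁻¹) * x⁻¹) * v) * g⁻¹ =
      s⁻¹ * (g * x * g⁻¹ * s * (g * x * g⁻¹)⁻¹) * (g * v * g⁻¹) by group, e, ← mul_assoc _ v y,
      mul_inv_cancel_right] at this

/-- A 2-group in `N₁` is no larger than `T`. -/
theorem card_le_T {W : Subgroup G} (hW : IsPGroup 2 W) (hWN : W ≤ X.N₁) :
    Nat.card W ≤ Nat.card X.T := by
  rw [X.cardT, ← card_conj_sub W v]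
  refine Nat.mul_le_mul ?_ (X.typ.max _ (hW.to_le inf_le_left) fun g hg =>
    ⟨(hWN hg.1).1, mem_centralizer_singleton_iff.1 hg.2⟩)
  refine Nat.card_le_card_of_injective (fun y => (⟨y.1 * v, by
    obtain ⟨g, hg, e⟩ := y.2
    rw [← e]; exact (hWN hg).2.2.1⟩ : ↥E)) fun y y' h => Subtype.ext
      (mul_right_cancel (congrArg Subtype.val h :))

/-- A 2-subgroup of `N₁` is conjugate into `T` there. -/
theorem exists_conj_le_T {W : Subgroup G} (hW : IsPGroup 2 W) (hWN : W ≤ X.N₁) :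
    ∃ m ∈ X.N₁, ∀ w ∈ W, m * w * m⁻¹ ∈ X.T := by
  haveI : Fact (Nat.Prime 2) := ⟨Nat.prime_two⟩
  obtain ⟨R, hR⟩ := (X.two.of_equiv (subgroupOfEquivOfLe X.T_le).symm).exists_le_sylow
  have hRT : (R : Subgroup ↥X.N₁) = X.T.subgroupOf X.N₁ := by
    refine (eq_of_le_of_card_ge hR ?_).symm
    rw [Nat.card_congr (subgroupOfEquivOfLe X.T_le).toEquiv,
      ← card_map_of_injective (K := (R : Subgroup ↥X.N₁)) X.N₁.subtype_injective]
    exact X.card_le_T (R.2.map _) (map_subtype_le _)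
  obtain ⟨R', hR'⟩ := (hW.of_equiv (subgroupOfEquivOfLe hWN).symm).exists_le_sylow
  obtain ⟨m, hm⟩ := MulAction.exists_smul_eq ↥X.N₁ R' R
  refine ⟨m, m.2, fun w hw => ?_⟩
  have h := Subgroup.smul_mem_pointwise_smul _ (MulAut.conj m) _
    (hR' (show (⟨w, hWN hw⟩ : ↥X.N₁) ∈ W.subgroupOf X.N₁ from hw))
  rw [← Sylow.coe_subgroup_smul, hm, hRT] at h
  exact h

/-- A 2-subgroup of a normal subgroup `M` of `N₁` is conjugate in `M` into `T`. -/
theorem exists_conj_T {M : Subgroup G} (hM : M ≤ X.N₁) (hn : ∀ g ∈ X.N₁, ∀ x ∈ M, g * x * g⁻¹ ∈ M)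
    {W : Subgroup G} (hW : IsPGroup 2 W) (hWM : W ≤ M) :
    ∃ g ∈ M, ∀ w ∈ W, g * w * g⁻¹ ∈ X.T ⊓ M := by
  haveI : Fact (Nat.Prime 2) := ⟨Nat.prime_two⟩
  obtain ⟨R, hR⟩ := ((X.two.to_le (inf_le_left : X.T ⊓ M ≤ X.T)).of_equiv
    (subgroupOfEquivOfLe (inf_le_right : X.T ⊓ M ≤ M)).symm).exists_le_sylow
  have hRT : (R : Subgroup ↥M) = (X.T ⊓ M).subgroupOf M := by
    refine (eq_of_le_of_card_ge hR ?_).symm
    rw [Nat.card_congr (subgroupOfEquivOfLe (inf_le_right : X.T ⊓ M ≤ M)).toEquiv,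
      ← card_map_of_injective (K := (R : Subgroup ↥M)) M.subtype_injective]
    obtain ⟨m, hm, hmT⟩ := X.exists_conj_le_T (R.2.map M.subtype) ((map_subtype_le _).trans hM)
    refine Nat.card_le_card_of_injective
      (fun x : ↥((R : Subgroup ↥M).map M.subtype) => (⟨m * x * m⁻¹, mem_inf.2 ⟨hmT _ x.2, ?_⟩⟩ :
        ↥(X.T ⊓ M))) fun x x' h => Subtype.ext (mul_left_cancel (mul_right_cancel (congrArg Subtype.val h :)))
    exact hn m hm _ (map_subtype_le _ x.2)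
  obtain ⟨R', hR'⟩ := (hW.of_equiv (subgroupOfEquivOfLe hWM).symm).exists_le_sylow
  obtain ⟨m, hm⟩ := MulAction.exists_smul_eq ↥M R' R
  refine ⟨m, m.2, fun w hw => ?_⟩
  have h := Subgroup.smul_mem_pointwise_smul _ (MulAut.conj m) _
    (hR' (show (⟨w, hWM hw⟩ : ↥M) ∈ W.subgroupOf M from hw))
  rw [← Sylow.coe_subgroup_smul, hm, hRT] at h
  exact h

/-- **Transitivity**: a normal subgroup of `N₁` centralising `E` with an element of `T` moving `v` moves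
`v` over all of `v E` within `T`. -/
theorem trans_of_normal {M : Subgroup G} (hM : M ≤ X.N₁) (hME : ∀ g ∈ M, ∀ e ∈ E, Commute g e)
    (hn : ∀ g ∈ X.N₁, ∀ x ∈ M, g * x * g⁻¹ ∈ M) (hne : ∃ g ∈ X.T ⊓ M, g * v * g⁻¹ * v ≠ 1) {y : G}
    (hy : y ∈ E) : ∃ g ∈ X.T ⊓ M, g * v * g⁻¹ * v = y := by
  obtain ⟨g₀, hg₀, hg₀1⟩ := hne
  by_cases hy1 : y = 1
  · exact ⟨1, one_mem _, by rw [hy1, one_mul, inv_one, mul_one, X.vv]⟩
  have hg₀M := (mem_inf.1 hg₀).2
  set y₀ := g₀ * v * g₀⁻¹ * v with hy₀def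
  have hy₀ : y₀ ∈ E := (hM hg₀M).2.2.1
  -- carry `y₀` to `y` by a torus element
  have hz₀ : X.co.z y₀ ≠ 0 := fun h => hg₀1 ((X.z_eq_zero hy₀).1 h)
  have hzy : X.co.z y ≠ 0 := fun h => hy1 ((X.z_eq_zero hy).1 h)
  set r := X.co.z y / X.co.z y₀ with hr
  have hrq : r ^ q = r := by rw [hr, div_pow, X.co.z_fix y hy, X.co.z_fix y₀ hy₀]
  obtain ⟨hm, hmr⟩ := X.sqrt_fixed hrq
  have hm0 : r ^ (q / 2) ≠ 0 := pow_ne_zero _ (div_ne_zero hzy hz₀)
  obtain ⟨k, hk, hkw⟩ := X.co.torus _ hm0 hm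
  obtain ⟨m, -, hmw, hmz⟩ := X.co.scalar k hk
  have hme : m = r ^ (q / 2) := by
    obtain ⟨s, hs, hs1⟩ := X.co.w_surj 1
    have h1 := hkw s hs
    rw [hmw s hs, hs1, mul_one, mul_one] at h1
    exact h1
  have hky : k * y₀ * k⁻¹ = y := by
    refine X.co.z_inj ((X.tor_mem hk).2.1 _ hy₀) hy ?_
    rw [hmz y₀ hy₀, hme, hmr, hr, div_mul_cancel₀ _ hz₀]
  set x := k * g₀ * k⁻¹ with hx
  have hxM : x ∈ M := hn k (X.tor_mem hk) g₀ hg₀M
  have hkv : k * v * k⁻¹ = v := C.L_conj_eq hk.1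
  have hxy : x * v * x⁻¹ * v = y := by
    rw [← hky, hy₀def, hx]
    conv_lhs => rw [← hkv]
    group
  have hW : IsPGroup 2 ((Subgroup.zpowers g₀).map (MulAut.conj k).toMonoidHom) :=
    (X.two.to_le (zpowers_le.2 (mem_inf.1 hg₀).1)).map _
  obtain ⟨n, hn', hnx⟩ := X.exists_conj_T hM hn hW (by
    rintro _ ⟨g, hg, rfl⟩
    exact hn k (X.tor_mem hk) g (zpowers_le.2 hg₀M hg))
  refine ⟨n * x * n⁻¹, hnx x ⟨g₀, mem_zpowers g₀, rfl⟩, ?_⟩
  -- `n` changes nothing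
  obtain ⟨z, hz, ez⟩ := X.typ.shift_eq ((inv_mem (hM hn') : n⁻¹ ∈ X.N₁).2.2.1)
  have hxv : x * v * x⁻¹ = v * y := by
    rw [← hxy]
    obtain ⟨w, hw, ew⟩ := X.typ.shift_eq (hM hxM).2.2.1
    rw [ew, mul_assoc v w v, (X.typ.Ev hw).eq, ← mul_assoc v v, X.vv, one_mul]
  have hnv : n * v * n⁻¹ * (n * z * n⁻¹) = v := by
    calc _ = n * (v * z) * n⁻¹ := by group
      _ = n * (n⁻¹ * v * n⁻¹⁻¹) * n⁻¹ := by rw [ez]
      _ = v := by group
  have hn_fix : n * y * n⁻¹ = y := by rw [(hME n hn' y hy).eq, mul_inv_cancel_right]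
  calc n * x * n⁻¹ * v * (n * x * n⁻¹)⁻¹ * v = n * (x * (n⁻¹ * v * n⁻¹⁻¹) * x⁻¹) * n⁻¹ * v := by group
    _ = n * (x * v * x⁻¹ * (x * z * x⁻¹)) * n⁻¹ * v := by rw [ez]; group
    _ = n * (v * y * z) * n⁻¹ * v := by
        rw [hxv, (hME x hxM z hz).eq, mul_inv_cancel_right]
    _ = n * v * n⁻¹ * (n * z * n⁻¹) * (n * y * n⁻¹) * v := by
        rw [mul_assoc v y z, X.typ.isE.commute C hy hz]; group
    _ = y := by rw [hnv, hn_fix, ← (X.typ.Ev hy).eq, X.mul_v_mul_v]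

/-- The part of the translations trivial on `S / E`. -/
def T₂ (X : C.Cfg3 v a b D E P) : Subgroup G := X.T ⊓ X.M₂

theorem T₂_le : X.T₂ ≤ X.T := inf_le_left

theorem T₂_two : IsPGroup 2 X.T₂ := X.two.to_le inf_le_left

theorem comm_E {g : G} (hg : g ∈ X.T₂) {e : G} (he : e ∈ E) : Commute g e :=
  X.triv_commute_E (mem_inf.1 hg).2.1 (mem_inf.1 hg).2.2 he

theorem T₂_normal {g x : G} (hg : g ∈ X.T) (hx : x ∈ X.T₂) : g * x * g⁻¹ ∈ X.T₂ :=
  mem_inf.2 ⟨mul_mem (mul_mem hg (mem_inf.1 hx).1) (inv_mem hg),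
    X.M₂_normal (X.T_le hg) (mem_inf.1 hx).2⟩

theorem S_le_T₂ {s : G} (hs : s ∈ S) : s ∈ X.T₂ :=
  mem_inf.2 ⟨X.le hs.1, X.T_le (X.le hs.1), fun r hr => Or.inl (by
    have h := X.comm_mem (inv_mem hr) hs
    rwa [inv_inv, show r⁻¹ * s * r * s⁻¹ = r⁻¹ * (s * r * s⁻¹) by group] at h)⟩

theorem v_mem_T₂ : v ∈ X.T₂ :=
  mem_inf.2 ⟨X.le X.typ.vP, X.T_le (X.le X.typ.vP), fun r hr => Or.inl (by
    rw [← (X.sv hr).eq, mul_inv_cancel_right, inv_mul_cancel]; exact one_mem _)⟩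

theorem Sv_le_T₂ : X.Sv ≤ X.T₂ := by
  rintro x (h | h)
  · exact X.S_le_T₂ h
  · rw [← X.mul_v_mul_v (x := x)]; exact mul_mem (X.S_le_T₂ h) X.v_mem_T₂

/-- In `T₂` the centraliser of `v` is `S ∪ S v`. -/
theorem mem_Sv_of_commute {x : G} (hx : x ∈ X.T₂) (h : Commute x v) : x ∈ X.Sv := by
  have hxP := X.typ.mem_P X.two X.le (X.T₂_le hx) (X.memT x (X.T₂_le hx)).1 h
  obtain ⟨s, hs, hd⟩ := X.typ.exists_mul hxP
  have hd2 : s⁻¹ * x ∈ X.T₂ := mul_mem (inv_mem (X.S_le_T₂ hs)) hx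
  obtain ⟨hda, hdb, hdv⟩ := X.typ.maxPair.fix _ hd
  have hmod : ∀ r ∈ S, r⁻¹ * (s⁻¹ * x * r * (s⁻¹ * x)⁻¹) ∈ E := fun r hr => by
    have hc : s⁻¹ * x * r * (s⁻¹ * x)⁻¹ ∈ S := X.typ.conj_S (X.typ.le hd) hr
    rcases (mem_inf.1 hd2).2.2 r hr with h | h
    · exact h
    · exact absurd (X.E_S h) (X.Sv_excl (mul_mem (inv_mem hr) hc))
  rcases X.small _ hd (fun p hp => X.typ.kernel_of_trivial (Or.inr X.qn) hda hdb hdv
      (fun e he => X.comm_E hd2 he) hmod hp) with h1 | h1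
  · exact Or.inl (by rwa [← inv_mul_eq_one.1 h1])
  · refine Or.inr ?_
    rw [show x = s * v by rw [← h1, mul_inv_cancel_left], mul_assoc, X.vv, mul_one]
    exact hs

theorem exists_trace {ρ : X.co.K} (hρ : ρ ^ q = ρ) {w₀ : X.co.K} (hw : w₀ ≠ 0) :
    ∃ x : X.co.K, w₀ ^ q * x + w₀ * x ^ q = ρ := by
  haveI := Fintype.ofFinite X.co.K
  obtain ⟨t, ht⟩ := CfsgLib.Unitary.exists_trace_eq X.co.card (μ := ρ) hρ
  refine ⟨t / w₀ ^ q, ?_⟩
  have h2 : (w₀ ^ q) ^ q = w₀ := Forms.pow_q_q X.co.card w₀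
  rw [div_pow, h2, mul_div_cancel₀ _ (pow_ne_zero _ hw), mul_div_cancel₀ _ hw, ht]

/-- **`T₂` moves `v` over all of `v E`.** -/
theorem trans₂ {y : G} (hy : y ∈ E) : ∃ g ∈ X.T₂, g * v * g⁻¹ * v = y := by
  classical
  obtain ⟨c, σ, hc0, hw, hz, hcmul, hinj, -, hrange⟩ := X.co.semi_two ↥X.T X.two
    (fun g => X.al ⟨g, X.T_le g.2⟩) fun g h x => X.al_cocycle ⟨g, X.T_le g.2⟩ ⟨h, X.T_le h.2⟩ x
  have hc1 : c 1 = 1 := by
    have h := hcmul 1 1
    rw [mul_one, map_one] at h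
    exact ((mul_eq_left₀ (hc0 1)).1 h.symm)
  choose g₀ hg₀ hgv₀ using X.trans
  let g : ↥E → ↥X.T := fun e => ⟨g₀ e e.2, hg₀ e e.2⟩
  have hfix : ∀ {e e' : ↥E}, Commute ((g e : G)⁻¹ * g e') v → e = e' := fun {e e'} h => by
    have h1 : (g e' : G) * v * (g e' : G)⁻¹ = (g e : G) * v * (g e : G)⁻¹ := by
      calc (g e' : G) * v * (g e' : G)⁻¹ =
            (g e : G) * (((g e : G)⁻¹ * g e') * v * ((g e : G)⁻¹ * g e')⁻¹) * (g e : G)⁻¹ := by group
        _ = _ := by rw [h.eq, mul_inv_cancel_right]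
    exact Subtype.ext (mul_left_cancel ((hgv₀ e e.2).symm.trans (h1.symm.trans (hgv₀ e' e'.2))))
  have hcomm_of : ∀ {x : G}, ¬ x * v * x⁻¹ * v ≠ 1 → Commute x v := fun {x} hx => by
    rw [not_not, mul_eq_one_iff_eq_inv, inv_eq_of_mul_eq_one_right X.vv] at hx
    exact mul_inv_eq_iff_eq_mul.1 hx
  -- some element centralising `E` moves `v`
  set MC := X.N₁ ⊓ centralizer (E : Set G) with hMC
  have hMCn : ∀ g ∈ X.N₁, ∀ x ∈ MC, g * x * g⁻¹ ∈ MC := fun g hg x hx => mem_inf.2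
    ⟨mul_mem (mul_mem hg (mem_inf.1 hx).1) (inv_mem hg), mem_centralizer_iff.2 fun e he => by
      have h1 := (inv_mem hg : g⁻¹ ∈ X.N₁).2.1 e he
      have h2 := (Commute.conj_iff g).2 ((mem_centralizer_iff.1 (mem_inf.1 hx).2 _ h1) :
        Commute (g⁻¹ * e * g⁻¹⁻¹) x)
      rwa [show g * (g⁻¹ * e * g⁻¹⁻¹) * g⁻¹ = e by group] at h2⟩
  have hME : ∀ g ∈ MC, ∀ e ∈ E, Commute g e := fun g hg e he =>
    (mem_centralizer_iff.1 (mem_inf.1 hg).2 e he).symm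
  have hne₁ : ∃ x ∈ X.T ⊓ MC, x * v * x⁻¹ * v ≠ 1 := by
    by_contra hall
    push Not at hall
    refine absurd (hrange fun e he => X.E_S he) (not_lt.2 ?_)
    refine Nat.card_le_card_of_injective (fun e : ↥E => (⟨_, g e, rfl⟩ : Set.range fun x : ↥X.T =>
      fun e' : ↥E => ((X.al ⟨x, X.T_le x.2⟩ ⟨e', X.E_S e'.2⟩ : ↥S) : G))) fun e e' h =>
        hfix (hcomm_of (not_not.2 (hall _ (mem_inf.2 ⟨mul_mem (inv_mem (g e).2) (g e').2, mem_inf.2
          ⟨mul_mem (inv_mem (X.T_le (g e).2)) (X.T_le (g e').2), mem_centralizer_iff.2 fun x hx => ?_⟩⟩))))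
    have h1 := congrFun (congrArg Subtype.val h) ⟨x, hx⟩
    simp only [X.al_apply] at h1
    rw [X.sp_E (X.T_le (g e).2) hx, X.sp_E (X.T_le (g e').2) hx] at h1
    calc x * ((g e : G)⁻¹ * g e') = (g e : G)⁻¹ * ((g e : G) * x * (g e : G)⁻¹) * g e' := by group
      _ = (g e : G)⁻¹ * ((g e' : G) * x * (g e' : G)⁻¹) * g e' := by rw [h1]
      _ = _ := by group
  -- some element trivial on `S / E` moves `v`
  have hne₂ : ∃ x ∈ X.T ⊓ X.M₂, x * v * x⁻¹ * v ≠ 1 := by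
    by_contra hall
    push Not at hall
    choose x hx hxy using fun e : ↥E => X.trans_of_normal inf_le_left hME hMCn hne₁ e.2
    let k : ↥E → ↥X.T := fun e => ⟨x e, (mem_inf.1 (hx e)).1⟩
    have hσ : ∀ e, ∀ r, r ^ q = r → σ (k e) r = r := by
      intro e
      have h : ∀ r, r ^ q = r → c (k e) ^ (q + 1) * σ (k e) r = r := fun r hr => by
        obtain ⟨y, hy, rfl⟩ := X.co.z_surj r hr
        have h1 := hz (k e) ⟨y, X.E_S hy⟩ hy
        rw [X.al_apply, X.sp_E (X.T_le (k e).2) hy, (hME _ (mem_inf.1 (hx e)).2 y hy).eq,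
          mul_inv_cancel_right] at h1
        exact h1.symm
      have h1 := h 1 (one_pow _)
      rw [map_one, mul_one] at h1
      exact fun r hr => by simpa [h1] using h r hr
    let B : ↥E → Bool := fun e => decide (σ (k e) = 1)
    have hB : Function.Injective B := fun e e' h => by
      have hσσ : σ (k e) = σ (k e') := by
        have hfrob : ∀ e, σ (k e) ≠ 1 → ∀ r, σ (k e) r = r ^ q := fun e hne r => by
          obtain ⟨r₀, hr₀⟩ : ∃ r₀, σ (k e) r₀ ≠ r₀ := by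
            by_contra hh
            push Not at hh
            exact hne (RingEquiv.ext hh)
          have hcase := Recog.RankOneSuzuki.eq_or_eq_frob_of_fix X.co.card (σ (k e)) (hσ e)
          rcases hcase r with h1 | h1
          swap; · exact h1
          rcases hcase (r + r₀) with h2 | h2
          · rw [map_add, h1] at h2
            exact absurd (add_left_cancel h2) hr₀
          · rcases hcase r₀ with h3 | h3
            · exact absurd h3 hr₀
            · rw [map_add, h1, h3, Forms.add_pow_q X.co.card] at h2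
              rw [h1]
              exact add_right_cancel h2
        by_cases h1 : σ (k e) = 1
        · rw [h1, (show σ (k e') = 1 by simpa [B, h1] using h.symm)]
        · exact RingEquiv.ext fun r => by
            rw [hfrob e h1, hfrob e' fun h2 => h1 (by simpa [B, h2] using h)]
      set m := (k e)⁻¹ * k e' with hm
      have hσm : σ m = 1 := by rw [hm, map_mul, map_inv, hσσ, inv_mul_cancel]
      have hmem : (m : G) ∈ X.T ⊓ X.M₂ := mem_inf.2 ⟨m.2, X.T_le m.2,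
        (X.triv_sp (X.T_le m.2)).2 fun r hr => by
          have h1 := hw m ⟨r, hr⟩
          rwa [X.al_apply, hσm, hinj m 1 (by rw [hσm, map_one]), hc1, one_mul] at h1⟩
      have h1 := hcomm_of (not_not.2 (hall _ hmem))
      have hk : ∀ e : ↥E, (k e : G) * v * (k e : G)⁻¹ = (e : G) * v := fun e => by
        rw [← hxy e, X.mul_v_mul_v]
      refine Subtype.ext (mul_right_cancel (b := v) ?_)
      rw [← hk, ← hk]
      calc (k e : G) * v * (k e : G)⁻¹ =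
            (k e : G) * ((m : G) * v * (m : G)⁻¹) * (k e : G)⁻¹ := by
              rw [h1.eq, mul_inv_cancel_right]
        _ = _ := by rw [hm, Subgroup.coe_mul, Subgroup.coe_inv]; group
    have h4 := X.four_le
    have h5 := Nat.card_le_card_of_injective B hB
    rw [Nat.card_eq_fintype_card (α := Bool), Fintype.card_bool] at h5
    omega
  obtain ⟨x, hx, e⟩ := X.trans_of_normal (M := X.M₂) (fun x hx => hx.1)
    (fun x hx e he => X.triv_commute_E hx.1 hx.2 he) (fun g hg x hx => X.M₂_normal hg hx) hne₂ hy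
  exact ⟨x, hx, e⟩

/-- `T = T₂ D`. -/
theorem exists_mul_T {t : G} (ht : t ∈ X.T) : ∃ x ∈ X.T₂, ∃ d ∈ D, x * d = t := by
  obtain ⟨x, hx, e⟩ := X.trans₂ (X.memT t ht).2.2
  have hc : Commute (x⁻¹ * t) v := by
    refine mul_inv_eq_iff_eq_mul.1 ?_
    have e' : t * v * t⁻¹ = x * v * x⁻¹ := mul_right_cancel e.symm
    calc x⁻¹ * t * v * (x⁻¹ * t)⁻¹ = x⁻¹ * (t * v * t⁻¹) * x := by group
      _ = v := by rw [e']; group
  have hxt : x⁻¹ * t ∈ X.T := mul_mem (inv_mem (X.T₂_le hx)) ht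
  obtain ⟨s, hs, hd⟩ := X.typ.exists_mul (X.typ.mem_P X.two X.le hxt (X.memT _ hxt).1 hc)
  exact ⟨x * s, mul_mem hx (X.S_le_T₂ hs), _, hd, by group⟩

/-- `T₂` is of order `2 q ^ 4`. -/
theorem card_Sv : Nat.card X.Sv = 2 * q ^ 3 := by
  classical
  have hS : Nat.card ↥(S) = q ^ 3 := X.typ.card_S.trans X.qn
  rw [← hS, two_mul, ← Nat.card_sum]
  refine (Nat.card_congr (Equiv.ofBijective
    (Sum.elim (fun s : ↥(S) => (⟨(s : G), Or.inl s.2⟩ : ↥X.Sv))
      (fun s : ↥(S) => (⟨(s : G) * v, Or.inr (by rw [X.mul_v_mul_v]; exact s.2)⟩ : ↥X.Sv))) ⟨?_, ?_⟩)).symm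
  · rintro (x | x) (y | y) h <;> have h' := congrArg Subtype.val h <;>
      simp only [Sum.elim_inl, Sum.elim_inr] at h'
    · exact congrArg Sum.inl (Subtype.ext h')
    · exact absurd (h' ▸ x.2) (X.Sv_excl y.2)
    · exact absurd (h' ▸ y.2) (X.Sv_excl x.2)
    · exact congrArg Sum.inr (Subtype.ext (mul_right_cancel h'))
  · rintro ⟨x, hx | hx⟩
    · exact ⟨Sum.inl ⟨x, hx⟩, rfl⟩
    · exact ⟨Sum.inr ⟨x * v, hx⟩, Subtype.ext X.mul_v_mul_v⟩

theorem card_T₂ : Nat.card X.T₂ = 2 * q ^ 4 := by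
  rw [← card_conj_sub X.T₂ v]
  have h1 : Nat.card ↥(X.T₂ ⊓ centralizer {v}) = 2 * q ^ 3 := by
    rw [← X.card_Sv]
    exact congrArg (fun H : Subgroup G => Nat.card H) (le_antisymm
      (fun x hx => X.mem_Sv_of_commute hx.1 (mem_centralizer_singleton_iff.1 hx.2))
      fun x hx => ⟨X.Sv_le_T₂ hx, mem_centralizer_singleton_iff.2 (X.Sv_comm_v hx).eq⟩)
  have h2 : Nat.card {y : G // ∃ g ∈ X.T₂, g * v * g⁻¹ = y} = q := by
    refine Nat.card_congr
      { toFun := fun y => ⟨y.1 * v, by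
          obtain ⟨g, hg, e⟩ := y.2; rw [← e]; exact (X.memT g (X.T₂_le hg)).2.2⟩
        invFun := fun e => ⟨e.1 * v, by
          obtain ⟨g, hg, h⟩ := X.trans₂ e.2
          exact ⟨g, hg, by rw [← h, X.mul_v_mul_v]⟩⟩
        left_inv := fun y => Subtype.ext X.mul_v_mul_v
        right_inv := fun e => Subtype.ext X.mul_v_mul_v }
  change Nat.card {y : G // ∃ g ∈ X.T₂, g * v * g⁻¹ = y} * _ = _
  rw [h1, h2]; ring

theorem sq_and_conj {g : G} (hg : g ∈ X.T₂) :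
    g * g ∈ E ∧ ∀ s ∈ S, s⁻¹ * (g * s * g⁻¹) ∈ E := by
  obtain ⟨hga, hgE, hgv⟩ := X.memT g (X.T₂_le hg)
  obtain ⟨y, hy, ey⟩ := X.typ.shift_eq hgv
  have hgy := X.comm_E hg hy
  have h2v : Commute (g * g) v := by
    refine mul_inv_eq_iff_eq_mul.1 ?_
    calc g * g * v * (g * g)⁻¹ = g * (g * v * g⁻¹) * g⁻¹ := by group
      _ = g * (v * y) * g⁻¹ := by rw [ey]
      _ = (g * v * g⁻¹) * (g * y * g⁻¹) := by group
      _ = v := by rw [ey, hgy.eq, mul_inv_cancel_right, mul_assoc, X.E2 hy, mul_one]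
  have hr := X.mem_Sv_of_commute (mul_mem hg hg) h2v
  obtain ⟨r, hrS, hrg⟩ : ∃ r ∈ S, g * g = r ∨ g * g = r * v := by
    rcases hr with h | h
    · exact ⟨_, h, Or.inl rfl⟩
    · exact ⟨_, h, Or.inr X.mul_v_mul_v.symm⟩
  -- a commutator with the square takes two values
  have hval : ∀ s ∈ S, r * s * r⁻¹ * s⁻¹ = 1 ∨ r * s * r⁻¹ * s⁻¹ = y := by
    intro s hs
    have e1 : g * g * s * (g * g)⁻¹ = r * s * r⁻¹ := by
      rcases hrg with e | e <;> rw [e]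
      calc r * v * s * (r * v)⁻¹ = r * (v * s) * v⁻¹ * r⁻¹ := by group
        _ = _ := by rw [← (X.sv hs).eq]; group
    rcases (mem_inf.1 hg).2.2 s hs with h | h
    · left
      set ε := s⁻¹ * (g * s * g⁻¹) with hε
      have : g * g * s * (g * g)⁻¹ = s * ε * (g * ε * g⁻¹) := by rw [hε]; group
      rw [e1, (X.comm_E hg h).eq, mul_inv_cancel_right, mul_assoc s ε ε, X.E2 h, mul_one] at this
      rw [this, mul_inv_cancel]
    · right
      set ε := s⁻¹ * (g * s * g⁻¹) * v with hε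
      have : g * g * s * (g * g)⁻¹ = s * ε * v⁻¹ * ((g * ε * g⁻¹) * (g * v⁻¹ * g⁻¹)) := by
        rw [hε]; group
      rw [e1, (X.comm_E hg h).eq, mul_inv_cancel_right, inv_eq_of_mul_eq_one_right X.vv, ey,
        show s * ε * v * (ε * (v * y)) = s * ε * (v * ε) * v * y by group,
        ← (X.typ.Ev h).eq, show s * ε * (ε * v) * v * y = s * (ε * ε) * (v * v) * y by group,
        X.E2 h, X.vv, mul_one, mul_one] at this
      rw [this, ← (X.es hy hs).eq, mul_inv_cancel_right]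
  have hrE : r ∈ E := by
    by_contra hrE
    have hw0 : X.co.w r ≠ 0 := fun h => hrE ((X.co.w_E r hrS).1 h)
    obtain ⟨t, ht, ht1, hty⟩ : ∃ t ∈ E, t ≠ 1 ∧ t ≠ y := by
      classical
      haveI := Fintype.ofFinite E
      have h4 := X.four_le
      rw [Nat.card_eq_fintype_card, ← Finset.card_univ] at h4
      obtain ⟨t, -, ht⟩ := Finset.exists_mem_notMem_of_card_lt_card
        (s := ({1, ⟨y, hy⟩} : Finset E)) (t := Finset.univ)
        (lt_of_le_of_lt Finset.card_le_two (by omega))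
      exact ⟨t, t.2, fun e => ht (by simp [Subtype.ext_iff, e]), fun e => ht (by simp [Subtype.ext_iff, e])⟩
    obtain ⟨x, hx⟩ := X.exists_trace (X.co.z_fix t ht) hw0
    obtain ⟨s, hs, rfl⟩ := X.co.w_surj x
    rw [← X.co.z_comm r hrS s hs] at hx
    have e := X.co.z_inj (X.comm_mem hrS hs) ht hx
    rcases hval s hs with h | h <;> rw [e] at h
    exacts [ht1 h, hty h]
  have hsq : g * g ∈ E := by
    rcases hrg with e | e
    · rwa [e]
    exfalso
    have hgv' : Commute g v := by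
      rw [show v = r⁻¹ * (g * g) by rw [e, inv_mul_cancel_left]]
      exact (X.comm_E hg hrE).inv_right.mul_right ((Commute.refl g).mul_right (Commute.refl g))
    refine X.v_not_S ?_
    have hgg : g * g ∈ S := by
      rcases X.mem_Sv_of_commute hg hgv' with h | h
      · exact mul_mem h h
      · rw [show g * g = g * v * (g * v) by
          rw [show g * v * (g * v) = g * (v * g) * v by group, ← hgv'.eq,
            show g * (g * v) * v = g * g * (v * v) by group, X.vv, mul_one]]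
        exact mul_mem h h
    rw [e] at hgg
    have := mul_mem (inv_mem hrS) hgg
    rwa [inv_mul_cancel_left] at this
  refine ⟨hsq, fun s hs => ?_⟩
  rcases (mem_inf.1 hg).2.2 s hs with h | h
  · exact h
  -- then `g` centralises `v`
  set ε := s⁻¹ * (g * s * g⁻¹) * v with hε
  have h1 : g * g * s * (g * g)⁻¹ = s := by
    rw [(X.es hsq hs).eq, mul_inv_cancel_right]
  have h2 : g * g * s * (g * g)⁻¹ = s * ε * v⁻¹ * ((g * ε * g⁻¹) * (g * v⁻¹ * g⁻¹)) := by rw [hε]; group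
  rw [h1, (X.comm_E hg h).eq, mul_inv_cancel_right, inv_eq_of_mul_eq_one_right X.vv, ey,
    show s * ε * v * (ε * (v * y)) = s * ε * (v * ε) * v * y by group,
    ← (X.typ.Ev h).eq, show s * ε * (ε * v) * v * y = s * (ε * ε) * (v * v) * y by group,
    X.E2 h, X.vv, mul_one, mul_one, left_eq_mul] at h2
  have hgv' : Commute g v := mul_inv_eq_iff_eq_mul.1 (by rw [ey, h2, mul_one])
  have hgP := X.typ.mem_P X.two X.le (X.T₂_le hg) hga hgv'
  exact absurd (X.E_S h) (X.Sv_excl (mul_mem (inv_mem hs) (X.typ.conj_S hgP hs)))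

theorem sq_T₂ {g : G} (hg : g ∈ X.T₂) : g * g ∈ E := (X.sq_and_conj hg).1

theorem comm_T₂ {g h : G} (hg : g ∈ X.T₂) (hh : h ∈ X.T₂) : g * h * g⁻¹ * h⁻¹ ∈ E := by
  rw [show g * h * g⁻¹ * h⁻¹ = g * h * (g * h) * (h⁻¹ * (g * g)⁻¹ * h) * (h * h)⁻¹ by group]
  refine mul_mem (mul_mem (X.sq_T₂ (mul_mem hg hh)) ?_) (inv_mem (X.sq_T₂ hh))
  rw [mul_assoc, ← (X.comm_E hh (inv_mem (X.sq_T₂ hg))).eq, inv_mul_cancel_left]
  exact inv_mem (X.sq_T₂ hg)

/-- **`T` normalises `S`.** -/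
theorem conj_S_T {g : G} (hg : g ∈ X.T) {s : G} (hs : s ∈ S) : g * s * g⁻¹ ∈ S := by
  obtain ⟨x, hx, d, hd, rfl⟩ := X.exists_mul_T hg
  have hd' := X.typ.conj_S (X.typ.le hd) hs
  have h := mul_mem hd' (X.E_S ((X.sq_and_conj hx).2 _ hd'))
  rw [mul_inv_cancel_left] at h
  simpa [mul_assoc] using h

end Cfg3

end Ctx

end CfsgLib.Criterion
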