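import Cfsg.Agent.Criterion.TypeU3Def
import Cfsg.Agent.Criterion.TypeReduce

/-!
# The strong embedding criterion: the translations for `Q = q ^ 3`

`T` is a largest 2-group moving `v` over `v E`.  It carries `S = P ⊓ L_v` into `S ∪ S v` and acts
semilinearly on `S / E`; the part `T₂` acting trivially there centralises `E`, normalises `S`, has all
squares in `E` and moves `v` over all of `v E`.
-/

set_option autoImplicit false
set_option linter.style.haveILetI false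
set_option linter.unusedSectionVars false

namespace CfsgLib.Criterion

open Subgroup CfsgLib.Invol CfsgLib.Bender

universe u

variable {G : Type u} [Group G] [Finite G]

/-- A multiplicatively closed subset of a finite group containing `1` as a subgroup. -/
def subgroupOfClosed (M : Set G) (h1 : (1 : G) ∈ M) (hmul : ∀ {g h : G}, g ∈ M → h ∈ M → g * h ∈ M) :
    Subgroup G where
  carrier := M
  one_mem' := h1
  mul_mem' := hmul
  inv_mem' := fun {g} hg => by
    let M' : Submonoid G := ⟨⟨M, hmul⟩, h1⟩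
    exact (Submonoid.powers_le.2 (show g ∈ M' from hg)) (mem_powers_iff_mem_zpowers.2 (inv_mem (mem_zpowers g)))

theorem mem_subgroupOfClosed {M : Set G} {h1 : (1 : G) ∈ M}
    {hmul : ∀ {g h : G}, g ∈ M → h ∈ M → g * h ∈ M} {g : G} :
    g ∈ subgroupOfClosed M h1 hmul ↔ g ∈ M := Iff.rfl

/-- In a finite field `x ↦ c x ^ q` fixes at most `q` elements. -/
theorem card_twist_fixed_le {K : Type*} [Field K] [Finite K] (c : K) {q : ℕ} (hq : 2 ≤ q) :
    Nat.card {x : K // c * x ^ q = x} ≤ q := by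
  classical
  haveI := Fintype.ofFinite K
  set p : Polynomial K := Polynomial.C c * Polynomial.X ^ q - Polynomial.X with hp
  have hne : p ≠ 0 := by
    intro h
    have h1 := congrArg (fun r => Polynomial.coeff r 1) h
    simp [hp, Polynomial.coeff_X_pow, show (1 : ℕ) ≠ q by omega] at h1
  have hdeg : p.natDegree ≤ q :=
    (Polynomial.natDegree_sub_le _ _).trans (max_le ((Polynomial.natDegree_C_mul_le _ _).trans
      (by rw [Polynomial.natDegree_X_pow])) (by rw [Polynomial.natDegree_X]; omega))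
  calc Nat.card {x : K // c * x ^ q = x} ≤ p.roots.toFinset.card := by
        rw [Nat.card_eq_fintype_card, Fintype.card_subtype]
        refine Finset.card_le_card fun x hx => ?_
        rw [Multiset.mem_toFinset, Polynomial.mem_roots hne]
        simp [hp, sub_eq_zero, (Finset.mem_filter.1 hx).2]
    _ ≤ p.roots.card := Multiset.toFinset_card_le _
    _ ≤ p.natDegree := Polynomial.card_roots' p
    _ ≤ q := hdeg

namespace Ctx

variable (C : Ctx G)

/-- The configuration for `Q = q ^ 3` and kernel `⟨v⟩`. -/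
structure Cfg3 (v : G) (a b : C.Pt) (D E P : Subgroup G) where
  typ : C.Typ v a b D E P
  qn : C.qn v a = Nat.card E ^ 3
  small : ∀ g ∈ D, (∀ c : C.Pt, v • c = c → g • c = c) → g = 1 ∨ g = v
  /-- The coordinates. -/
  co : C.Coord3 v a b E (P ⊓ C.L v)
  /-- The translations. -/
  T : Subgroup G
  two : IsPGroup 2 T
  le : P ≤ T
  memT : ∀ g ∈ T, g • a = a ∧ (∀ e ∈ E, g * e * g⁻¹ ∈ E) ∧ g * v * g⁻¹ * v ∈ E
  trans : ∀ y ∈ E, ∃ g ∈ T, g * v * g⁻¹ = v * y
  cardT : Nat.card T = Nat.card E * Nat.card P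

namespace Cfg3

variable {C} {v : G} {a b : C.Pt} {D E P : Subgroup G} (X : C.Cfg3 v a b D E P)

local notation "S" => P ⊓ C.L v
local notation "q" => Nat.card E

include X

theorem four_le : 4 ≤ q := by
  obtain ⟨Md⟩ := X.typ.exists_model
  exact Md.card_Z ▸ Md.S.four_le

theorem E2 {e : G} (he : e ∈ E) : e * e = 1 := X.typ.isE.mul_self C he

theorem Einv {e : G} (he : e ∈ E) : e⁻¹ = e := inv_eq_of_mul_eq_one_right (X.E2 he)

theorem vv : v * v = 1 := X.typ.vv

theorem sv {s : G} (hs : s ∈ S) : Commute s v := (X.typ.fix s (mem_inf.1 hs).1).2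

theorem es {e s : G} (he : e ∈ E) (hs : s ∈ S) : Commute e s := X.typ.commute_E hs he

theorem E_S {e : G} (he : e ∈ E) : e ∈ S := X.typ.E_le_S he

theorem v_not_S : v ∉ S := fun h => X.typ.v_not_E (X.typ.mem_E_of_sq h X.vv)

theorem Sv_excl {x : G} (h : x ∈ S) : x * v ∉ S := fun h' => X.v_not_S (by
  have := mul_mem (inv_mem h) h'
  rwa [inv_mul_cancel_left] at this)

theorem comm_mem {s s' : G} (hs : s ∈ S) (hs' : s' ∈ S) : s * s' * s⁻¹ * s'⁻¹ ∈ E :=
  (X.typ.sq_mem_E (Or.inr X.qn) hs hs').2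

theorem sq_mem {s : G} (hs : s ∈ S) : s * s ∈ E := (X.typ.sq_mem_E (Or.inr X.qn) hs hs).1

theorem w_one : X.co.w 1 = 0 := (X.co.w_E 1 (one_mem _)).2 (one_mem _)

theorem w_eq {x y : G} (hx : x ∈ S) (hy : y ∈ S) : X.co.w x = X.co.w y ↔ x⁻¹ * y ∈ E := by
  have h := X.co.w_mul _ hx _ (mul_mem (inv_mem hx) hy)
  rw [mul_inv_cancel_left] at h
  rw [← X.co.w_E _ (mul_mem (inv_mem hx) hy), h, left_eq_add]

theorem z_one : X.co.z 1 = 0 := by
  have h := X.co.z_mul 1 (one_mem _) 1 (one_mem _)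
  rw [one_mul, left_eq_add] at h
  exact h

theorem z_eq_zero {e : G} (he : e ∈ E) : X.co.z e = 0 ↔ e = 1 :=
  ⟨fun h => X.co.z_inj he (one_mem _) (h.trans X.z_one.symm), fun h => by rw [h, X.z_one]⟩

theorem sqrt_fixed {r : X.co.K} (hr : r ^ q = r) : (r ^ (q / 2)) ^ q = r ^ (q / 2) ∧
    (r ^ (q / 2)) ^ (q + 1) = r := by
  obtain ⟨k, hk⟩ := IsPGroup.iff_card.1 (X.typ.isE.isPGroup C)
  have h4 := X.four_le
  have he : 2 * (q / 2) = q := by
    rcases k with _ | k
    · rw [pow_zero] at hk; omega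
    · rw [hk, pow_succ]; omega
  have hfix : (r ^ (q / 2)) ^ q = r ^ (q / 2) := by rw [← pow_mul, mul_comm, pow_mul, hr]
  refine ⟨hfix, ?_⟩
  rw [pow_succ, hfix, ← pow_add, ← two_mul, he, hr]

/-- Every element of `E` is a square in `S`. -/
theorem exists_sqrt {e : G} (he : e ∈ E) : ∃ s ∈ S, s * s = e := by
  obtain ⟨s, hs, hw⟩ := X.co.w_surj (X.co.z e ^ (q / 2))
  refine ⟨s, hs, X.co.z_inj (X.sq_mem hs) he ?_⟩
  rw [X.co.z_sq s hs, hw, (X.sqrt_fixed (X.co.z_fix e he)).2]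

/-! ### The action on `S` -/

theorem conj_mem_P {g : G} (hg : g ∈ X.T) {s : G} (hs : s ∈ S) :
    g * s * g⁻¹ ∈ P ∧ ∀ e ∈ E, Commute (g * s * g⁻¹) e := by
  obtain ⟨hga, hgE, hgv⟩ := X.memT g hg
  have hsT : g * s * g⁻¹ ∈ X.T := mul_mem (mul_mem hg (X.le (mem_inf.1 hs).1)) (inv_mem hg)
  have hE : ∀ e ∈ E, Commute (g * s * g⁻¹) e := fun e he => by
    have h := (Commute.conj_iff g).2 (X.es ((X.memT _ (inv_mem hg)).2.1 e he) hs).symm
    rwa [show g * (g⁻¹ * e * g⁻¹⁻¹) * g⁻¹ = e by group] at h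
  refine ⟨X.typ.mem_P X.two X.le hsT ?_ ?_, hE⟩
  · rw [mul_smul, mul_smul, inv_smul_eq_iff.2 hga.symm, (X.typ.fix s (mem_inf.1 hs).1).1, hga]
  · obtain ⟨y, hy, e⟩ := X.typ.shift_eq hgv
    have h := (Commute.conj_iff g).2 (X.sv hs)
    rw [e] at h
    have h2 := h.mul_right (hE y hy)
    rwa [mul_assoc v y y, X.E2 hy, mul_one] at h2

/-- Conjugation by `P` on `S`. -/
def conjP (g : ↥P) : MulAut ↥S :=
  (MulAut.conj (g : G)).subgroupMap S |>.trans (MulEquiv.subgroupCongr (eq_of_le_of_card_ge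
    (by rintro _ ⟨s, hs, rfl⟩; exact X.typ.conj_S g.2 hs)
    (card_map_of_injective (MulAut.conj (g : G)).injective).ge))

theorem conjP_apply (g : ↥P) (s : ↥S) : (X.conjP g s : G) = g * s * (g : G)⁻¹ := rfl

theorem two_le : 2 ≤ q := le_trans (by norm_num) X.four_le

/-- **`T` carries `S` into `S ∪ S v`.** -/
theorem mem_Sv {g : G} (hg : g ∈ X.T) {s : G} (hs : s ∈ S) :
    g * s * g⁻¹ ∈ S ∨ g * s * g⁻¹ * v ∈ S := by
  classical
  obtain ⟨c, σ, hc0, hw, hz, hcmul, hinj, -, -⟩ := X.co.semi_two ↥P X.typ.two X.conjP fun x y r => by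
    rw [show X.conjP (x * y) r = X.conjP x (X.conjP y r) from
      Subtype.ext (by simp only [X.conjP_apply, Subgroup.coe_mul]; group), inv_mul_cancel]
    exact one_mem _
  have hc1 : c 1 = 1 := by
    have h := hcmul 1 1
    rw [mul_one, map_one] at h
    exact ((mul_eq_left₀ (hc0 1)).1 h.symm)
  -- elements of `S` and of `⟨v⟩` act trivially modulo `E`
  have htriv : ∀ x : ↥P, (∀ r : ↥S, X.co.w (X.conjP x r) = X.co.w r) → σ x = 1 := fun x hx => by
    refine RingEquiv.ext fun e => ?_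
    have h : ∀ e, c x * σ x e = e := fun e => by
      obtain ⟨r, hr, rfl⟩ := X.co.w_surj e
      rw [← hw x ⟨r, hr⟩, hx]
    have h1 := h 1
    rw [map_one, mul_one] at h1
    simpa [h1] using h e
  -- the elements centralising `E` with trivial automorphism are those of `S ∪ S v`
  have hone : ∀ x : ↥P, σ x = 1 → (∀ e ∈ E, Commute (x : G) e) → (x : G) ∈ S ∨ (x : G) * v ∈ S := by
    intro x hx hxE
    obtain ⟨r, hr, hd⟩ := X.typ.exists_mul x.2
    have hrσ : σ ⟨r, (mem_inf.1 hr).1⟩ = 1 := htriv _ fun r' => by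
      refine ((X.w_eq r'.2 (X.conjP _ r').2).2 ?_).symm
      rw [X.conjP_apply]
      have h := X.comm_mem (inv_mem r'.2) hr
      simpa [mul_assoc] using h
    have hdσ : σ ⟨r⁻¹ * x, mul_mem (inv_mem (mem_inf.1 hr).1) x.2⟩ = 1 := by
      rw [show (⟨r⁻¹ * x, mul_mem (inv_mem (mem_inf.1 hr).1) x.2⟩ : ↥P) =
        (⟨r, (mem_inf.1 hr).1⟩ : ↥P)⁻¹ * x from rfl, map_mul, map_inv, hrσ, hx, inv_one, one_mul]
    obtain ⟨hda, hdb, hdv⟩ := X.typ.maxPair.fix _ hd
    have hdE : ∀ e ∈ E, Commute (r⁻¹ * x) e := fun e he =>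
      ((X.es he hr).symm.inv_left).mul_left (hxE e he)
    have hdmod : ∀ r' ∈ S, r'⁻¹ * (r⁻¹ * x * r' * (r⁻¹ * x)⁻¹) ∈ E := fun r' hr' => by
      set d : ↥P := ⟨r⁻¹ * x, mul_mem (inv_mem (mem_inf.1 hr).1) x.2⟩
      have h1 : X.co.w (X.conjP d ⟨r', hr'⟩) = X.co.w r' := by
        rw [hw, hdσ, hinj d 1 (by rw [hdσ, map_one]), hc1, one_mul]
        rfl
      exact (X.w_eq hr' (X.conjP d ⟨r', hr'⟩).2).1 h1.symm
    rcases X.small _ hd (fun p hp => X.typ.kernel_of_trivial (Or.inr X.qn) hda hdb hdv hdE hdmod hp)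
      with h | h
    · exact Or.inl (by rwa [← inv_mul_eq_one.1 h])
    · refine Or.inr ?_
      rw [show (x : G) = r * v by rw [← h, mul_inv_cancel_left], mul_assoc, X.vv, mul_one]
      exact hr
  obtain ⟨hxP, hxE⟩ := X.conj_mem_P hg hs
  set x : ↥P := ⟨g * s * g⁻¹, hxP⟩
  by_cases hσx : σ x = 1
  · exact hone x hσx hxE
  exfalso
  -- on the fixed field of `E` it is trivial
  have hfixE : ∀ (y : ↥P), (∀ e ∈ E, Commute (y : G) e) →
      c y ^ (q + 1) = 1 ∧ ∀ k, k ^ q = k → σ y k = k := by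
    intro y hy
    have h : ∀ k, k ^ q = k → c y ^ (q + 1) * σ y k = k := fun k hk => by
      obtain ⟨e, he, rfl⟩ := X.co.z_surj k hk
      have := hz y ⟨e, X.E_S he⟩ he
      rw [X.conjP_apply, (hy e he).eq, mul_inv_cancel_right] at this
      exact this.symm
    have h1 := h 1 (one_pow _)
    rw [map_one, mul_one] at h1
    exact ⟨h1, fun k hk => by simpa [h1] using h k hk⟩
  have hfrob : ∀ (y : ↥P), (∀ e ∈ E, Commute (y : G) e) → σ y ≠ 1 → ∀ k, σ y k = k ^ q := by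
    intro y hy hne
    obtain ⟨-, hf⟩ := hfixE y hy
    obtain ⟨k₀, hk₀⟩ : ∃ k₀, σ y k₀ ≠ k₀ := by
      by_contra h
      push Not at h
      exact hne (RingEquiv.ext h)
    intro k
    rcases Recog.RankOneSuzuki.eq_or_eq_frob_of_fix X.co.card (σ y) hf k with h | h
    swap; · exact h
    -- `k` is then fixed by the other root
    rcases Recog.RankOneSuzuki.eq_or_eq_frob_of_fix X.co.card (σ y) hf (k + k₀) with h' | h'
    · rw [map_add, h] at h'
      exact absurd (add_left_cancel h') hk₀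
    · rcases Recog.RankOneSuzuki.eq_or_eq_frob_of_fix X.co.card (σ y) hf k₀ with h'' | h''
      · exact absurd h'' hk₀
      · rw [map_add, h, h'', Forms.add_pow_q X.co.card] at h'
        rw [h]
        exact add_right_cancel h'
  -- the image of `S`
  set S' := (S).map (MulAut.conj g).toMonoidHom with hS'
  have hS'P : ∀ y ∈ S', y ∈ P ∧ ∀ e ∈ E, Commute y e := by
    rintro _ ⟨r, hr, rfl⟩; exact X.conj_mem_P hg hr
  let ι : ↥S' →* ↥P := Subgroup.inclusion fun y hy => (hS'P y hy).1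
  set S₀ := (σ.comp ι).ker with hS₀
  have hSv : ∀ y : ↥S₀, ((y : ↥S') : G) ∈ S ∨ ((y : ↥S') : G) * v ∈ S := fun y =>
    hone (ι y) y.2 (hS'P _ (y : ↥S').2).2
  let pt : ↥S₀ → G := fun y => if ((y : ↥S') : G) ∈ S then ((y : ↥S') : G) else ((y : ↥S') : G) * v
  have hpt : ∀ y, pt y ∈ S := fun y => by
    simp only [pt]; split_ifs with h
    · exact h
    · exact (hSv y).resolve_left h
  have hinvol : ∀ {y : G}, y ∈ S' → y * y = 1 → y ∈ E := fun {y} hyS hy2 => by
    obtain ⟨r, hr, rfl⟩ := hyS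
    refine (X.memT g hg).2.1 r (X.typ.mem_E_of_sq hr ((MulAut.conj g).injective ?_))
    rw [map_one, map_mul]
    exact hy2
  have hrep : ∀ y : ↥S₀, ∃ u ∈ Subgroup.zpowers v, ((y : ↥S') : G) = pt y * u := fun y => by
    simp only [pt]; split_ifs with h
    · exact ⟨1, one_mem _, (mul_one _).symm⟩
    · exact ⟨v, mem_zpowers v, by rw [mul_assoc, X.vv, mul_one]⟩
  have hzv : ∀ {u : G}, u ∈ Subgroup.zpowers v → u * u = 1 ∧ ∀ e, Commute e v → Commute e u := by
    intro u hu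
    obtain ⟨i, rfl⟩ := mem_zpowers_iff.1 hu
    exact ⟨by rw [← (Commute.refl v).mul_zpow, X.vv, one_zpow], fun e he => he.zpow_right i⟩
  -- they lie over the fixed points of the twist
  have hmem : ∀ y : ↥S₀, c x * X.co.w (pt y) ^ q = X.co.w (pt y) := fun y => by
    rw [← hfrob x hxE hσx, ← hw x ⟨pt y, hpt y⟩]
    refine ((X.w_eq (hpt y) (X.conjP x ⟨pt y, hpt y⟩).2).2 ?_).symm
    rw [X.conjP_apply]
    show (pt y)⁻¹ * ((g * s * g⁻¹) * pt y * (g * s * g⁻¹)⁻¹) ∈ E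
    have hcomm : ((y : ↥S') : G)⁻¹ * ((g * s * g⁻¹) * ((y : ↥S') : G) * (g * s * g⁻¹)⁻¹) ∈ E := by
      obtain ⟨r, hr, e⟩ := (y : ↥S').2
      rw [← e, show (MulAut.conj g).toMonoidHom r = g * r * g⁻¹ from rfl,
        show (g * r * g⁻¹)⁻¹ * (g * s * g⁻¹ * (g * r * g⁻¹) * (g * s * g⁻¹)⁻¹) =
          g * (r⁻¹ * s * r⁻¹⁻¹ * s⁻¹) * g⁻¹ by group]
      exact (X.memT g hg).2.1 _ (X.comm_mem (inv_mem hr) hs)
    simp only [pt]; split_ifs with h
    · exact hcomm
    · have hv : (g * s * g⁻¹) * v * (g * s * g⁻¹)⁻¹ = v :=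
        mul_inv_eq_iff_eq_mul.2 (X.typ.fix _ hxP).2.eq
      have key : (((y : ↥S') : G) * v)⁻¹ * ((g * s * g⁻¹) * (((y : ↥S') : G) * v) * (g * s * g⁻¹)⁻¹) =
          ((y : ↥S') : G)⁻¹ * ((g * s * g⁻¹) * ((y : ↥S') : G) * (g * s * g⁻¹)⁻¹) :=
        calc _ = (((y : ↥S') : G) * v)⁻¹ * ((g * s * g⁻¹) * ((y : ↥S') : G) * (g * s * g⁻¹)⁻¹ *
              ((g * s * g⁻¹) * v * (g * s * g⁻¹)⁻¹)) := by group
          _ = v⁻¹ * (((y : ↥S') : G)⁻¹ * ((g * s * g⁻¹) * ((y : ↥S') : G) * (g * s * g⁻¹)⁻¹)) * v := by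
              rw [hv]; group
          _ = _ := by rw [mul_assoc, (X.typ.Ev hcomm).eq, inv_mul_cancel_left]
      rw [key]; exact hcomm
  have hS₀card : Nat.card ↥S₀ ≤ q * q := by
    let f : ↥S₀ → {k : X.co.K // c x * k ^ q = k} := fun y => ⟨X.co.w (pt y), hmem y⟩
    refine le_trans ?_ (Nat.mul_le_mul_left q (card_twist_fixed_le (c x) X.two_le))
    haveI := Fintype.ofFinite ↥S₀
    haveI := Fintype.ofFinite {k : X.co.K // c x * k ^ q = k}
    rw [Nat.card_eq_fintype_card (α := ↥S₀), Nat.card_eq_fintype_card (α := {k : X.co.K // c x * k ^ q = k}),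
      ← Finset.card_univ, ← Finset.card_univ]
    refine (Finset.card_le_mul_card_image (f := f) Finset.univ q fun k _ => ?_).trans
      (Nat.mul_le_mul_left _ (Finset.card_le_univ _))
    rw [← Fintype.card_subtype, ← Nat.card_eq_fintype_card]
    by_cases hne : Nonempty {y : ↥S₀ // f y = k}
    swap
    · haveI := not_nonempty_iff.1 hne; simp
    obtain ⟨y₀, hy₀⟩ := hne
    refine Nat.card_le_card_of_injective (fun y : {y : ↥S₀ // f y = k} =>
      (⟨((y₀ : ↥S') : G)⁻¹ * ((y.1 : ↥S') : G), ?_⟩ : ↥E)) fun y y' h =>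
        Subtype.ext (Subtype.ext (Subtype.ext (mul_left_cancel (congrArg Subtype.val h))))
    have hE : (pt y₀)⁻¹ * pt y.1 ∈ E :=
      (X.w_eq (hpt _) (hpt _)).1 (congrArg Subtype.val (hy₀.trans y.2.symm))
    obtain ⟨u, hu, eu⟩ := hrep y₀
    obtain ⟨u', hu', eu'⟩ := hrep y.1
    refine hinvol (mul_mem (inv_mem (y₀ : ↥S').2) (y.1 : ↥S').2) ?_
    have hcv : ∀ {r : G}, r ∈ S → Commute r u⁻¹ := fun hr => ((hzv hu).2 _ (X.sv hr)).inv_right
    rw [eu, eu', show (pt y₀ * u)⁻¹ * (pt y.1 * u') = (u⁻¹ * ((pt y₀)⁻¹ * pt y.1)) * u' by group,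
      ← (hcv (X.E_S hE)).eq, mul_assoc _ u⁻¹ u']
    have huu : u⁻¹ * u' ∈ Subgroup.zpowers v := mul_mem (inv_mem hu) hu'
    rw [((hzv huu).2 _ (X.typ.Ev hE)).symm.mul_mul_mul_comm, X.E2 hE, (hzv huu).1, one_mul]
  have hindex : S₀.index ≤ 2 := by
    rw [hS₀, Subgroup.index_ker]
    have h2 : ∀ y : ↥S', σ (ι y) = 1 ∨ σ (ι y) = σ x := fun y => by
      by_cases h : σ (ι y) = 1
      · exact Or.inl h
      · exact Or.inr (RingEquiv.ext fun k => by
          rw [hfrob _ (hS'P y y.2).2 h, hfrob x hxE hσx])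
    haveI := Fintype.ofFinite (σ.comp ι).range
    refine (Nat.card_le_card_of_surjective (fun i : Fin 2 =>
      (if i = 0 then (1 : (σ.comp ι).range) else ⟨σ x, ⟨⟨g * s * g⁻¹, ⟨s, hs, rfl⟩⟩, rfl⟩⟩)) ?_).trans
        (by simp)
    rintro ⟨_, y, rfl⟩
    rcases h2 y with h | h
    · exact ⟨0, Subtype.ext (by simp [h])⟩
    · exact ⟨1, Subtype.ext (by simp [h])⟩
  have hbig : q ^ 3 ≤ 2 * (q * q) := by
    rw [← X.qn, ← X.typ.card_S,
      show Nat.card ↥(S) = Nat.card ↥S' from (card_map_of_injective (MulAut.conj g).injective).symm,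
      ← S₀.index_mul_card]
    exact Nat.mul_le_mul hindex hS₀card
  have := X.four_le
  nlinarith [Nat.mul_le_mul_left (q * q) this]

end Cfg3

end Ctx

end CfsgLib.Criterion
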