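import Cfsg.Agent.Criterion.TypeU3ExtM

/-!
# The strong embedding criterion: carriers in the second layer

A carrier takes `P` onto the centraliser in `T₁` of a conjugate `u` of `v`.  The part of that centraliser
in `M` comes from a complement of `v` in `S ∪ S v` and its other elements lie over all of `D`; if `u` is
outside `S W ⟨v⟩` it centralises `R` and the squares of `W` are not the shifts.
-/

set_option autoImplicit false
set_option linter.style.haveILetI false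
set_option linter.unusedSectionVars false

namespace CfsgLib.Criterion

open Subgroup CfsgLib.Invol CfsgLib.Bender

universe u

variable {G : Type u} [Group G] [Finite G]

namespace Ctx.Ext3

variable {C : Ctx G} {v : G} {a b : C.Pt} {D E P : Subgroup G} (X : C.Ext3 v a b D E P)

local notation "S" => P ⊓ C.L v
local notation "q" => Nat.card E

/-- `g` carries `P` onto the centraliser of `u` in `T₁` and keeps `E`. -/
structure Car (g u : G) : Prop where
  ga : g • a = a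
  gv : g * v * g⁻¹ = u
  to_T₁ : ∀ p ∈ P, g * p * g⁻¹ ∈ X.T₁
  back : ∀ t ∈ X.T₁, Commute t u → g⁻¹ * t * g ∈ P
  gE : ∀ e ∈ E, g * e * g⁻¹ ∈ E
  gE' : ∀ e ∈ E, g⁻¹ * e * g ∈ E

include X

theorem Car.mem {g u : G} (h : X.Car g u) : u ∈ X.T₁ := h.gv ▸ h.to_T₁ v X.typ.vP

theorem Car.sq {g u : G} (h : X.Car g u) : u * u = 1 := by
  rw [← h.gv, show g * v * g⁻¹ * (g * v * g⁻¹) = g * (v * v) * g⁻¹ by group, X.vv, mul_one,
    mul_inv_cancel]

theorem Car.not_M {g u : G} (h : X.Car g u) : u ∉ X.M := h.gv ▸ X.conj_not_M g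

theorem Car.to_cent {g u : G} (h : X.Car g u) {p : G} (hp : p ∈ P) : Commute (g * p * g⁻¹) u := by
  rw [← h.gv]; exact (Commute.conj_iff g).2 (X.typ.fix p hp).2

/-- The part in `M` comes from a complement of `v` in `S ∪ S v`; the centraliser lies over all of
`D`. -/
theorem Car.structure_M {g u : G} (h : X.Car g u) :
    (∀ k ∈ X.M, Commute k u → g⁻¹ * k * g ∈ S ∨ g⁻¹ * k * g * v ∈ S) ∧
    (∀ s ∈ S, ∃ k ∈ X.M, Commute k u ∧ (g⁻¹ * k * g = s ∨ g⁻¹ * k * g = s * v)) ∧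
    Nat.card ↥(X.M ⊓ centralizer ({u} : Set G)) = q ^ 3 ∧
    ∀ d ∈ D, ∃ k ∈ X.M, Commute (k * d) u := by
  classical
  set Y₀ := X.M ⊓ centralizer ({u} : Set G) with hY₀
  have hY₀c : ∀ k ∈ Y₀, Commute k u := fun k hk => mem_centralizer_singleton_iff.1 (mem_inf.1 hk).2
  set Z := X.T₁ ⊓ centralizer ({u} : Set G) with hZdef
  have hZ : Nat.card Z = Nat.card P := by
    refine Nat.card_congr
      { toFun := fun t => ⟨g⁻¹ * t * g, h.back t (mem_inf.1 t.2).1
          (mem_centralizer_singleton_iff.1 (mem_inf.1 t.2).2)⟩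
        invFun := fun p => ⟨g * p * g⁻¹, mem_inf.2 ⟨h.to_T₁ p p.2,
          mem_centralizer_singleton_iff.2 (Car.to_cent X h p.2).eq⟩⟩
        left_inv := fun t => Subtype.ext (show g * (g⁻¹ * t * g) * g⁻¹ = t by group)
        right_inv := fun p => Subtype.ext (show g⁻¹ * (g * p * g⁻¹) * g = p by group) }
  -- the part in `D`
  choose mm hmm dd hdd hmd using fun t : ↥Z => X.exists_md (mem_inf.1 t.2).1
  let f : ↥Z → ↥D := fun t => ⟨dd t, hdd t⟩
  haveI := Fintype.ofFinite ↥Z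
  haveI := Fintype.ofFinite ↥D
  have hfib : ∀ d : ↥D, (Finset.univ.filter fun t => f t = d).card ≤ Nat.card Y₀ := by
    intro d
    rcases (Finset.univ.filter fun t => f t = d).eq_empty_or_nonempty with he | ⟨t₁, ht₁⟩
    · rw [he, Finset.card_empty]; exact Nat.zero_le _
    rw [← Fintype.card_subtype, ← Nat.card_eq_fintype_card]
    refine Nat.card_le_card_of_injective (fun t : {t : ↥Z // f t = d} =>
      (⟨(t.1 : G) * (t₁ : G)⁻¹, mem_inf.2 ⟨?_, ?_⟩⟩ : ↥Y₀))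
      fun t t' e => Subtype.ext (Subtype.ext (mul_right_cancel (congrArg Subtype.val e :)))
    · have hd : dd t.1 = dd t₁ :=
        congrArg Subtype.val (t.2.trans (Finset.mem_filter.1 ht₁).2.symm)
      rw [hmd t.1, hmd t₁, hd, mul_inv_rev, ← mul_assoc, mul_inv_cancel_right]
      exact mul_mem (hmm _) (inv_mem (hmm _))
    · exact mul_mem (mem_inf.1 t.1.2).2 (inv_mem (mem_inf.1 t₁.2).2)
  have hcard : Nat.card Z ≤ (Finset.univ.image f).card * Nat.card Y₀ := by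
    rw [Nat.card_eq_fintype_card, ← Finset.card_univ, mul_comm]
    exact Finset.card_le_mul_card_image _ _ fun d _ => hfib d
  rw [hZ, X.typ.card_P, X.qn] at hcard
  have himg : (Finset.univ.image f).card ≤ Nat.card D := by
    rw [Nat.card_eq_fintype_card]; exact Finset.card_le_univ _
  have hD0 : 0 < Nat.card D := Nat.card_pos
  have hY3 : q ^ 3 ≤ Nat.card Y₀ := by
    refine Nat.le_of_mul_le_mul_left ?_ hD0
    calc Nat.card D * q ^ 3 = q ^ 3 * Nat.card D := mul_comm _ _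
      _ ≤ _ := hcard.trans (Nat.mul_le_mul_right _ himg)
  -- it comes from a complement of `v`
  set Y := Y₀.map (MulAut.conj g⁻¹).toMonoidHom with hY
  have hYmem : ∀ p ∈ Y, ∃ k ∈ Y₀, g⁻¹ * k * g = p := by
    rintro p ⟨k, hk, rfl⟩
    exact ⟨k, hk, by simp [MulAut.conj_apply]⟩
  have hvY : v ∉ Y := fun hv => by
    obtain ⟨k, hk, e⟩ := hYmem v hv
    have e2 : u = k :=
      calc u = g * v * g⁻¹ := h.gv.symm
        _ = g * (g⁻¹ * k * g) * g⁻¹ := by rw [e]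
        _ = k := by group
    exact Car.not_M X h (e2 ▸ (mem_inf.1 hk).1)
  have hYP : Y ≤ P := fun p hp => by
    obtain ⟨k, hk, rfl⟩ := hYmem p hp
    exact h.back k (X.M_le (mem_inf.1 hk).1) (hY₀c k hk)
  have hYE : ∀ p ∈ Y, ∀ e ∈ E, Commute p e := fun p hp e he => by
    obtain ⟨k, hk, rfl⟩ := hYmem p hp
    have h1 := (Commute.conj_iff g⁻¹).2 (X.M_E (mem_inf.1 hk).1 (h.gE e he))
    rwa [show g⁻¹ * k * g⁻¹⁻¹ = g⁻¹ * k * g by group,
      show g⁻¹ * (g * e * g⁻¹) * g⁻¹⁻¹ = e by group] at h1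
  have hYc : ∀ p ∈ Y, ∀ p' ∈ Y, p * p' * p⁻¹ * p'⁻¹ ∈ E := fun p hp p' hp' => by
    obtain ⟨k, hk, rfl⟩ := hYmem p hp
    obtain ⟨k', hk', rfl⟩ := hYmem p' hp'
    have h1 := h.gE' _ (X.M_M (mem_inf.1 hk).1 (mem_inf.1 hk').1)
    rwa [show g⁻¹ * k * g * (g⁻¹ * k' * g) * (g⁻¹ * k * g)⁻¹ * (g⁻¹ * k' * g)⁻¹ =
      g⁻¹ * (k * k' * k⁻¹ * k'⁻¹) * g by group]
  have hYcard : Nat.card Y = Nat.card Y₀ := card_map_of_injective (MulAut.conj g⁻¹).injective
  have hall : ∀ p ∈ Y, p ∈ S ∨ p * v ∈ S := by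
    rcases X.sub_P1 hYP hYE hYc with h1 | ⟨h1, h2⟩
    · exact h1
    exfalso
    refine hvY (h2 (le_antisymm h1 ?_))
    rw [hYcard]
    refine le_trans ?_ hY3
    rw [pow_succ q 2, mul_comm (q ^ 2)]
    exact Nat.mul_le_mul_right _ X.four_le
  let sp : ↥Y → ↥(S) := fun p => if hp : (p : G) ∈ S then ⟨p, hp⟩ else ⟨p * v, (hall p p.2).resolve_left hp⟩
  have hsp : ∀ p : ↥Y, (p : G) = sp p ∨ (p : G) = sp p * v := fun p => by
    simp only [sp]; split_ifs with hp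
    · exact Or.inl rfl
    · exact Or.inr (by rw [mul_assoc, X.vv, mul_one])
  have hinj : Function.Injective sp := fun p p' e => by
    have key : ∀ p p' : ↥Y, (p : G) = sp p → (p' : G) = sp p' * v → sp p = sp p' → False :=
      fun p p' h1 h2 e => hvY (by
        have := mul_mem (inv_mem p.2) p'.2
        rwa [h1, h2, e, inv_mul_cancel_left] at this)
    rcases hsp p with h1 | h1 <;> rcases hsp p' with h2 | h2
    · exact Subtype.ext (by rw [h1, h2, e])
    · exact (key p p' h1 h2 e).elim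
    · exact (key p' p h2 h1 e.symm).elim
    · exact Subtype.ext (by rw [h1, h2, e])
  have hS : Nat.card ↥(S) = q ^ 3 := X.typ.card_S.trans X.qn
  have hY3' : Nat.card Y₀ = q ^ 3 :=
    le_antisymm (hYcard ▸ hS ▸ Nat.card_le_card_of_injective sp hinj) hY3
  refine ⟨fun k hk hku => hall _ ⟨k, mem_inf.2 ⟨hk, mem_centralizer_singleton_iff.2 hku.eq⟩,
    by simp [MulAut.conj_apply]⟩, fun s hs => ?_, hY3', fun d hd => ?_⟩
  · obtain ⟨p, hp⟩ := (hinj.bijective_of_nat_card_le (by rw [hS, hYcard, hY3'])).2 ⟨s, hs⟩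
    obtain ⟨k, hk, e⟩ := hYmem p p.2
    refine ⟨k, (mem_inf.1 hk).1, hY₀c k hk, ?_⟩
    rw [e, show s = (sp p : G) from (congrArg Subtype.val hp).symm]
    exact hsp p
  · have himg' : Nat.card D ≤ (Finset.univ.image f).card := by
      rw [hY3', mul_comm (q ^ 3)] at hcard
      exact Nat.le_of_mul_le_mul_right hcard (pow_pos Nat.card_pos 3)
    have huniv : Finset.univ.image f = Finset.univ := Finset.eq_univ_of_card _
      (le_antisymm (Finset.card_le_univ _) (by rwa [Nat.card_eq_fintype_card] at himg'))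
    obtain ⟨t, -, ht⟩ := Finset.mem_image.1 (huniv.ge (Finset.mem_univ (⟨d, hd⟩ : ↥D)))
    refine ⟨mm t, hmm t, ?_⟩
    have e : (t : G) = mm t * d := (hmd t).trans (by rw [show dd t = d from congrArg Subtype.val ht])
    rw [← e]
    exact mem_centralizer_singleton_iff.1 (mem_inf.1 t.2).2

/-- **A conjugate outside `S W ⟨v⟩`** centralises `R`, and `lam ≠ 1`. -/
theorem Car.outer {g u : G} (h : X.Car g u) (hu : u ∉ X.W₃) :
    (∀ y ∈ X.R, Commute y u) ∧ X.lam ≠ 1 := by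
  classical
  obtain ⟨hback, hlift, -, hover⟩ := Car.structure_M X h
  obtain ⟨k, hk, hkv⟩ := hover v X.typ.maxPair.mem
  have hkv₃ : k * v ∈ X.W₃ := Or.inr (by rwa [mul_assoc, X.vv, mul_one])
  set f₁ := g⁻¹ * (k * v) * g with hf₁
  have hf₁P : f₁ ∈ P := h.back _ (X.W₃_le hkv₃) hkv
  -- it lies outside `S ∪ S v`
  have hout : ¬ (f₁ ∈ S ∨ f₁ * v ∈ S) := by
    intro hf
    obtain ⟨s, hs, i, hi, e⟩ : ∃ s ∈ S, ∃ i : G, (i = 1 ∨ i = v) ∧ f₁ = s * i := by
      rcases hf with h1 | h1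
      · exact ⟨f₁, h1, 1, Or.inl rfl, (mul_one _).symm⟩
      · exact ⟨f₁ * v, h1, v, Or.inr rfl, by rw [mul_assoc, X.vv, mul_one]⟩
    obtain ⟨k₁, hk₁, -, hk₁e⟩ := hlift s hs
    have hg₁ : g * f₁ * g⁻¹ = k * v := by rw [hf₁]; group
    have hw : g * ((g⁻¹ * k₁ * g)⁻¹ * f₁) * g⁻¹ = k₁⁻¹ * (k * v) := by rw [← hg₁]; group
    have hW : k₁⁻¹ * (k * v) ∈ X.W₃ := mul_mem (inv_mem (X.M_le_W₃ hk₁)) hkv₃
    have hvi : v⁻¹ = v := inv_eq_of_mul_eq_one_right X.vv
    have hkM : k₁⁻¹ * (k * v) ∉ X.M := fun h1 => X.v_not_M (by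
      have := mul_mem (inv_mem (mul_mem (inv_mem hk₁) hk)) h1
      rwa [show (k₁⁻¹ * k)⁻¹ * (k₁⁻¹ * (k * v)) = v by group] at this)
    have hcase : (g⁻¹ * k₁ * g)⁻¹ * f₁ = 1 ∨ (g⁻¹ * k₁ * g)⁻¹ * f₁ = v := by
      rw [e]
      rcases hk₁e with h1 | h1 <;> rw [h1] <;> rcases hi with rfl | rfl
      · exact Or.inl (by rw [mul_one, inv_mul_cancel])
      · exact Or.inr (inv_mul_cancel_left _ _)
      · exact Or.inr (by rw [mul_inv_rev, mul_one, inv_mul_cancel_right, hvi])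
      · exact Or.inl (inv_mul_cancel _)
    rcases hcase with h1 | h1 <;> rw [h1] at hw
    · rw [mul_one, mul_inv_cancel] at hw
      exact hkM (hw ▸ one_mem X.M)
    · rw [h.gv] at hw
      exact hu (hw ▸ hW)
  obtain ⟨c, σ, hw, hker, -, hfrob, -⟩ := X.exists_sigma
  have hf₁E : ∀ e ∈ E, Commute f₁ e := fun e he => by
    have h1 := (Commute.conj_iff g⁻¹).2 (X.W₃_E hkv₃ (h.gE e he))
    rwa [show g⁻¹ * (k * v) * g⁻¹⁻¹ = f₁ by rw [hf₁]; group,
      show g⁻¹ * (g * e * g⁻¹) * g⁻¹⁻¹ = e by group] at h1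
  set g₁ : ↥P := ⟨f₁, hf₁P⟩
  have hσ : ∀ r, σ g₁ r = r ^ q := (hfrob g₁ hf₁E).resolve_left fun h1 => hout (hker g₁ h1)
  -- the shifts met are `q` classes
  let φ : X.co.K →+ X.co.K := AddMonoidHom.mk' (fun r => r + c g₁ * r ^ q) fun r r' => by
    rw [Forms.add_pow_q X.co.card]; ring
  have hkerle : Nat.card φ.ker ≤ q := by
    refine le_trans (Nat.card_le_card_of_injective (fun r : φ.ker =>
      (⟨r.1, (CharTwo.add_eq_zero.1 (r.2 : r.1 + c g₁ * r.1 ^ q = 0)).symm⟩ :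
        {r : X.co.K // c g₁ * r ^ q = r}))
      fun r r' e => Subtype.ext (congrArg Subtype.val e :)) (card_twist_fixed_le (c g₁) X.two_le)
  have hrange : q ≤ Nat.card φ.range := by
    have h1 : Nat.card φ.range * Nat.card φ.ker = q ^ 2 := by
      rw [← AddSubgroup.index_ker, ← X.co.card]; exact φ.ker.index_mul_card
    refine Nat.le_of_mul_le_mul_right ?_ (Nat.card_pos (α := φ.ker))
    rw [h1, pow_two]
    exact Nat.mul_le_mul_left _ hkerle
  choose r₀ hr₀ using fun r : φ.range => r.2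
  choose s hs hsw using fun r : φ.range => X.co.w_surj (r₀ r)
  choose k₁ hk₁ hk₁u hk₁e using fun r : φ.range => hlift (s r) (hs r)
  let ρ : φ.range → G := fun r => k * v * k₁ r * (k * v)⁻¹ * (k₁ r)⁻¹
  have hρu : ∀ r, Commute (ρ r) u := fun r =>
    (((hkv.mul_left (hk₁u r)).mul_left hkv.inv_left)).mul_left (hk₁u r).inv_left
  have hρ : ∀ r, ρ r ∈ X.R := fun r => X.W₃_W₃ hkv₃ (X.M_le_W₃ (hk₁ r))
  have hρs : ∀ r, g⁻¹ * ρ r * g = f₁ * s r * f₁⁻¹ * (s r)⁻¹ := fun r => by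
    have e1 : g⁻¹ * ρ r * g = f₁ * (g⁻¹ * k₁ r * g) * f₁⁻¹ * (g⁻¹ * k₁ r * g)⁻¹ := by
      simp only [ρ, hf₁]; group
    rcases hk₁e r with h1 | h1 <;> rw [e1, h1]
    calc f₁ * (s r * v) * f₁⁻¹ * (s r * v)⁻¹ = f₁ * s r * (v * f₁⁻¹ * v⁻¹) * (s r)⁻¹ := by group
      _ = _ := by rw [← ((X.typ.fix f₁ hf₁P).2.inv_left).eq, mul_inv_cancel_right]
  have hρw : ∀ r : φ.range, f₁ * s r * f₁⁻¹ * (s r)⁻¹ ∈ S ∧
      X.co.w (f₁ * s r * f₁⁻¹ * (s r)⁻¹) = (r : X.co.K) := fun r => by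
    have hS := (X.conjP g₁ ⟨s r, hs r⟩).2
    rw [X.conjP_apply] at hS
    refine ⟨mul_mem hS (inv_mem (hs r)), ?_⟩
    have h1 := X.co.w_mul _ (mul_mem hS (inv_mem (hs r))) _ (hs r)
    rw [inv_mul_cancel_right] at h1
    have h2 : X.co.w (f₁ * s r * f₁⁻¹) = c g₁ * (r₀ r) ^ q := by
      rw [← hσ, ← hsw r, ← hw g₁ ⟨s r, hs r⟩, X.conjP_apply]
    rw [h2, hsw r] at h1
    change c g₁ * r₀ r ^ q = X.co.w (f₁ * s r * f₁⁻¹ * (s r)⁻¹) + r₀ r at h1
    rw [← hr₀ r]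
    show _ = r₀ r + c g₁ * r₀ r ^ q
    rw [h1, add_left_comm, CharTwo.add_self_eq_zero, add_zero]
  have hclass : ∀ r r', (ρ r)⁻¹ * ρ r' ∈ E → r = r' := fun r r' hE => by
    have h1 := h.gE' _ hE
    rw [show g⁻¹ * ((ρ r)⁻¹ * ρ r') * g = (g⁻¹ * ρ r * g)⁻¹ * (g⁻¹ * ρ r' * g) by group, hρs, hρs,
      ← X.w_eq (hρw r).1 (hρw r').1, (hρw r).2, (hρw r').2] at h1
    exact Subtype.ext h1
  have huE : ∀ e ∈ E, Commute e u := fun e he => (X.comm_E_of_invol (Car.mem X h) (Car.sq X h) he).symm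
  refine ⟨?_, ?_⟩
  · let j : φ.range × ↥E → ↥(X.R ⊓ centralizer ({u} : Set G)) := fun p => ⟨ρ p.1 * (p.2 : G),
      mem_inf.2 ⟨mul_mem (hρ p.1) (X.E_le_R p.2.2),
        mem_centralizer_singleton_iff.2 ((hρu p.1).mul_left (huE _ p.2.2)).eq⟩⟩
    have hj : Function.Injective j := by
      rintro ⟨r, e⟩ ⟨r', e'⟩ hjj
      have h1 : ρ r * (e : G) = ρ r' * (e' : G) := congrArg Subtype.val hjj
      have hrr : r = r' := hclass r r' (by
        rw [show (ρ r)⁻¹ * ρ r' = (e : G) * (e' : G)⁻¹ by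
          rw [eq_mul_inv_iff_mul_eq, mul_assoc, ← h1, inv_mul_cancel_left]]
        exact mul_mem e.2 (inv_mem e'.2))
      subst hrr
      exact Prod.ext rfl (Subtype.ext (mul_left_cancel h1))
    have heq : X.R ⊓ centralizer ({u} : Set G) = X.R := by
      refine eq_of_le_of_card_ge inf_le_left ?_
      rw [X.card_R]
      refine le_trans ?_ (Nat.card_le_card_of_injective j hj)
      rw [Nat.card_prod]
      exact Nat.mul_le_mul_right _ hrange
    exact fun y hy => mem_centralizer_singleton_iff.1 (mem_inf.1 (heq.ge hy)).2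
  · intro hlam
    have h4 := X.four_le
    obtain ⟨r, r', hne⟩ : ∃ r r' : φ.range, r ≠ r' := by
      by_contra hall
      push Not at hall
      haveI : Subsingleton φ.range := ⟨hall⟩
      have := hrange
      rw [Nat.card_of_subsingleton (⟨0, zero_mem _⟩ : φ.range)] at this
      omega
    obtain ⟨r, hr⟩ : ∃ r : φ.range, ρ r ∉ E := by
      by_contra hall
      push Not at hall
      exact hne (hclass r r' (mul_mem (inv_mem (hall r)) (hall r')))
    set x := k₁ r with hxdef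
    have hx := hk₁ r
    -- `x` moves the shift
    have hδ : del v x ∉ E := fun hd => hr (by
      have e : ρ r = k * (del v x) * k⁻¹ * (k * x * k⁻¹ * x⁻¹) := by
        simp only [ρ, del, ← hxdef]; group
      rw [e]
      refine mul_mem ?_ (X.M_M hk hx)
      rwa [(X.M_E hk hd).eq, mul_inv_cancel_right])
    obtain ⟨s₁, hs₁, ω, hω, hxe⟩ := hx
    have hd1 : del v x = del v ω := by
      rw [show x = s₁ * ω from hxe]
      calc del v (s₁ * ω) = v * s₁ * ω * v⁻¹ * ω⁻¹ * s₁⁻¹ := by rw [del]; group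
        _ = s₁ * (v * ω * v⁻¹ * ω⁻¹) * s₁⁻¹ := by rw [← (X.sv hs₁).eq]; group
        _ = del v ω := by
          show s₁ * del v ω * s₁⁻¹ = del v ω
          rw [((X.R_S _ (X.W_del ω hω) s₁ hs₁).symm).eq, mul_inv_cancel_right]
    have ht : X.tt ω ≠ 0 := fun h0 => hδ (by
      rw [hd1]
      exact X.del_ker _ (X.W_del ω hω)
        (commute_of_del ((X.z_eq_zero (X.del_mem _ (X.W_del ω hω))).1 h0)))
    obtain ⟨hsq, hz⟩ := X.W_sq ω hω
    have hnE : (ω * ω) * (ω * ω) ≠ 1 := fun h1 => ht (by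
      have h2 := X.mem_E_of_R hsq h1
      rw [X.del_E h2, X.z_one, hlam, one_mul] at hz
      exact hz.symm)
    refine hnE ?_
    have hss : (s₁ * s₁) * (s₁ * s₁) = 1 := X.E2 (X.sq_mem hs₁)
    have hx4 : x * x * (x * x) = (ω * ω) * (ω * ω) := by
      rw [show x = s₁ * ω from hxe, (X.W_S ω hω s₁ hs₁).mul_mul_mul_comm s₁ ω,
        Commute.mul_mul_mul_comm ((X.eR (X.sq_mem hs₁) hsq).symm) (s₁ * s₁) (ω * ω), hss, one_mul]
    rw [← hx4]
    have hp : g⁻¹ * x * g * (g⁻¹ * x * g) * (g⁻¹ * x * g * (g⁻¹ * x * g)) = 1 := by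
      rcases hback x ⟨s₁, hs₁, ω, hω, hxe⟩ (hk₁u r) with h1 | h1
      · exact X.E2 (X.sq_mem h1)
      · set p := g⁻¹ * x * g * v with hp
        have e1 : g⁻¹ * x * g = p * v := by rw [hp, mul_assoc (g⁻¹ * x * g) v v, X.vv, mul_one]
        have e2 : p * v * (p * v) = p * p := by
          rw [(X.sv h1).symm.mul_mul_mul_comm p v, X.vv, mul_one]
        rw [e1, e2]
        exact X.E2 (X.sq_mem h1)
    rw [show g⁻¹ * x * g * (g⁻¹ * x * g) * (g⁻¹ * x * g * (g⁻¹ * x * g)) =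
      g⁻¹ * (x * x * (x * x)) * g by group] at hp
    calc x * x * (x * x) = g * (g⁻¹ * (x * x * (x * x)) * g) * g⁻¹ := by group
      _ = 1 := by rw [hp]; group

end Ctx.Ext3

end CfsgLib.Criterion
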