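import Cfsg.Agent.Criterion.TypeKerS
import Cfsg.Agent.Criterion.TypeUnitaryAut

/-!
# The strong embedding criterion: conjugates of a unitary involution with a large centraliser

For `Q = q ^ 3` with kernel `⟨v⟩` a 2-group at `a` centralising `v` and `E` with commutators in `E`
has order less than `q ^ 4`.  So a 2-group at `a` of order `q ^ 5`, centralising `E` with commutators
in `E`, contains no conjugate of `v`.
-/

set_option autoImplicit false
set_option linter.style.haveILetI false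
set_option linter.unusedSectionVars false

namespace CfsgLib.Criterion

open Subgroup CfsgLib.Invol CfsgLib.Bender CfsgLib.Recog

universe u

variable {G : Type u} [Group G] [Finite G]

namespace Ctx.Typ

variable {C : Ctx G} {v : G} {a b : C.Pt} {D E P : Subgroup G} (H : C.Typ v a b D E P)
include H

set_option maxHeartbeats 800000 in
/-- The elements of `D` centralising `E` are at most four. -/
theorem card_centE (hQ : C.qn v a = Nat.card E ^ 3)
    (hsmall : ∀ g ∈ D, (∀ c : C.Pt, v • c = c → g • c = c) → g = 1 ∨ g = v) :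
    Nat.card ↥(D ⊓ centralizer (E : Set G)) ≤ 4 := by
  classical
  obtain ⟨Md⟩ := H.exists_model
  haveI := Md.faithful
  set W := D ⊓ centralizer (E : Set G) with hWdef
  have hWE : ∀ g : W, ∀ e ∈ E, Commute (g : G) e := fun g e he =>
    (mem_centralizer_iff.1 (mem_inf.1 g.2).2 e he).symm
  have hWP : ∀ g : W, (g : G) ∈ P := fun g => H.le (mem_inf.1 g.2).1
  let cS : ↥W → MulAut ↥(P ⊓ C.L v) := fun g =>
    { toFun := fun s => ⟨g * s * (g : G)⁻¹, H.conj_S (hWP g) s.2⟩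
      invFun := fun s => ⟨(g : G)⁻¹ * s * g, by simpa using H.conj_S (inv_mem (hWP g)) s.2⟩
      left_inv := fun s => Subtype.ext (show (g : G)⁻¹ * (g * (s : G) * (g : G)⁻¹) * g = s by group)
      right_inv := fun s => Subtype.ext (show (g : G) * ((g : G)⁻¹ * s * g) * (g : G)⁻¹ = s by group)
      map_mul' := fun s s' => Subtype.ext (show (g : G) * ((s : G) * s') * (g : G)⁻¹ =
        g * (s : G) * (g : G)⁻¹ * (g * s' * (g : G)⁻¹) by group) }
  let al : ↥W → MulAut ↥Md.T := fun g => (Md.pr.symm.trans (cS g)).trans Md.pr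
  have hal : ∀ g (s : ↥(P ⊓ C.L v)), al g (Md.pr s) = Md.pr (cS g s) := fun g s => by
    show Md.pr (cS g (Md.pr.symm (Md.pr s))) = _
    rw [Md.pr.symm_apply_apply]
  have hmul : ∀ g h x, al (g * h) x = al g (al h x) := fun g h x => by
    obtain ⟨s, rfl⟩ := Md.pr.surjective x
    rw [hal, hal, hal]
    exact congrArg Md.pr (Subtype.ext (show ((g * h : ↥W) : G) * s * ((g * h : ↥W) : G)⁻¹ =
      (g : G) * (h * (s : G) * (h : G)⁻¹) * (g : G)⁻¹ by rw [Subgroup.coe_mul]; group))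
  have hcoh : ∀ g h x, (((al (g * h) x)⁻¹ * al g (al h x) : ↥Md.T) : C.LQ v) ∈ Md.S.Z := fun g h x => by
    rw [hmul, inv_mul_cancel]
    exact one_mem _
  have h4 := Md.S.four_le
  have hcard : Nat.card Md.T = Nat.card Md.S.Z ^ 3 := by rw [Md.card_T, Md.card_Z, hQ]
  have hlt : Nat.card Md.S.Z < Nat.card Md.T := by
    rw [hcard]; exact lt_self_pow₀ (by omega) (by norm_num)
  have hna := Md.S.not_comm_of_lt hlt
  have hW2 : IsPGroup 2 W := H.maxPair.two.to_le inf_le_left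
  obtain ⟨g₀, hg₀⟩ := Md.S.aut_two_cyclic hcard hna hW2 al hcoh
  have hsq : ∀ g x, (((al (g * g) x)⁻¹ * x : ↥Md.T) : C.LQ v) ∈ Md.S.Z := fun g x => by
    refine Md.S.aut_two_sq hcard hna hW2 al hcoh (fun z hz => ?_) x
    obtain ⟨s, rfl⟩ := Md.pr.surjective z
    rw [hal]
    exact congrArg Md.pr (Subtype.ext
      (mul_inv_eq_iff_eq_mul.2 (hWE g _ ((Md.mem_Z s).1 hz)).eq))
  -- the action modulo `E`
  let Rel : ↥W → ↥W → Prop := fun g h => ∀ s ∈ P ⊓ C.L v,
    (g * s * (g : G)⁻¹)⁻¹ * (h * s * (h : G)⁻¹) ∈ E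
  have hrel : ∀ g h, (∀ x, (((al g x)⁻¹ * al h x : ↥Md.T) : C.LQ v) ∈ Md.S.Z) → Rel g h := by
    intro g h hx s hs
    have h1 := hx (Md.pr ⟨s, hs⟩)
    rw [hal, hal, ← map_inv, ← map_mul, Md.mem_Z] at h1
    exact h1
  have hone : ∀ g : ↥W, Rel g 1 → (g : G) = 1 ∨ (g : G) = v := fun g hg =>
    hsmall g (mem_inf.1 g.2).1 fun c hc => H.kernel_of_trivial (Or.inr hQ) (H.fix _ (hWP g)).1
      (H.fix_b (mem_inf.1 g.2).1) (H.fix _ (hWP g)).2 (hWE g) (fun s hs => by
        have h1 := hg s hs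
        have hgs := H.conj_S (hWP g) hs
        have h2 : s⁻¹ * ((g : G) * s * (g : G)⁻¹) = (((g : G) * s * (g : G)⁻¹)⁻¹ * s)⁻¹ := by group
        rw [OneMemClass.coe_one, one_mul, inv_one, mul_one] at h1
        rw [h2]
        exact inv_mem h1) hc
  -- at most two classes, each of at most two elements
  have hpow : ∀ k : ℕ, Rel (g₀ ^ k) 1 ∨ Rel (g₀ ^ k) g₀ := by
    intro k
    have h2 : ∀ m : ℕ, ∀ s ∈ P ⊓ C.L v,
        ((g₀ ^ (2 * m) : ↥W) * s * ((g₀ ^ (2 * m) : ↥W) : G)⁻¹)⁻¹ * s ∈ E := by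
      intro m
      induction m with
      | zero => simp
      | succ m ih =>
        intro s hs
        have h1 := hrel (g₀ * g₀) 1 (fun x => by
          have := hsq g₀ x
          rwa [show al 1 x = x by
            obtain ⟨r, rfl⟩ := Md.pr.surjective x
            rw [hal]; exact congrArg Md.pr (Subtype.ext (by simp [cS]))]) s hs
        rw [OneMemClass.coe_one, one_mul, inv_one, mul_one] at h1
        set p : ↥W := g₀ ^ (2 * m) with hp
        set t := ((g₀ * g₀ : ↥W) : G) * s * ((g₀ * g₀ : ↥W) : G)⁻¹ with ht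
        have hts : t ∈ P ⊓ C.L v := H.conj_S (hWP (g₀ * g₀)) hs
        have h3 := ih t hts
        rw [show g₀ ^ (2 * (m + 1)) = p * (g₀ * g₀) by rw [hp, mul_add, pow_add, pow_two]]
        rw [show ((p * (g₀ * g₀) : ↥W) : G) * s * ((p * (g₀ * g₀) : ↥W) : G)⁻¹ =
          (p : G) * t * (p : G)⁻¹ by simp only [ht, Subgroup.coe_mul]; group]
        rw [show ((p : G) * t * (p : G)⁻¹)⁻¹ * s = ((p : G) * t * (p : G)⁻¹)⁻¹ * t * (t⁻¹ * s) by group]
        exact mul_mem h3 h1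
    obtain ⟨m, rfl | rfl⟩ := Nat.even_or_odd' k
    · left
      intro s hs
      rw [OneMemClass.coe_one, one_mul, inv_one, mul_one]
      exact h2 m s hs
    · right
      intro s hs
      rw [pow_succ, Subgroup.coe_mul]
      have := h2 m _ (H.conj_S (hWP g₀) hs)
      rwa [show ((g₀ ^ (2 * m) : ↥W) : G) * g₀ * s * (((g₀ ^ (2 * m) : ↥W) : G) * g₀)⁻¹ =
        ((g₀ ^ (2 * m) : ↥W) : G) * ((g₀ : G) * s * (g₀ : G)⁻¹) * ((g₀ ^ (2 * m) : ↥W) : G)⁻¹ by group]
  have hclass : ∀ g : ↥W, Rel g 1 ∨ Rel g g₀ := by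
    intro g
    obtain ⟨k, hk⟩ := hg₀ g
    have h1 := hrel g (g₀ ^ k) hk
    rcases hpow k with h | h
    · left
      intro s hs
      have := mul_mem (h1 s hs) (h s hs)
      rwa [mul_assoc, mul_inv_cancel_left] at this
    · right
      intro s hs
      have := mul_mem (h1 s hs) (h s hs)
      rwa [mul_assoc, mul_inv_cancel_left] at this
  have hker : ∀ g : ↥W, Rel g g₀ → (g : G) = g₀ ∨ (g : G) = g₀ * v := by
    intro g hg
    have h1 : Rel (g₀⁻¹ * g) 1 := by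
      intro s hs
      rw [OneMemClass.coe_one, one_mul, inv_one, mul_one]
      have h2 := hg s hs
      set e := ((g : G) * s * (g : G)⁻¹)⁻¹ * ((g₀ : G) * s * (g₀ : G)⁻¹) with he
      have h3 : ((g₀⁻¹ * g : ↥W) : G) * s * ((g₀⁻¹ * g : ↥W) : G)⁻¹ = (g₀ : G)⁻¹ *
          ((g₀ : G) * s * (g₀ : G)⁻¹ * e⁻¹) * g₀ := by
        rw [he, Subgroup.coe_mul, Subgroup.coe_inv]; group
      rw [h3, show ((g₀ : G)⁻¹ * ((g₀ : G) * s * (g₀ : G)⁻¹ * e⁻¹) * g₀)⁻¹ * s =
        (g₀ : G)⁻¹ * e * g₀ by group, mul_assoc, ← (hWE g₀ e h2).eq, inv_mul_cancel_left]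
      exact h2
    rcases hone _ h1 with h | h
    · left
      rw [Subgroup.coe_mul, Subgroup.coe_inv] at h
      exact (inv_mul_eq_one.1 h).symm
    · right
      rw [Subgroup.coe_mul, Subgroup.coe_inv] at h
      rw [← h, mul_inv_cancel_left]
  have hle : Nat.card W ≤ ({1, v, (g₀ : G), g₀ * v} : Finset G).card := by
    rw [← Nat.card_eq_finsetCard]
    refine Nat.card_le_card_of_injective (fun g : W =>
      (⟨(g : G), ?_⟩ : ({1, v, (g₀ : G), g₀ * v} : Finset G))) fun g g' h =>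
        Subtype.ext (congrArg (fun t : ({1, v, (g₀ : G), g₀ * v} : Finset G) => (t : G)) h)
    simp only [Finset.mem_insert, Finset.mem_singleton]
    rcases hclass g with h | h
    · rcases hone g h with h | h <;> simp [h]
    · rcases hker g h with h | h <;> simp [h]
  exact hle.trans Finset.card_le_four

/-- A 2-group at `a` centralising `v` and `E` with commutators in `E` has order less than `q ^ 4`. -/
theorem card_lt_of_class (hQ : C.qn v a = Nat.card E ^ 3)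
    (hsmall : ∀ g ∈ D, (∀ c : C.Pt, v • c = c → g • c = c) → g = 1 ∨ g = v) {W : Subgroup G}
    (hWP : W ≤ P) (hWE : ∀ g ∈ W, ∀ e ∈ E, Commute g e)
    (hWc : ∀ g ∈ W, ∀ h ∈ W, g * h * g⁻¹ * h⁻¹ ∈ E) : Nat.card W < Nat.card E ^ 4 := by
  classical
  haveI : Fact (Nat.Prime 2) := ⟨Nat.prime_two⟩
  have hq4 : 4 ≤ Nat.card E := (H.bad.qn_cases C H.hp H.va H.isE).1
  set Wb := W ⊓ MulAction.stabilizer G b
  have hWbD : Wb ≤ D ⊓ centralizer (E : Set G) := fun g hg => mem_inf.2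
    ⟨H.mem_D (hWP (mem_inf.1 hg).1) (MulAction.mem_stabilizer_iff.1 (mem_inf.1 hg).2),
      mem_centralizer_iff.2 fun e he => (hWE g (mem_inf.1 hg).1 e he).eq.symm⟩
  have hfactor := card_orbit_sub W b
  let O := {q : C.Pt // ∃ g ∈ W, g • b = q}
  let ι : O → {c : C.Pt // v • c = c ∧ c ≠ a} := fun q => ⟨q.1, by
    obtain ⟨g, hg, e⟩ := q.2
    rw [← e]
    exact ⟨H.smul_fix (hWP hg) H.vb, fun h =>
      H.ne (smul_left_cancel g (h.trans (H.fix g (hWP hg)).1.symm))⟩⟩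
  have hι : Function.Injective ι := fun q q' h => Subtype.ext (congrArg Subtype.val h :)
  have hO : Nat.card O ≤ Nat.card E ^ 3 := by
    rw [← hQ]; exact Nat.card_le_card_of_injective ι hι
  have hstab : Nat.card Wb ≤ 4 := (Subgroup.card_le_of_le hWbD).trans (H.card_centE hQ hsmall)
  rw [← hfactor]
  change Nat.card O * Nat.card Wb < _
  by_contra hge
  rw [not_lt] at hge
  have h1 : Nat.card E ^ 4 ≤ Nat.card E ^ 3 * 4 := hge.trans (Nat.mul_le_mul hO hstab)
  rw [pow_succ] at h1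
  have hq : Nat.card E = 4 := le_antisymm (Nat.le_of_mul_le_mul_left h1 (by positivity)) hq4
  rw [pow_succ] at hge
  -- then `W` contains `P ⊓ L_v` and all of `D ⊓ C(E)`
  have hW4 : Nat.card Wb = 4 := by
    by_contra hne
    have : Nat.card O * Nat.card Wb ≤ Nat.card E ^ 3 * 3 := Nat.mul_le_mul hO (by omega)
    rw [hq] at this hge
    omega
  have hO3 : Nat.card O = Nat.card E ^ 3 := by
    rw [hW4, hq] at hge
    rw [hq] at hO ⊢
    omega
  have hWb : Wb = D ⊓ centralizer (E : Set G) :=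
    eq_of_le_of_card_ge hWbD ((H.card_centE hQ hsmall).trans hW4.ge)
  have hS : ∀ s ∈ P ⊓ C.L v, s ∈ W := by
    intro s hs
    obtain ⟨q, hq'⟩ := (hι.bijective_of_nat_card_le
      (show Nat.card {c : C.Pt // v • c = c ∧ c ≠ a} ≤ Nat.card O by rw [hO3, ← hQ]; exact le_rfl)).2
      ⟨s • b, H.smul_fix hs.1 H.vb, fun h =>
        H.ne (smul_left_cancel s (h.trans (H.fix s hs.1).1.symm))⟩
    obtain ⟨w, hw, e⟩ := q.2
    have hwb : w • b = s • b := e.trans (congrArg Subtype.val hq' :)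
    have hd : s⁻¹ * w ∈ Wb := by
      rw [hWb]
      refine mem_inf.2 ⟨H.mem_D (mul_mem (inv_mem hs.1) (hWP hw)) ?_,
        mem_centralizer_iff.2 fun e he =>
          (((H.commute_E hs he).symm.inv_left).mul_left (hWE w hw e he)).eq.symm⟩
      rw [mul_smul, hwb, inv_smul_smul]
    have := mul_mem hw (inv_mem (mem_inf.1 hd).1)
    rwa [show w * (s⁻¹ * w)⁻¹ = s by group] at this
  have hall : ∀ g ∈ Wb, g = 1 ∨ g = v := by
    intro g hg
    obtain ⟨hgW, hgb⟩ := mem_inf.1 hg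
    refine hsmall g (mem_inf.1 (hWbD hg)).1 fun c hc => H.kernel_of_trivial (Or.inr hQ)
      (H.fix g (hWP hgW)).1 (MulAction.mem_stabilizer_iff.1 hgb) (H.fix g (hWP hgW)).2 (hWE g hgW)
      (fun s hs => ?_) hc
    have := hWc s⁻¹ (inv_mem (hS s hs)) g hgW
    rw [inv_inv] at this
    rwa [show s⁻¹ * (g * s * g⁻¹) = s⁻¹ * g * s * g⁻¹ by group]
  have hle : Nat.card Wb ≤ ({1, v} : Finset G).card := by
    rw [← Nat.card_eq_finsetCard]
    refine Nat.card_le_card_of_injective (fun g : Wb => (⟨(g : G), ?_⟩ : ({1, v} : Finset G)))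
      fun g g' h => Subtype.ext (congrArg (fun t : ({1, v} : Finset G) => (t : G)) h)
    rcases hall g g.2 with h | h <;> simp [h]
  have := hle.trans Finset.card_le_two
  omega

/-- **No conjugate with a large centraliser**: a 2-group at `a` of order at least `q ^ 5`, centralising
`E` with commutators in `E`, contains no conjugate of `v`. -/
theorem false_of_large_class (hQ : C.qn v a = Nat.card E ^ 3)
    (hsmall : ∀ g ∈ D, (∀ c : C.Pt, v • c = c → g • c = c) → g = 1 ∨ g = v) {M : Subgroup G}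
    (hM : IsPGroup 2 M) (hMa : ∀ g ∈ M, g • a = a) (hEM : E ≤ M)
    (hME : ∀ g ∈ M, ∀ e ∈ E, Commute g e) (hMc : ∀ g ∈ M, ∀ h ∈ M, g * h * g⁻¹ * h⁻¹ ∈ E)
    (hcard : Nat.card E ^ 5 ≤ Nat.card M) {k : G} (hu : k * v * k⁻¹ ∈ M) : False := by
  classical
  haveI : Fact (Nat.Prime 2) := ⟨Nat.prime_two⟩
  set u := k * v * k⁻¹ with hudef
  -- a conjugating element fixing `a`
  have hvk : v • (k⁻¹ • a) = k⁻¹ • a := by
    have h := hMa u hu
    rw [hudef, mul_smul, mul_smul, smul_eq_iff_eq_inv_smul] at h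
    exact h
  obtain ⟨l, hl, hla⟩ := C.exists_mem_L_move H.bad H.va hvk
  set k' := k * l with hk'
  have hk'a : k' • a = a := by rw [hk', mul_smul, hla, smul_inv_smul]
  have hk'v : k' * v * k'⁻¹ = u := by
    rw [hk', show k * l * v * (k * l)⁻¹ = k * (l * v * l⁻¹) * k⁻¹ by group, C.L_conj_eq hl]
  -- its class in `M` lies in `u E`
  let Cl := {y : G // ∃ g ∈ M, g * u * g⁻¹ = y}
  have hCl : Nat.card Cl ≤ Nat.card E := by
    refine Nat.card_le_card_of_injective (fun y : Cl => (⟨y.1 * u⁻¹, ?_⟩ : E)) fun y y' h =>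
      Subtype.ext (mul_right_cancel (congrArg Subtype.val h :))
    obtain ⟨g, hg, e⟩ := y.2
    rw [← e]
    exact hMc g hg u hu
  set Cu := M ⊓ centralizer {u} with hCu
  have hfac := card_conj_sub M u
  rw [← hCu] at hfac
  change Nat.card Cl * Nat.card Cu = Nat.card M at hfac
  have hCu4 : Nat.card E ^ 4 ≤ Nat.card Cu := by
    refine Nat.le_of_mul_le_mul_left ?_ (Nat.card_pos (α := E))
    calc Nat.card E * Nat.card E ^ 4 = Nat.card E ^ 5 := by ring
      _ ≤ Nat.card M := hcard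
      _ ≤ _ := hfac ▸ Nat.mul_le_mul_right _ hCl
  -- carry it into the centraliser of `v` at `a`, then into `P`
  set W₁ := Cu.map (MulAut.conj k'⁻¹).toMonoidHom with hW₁
  set N := MulAction.stabilizer G a ⊓ centralizer {v} with hN
  have hW₁N : W₁ ≤ N := by
    rintro _ ⟨g, hg, rfl⟩
    obtain ⟨hgM, hgu⟩ := mem_inf.1 hg
    refine mem_inf.2 ⟨MulAction.mem_stabilizer_iff.2 ?_, mem_centralizer_singleton_iff.2 ?_⟩
    · show (k'⁻¹ * g * k'⁻¹⁻¹) • a = a
      rw [inv_inv, mul_smul, mul_smul, hk'a, hMa g hgM, inv_smul_eq_iff, hk'a]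
    · show k'⁻¹ * g * k'⁻¹⁻¹ * v = v * (k'⁻¹ * g * k'⁻¹⁻¹)
      calc k'⁻¹ * g * k'⁻¹⁻¹ * v = k'⁻¹ * (g * (k' * v * k'⁻¹)) * k' := by group
        _ = k'⁻¹ * ((k' * v * k'⁻¹) * g) * k' := by
            rw [hk'v, mem_centralizer_singleton_iff.1 hgu]
        _ = _ := by group
  have hPN : P ≤ N := fun g hg => mem_inf.2 ⟨MulAction.mem_stabilizer_iff.2 (H.fix g hg).1,
    mem_centralizer_singleton_iff.2 (H.fix g hg).2.eq⟩
  obtain ⟨R₁, hR₁⟩ := (((hM.to_le inf_le_left).map _).of_equiv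
    (subgroupOfEquivOfLe hW₁N).symm).exists_le_sylow
  obtain ⟨R₂, hR₂⟩ := (H.two.of_equiv (subgroupOfEquivOfLe hPN).symm).exists_le_sylow
  have hR₂P : ∀ x : ↥N, x ∈ (R₂ : Subgroup ↥N) → (x : G) ∈ P := by
    intro x hx
    have h1 : (R₂ : Subgroup ↥N).map N.subtype = P := by
      refine (eq_of_le_of_card_ge (fun p hp => mem_map.2 ⟨⟨p, hPN hp⟩, hR₂ hp, rfl⟩) ?_).symm
      refine H.max _ (R₂.2.map _) ?_
      rintro _ ⟨y, -, rfl⟩
      exact ⟨MulAction.mem_stabilizer_iff.1 (mem_inf.1 y.2).1,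
        mem_centralizer_singleton_iff.1 (mem_inf.1 y.2).2⟩
    exact h1.le (mem_map_of_mem N.subtype hx)
  obtain ⟨h, hh⟩ := MulAction.exists_smul_eq ↥N R₁ R₂
  set m := (h : G) * k'⁻¹ with hm
  have hmP : ∀ g ∈ Cu, m * g * m⁻¹ ∈ P := by
    intro g hg
    have h1 : h * ⟨k'⁻¹ * g * k'⁻¹⁻¹, hW₁N ⟨g, hg, rfl⟩⟩ * h⁻¹ ∈ (R₂ : Subgroup ↥N) := by
      rw [← hh, Sylow.coe_subgroup_smul]
      exact Subgroup.smul_mem_pointwise_smul _ (MulAut.conj h) _
        (hR₁ (show k'⁻¹ * g * k'⁻¹⁻¹ ∈ W₁ from ⟨g, hg, rfl⟩))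
    have h2 := hR₂P _ h1
    rw [show m * g * m⁻¹ = (h : G) * (k'⁻¹ * g * k'⁻¹⁻¹) * (h : G)⁻¹ by rw [hm]; group]
    exact h2
  have hma : m • a = a := by
    rw [hm, mul_smul, inv_smul_eq_iff.2 hk'a.symm]
    exact MulAction.mem_stabilizer_iff.1 (mem_inf.1 h.2).1
  have hECu : E ≤ Cu := fun e he => mem_inf.2 ⟨hEM he,
    mem_centralizer_singleton_iff.2 (hME u hu e he).symm.eq⟩
  have hmE : ∀ e ∈ E, m * e * m⁻¹ ∈ E := fun e he => by
    by_cases h1 : e = 1
    · rw [h1]; simp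
    exact H.mem_E_of_mem_Za (hmP e (hECu he)) (C.conj_mem_Z (H.isE.mem e he h1).1.1 m)
  have hmE' : ∀ e ∈ E, ∃ e₀ ∈ E, m * e₀ * m⁻¹ = e := fun e he => by
    have hmap : E.map (MulAut.conj m).toMonoidHom = E :=
      eq_of_le_of_card_ge (by rintro _ ⟨e₀, he₀, rfl⟩; exact hmE e₀ he₀)
        (card_map_of_injective (MulAut.conj m).injective).ge
    obtain ⟨e₀, he₀, e'⟩ := hmap.ge he
    exact ⟨e₀, he₀, e'⟩
  have hlt := H.card_lt_of_class hQ hsmall (W := Cu.map (MulAut.conj m).toMonoidHom)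
    (by rintro _ ⟨g, hg, rfl⟩; exact hmP g hg)
    (by
      rintro _ ⟨g, hg, rfl⟩ e he
      obtain ⟨e₀, he₀, rfl⟩ := hmE' e he
      exact (Commute.conj_iff m).2 (hME g (mem_inf.1 hg).1 e₀ he₀))
    (by
      rintro _ ⟨g, hg, rfl⟩ _ ⟨g', hg', rfl⟩
      have := hmE _ (hMc g (mem_inf.1 hg).1 g' (mem_inf.1 hg').1)
      simpa [mul_assoc] using this)
  rw [card_map_of_injective (MulAut.conj m).injective] at hlt
  omega

end Ctx.Typ

end CfsgLib.Criterion
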