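import Cfsg.Agent.Criterion.TypeKerS
import Cfsg.Agent.Criterion.TypeUnitaryAut

/-!
# The strong embedding criterion: coordinates on `P ⊓ L_v` for `Q = q ^ 3`

The coordinates of the kernel of the unitary set-up, carried to `P ⊓ L_v`: modulo `E` it is the field
with `q ^ 2` elements, the square is the norm, the elements at `a`, `b` of the local group act by
scalars and automorphisms semilinearly.
-/

set_option autoImplicit false
set_option linter.style.haveILetI false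
set_option linter.unusedSectionVars false

namespace CfsgLib.Criterion

open Subgroup CfsgLib.Invol CfsgLib.Bender

universe u

variable {G : Type u} [Group G] [Finite G]

namespace Ctx

variable (C : Ctx G)

/-- The elements of the local group at `a`, `b` normalising `S`. -/
def Tor (v : G) (a b : C.Pt) (S : Subgroup G) : Set G :=
  {y | y ∈ C.L v ∧ y • a = a ∧ y • b = b ∧ ∀ s ∈ S, y * s * y⁻¹ ∈ S}

/-- Coordinates on `S`. -/
structure Coord3 (v : G) (a b : C.Pt) (E S : Subgroup G) where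
  /-- The field with `q ^ 2` elements. -/
  K : Type
  /-- Its structure. -/
  [field : Field K]
  [finite : Finite K]
  [charTwo : CharP K 2]
  /-- The coordinate modulo `E`. -/
  w : G → K
  /-- The coordinate on `E`. -/
  z : G → K
  card : Nat.card K = Nat.card E ^ 2
  w_mul : ∀ x ∈ S, ∀ y ∈ S, w (x * y) = w x + w y
  w_E : ∀ x ∈ S, w x = 0 ↔ x ∈ E
  w_surj : ∀ c, ∃ x ∈ S, w x = c
  z_mul : ∀ x ∈ E, ∀ y ∈ E, z (x * y) = z x + z y
  z_inj : Set.InjOn z E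
  z_fix : ∀ x ∈ E, z x ^ Nat.card E = z x
  z_surj : ∀ c, c ^ Nat.card E = c → ∃ x ∈ E, z x = c
  z_sq : ∀ x ∈ S, z (x * x) = w x ^ (Nat.card E + 1)
  z_comm : ∀ x ∈ S, ∀ y ∈ S,
    z (x * y * x⁻¹ * y⁻¹) = w x ^ Nat.card E * w y + w x * w y ^ Nat.card E
  scalar : ∀ g ∈ C.Tor v a b S, ∃ m : K, m ≠ 0 ∧ (∀ x ∈ S, w (g * x * g⁻¹) = m * w x) ∧
    ∀ e ∈ E, z (g * e * g⁻¹) = m ^ (Nat.card E + 1) * z e
  torus : ∀ m : K, m ≠ 0 → m ^ Nat.card E = m → ∃ g ∈ C.Tor v a b S,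
    ∀ x ∈ S, w (g * x * g⁻¹) = m * w x
  circle : ∃ g ∈ C.Tor v a b S, ∃ m : K, m ≠ 1 ∧ m ^ (Nat.card E + 1) = 1 ∧
    (∀ x ∈ S, w (g * x * g⁻¹) = m * w x) ∧ ∀ e ∈ E, g * e * g⁻¹ = e
  semi : ∀ α : MulAut ↥S, ∃ (c : K) (σ : K ≃+* K), c ≠ 0 ∧
    (∀ x : ↥S, w (α x) = c * σ (w x)) ∧
    ∀ x : ↥S, (x : G) ∈ E → z (α x) = c ^ (Nat.card E + 1) * σ (z x)
  semi_two : ∀ (W : Type u) [Group W], IsPGroup 2 W → ∀ al : W → MulAut ↥S,
    (∀ g h x, (((al (g * h) x)⁻¹ * al g (al h x) : ↥S) : G) ∈ E) →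
    ∃ (c : W → K) (σ : W →* RingAut K), (∀ g, c g ≠ 0) ∧
      (∀ g (x : ↥S), w (al g x) = c g * σ g (w x)) ∧
      (∀ g (x : ↥S), (x : G) ∈ E → z (al g x) = c g ^ (Nat.card E + 1) * σ g (z x)) ∧
      (∀ g h, c (g * h) = c g * σ g (c h)) ∧ (∀ g h, σ g = σ h → c g = c h) ∧
      (∀ g h, σ g * σ h = σ h * σ g) ∧
      ∀ hE : ∀ e ∈ E, e ∈ S,
        Nat.card (Set.range fun g => fun e : ↥E => ((al g ⟨e, hE e e.2⟩ : ↥S) : G)) < Nat.card E

attribute [instance] Coord3.field Coord3.finite Coord3.charTwo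

end Ctx

end CfsgLib.Criterion
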