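import Cfsg.Agent.Criterion.TypeU3ExtBase
import Mathlib.RingTheory.IntegralDomain

/-!
# The strong embedding criterion: the second layer of translations

A Sylow subgroup `T₁` of `H` over `T` meets `N₃` in `S C`, `C` centralising `S`; `C` is `W ⟨v⟩` with `W`
the image of the commutator with a scalar, abelian modulo `E`.
-/

set_option autoImplicit false
set_option linter.style.haveILetI false
set_option linter.unusedSectionVars false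

namespace CfsgLib.Criterion

open Subgroup CfsgLib.Invol CfsgLib.Bender

universe u

variable {G : Type u} [Group G] [Finite G]

namespace Ctx

variable {C : Ctx G}

namespace Lay3

variable {v : G} {a b : C.Pt} {D E P : Subgroup G} (X : C.Lay3 v a b D E P)

local notation "S" => P ⊓ C.L v
local notation "q" => Nat.card E

include X

/-- A Sylow subgroup of `H` over `T`, on which the shifts fill the field of `E`. -/
structure Top where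
  /-- The group. -/
  T₁ : Subgroup G
  two : IsPGroup 2 T₁
  le : X.T ≤ T₁
  le_H : T₁ ≤ X.H
  onto : ∀ r : X.co.K, r ^ q = r → ∃ g ∈ T₁ ⊓ X.N₃, X.τ g = r

/-- The elements of a 2-group of `H` over `T` fixing `v E` form `T`. -/
theorem mem_T {T₁ : Subgroup G} (h2 : IsPGroup 2 T₁) (hT : X.T ≤ T₁) (hH : T₁ ≤ X.H) {g : G}
    (hg : g ∈ T₁) (h : X.ye g ∈ E) : g ∈ X.T := by
  have heq : X.T = T₁ ⊓ X.toCfg3.N₁ := eq_of_le_of_card_ge (le_inf hT X.toCfg3.T_le)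
    (X.toCfg3.card_le_T (h2.to_le inf_le_left) inf_le_right)
  exact heq.ge (mem_inf.2 ⟨hg, X.mem_N₁ (hH hg) h⟩)

/-- The shift on `N₃`, as a homomorphism to `E`. -/
def shiftHom (X : C.Lay3 v a b D E P) : ↥X.N₃ →* ↥E :=
  MonoidHom.mk' (fun g => ⟨del v (X.ye g), X.del_mem _ (X.N₃_le g.2).2.2.2.2⟩) fun g h =>
    Subtype.ext (X.co.z_inj (X.del_mem _ (X.N₃_le (mul_mem g.2 h.2)).2.2.2.2)
      (mul_mem (X.del_mem _ (X.N₃_le g.2).2.2.2.2) (X.del_mem _ (X.N₃_le h.2).2.2.2.2)) (by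
      show X.τ ((g : G) * h) = X.co.z (del v (X.ye (g : G)) * del v (X.ye (h : G)))
      rw [X.τ_add g.2 (X.N₃_le h.2), X.co.z_mul _ (X.del_mem _ (X.N₃_le g.2).2.2.2.2) _
        (X.del_mem _ (X.N₃_le h.2).2.2.2.2), add_comm]
      rfl))

theorem shiftHom_apply (g : ↥X.N₃) : (X.shiftHom g : G) = del v (X.ye (g : G)) := rfl

/-- A 2-group of `N₃` has order at most `q |T₂|`. -/
theorem card_le_N₃ {W : Subgroup G} (hW : IsPGroup 2 W) (hWN : W ≤ X.N₃) :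
    Nat.card W ≤ q * Nat.card X.T₂ := by
  let f : ↥W →* ↥E := X.shiftHom.comp (Subgroup.inclusion hWN)
  have hker : Nat.card f.ker ≤ Nat.card X.T₂ := by
    rw [← card_map_of_injective (K := f.ker) W.subtype_injective]
    refine X.card_le_T₂ ((hW.to_subgroup _).map _) ((map_subtype_le _).trans hWN) ?_
    rintro _ ⟨g, hg, rfl⟩
    show X.co.z (del v (X.ye (g : G))) = 0
    rw [show del v (X.ye (g : G)) = 1 from congrArg Subtype.val (MonoidHom.mem_ker.1 hg), X.z_one]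
  rw [← f.ker.card_mul_index, Subgroup.index_ker, mul_comm]
  exact Nat.mul_le_mul (Nat.card_le_card_of_injective _ f.range.subtype_injective) hker

/-- Such a Sylow subgroup exists. -/
theorem exists_top {h y : G} (hh : h ∈ X.H) (hy : y ∈ X.R) (hyE : y ∉ E)
    (hv : h * v * h⁻¹ = v * y) : Nonempty X.Top := by
  classical
  haveI : Fact (Nat.Prime 2) := ⟨Nat.prime_two⟩
  obtain ⟨Rs, hRs⟩ := (X.two.of_equiv (subgroupOfEquivOfLe X.T_le_H).symm).exists_le_sylow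
  set T₁ := (Rs : Subgroup ↥X.H).map X.H.subtype with hT₁
  have h2 : IsPGroup 2 T₁ := Rs.2.map _
  have hT : X.T ≤ T₁ := fun g hg => ⟨⟨g, X.T_le_H hg⟩, hRs hg, rfl⟩
  have hH : T₁ ≤ X.H := map_subtype_le _
  let f : ↥X.N₃ →* ↥E := X.shiftHom
  have hsurj : f.range = ⊤ := MonoidHom.range_eq_top.2 fun e => by
    obtain ⟨n, hn, hne⟩ := X.exists_τ hh hy hyE hv (X.co.z_fix _ e.2)
    exact ⟨⟨n, hn⟩, Subtype.ext (X.co.z_inj (X.del_mem _ hn.1.2.2.2.2) e.2 hne)⟩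
  have hT₂ker : X.T₂.subgroupOf X.N₃ ≤ f.ker := fun g hg => MonoidHom.mem_ker.2 (Subtype.ext
    (X.del_E (show X.ye (g : G) ∈ E from (X.memT _ (X.T₂_le_T (show (g : G) ∈ X.T₂ from hg))).2.2)))
  obtain ⟨k, hk⟩ := IsPGroup.iff_card.1 (X.two.to_le X.T₂_le_T)
  obtain ⟨e, he⟩ := IsPGroup.iff_card.1 (X.typ.isE.isPGroup C)
  have hdvd : 2 ^ (k + e) ∣ Nat.card ↥X.N₃ := by
    rw [← f.ker.card_mul_index, Subgroup.index_ker, hsurj, card_top, pow_add, ← hk, ← he,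
      ← Nat.card_congr (subgroupOfEquivOfLe X.T₂_le_N₃).toEquiv]
    exact mul_dvd_mul_right (card_dvd_of_le hT₂ker) _
  obtain ⟨Q, hQ⟩ := Sylow.exists_subgroup_card_pow_prime 2 hdvd
  have hQH : Q.map X.N₃.subtype ≤ X.H := (map_subtype_le _).trans X.N₃_le
  obtain ⟨R', hR'⟩ := (((IsPGroup.of_card hQ).map X.N₃.subtype).of_equiv
    (subgroupOfEquivOfLe hQH).symm).exists_le_sylow
  obtain ⟨m, hm⟩ := MulAction.exists_smul_eq ↥X.H R' Rs
  have hmem : ∀ x : ↥Q, (m : G) * ((x : ↥X.N₃) : G) * (m : G)⁻¹ ∈ T₁ ⊓ X.N₃ := fun x => by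
    refine mem_inf.2 ⟨?_, X.N₃_normal m.2 (x : ↥X.N₃).2⟩
    have hx : ((x : ↥X.N₃) : G) ∈ Q.map X.N₃.subtype := mem_map_of_mem _ x.2
    have h1 : m * ⟨_, hQH hx⟩ * m⁻¹ ∈ (Rs : Subgroup ↥X.H) := by
      rw [← hm, Sylow.coe_subgroup_smul]
      exact Subgroup.smul_mem_pointwise_smul _ (MulAut.conj m) _ (hR' hx)
    exact ⟨_, h1, rfl⟩
  set W := T₁ ⊓ X.N₃
  have hcard : q * Nat.card X.T₂ ≤ Nat.card W := by
    rw [hk, he, ← pow_add, add_comm, ← hQ]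
    exact Nat.card_le_card_of_injective (fun x : Q => (⟨_, hmem x⟩ : W)) fun x x' hxx =>
      Subtype.ext (Subtype.ext (mul_left_cancel (mul_right_cancel (congrArg Subtype.val hxx :))))
  let fW : ↥W →* ↥E := f.comp (Subgroup.inclusion inf_le_right)
  have hkerW : Nat.card fW.ker ≤ Nat.card X.T₂ := by
    rw [← card_map_of_injective (K := fW.ker) W.subtype_injective]
    refine X.card_le_T₂ (((h2.to_le inf_le_left).to_subgroup _).map _)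
      ((map_subtype_le _).trans inf_le_right) ?_
    rintro _ ⟨g, hg, rfl⟩
    show X.co.z (del v (X.ye (g : G))) = 0
    rw [show del v (X.ye (g : G)) = 1 from congrArg Subtype.val (MonoidHom.mem_ker.1 hg), X.z_one]
  have htop : fW.range = ⊤ := by
    refine eq_top_of_le_card _ ?_
    have h1 : q * Nat.card X.T₂ ≤ Nat.card X.T₂ * Nat.card fW.range := by
      refine hcard.trans ?_
      rw [← fW.ker.card_mul_index, Subgroup.index_ker]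
      exact Nat.mul_le_mul_right _ hkerW
    exact Nat.le_of_mul_le_mul_left (by rwa [mul_comm q] at h1) Nat.card_pos
  refine ⟨⟨T₁, h2, hT, hH, fun r hr => ?_⟩⟩
  obtain ⟨d, hd, rfl⟩ := X.co.z_surj r hr
  obtain ⟨g, hg⟩ := (MonoidHom.range_eq_top.1 htop) ⟨d, hd⟩
  exact ⟨g, g.2, congrArg (fun x : ↥E => X.co.z (x : G)) hg⟩

namespace Top

variable {X} (Y : X.Top)
include Y

/-- The part trivial on `S / E`. -/
def W₃ : Subgroup G := Y.T₁ ⊓ X.N₃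

theorem mem_T₂ {g : G} (hg : g ∈ Y.W₃) (h : X.τ g = 0) : g ∈ X.T₂ := by
  rw [← X.T₂_eq]
  exact mem_inf.2 ⟨X.mem_T Y.two Y.le Y.le_H hg.1 (X.ye_of_τ hg.2.1 h), X.mem_M₂ hg.2 h⟩

theorem T₂_le : X.T₂ ≤ Y.W₃ := le_inf (X.T₂_le_T.trans Y.le) X.T₂_le_N₃

theorem card_W₃ : q * Nat.card X.T₂ ≤ Nat.card Y.W₃ := by
  choose g hg hgτ using fun e : ↥E => Y.onto _ (X.co.z_fix _ e.2)
  rw [← Nat.card_prod]
  refine Nat.card_le_card_of_injective (fun p : ↥E × ↥X.T₂ =>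
    (⟨g p.1 * p.2, mul_mem (hg p.1) (Y.T₂_le p.2.2)⟩ : ↥Y.W₃)) fun p p' h => ?_
  have h' : g p.1 * (p.2 : G) = g p'.1 * p'.2 := congrArg Subtype.val h
  have h0 : ∀ x : ↥X.T₂, X.τ (x : G) = 0 := fun x => X.τ_of_ye (X.memT _ (X.T₂_le_T x.2)).2.2
  have hτ := congrArg X.τ h'
  rw [X.τ_add (hg _).2 (X.T₂_le_N₃ p.2.2).1, X.τ_add (hg _).2 (X.T₂_le_N₃ p'.2.2).1, h0, h0,
    zero_add, zero_add, hgτ, hgτ] at hτ
  have he : p.1 = p'.1 := Subtype.ext (X.co.z_inj p.1.2 p'.1.2 hτ)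
  rw [he] at h'
  exact Prod.ext he (Subtype.ext (mul_left_cancel h'))

/-- **Frattini**: every element of `H` centralising `v` is adjusted into the normaliser of `W₃`. -/
theorem exists_norm {j : G} (hj : j ∈ X.H) (hjv : Commute j v) :
    ∃ n ∈ X.N₃, Commute (n * j) v ∧ ∀ x ∈ Y.W₃, n * j * x * (n * j)⁻¹ ∈ Y.W₃ := by
  classical
  haveI : Fact (Nat.Prime 2) := ⟨Nat.prime_two⟩
  set W' := Y.W₃.map (MulAut.conj j).toMonoidHom
  have hW'N : W' ≤ X.N₃ := by rintro _ ⟨x, hx, rfl⟩; exact X.N₃_normal hj hx.2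
  have hWN : Y.W₃ ≤ X.N₃ := inf_le_right
  have hW2 : IsPGroup 2 Y.W₃ := Y.two.to_le inf_le_left
  obtain ⟨A, hA⟩ := (hW2.of_equiv (subgroupOfEquivOfLe hWN).symm).exists_le_sylow
  have hAeq : (A : Subgroup ↥X.N₃) = Y.W₃.subgroupOf X.N₃ := by
    refine (eq_of_le_of_card_ge hA ?_).symm
    rw [Nat.card_congr (subgroupOfEquivOfLe hWN).toEquiv,
      ← card_map_of_injective (K := (A : Subgroup ↥X.N₃)) X.N₃.subtype_injective]
    exact (X.card_le_N₃ (A.2.map _) (map_subtype_le _)).trans Y.card_W₃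
  obtain ⟨B, hB⟩ := ((hW2.map (MulAut.conj j).toMonoidHom).of_equiv
    (subgroupOfEquivOfLe hW'N).symm).exists_le_sylow
  obtain ⟨m, hm⟩ := MulAction.exists_smul_eq ↥X.N₃ B A
  have hconj : ∀ x ∈ Y.W₃, (m : G) * j * x * ((m : G) * j)⁻¹ ∈ Y.W₃ := fun x hx => by
    have hx' : j * x * j⁻¹ ∈ W' := ⟨x, hx, rfl⟩
    have h1 : m * ⟨_, hW'N hx'⟩ * m⁻¹ ∈ (A : Subgroup ↥X.N₃) := by
      rw [← hm, Sylow.coe_subgroup_smul]
      exact Subgroup.smul_mem_pointwise_smul _ (MulAut.conj m) _ (hB hx')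
    rw [hAeq, mem_subgroupOf] at h1
    simpa [mul_assoc] using h1
  -- back to the centraliser of `v`
  obtain ⟨g, hg, hgτ⟩ := Y.onto _ (X.τ_fix m.2.1)
  set x := g⁻¹ * ((m : G) * j) with hx
  have hmj : (m : G) * j ∈ X.H := mul_mem m.2.1 hj
  have hxH : x ∈ X.H := mul_mem (inv_mem hg.2.1) hmj
  have hxτ : X.τ x = 0 := by
    rw [hx, X.τ_add (inv_mem hg.2) hmj, X.τ_add m.2 hj, X.τ_inv hg.2, hgτ,
      X.τ_of_ye (g := j) (by rw [X.ye_of_commute hjv]; exact one_mem E), zero_add]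
    exact CharTwo.add_self_eq_zero _
  obtain ⟨t, ht, hte⟩ := X.toCfg3.trans₂ (X.ye_of_τ hxH hxτ)
  rw [X.T₂_eq] at ht
  refine ⟨t⁻¹ * g⁻¹ * m, mul_mem (mul_mem (inv_mem (X.T₂_le_N₃ ht)) (inv_mem hg.2)) m.2, ?_,
    fun y hy => ?_⟩
  · rw [show t⁻¹ * g⁻¹ * (m : G) * j = t⁻¹ * x by rw [hx]; group]
    refine mul_inv_eq_iff_eq_mul.1 ?_
    have e : x * v * x⁻¹ = t * v * t⁻¹ := mul_right_cancel (hte.symm : x * v * x⁻¹ * v = _)
    rw [show t⁻¹ * x * v * (t⁻¹ * x)⁻¹ = t⁻¹ * (x * v * x⁻¹) * t by group, e]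
    group
  · have h1 := mul_mem (mul_mem (inv_mem (mul_mem hg (Y.T₂_le ht))) (hconj y hy))
      (mul_mem hg (Y.T₂_le ht))
    rwa [show t⁻¹ * g⁻¹ * (m : G) * j * y * (t⁻¹ * g⁻¹ * (m : G) * j)⁻¹ =
      (g * t)⁻¹ * ((m : G) * j * y * ((m : G) * j)⁻¹) * (g * t) by group]

/-- The part centralising `S`. -/
def Cn : Subgroup G := Y.W₃ ⊓ centralizer ((S : Subgroup G) : Set G)

theorem Cn_S {g s : G} (hg : g ∈ Y.Cn) (hs : s ∈ S) : Commute g s :=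
  (mem_centralizer_iff.1 (mem_inf.1 hg).2 s hs).symm

theorem mem_Cn {g : G} (hg : g ∈ Y.W₃) (h : ∀ s ∈ S, Commute g s) : g ∈ Y.Cn :=
  mem_inf.2 ⟨hg, mem_centralizer_iff.2 fun s hs => (h s hs).eq.symm⟩

theorem Cn_H {g : G} (hg : g ∈ Y.Cn) : g ∈ X.H := (mem_inf.1 hg).1.2.1

theorem Cn_N {g : G} (hg : g ∈ Y.Cn) : g ∈ X.N₃ := (mem_inf.1 hg).1.2

theorem R_le_Cn : X.R ≤ Y.Cn := fun y hy =>
  Y.mem_Cn (Y.T₂_le (X.K_le_T₂ (X.R_le_K hy))) fun s hs => X.R_S y hy s hs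

theorem v_mem_Cn : v ∈ Y.Cn := Y.mem_Cn (Y.T₂_le X.v_mem_T₂) fun _ hs => (X.sv hs).symm

/-- Normalisers of `W₃` and `S` normalise `Cn`. -/
theorem conj_Cn {x g : G} (hxS : ∀ s ∈ S, x⁻¹ * s * x⁻¹⁻¹ ∈ S)
    (hxW : ∀ y ∈ Y.W₃, x * y * x⁻¹ ∈ Y.W₃) (hg : g ∈ Y.Cn) : x * g * x⁻¹ ∈ Y.Cn :=
  Y.mem_Cn (hxW g (mem_inf.1 hg).1) fun s hs => by
    have h := (Commute.conj_iff x).2 (Y.Cn_S hg (hxS s hs))
    rwa [show x * (x⁻¹ * s * x⁻¹⁻¹) * x⁻¹ = s by group] at h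

/-- **`W₃ = S Cn`.** -/
theorem exists_Cn {g : G} (hg : g ∈ Y.W₃) : ∃ s ∈ S, g * s ∈ Y.Cn := by
  obtain ⟨c, μ, hμ1, hμ, hca, hcv, hcS, hcR, hcE⟩ := X.circ
  have hcH : c ∈ X.H := ⟨hca, fun e he => by rw [hcE e he]; exact he, hcR, fun s hs => (hcS s hs).1,
    by rw [X.ye_of_commute hcv]; exact one_mem _⟩
  obtain ⟨n, hn, hdv, hdW⟩ := Y.exists_norm hcH hcv
  set d := n * c with hd
  have hdH : d ∈ X.H := mul_mem hn.1 hcH
  have hdS : ∀ s ∈ S, d * s * d⁻¹ ∈ S := hdH.2.2.2.1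
  have hdw : ∀ s ∈ S, X.co.w (d * s * d⁻¹) = μ * X.co.w s := fun s hs => by
    rw [hd, show n * c * s * (n * c)⁻¹ = n * (c * s * c⁻¹) * n⁻¹ by group, hn.2 _ (hcS s hs).1,
      (hcS s hs).2]
  have hdE : ∀ e ∈ E, d * e * d⁻¹ = e := fun e he => by
    rw [hd, show n * c * e * (n * c)⁻¹ = n * (c * e * c⁻¹) * n⁻¹ by group, hcE e he,
      (X.N₃_commute_E hn he).eq, mul_inv_cancel_right]
  set x := g⁻¹ * (d * g * d⁻¹) with hx
  have hdg := hdW g hg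
  have hxW : x ∈ Y.W₃ := mul_mem (inv_mem hg) hdg
  have hτd : X.τ (d * g * d⁻¹) = X.τ g := by
    have h2 : X.ye d⁻¹ = 1 := X.ye_of_commute hdv.inv_left
    have h3 : X.τ (d * g * d⁻¹) = X.τ (d * g) := by
      rw [Lay3.τ, Lay3.τ, X.ye_mul, h2, mul_one, mul_inv_cancel, one_mul]
    rw [h3, X.τ_mul hdH hg.2.1, hdE _ (X.del_mem _ hg.2.1.2.2.2.2),
      X.τ_of_ye (g := d) (by rw [X.ye_of_commute hdv]; exact one_mem E), add_zero]
    rfl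
  have hxτ : X.τ x = 0 := by
    rw [hx, X.τ_add (inv_mem hg.2) hdg.2.1, X.τ_inv hg.2, hτd, CharTwo.add_self_eq_zero]
  obtain ⟨sx, hsx, r, hr, e⟩ : ∃ sx ∈ S, ∃ r, (∀ s ∈ S, Commute r s) ∧ x = sx * r := by
    rcases X.mem_T₂.1 (Y.mem_T₂ hxW hxτ) with h | h <;>
      obtain ⟨sx, hsx, y, hy, e⟩ := X.mem_K.1 h
    · exact ⟨sx, hsx, y, fun s hs => X.R_S y hy s hs, e⟩
    · exact ⟨sx, hsx, y * v, fun s hs => (X.R_S y hy s hs).mul_left (X.sv hs).symm, by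
        rw [← mul_assoc, ← e, X.toCfg3.mul_v_mul_v]⟩
  have hμ0 : 1 + μ ≠ 0 := fun h => hμ1 (CharTwo.add_eq_zero.1 h).symm
  obtain ⟨s₀, hs₀, hw₀⟩ := X.co.w_surj (X.co.w sx / (1 + μ))
  have hs₁ := hdS s₀ hs₀
  set g' := g * s₀ with hg'
  have hg'W : g' ∈ Y.W₃ := mul_mem hg (Y.T₂_le (X.K_le_T₂ (X.S_le_K hs₀)))
  set r' := (s₀⁻¹ * (sx * (d * s₀ * d⁻¹))) * r with hr'
  have hrE : s₀⁻¹ * (sx * (d * s₀ * d⁻¹)) ∈ E := by
    refine (X.w_eq hs₀ (mul_mem hsx hs₁)).1 ?_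
    rw [X.co.w_mul _ hsx _ hs₁, hdw _ hs₀, hw₀]
    field_simp
    linear_combination -(μ * X.co.w sx) * CharTwo.two_eq_zero (R := X.co.K)
  have hr'S : ∀ s ∈ S, Commute r' s := fun s hs => (X.es hrE hs).mul_left (hr s hs)
  have hdg' : d * g' * d⁻¹ = g' * r' := by
    have h1 : x * (d * s₀ * d⁻¹) = sx * (d * s₀ * d⁻¹) * r := by
      rw [e, mul_assoc, (hr _ hs₁).eq, ← mul_assoc]
    calc d * g' * d⁻¹ = g * (x * (d * s₀ * d⁻¹)) := by rw [hg', hx]; group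
      _ = _ := by rw [h1, hr', hg']; group
  refine ⟨s₀, hs₀, Y.mem_Cn hg'W ?_⟩
  let α : G → G := fun s => s⁻¹ * (g' * s * g'⁻¹)
  have hαE : ∀ s ∈ S, α s ∈ E := fun s hs =>
    (X.w_eq hs (hg'W.2.1.2.2.2.1 s hs)).1 (hg'W.2.2 s hs).symm
  have hαd : ∀ s ∈ S, α (d * s * d⁻¹) = α s := fun s hs => by
    have h1 := hdE _ (hαE s hs)
    rw [show d * α s * d⁻¹ = (d * s * d⁻¹)⁻¹ *
      ((d * g' * d⁻¹) * (d * s * d⁻¹) * (d * g' * d⁻¹)⁻¹) by show d * (s⁻¹ * (g' * s * g'⁻¹)) * d⁻¹ = _; group,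
      hdg', show g' * r' * (d * s * d⁻¹) * (g' * r')⁻¹ = g' * (r' * (d * s * d⁻¹) * r'⁻¹) * g'⁻¹ by group,
      (hr'S _ (hdS s hs)).eq, mul_inv_cancel_right] at h1
    exact h1
  have hαmul : ∀ s ∈ S, ∀ t ∈ S, α (s * t) = α s * α t := fun s hs t ht => by
    show (s * t)⁻¹ * (g' * (s * t) * g'⁻¹) = _
    calc _ = t⁻¹ * α s * (g' * t * g'⁻¹) := by show _ = t⁻¹ * (s⁻¹ * (g' * s * g'⁻¹)) * _; group
      _ = α s * t⁻¹ * (g' * t * g'⁻¹) := by rw [(X.es (hαE s hs) (inv_mem ht)).eq]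
      _ = _ := mul_assoc _ _ _
  have hαe : ∀ e ∈ E, α e = 1 := fun e he => by
    show e⁻¹ * (g' * e * g'⁻¹) = 1
    rw [(X.N₃_commute_E hg'W.2 he).eq, mul_inv_cancel_right, inv_mul_cancel]
  intro s hs
  obtain ⟨t, ht, hwt⟩ := X.co.w_surj (X.co.w s / (1 + μ))
  have he : (t * (d * t * d⁻¹))⁻¹ * s ∈ E := by
    refine (X.w_eq (mul_mem ht (hdS t ht)) hs).1 ?_
    rw [X.co.w_mul _ ht _ (hdS t ht), hdw _ ht, hwt]
    field_simp
  have h1 : α s = 1 := by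
    rw [show s = t * (d * t * d⁻¹) * ((t * (d * t * d⁻¹))⁻¹ * s) by group,
      hαmul _ (mul_mem ht (hdS t ht)) _ (X.E_S he), hαe _ he, mul_one, hαmul _ ht _ (hdS t ht),
      hαd t ht, X.E2 (hαE t ht)]
  exact mul_inv_eq_iff_eq_mul.1 (inv_mul_eq_one.1 h1).symm

/-- The elements of `Cn` fixing `v E` are those of `R ∪ R v`. -/
theorem Cn_zero {g : G} (hg : g ∈ Y.Cn) (h : X.τ g = 0) : g ∈ X.R ∨ g * v ∈ X.R := by
  have key : ∀ k ∈ X.K, (∀ s ∈ S, Commute k s) → k ∈ X.R := fun k hk hkS => by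
    obtain ⟨s, hs, y, hy, rfl⟩ := X.mem_K.1 hk
    refine mul_mem (X.E_le_R ?_) hy
    by_contra hsE
    have hw0 : X.co.w s ≠ 0 := fun h0 => hsE ((X.co.w_E s hs).1 h0)
    obtain ⟨w, hw⟩ := X.exists_trace (one_pow q : (1 : X.co.K) ^ q = 1) hw0
    obtain ⟨s', hs', rfl⟩ := X.co.w_surj w
    have hss : Commute s s' := by
      have := (hkS s' hs').mul_left (X.R_S y hy s' hs').inv_left
      rwa [mul_inv_cancel_right] at this
    rw [← X.co.z_comm s hs s' hs', hss.eq, mul_inv_cancel_right, mul_inv_cancel, X.z_one] at hw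
    exact zero_ne_one hw
  rcases X.mem_T₂.1 (Y.mem_T₂ (mem_inf.1 hg).1 h) with h1 | h1
  · exact Or.inl (key g h1 fun s hs => Y.Cn_S hg hs)
  · exact Or.inr (key _ h1 fun s hs => (Y.Cn_S hg hs).mul_left (X.sv hs).symm)

theorem τ_R {y : G} (hy : y ∈ X.R) : X.τ y = 0 := X.τ_of_ye (X.memT _ (X.R_le_T hy)).2.2

theorem τ_v : X.τ v = 0 := X.τ_of_ye (X.memT _ (X.le X.typ.vP)).2.2

theorem sq_mem_R {g : G} (hg : g ∈ Y.Cn) : g * g ∈ X.R := by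
  have hgg : g * g ∈ Y.Cn := mul_mem hg hg
  have h0 : X.τ (g * g) = 0 := by
    rw [X.τ_add (Y.Cn_N hg) (Y.Cn_H hg), CharTwo.add_self_eq_zero]
  refine (Y.Cn_zero hgg h0).elim id fun hy => ?_
  exfalso
  set y := g * g * v with hydef
  have hyv : g * g = y * v := (X.toCfg3.mul_v_mul_v (x := g * g)).symm
  have hye : X.ye g ∈ X.R := (Y.Cn_H hg).2.2.2.2
  have hgy : g * y * g⁻¹ ∈ X.R := (Y.Cn_H hg).2.2.1 y hy
  have h1 : g * y * g⁻¹ * X.ye g = y := by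
    refine mul_right_cancel (b := v) ?_
    rw [mul_assoc, X.ye_mul_v, ← hyv,
      show g * y * g⁻¹ * (g * v * g⁻¹) = g * (y * v) * g⁻¹ by group, ← hyv]
    group
  have h2 : X.τ g = 0 := by
    have h3 := congrArg (fun r => X.co.z (del v r)) h1
    simp only [X.del_hom hgy hye, X.del_conj (Y.Cn_H hg) hy,
      (X.N₃_commute_E (Y.Cn_N hg) (X.del_mem y hy)).eq, mul_inv_cancel_right,
      X.co.z_mul _ (X.del_mem y hy) _ (X.del_mem _ hye), add_eq_left] at h3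
    exact h3
  refine X.v_not_R ?_
  have hg2 : g * g ∈ X.R := by
    rcases Y.Cn_zero hg h2 with h | h
    · exact mul_mem h h
    · rw [show g * g = g * v * (v * (g * v) * v) by
        rw [show g * v * (v * (g * v) * v) = g * (v * v) * g * (v * v) by group, X.vv, mul_one, mul_one]]
      exact mul_mem h (X.v_norm h)
  have := mul_mem (inv_mem hg2) hy
  rwa [hydef, inv_mul_cancel_left] at this

theorem comm_mem_R {g h : G} (hg : g ∈ Y.Cn) (hh : h ∈ Y.Cn) : g * h * g⁻¹ * h⁻¹ ∈ X.R := by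
  rw [show g * h * g⁻¹ * h⁻¹ = g * h * (g * h) * (h⁻¹ * (g * g)⁻¹ * h) * (h * h)⁻¹ by group]
  refine mul_mem (mul_mem (Y.sq_mem_R (mul_mem hg hh)) ?_) (inv_mem (Y.sq_mem_R hh))
  simpa using (inv_mem (Y.Cn_H hh) : h⁻¹ ∈ X.H).2.2.1 _ (inv_mem (Y.sq_mem_R hg))

theorem exists_τ_Cn {r : X.co.K} (hr : r ^ q = r) : ∃ g ∈ Y.Cn, X.τ g = r := by
  obtain ⟨g, hg, hgr⟩ := Y.onto r hr
  obtain ⟨s, hs, hgs⟩ := Y.exists_Cn hg
  refine ⟨g * s, hgs, ?_⟩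
  rw [X.τ_add hg.2 (X.T_le_H (X.le (mem_inf.1 hs).1)),
    X.τ_of_ye (X.memT _ (X.le (mem_inf.1 hs).1)).2.2, zero_add, hgr]

end Top

end Lay3

end Ctx

end CfsgLib.Criterion
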