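import Cfsg.Agent.Criterion.TypeU3LayBasic
import Cfsg.Agent.Criterion.TypeU3Act

/-!
# The strong embedding criterion: translations over the first layer

`H` consists of the elements at `a` normalising `E`, `R` and `S` that move `v` inside `R v`; the normal
subgroup acting trivially on `S / E` maps onto the field of `E` by the shift, as soon as one element
of `H` moves `v` out of `v E`.
-/

set_option autoImplicit false
set_option linter.style.haveILetI false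
set_option linter.unusedSectionVars false

namespace CfsgLib.Criterion

open Subgroup CfsgLib.Invol CfsgLib.Bender

universe u

variable {G : Type u} [Group G] [Finite G]

namespace Ctx

variable {C : Ctx G}

namespace Lay3

variable {v : G} {a b : C.Pt} {D E P : Subgroup G} (X : C.Lay3 v a b D E P)

local notation "S" => P ⊓ C.L v
local notation "q" => Nat.card E

include X

/-- The shift of `g` in the first layer. -/
def ye (_X : C.Lay3 v a b D E P) (g : G) : G := g * v * g⁻¹ * v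

theorem ye_mul_v (g : G) : X.ye g * v = g * v * g⁻¹ := by rw [ye, mul_assoc, X.vv, mul_one]

theorem ye_mul (g h : G) : X.ye (g * h) = g * X.ye h * g⁻¹ * X.ye g := by
  rw [ye, ye, ye, show g * (h * v * h⁻¹ * v) * g⁻¹ * (g * v * g⁻¹ * v) =
    g * h * v * (g * h)⁻¹ * (g * (v * v) * g⁻¹ * v) by group, X.vv, mul_one, mul_inv_cancel, one_mul]

theorem ye_one : X.ye 1 = 1 := by rw [ye, one_mul, inv_one, mul_one, X.vv]

theorem ye_of_commute {g : G} (h : Commute g v) : X.ye g = 1 := by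
  rw [ye, h.eq, mul_inv_cancel_right, X.vv]

/-- The elements at `a` normalising `E`, `R`, `S` and moving `v` inside `R v`. -/
def H (X : C.Lay3 v a b D E P) : Subgroup G := subgroupOfClosed
  {g | g • a = a ∧ (∀ e ∈ E, g * e * g⁻¹ ∈ E) ∧ (∀ y ∈ X.R, g * y * g⁻¹ ∈ X.R) ∧
    (∀ s ∈ S, g * s * g⁻¹ ∈ S) ∧ X.ye g ∈ X.R}
  ⟨one_smul _ a, fun e he => by simpa using he, fun y hy => by simpa using hy,
    fun s hs => by simpa using hs, by rw [X.ye_one]; exact one_mem _⟩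
  (by
    rintro g h ⟨hga, hgE, hgR, hgS, hgy⟩ ⟨hha, hhE, hhR, hhS, hhy⟩
    refine ⟨by rw [mul_smul, hha, hga], fun e he => ?_, fun y hy => ?_, fun s hs => ?_, ?_⟩
    · simpa [mul_assoc] using hgE _ (hhE e he)
    · simpa [mul_assoc] using hgR _ (hhR y hy)
    · simpa [mul_assoc] using hgS _ (hhS s hs)
    · rw [X.ye_mul]; exact mul_mem (hgR _ hhy) hgy)

theorem mem_H {g : G} : g ∈ X.H ↔ g • a = a ∧ (∀ e ∈ E, g * e * g⁻¹ ∈ E) ∧
    (∀ y ∈ X.R, g * y * g⁻¹ ∈ X.R) ∧ (∀ s ∈ S, g * s * g⁻¹ ∈ S) ∧ X.ye g ∈ X.R := Iff.rfl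

theorem T_le_H : X.T ≤ X.H := fun g hg =>
  ⟨(X.memT g hg).1, (X.memT g hg).2.1, X.T_R g hg, X.T_S g hg, X.E_le_R (X.memT g hg).2.2⟩

theorem mem_N₁ {g : G} (hg : g ∈ X.H) (h : X.ye g ∈ E) : g ∈ X.toCfg3.N₁ :=
  ⟨hg.1, hg.2.1, h, fun s hs => Or.inl (hg.2.2.2.1 s hs)⟩

/-- Conjugation in `H` carries shifts. -/
theorem del_conj {g y : G} (hg : g ∈ X.H) (hy : y ∈ X.R) :
    del v (g * y * g⁻¹) = g * del v y * g⁻¹ := by
  set y₁ := X.ye g⁻¹ with hy₁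
  have hy₁R : y₁ ∈ X.R := (inv_mem hg : g⁻¹ ∈ X.H).2.2.2.2
  have hvy : v * y * v⁻¹ ∈ X.R := by
    rw [inv_eq_of_mul_eq_one_right X.vv]; exact X.v_norm hy
  calc del v (g * y * g⁻¹)
      = g * ((g⁻¹ * v * g⁻¹⁻¹) * y * (g⁻¹ * v * g⁻¹⁻¹)⁻¹ * y⁻¹) * g⁻¹ := by rw [del]; group
    _ = g * (y₁ * (v * y * v⁻¹) * y₁⁻¹ * y⁻¹) * g⁻¹ := by
        rw [← X.ye_mul_v g⁻¹, ← hy₁]; group
    _ = g * del v y * g⁻¹ := by rw [(X.R_R y₁ hy₁R _ hvy).eq, mul_inv_cancel_right, del]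

/-- The shift of an element of `H`, in coordinates. -/
def τ (X : C.Lay3 v a b D E P) (g : G) : X.co.K := X.co.z (del v (X.ye g))

theorem τ_fix {g : G} (hg : g ∈ X.H) : X.τ g ^ q = X.τ g :=
  X.co.z_fix _ (X.del_mem _ hg.2.2.2.2)

theorem τ_mul {g h : G} (hg : g ∈ X.H) (hh : h ∈ X.H) :
    X.τ (g * h) = X.co.z (g * del v (X.ye h) * g⁻¹) + X.τ g := by
  rw [τ, X.ye_mul, X.del_hom (hg.2.2.1 _ hh.2.2.2.2) hg.2.2.2.2, X.del_conj hg hh.2.2.2.2,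
    X.co.z_mul _ (hg.2.1 _ (X.del_mem _ hh.2.2.2.2)) _ (X.del_mem _ hg.2.2.2.2), τ]

theorem τ_of_ye {g : G} (h : X.ye g ∈ E) : X.τ g = 0 := by
  rw [τ, X.del_E h, X.z_one]

theorem ye_of_τ {g : G} (hg : g ∈ X.H) (h : X.τ g = 0) : X.ye g ∈ E :=
  X.del_ker _ hg.2.2.2.2 (commute_of_del ((X.z_eq_zero (X.del_mem _ hg.2.2.2.2)).1 h))

/-- The elements of `H` trivial on `S / E`. -/
def N₃ (X : C.Lay3 v a b D E P) : Subgroup G := subgroupOfClosed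
  {g | g ∈ X.H ∧ ∀ s ∈ S, X.co.w (g * s * g⁻¹) = X.co.w s}
  ⟨one_mem _, fun s _ => by simp⟩
  (by
    rintro g h ⟨hg, hgw⟩ ⟨hh, hhw⟩
    refine ⟨mul_mem hg hh, fun s hs => ?_⟩
    rw [show g * h * s * (g * h)⁻¹ = g * (h * s * h⁻¹) * g⁻¹ by group, hgw _ (hh.2.2.2.1 s hs),
      hhw s hs])

theorem mem_N₃ {g : G} : g ∈ X.N₃ ↔ g ∈ X.H ∧ ∀ s ∈ S, X.co.w (g * s * g⁻¹) = X.co.w s := Iff.rfl

theorem N₃_le : X.N₃ ≤ X.H := fun _ hg => hg.1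

/-- An element of `H` acts semilinearly. -/
theorem exists_semi {g : G} (hg : g ∈ X.H) :
    ∃ (c : X.co.K) (σ : X.co.K ≃+* X.co.K), c ≠ 0 ∧
      (∀ s ∈ S, X.co.w (g * s * g⁻¹) = c * σ (X.co.w s)) ∧
      ∀ e ∈ E, X.co.z (g * e * g⁻¹) = c ^ (q + 1) * σ (X.co.z e) := by
  let α : MulAut ↥(S) := MulEquiv.ofBijective
    (MonoidHom.mk' (fun s : ↥(S) => (⟨g * s * g⁻¹, hg.2.2.2.1 s s.2⟩ : ↥(S))) fun s s' =>
      Subtype.ext (show g * ((s : G) * s') * g⁻¹ = g * s * g⁻¹ * (g * s' * g⁻¹) by group))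
    (Function.Injective.bijective_of_nat_card_le (fun s s' h => Subtype.ext
      (mul_left_cancel (mul_right_cancel (congrArg Subtype.val h :)))) le_rfl)
  obtain ⟨c, σ, hc, hw, hz⟩ := X.co.semi α
  exact ⟨c, σ, hc, fun s hs => hw ⟨s, hs⟩, fun e he => hz ⟨e, X.E_S he⟩ he⟩

theorem N₃_normal {g n : G} (hg : g ∈ X.H) (hn : n ∈ X.N₃) : g * n * g⁻¹ ∈ X.N₃ := by
  refine ⟨mul_mem (mul_mem hg hn.1) (inv_mem hg), fun s hs => ?_⟩
  obtain ⟨c, σ, -, hw, -⟩ := X.exists_semi hg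
  have hs' : g⁻¹ * s * g⁻¹⁻¹ ∈ S := (inv_mem hg : g⁻¹ ∈ X.H).2.2.2.1 s hs
  rw [show g * n * g⁻¹ * s * (g * n * g⁻¹)⁻¹ = g * (n * (g⁻¹ * s * g⁻¹⁻¹) * n⁻¹) * g⁻¹ by group,
    hw _ (hn.1.2.2.2.1 _ hs'), hn.2 _ hs', ← hw _ hs',
    show g * (g⁻¹ * s * g⁻¹⁻¹) * g⁻¹ = s by group]

theorem N₃_commute_E {g : G} (hg : g ∈ X.N₃) {e : G} (he : e ∈ E) : Commute g e := by
  obtain ⟨s, hs, rfl⟩ := X.exists_sqrt he
  refine mul_inv_eq_iff_eq_mul.1 ?_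
  have hs' := hg.1.2.2.2.1 s hs
  rw [show g * (s * s) * g⁻¹ = g * s * g⁻¹ * (g * s * g⁻¹) by group]
  refine X.co.z_inj (X.sq_mem hs') (X.sq_mem hs) ?_
  rw [X.co.z_sq _ hs', X.co.z_sq s hs, hg.2 s hs]

theorem τ_add {g h : G} (hg : g ∈ X.N₃) (hh : h ∈ X.H) : X.τ (g * h) = X.τ h + X.τ g := by
  rw [X.τ_mul hg.1 hh, (X.N₃_commute_E hg (X.del_mem _ hh.2.2.2.2)).eq, mul_inv_cancel_right]
  rfl

theorem τ_inv {g : G} (hg : g ∈ X.N₃) : X.τ g⁻¹ = X.τ g := by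
  have h := X.τ_add hg (inv_mem hg.1)
  rw [mul_inv_cancel, X.τ_of_ye (X.ye_one.symm ▸ one_mem E)] at h
  exact CharTwo.add_eq_zero.1 h.symm

/-- An element of `N₃` fixing `v E` is trivial on `S / E` in `N₁`. -/
theorem mem_M₂ {g : G} (hg : g ∈ X.N₃) (h : X.τ g = 0) : g ∈ X.toCfg3.M₂ :=
  ⟨X.mem_N₁ hg.1 (X.ye_of_τ hg.1 h), fun s hs => Or.inl
    ((X.w_eq hs (hg.1.2.2.2.1 s hs)).1 (hg.2 s hs).symm)⟩

/-- The two descriptions of `S R ⟨v⟩` agree. -/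
theorem T₂_eq : X.toCfg3.T₂ = X.T₂ := by
  refine le_antisymm (fun x hx => ?_) fun x hx => ?_
  · obtain ⟨s, hs, y, hy, d, hd, rfl⟩ := X.T_mul x (X.toCfg3.T₂_le hx)
    have hk : s * y ∈ X.K := X.mem_K.2 ⟨s, hs, y, hy, rfl⟩
    have hK : s * y ∈ X.toCfg3.T₂ := mem_inf.2 ⟨X.K_le_T hk, X.toCfg3.T_le (X.K_le_T hk),
      fun r hr => Or.inl (by
        have h := X.comm_mem (inv_mem hr) hs
        rw [inv_inv] at h
        rwa [show s * y * r * (s * y)⁻¹ = s * (y * r * y⁻¹) * s⁻¹ by group, (X.R_S y hy r hr).eq,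
          mul_inv_cancel_right, ← mul_assoc, ← mul_assoc])⟩
    have hd₂ : d ∈ X.toCfg3.T₂ := by
      have := mul_mem (inv_mem hK) hx
      rwa [inv_mul_cancel_left] at this
    refine mul_mem (X.K_le_T₂ hk) ?_
    rcases X.toCfg3.mem_Sv_of_commute hd₂ (X.typ.maxPair.fix d hd).2.2 with h | h
    · exact X.mem_T₂.2 (Or.inl (X.S_le_K h))
    · exact X.mem_T₂.2 (Or.inr (X.S_le_K h))
  · have hK : X.K ≤ X.toCfg3.T₂ := fun k hk => by
      obtain ⟨s, hs, y, hy, rfl⟩ := X.mem_K.1 hk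
      refine mul_mem (X.toCfg3.S_le_T₂ hs) (mem_inf.2 ⟨X.R_le_T hy, X.toCfg3.T_le (X.R_le_T hy),
        fun r hr => Or.inl ?_⟩)
      rw [(X.R_S y hy r hr).eq, mul_inv_cancel_right, inv_mul_cancel]
      exact one_mem _
    rcases X.mem_T₂.1 hx with h | h
    · exact hK h
    · rw [← X.toCfg3.mul_v_mul_v (x := x)]
      exact mul_mem (hK h) X.toCfg3.v_mem_T₂

theorem T₂_le_N₃ : X.T₂ ≤ X.N₃ := fun g hg => by
  rw [← X.T₂_eq] at hg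
  exact ⟨X.T_le_H (X.toCfg3.T₂_le hg), fun s hs =>
    ((X.w_eq hs (X.T_S g (X.toCfg3.T₂_le hg) s hs)).2 ((X.toCfg3.sq_and_conj hg).2 s hs)).symm⟩

/-- A 2-group of `N₃` fixing `v E` is no larger than `S R ⟨v⟩`. -/
theorem card_le_T₂ {W : Subgroup G} (hW : IsPGroup 2 W) (hWN : W ≤ X.N₃)
    (hτ : ∀ g ∈ W, X.τ g = 0) : Nat.card W ≤ Nat.card X.T₂ := by
  obtain ⟨m, -, hm⟩ := X.toCfg3.exists_conj_T (M := X.toCfg3.M₂) (fun g hg => hg.1)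
    (fun g hg x hx => X.toCfg3.M₂_normal hg hx) hW fun g hg => X.mem_M₂ (hWN hg) (hτ g hg)
  rw [← X.T₂_eq]
  exact Nat.card_le_card_of_injective (fun g : W => (⟨m * g * m⁻¹, hm g g.2⟩ : ↥X.toCfg3.T₂))
    fun g g' h => Subtype.ext (mul_left_cancel (mul_right_cancel (congrArg Subtype.val h :)))

/-- **Shifts fill the field of `E`.** -/
theorem exists_τ {h y : G} (hh : h ∈ X.H) (hy : y ∈ X.R) (hyE : y ∉ E) (hv : h * v * h⁻¹ = v * y)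
    {r : X.co.K} (hr : r ^ q = r) : ∃ n ∈ X.N₃, X.τ n = r := by
  classical
  have hτh : X.τ h ≠ 0 := fun h0 => by
    have h1 := X.ye_of_τ hh h0
    rw [ye, hv] at h1
    refine hyE (X.del_ker y hy (commute_of_del ?_))
    have h2 : del v (v * y * v) = del v y := by
      rw [conj_v_eq X.vv, X.del_hom (X.E_le_R (X.del_mem y hy)) hy, X.del_E (X.del_mem y hy), one_mul]
    rw [← h2, X.del_E h1]
  -- a scalar other than `1`
  obtain ⟨ν, hν0, hν1, hνq⟩ : ∃ ν : X.co.K, ν ≠ 0 ∧ ν ≠ 1 ∧ ν ^ q = ν := by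
    by_contra hall
    push Not at hall
    have hle : q ≤ Nat.card (({0, 1} : Finset X.co.K)) := by
      refine Nat.card_le_card_of_injective (fun e : ↥E => (⟨X.co.z e, ?_⟩ : ({0, 1} : Finset X.co.K)))
        fun e e' he => Subtype.ext (X.co.z_inj e.2 e'.2 (congrArg Subtype.val he :))
      simp only [Finset.mem_insert, Finset.mem_singleton]
      by_cases h0 : X.co.z e = 0
      · exact Or.inl h0
      · exact Or.inr (by_contra fun h1 => hall _ h0 h1 (X.co.z_fix e e.2))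
    rw [Nat.card_eq_finsetCard] at hle
    have := Finset.card_le_two (a := (0 : X.co.K)) (b := 1)
    have := X.four_le
    omega
  obtain ⟨c, σ, hc, hw, hz⟩ := X.exists_semi hh
  have hσq : σ ν ^ q = σ ν := by rw [← map_pow, hνq]
  obtain ⟨m, hma, hmv, hmS, hmR, hmE⟩ := X.tor ν hν0 hνq
  obtain ⟨m', hm'a, hm'v, hm'S, hm'R, hm'E⟩ :=
    X.tor (σ ν) (fun h => hν0 ((map_eq_zero σ).1 h)) hσq
  have hmH : m ∈ X.H := ⟨hma, fun e he => (hmE e he).1, hmR, fun s hs => (hmS s hs).1,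
    by rw [X.ye_of_commute hmv]; exact one_mem _⟩
  have hm'H : m' ∈ X.H := ⟨hm'a, fun e he => (hm'E e he).1, hm'R, fun s hs => (hm'S s hs).1,
    by rw [X.ye_of_commute hm'v]; exact one_mem _⟩
  set n := h * m * h⁻¹ * m'⁻¹ with hn
  have hnH : n ∈ X.H := mul_mem (mul_mem (mul_mem hh hmH) (inv_mem hh)) (inv_mem hm'H)
  have hnN : n ∈ X.N₃ := by
    refine ⟨hnH, fun s hs => ?_⟩
    have hs₁ := (inv_mem hm'H : m'⁻¹ ∈ X.H).2.2.2.1 s hs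
    have hs₂ := (inv_mem hh : h⁻¹ ∈ X.H).2.2.2.1 _ hs₁
    have hs₃ := (hmS _ hs₂).1
    rw [show n * s * n⁻¹ = h * (m * (h⁻¹ * (m'⁻¹ * s * m'⁻¹⁻¹) * h⁻¹⁻¹) * m⁻¹) * h⁻¹ by rw [hn]; group,
      hw _ hs₃, (hmS _ hs₂).2, map_mul, mul_left_comm, ← hw _ hs₂,
      show h * (h⁻¹ * (m'⁻¹ * s * m'⁻¹⁻¹) * h⁻¹⁻¹) * h⁻¹ = m'⁻¹ * s * m'⁻¹⁻¹ by group,
      ← (hm'S _ hs₁).2, show m' * (m'⁻¹ * s * m'⁻¹⁻¹) * m'⁻¹ = s by group]
  have hzσ : ∀ g ∈ X.H, X.co.z (h * del v (X.ye g) * h⁻¹) = c ^ (q + 1) * σ (X.τ g) := fun g hg =>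
    hz _ (X.del_mem _ hg.2.2.2.2)
  have hzero : c ^ (q + 1) * σ (X.τ h⁻¹) + X.τ h = 0 := by
    rw [← hzσ _ (inv_mem hh), ← X.τ_mul hh (inv_mem hh), mul_inv_cancel]
    exact X.τ_of_ye (X.ye_one.symm ▸ one_mem E)
  have hm'0 : X.τ m'⁻¹ = 0 := by
    refine X.τ_of_ye ?_
    rw [X.ye_of_commute hm'v.inv_left]; exact one_mem _
  have hmτ : ∀ g ∈ X.H, X.τ (m * g) = ν ^ 2 * X.τ g := fun g hg => by
    rw [X.τ_mul hmH hg, (hmE _ (X.del_mem _ hg.2.2.2.2)).2, show X.τ m = 0 from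
      X.τ_of_ye (by rw [X.ye_of_commute hmv]; exact one_mem _), add_zero]
    rfl
  have hτn : X.τ n = (σ ν ^ 2 + 1) * X.τ h := by
    have e1 : X.τ n = X.τ (h * m * h⁻¹) := by
      have h2 : X.ye m'⁻¹ = 1 := X.ye_of_commute hm'v.inv_left
      rw [hn, τ, τ, X.ye_mul, h2, mul_one, mul_inv_cancel, one_mul]
    rw [e1, mul_assoc, X.τ_mul hh (mul_mem hmH (inv_mem hh)), hzσ _ (mul_mem hmH (inv_mem hh)),
      hmτ _ (inv_mem hh), map_mul, map_pow]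
    linear_combination (σ ν ^ 2) * hzero - (σ ν ^ 2 * X.τ h) * CharTwo.two_eq_zero (R := X.co.K)
  set t := X.τ n with ht
  have ht0 : t ≠ 0 := by
    rw [hτn]
    refine mul_ne_zero (fun h0 => hν1 (σ.injective ?_)) hτh
    rw [map_one]
    exact (CharTwo.sq_injective (by rw [CharTwo.add_eq_zero.1 h0, one_pow] : σ ν ^ 2 = 1 ^ 2))
  by_cases hr0 : r = 0
  · exact ⟨1, one_mem _, by rw [hr0]; exact X.τ_of_ye (X.ye_one.symm ▸ one_mem E)⟩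
  have hrtq : (r / t) ^ q = r / t := by rw [div_pow, hr, X.τ_fix hnH]
  obtain ⟨hμq, hμ⟩ := X.sqrt_fixed hrtq
  have hμ0 : (r / t) ^ (q / 2) ≠ 0 := pow_ne_zero _ (div_ne_zero hr0 ht0)
  obtain ⟨k, hka, hkv, hkS, hkR, hkE⟩ := X.tor _ hμ0 hμq
  have hkH : k ∈ X.H := ⟨hka, fun e he => (hkE e he).1, hkR, fun s hs => (hkS s hs).1,
    by rw [X.ye_of_commute hkv]; exact one_mem _⟩
  refine ⟨k * n * k⁻¹, X.N₃_normal hkH hnN, ?_⟩
  have h2 : X.ye k⁻¹ = 1 := X.ye_of_commute hkv.inv_left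
  have h3 : X.τ (k * n * k⁻¹) = X.τ (k * n) := by
    rw [τ, τ, X.ye_mul, h2, mul_one, mul_inv_cancel, one_mul]
  rw [h3, X.τ_mul hkH hnH, (hkE _ (X.del_mem _ hnH.2.2.2.2)).2, show X.τ k = 0 from
      X.τ_of_ye (by rw [X.ye_of_commute hkv]; exact one_mem _), add_zero]
  show _ * t = r
  rw [pow_succ, hμq] at hμ
  rw [pow_two, hμ, div_mul_cancel₀ _ ht0]

end Lay3

end Ctx

end CfsgLib.Criterion
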