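import Cfsg.Agent.Criterion.TypeU3Act
import Cfsg.Agent.Criterion.TypeU3Class
import Cfsg.Agent.Criterion.TypeCross
import Cfsg.Agent.ChevAut.FieldCard
import Mathlib.GroupTheory.SpecificGroups.Cyclic

/-!
# The strong embedding criterion: tools for `Q = q ^ 3`

The semilinear action of `P` on `S / E`; the two-point stabiliser is abelian; an element of a 2-group
above `P` carrying an element of `D` to `v` lies in `P`; elementwise-linked subgroups of `P` are small;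
carriers of centralisers; the bound on 2-groups at `a`.
-/

set_option autoImplicit false
set_option linter.style.haveILetI false
set_option linter.unusedSectionVars false

namespace CfsgLib.Criterion

open Subgroup CfsgLib.Invol CfsgLib.Bender

universe u

variable {G : Type u} [Group G] [Finite G]

namespace Ctx.Cfg3

variable {C : Ctx G} {v : G} {a b : C.Pt} {D E P : Subgroup G} (X : C.Cfg3 v a b D E P)

local notation "S" => P ⊓ C.L v
local notation "q" => Nat.card E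

include X

theorem S_inter_D {s : G} (hs : s ∈ S) (hsb : s • b = b) : s = 1 :=
  X.typ.bad.reg_free C X.typ.reg hs X.typ.ne hsb

/-- Of square one among the field automorphisms are only the identity and `x ↦ x ^ q`. -/
theorem eq_one_or_frob {σ : RingAut X.co.K} (h : σ * σ = 1) : σ = 1 ∨ ∀ k, σ k = k ^ q := by
  classical
  haveI : Finite (RingAut X.co.K) := Finite.of_injective _ (DFunLike.coe_injective (F := RingAut X.co.K))
  haveI := Fintype.ofFinite (RingAut X.co.K)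
  haveI := Fintype.ofFinite X.co.K
  haveI : Fact (Nat.Prime 2) := ⟨Nat.prime_two⟩
  obtain ⟨n, hn⟩ := IsPGroup.iff_card.1 (X.typ.isE.isPGroup C)
  have hn0 : n ≠ 0 := fun h0 => by
    have := X.four_le; rw [hn, h0] at this; norm_num at this
  obtain ⟨φ, hφ, hφp⟩ := CfsgLib.AutPOm.exists_frob (F := X.co.K) (p := 2) (f := 2 * n) (by omega)
    (by rw [X.co.card, hn, ← pow_mul, mul_comm])
  letI : Algebra (ZMod 2) X.co.K := ZMod.algebra X.co.K 2
  haveI : IsCyclic (RingAut X.co.K) := by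
    refine isCyclic_of_orderOf_eq_card φ ?_
    rw [hφ, Recog.FieldSpan.card_aut]
    apply Nat.pow_right_injective (le_refl 2)
    show 2 ^ (2 * n) = 2 ^ Module.finrank (ZMod 2) X.co.K
    have := Module.card_eq_pow_finrank (K := ZMod 2) (V := X.co.K)
    rw [ZMod.card] at this
    rw [← this, Fintype.card_eq_nat_card, X.co.card, hn, ← pow_mul, mul_comm]
  have hfr : ∀ k, (φ ^ n) k = k ^ q := fun k => by rw [hφp, hn]
  have hne : φ ^ n ≠ 1 := fun h1 => by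
    have h2 := orderOf_dvd_of_pow_eq_one h1
    rw [hφ] at h2
    have := Nat.le_of_dvd (by omega) h2
    omega
  have h2 : (φ ^ n) ^ 2 = 1 := by rw [← pow_mul, mul_comm, ← hφ, pow_orderOf_eq_one]
  by_contra hc
  push Not at hc
  obtain ⟨hσ1, k, hk⟩ := hc
  have hle := IsCyclic.card_pow_eq_one_le (α := RingAut X.co.K) (n := 2) two_pos
  have h3 : ({1, φ ^ n, σ} : Finset (RingAut X.co.K)).card ≤ 2 := by
    refine le_trans (Finset.card_le_card fun x hx => ?_) hle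
    simp only [Finset.mem_insert, Finset.mem_singleton] at hx
    refine Finset.mem_filter.2 ⟨Finset.mem_univ _, ?_⟩
    rcases hx with rfl | rfl | rfl
    exacts [one_pow 2, h2, (pow_two _).trans h]
  rw [Finset.card_insert_of_notMem (by simp [hne.symm, Ne.symm hσ1]),
    Finset.card_insert_of_notMem (by
      rw [Finset.mem_singleton]
      exact fun e => hk (by rw [← e, hfr])), Finset.card_singleton] at h3
  omega

/-- **The semilinear action of `P`**: kernel `S ∪ S v`; the elements of square one modulo it centralise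
`E` and twist by `x ↦ x ^ q`. -/
theorem exists_sigma : ∃ (c : ↥P → X.co.K) (σ : ↥P →* RingAut X.co.K),
    (∀ g (s : ↥(S)), X.co.w (X.conjP g s) = c g * σ g (X.co.w s)) ∧
    (∀ g : ↥P, σ g = 1 → (g : G) ∈ S ∨ (g : G) * v ∈ S) ∧
    (∀ g : ↥P, σ g * σ g = 1 → ∀ e ∈ E, Commute (g : G) e) ∧
    (∀ g : ↥P, (∀ e ∈ E, Commute (g : G) e) → σ g = 1 ∨ ∀ k, σ g k = k ^ q) ∧
    IsCyclic σ.range := by
  classical
  obtain ⟨c, σ, hc0, hw, hz, hcmul, hinj, -, -⟩ := X.co.semi_two ↥P X.typ.two X.conjP fun x y r => by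
    rw [show X.conjP (x * y) r = X.conjP x (X.conjP y r) from
      Subtype.ext (by simp only [X.conjP_apply, Subgroup.coe_mul]; group), inv_mul_cancel]
    exact one_mem _
  have hc1 : c 1 = 1 := by
    have h := hcmul 1 1
    rw [mul_one, map_one] at h
    exact ((mul_eq_left₀ (hc0 1)).1 h.symm)
  have hcomm : ∀ g : ↥P, c g ^ (q + 1) = 1 → (∀ k, k ^ q = k → σ g k = k) →
      ∀ e ∈ E, Commute (g : G) e := fun g h1 h2 e he => by
    have h := hz g ⟨e, X.E_S he⟩ he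
    rw [h1, one_mul, h2 _ (X.co.z_fix e he), X.conjP_apply] at h
    exact mul_inv_eq_iff_eq_mul.1 (X.co.z_inj (X.typ.norm g g.2 e he) he h)
  have hσE : ∀ g : ↥P, σ g = 1 → ∀ e ∈ E, Commute (g : G) e := fun g hg => by
    refine hcomm g ?_ fun k _ => by rw [hg]; rfl
    rw [hinj g 1 (by rw [hg, map_one]), hc1, one_pow]
  -- trivial on `S` modulo `E`
  have htriv : ∀ x : ↥P, (∀ r : ↥(S), X.co.w (X.conjP x r) = X.co.w r) → σ x = 1 := fun x hx => by
    refine RingEquiv.ext fun e => ?_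
    have h : ∀ e, c x * σ x e = e := fun e => by
      obtain ⟨r, hr, rfl⟩ := X.co.w_surj e
      rw [← hw x ⟨r, hr⟩, hx]
    have h1 := h 1
    rw [map_one, mul_one] at h1
    simpa [h1] using h e
  refine ⟨c, σ, hw, fun x hx => ?_, fun g hg => ?_, fun g hgE => ?_, ?_⟩
  · -- the kernel
    have hxE := hσE x hx
    obtain ⟨r, hr, hd⟩ := X.typ.exists_mul x.2
    have hrσ : σ ⟨r, (mem_inf.1 hr).1⟩ = 1 := htriv _ fun r' => by
      refine ((X.w_eq r'.2 (X.conjP _ r').2).2 ?_).symm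
      rw [X.conjP_apply]
      have h := X.comm_mem (inv_mem r'.2) hr
      simpa [mul_assoc] using h
    have hdσ : σ ⟨r⁻¹ * x, mul_mem (inv_mem (mem_inf.1 hr).1) x.2⟩ = 1 := by
      rw [show (⟨r⁻¹ * x, mul_mem (inv_mem (mem_inf.1 hr).1) x.2⟩ : ↥P) =
        (⟨r, (mem_inf.1 hr).1⟩ : ↥P)⁻¹ * x from rfl, map_mul, map_inv, hrσ, hx, inv_one, one_mul]
    obtain ⟨hda, hdb, hdv⟩ := X.typ.maxPair.fix _ hd
    have hdE : ∀ e ∈ E, Commute (r⁻¹ * x) e := fun e he =>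
      ((X.es he hr).symm.inv_left).mul_left (hxE e he)
    have hdmod : ∀ r' ∈ S, r'⁻¹ * (r⁻¹ * x * r' * (r⁻¹ * x)⁻¹) ∈ E := fun r' hr' => by
      set d : ↥P := ⟨r⁻¹ * x, mul_mem (inv_mem (mem_inf.1 hr).1) x.2⟩
      have h1 : X.co.w (X.conjP d ⟨r', hr'⟩) = X.co.w r' := by
        rw [hw, hdσ, hinj d 1 (by rw [hdσ, map_one]), hc1, one_mul]
        rfl
      exact (X.w_eq hr' (X.conjP d ⟨r', hr'⟩).2).1 h1.symm
    rcases X.small _ hd (fun p hp => X.typ.kernel_of_trivial (Or.inr X.qn) hda hdb hdv hdE hdmod hp)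
      with h | h
    · exact Or.inl (by rwa [← inv_mul_eq_one.1 h])
    · refine Or.inr ?_
      rw [show (x : G) = r * v by rw [← h, mul_inv_cancel_left], mul_assoc, X.vv, mul_one]
      exact hr
  · rcases X.eq_one_or_frob hg with h | h
    · exact hσE g h
    refine hcomm g ?_ fun k hk => (h k).trans hk
    have h1 := hinj (g * g) 1 (by rw [map_mul, hg, map_one])
    rw [hcmul, hc1, h, mul_comm, ← pow_succ] at h1
    exact h1
  · have hfix : ∀ k, k ^ q = k → c g ^ (q + 1) * σ g k = k := fun k hk => by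
      obtain ⟨e, he, rfl⟩ := X.co.z_surj k hk
      have := hz g ⟨e, X.E_S he⟩ he
      rw [X.conjP_apply, (hgE e he).eq, mul_inv_cancel_right] at this
      exact this.symm
    have h1 := hfix 1 (one_pow _)
    rw [map_one, mul_one] at h1
    have hF : ∀ k, k ^ q = k → σ g k = k := fun k hk => by simpa [h1] using hfix k hk
    by_cases hne : σ g = 1
    · exact Or.inl hne
    refine Or.inr fun k => ?_
    obtain ⟨k₀, hk₀⟩ : ∃ k₀, σ g k₀ ≠ k₀ := by
      by_contra h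
      push Not at h
      exact hne (RingEquiv.ext h)
    rcases Recog.RankOneSuzuki.eq_or_eq_frob_of_fix X.co.card (σ g) hF k with h | h
    swap; · exact h
    rcases Recog.RankOneSuzuki.eq_or_eq_frob_of_fix X.co.card (σ g) hF (k + k₀) with h' | h'
    · rw [map_add, h] at h'
      exact absurd (add_left_cancel h') hk₀
    · rcases Recog.RankOneSuzuki.eq_or_eq_frob_of_fix X.co.card (σ g) hF k₀ with h'' | h''
      · exact absurd h'' hk₀
      · rw [map_add, h, h'', Forms.add_pow_q X.co.card] at h'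
        rw [h]
        exact add_right_cancel h'
  · haveI : Finite (RingAut X.co.K) := Finite.of_injective _ (DFunLike.coe_injective (F := RingAut X.co.K))
    haveI := Fintype.ofFinite X.co.K
    haveI : Fact (Nat.Prime 2) := ⟨Nat.prime_two⟩
    obtain ⟨n, hn⟩ := IsPGroup.iff_card.1 (X.typ.isE.isPGroup C)
    have hn0 : 1 ≤ 2 * n := by
      rcases n with _ | n
      · have := X.four_le; rw [hn] at this; norm_num at this
      · omega
    obtain ⟨e⟩ := CfsgLib.Chev.nonempty_ringAut_cyclic (F := X.co.K) (p := 2) hn0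
      (by rw [Fintype.card_eq_nat_card, X.co.card, hn, ← pow_mul, mul_comm])
    haveI : IsCyclic (RingAut X.co.K) := isCyclic_of_surjective e.symm.toMonoidHom e.symm.surjective
    infer_instance

theorem mem_D_of_ker {d : G} (hd : d ∈ D) (h : d ∈ S ∨ d * v ∈ S) : d = 1 ∨ d = v := by
  rcases h with h | h
  · exact Or.inl (X.S_inter_D h (X.typ.fix_b hd))
  · refine Or.inr ?_
    have := X.S_inter_D h (by rw [mul_smul, X.typ.vb, X.typ.fix_b hd])
    rw [mul_eq_one_iff_eq_inv, inv_eq_of_mul_eq_one_right X.vv] at this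
    exact this

/-- **`D` is abelian.** -/
theorem D_comm {x y : G} (hx : x ∈ D) (hy : y ∈ D) : Commute x y := by
  obtain ⟨c, σ, -, hker, -, -, hcyc⟩ := X.exists_sigma
  let f : ↥D →* σ.range := σ.rangeRestrict.comp (Subgroup.inclusion X.typ.le)
  have hf : f.ker ≤ Subgroup.center ↥D := fun d hd => by
    rcases X.mem_D_of_ker d.2 (hker _ (congrArg Subtype.val hd)) with h | h
    · rw [show d = 1 from Subtype.ext h]; exact one_mem _
    · refine Subgroup.mem_center_iff.2 fun g => Subtype.ext ?_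
      rw [Subgroup.coe_mul, Subgroup.coe_mul, h]
      exact (X.typ.fix g (X.typ.le g.2)).2.eq
  haveI := hcyc
  have := (MonoidHom.isMulCommutative_of_isCyclic_of_ker_le_center f hf).is_comm.comm
    (⟨x, hx⟩ : ↥D) ⟨y, hy⟩
  exact congrArg Subtype.val this

/-- An element of `D` with square in `⟨v⟩` centralises `E`. -/
theorem comm_E_of_sq {d : G} (hd : d ∈ D) (h : d * d = 1 ∨ d * d = v) : ∀ e ∈ E, Commute d e := by
  obtain ⟨c, σ, hw, -, hsq, -, -⟩ := X.exists_sigma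
  refine hsq ⟨d, X.typ.le hd⟩ ?_
  rw [← map_mul]
  rcases h with h | h
  · rw [show (⟨d, X.typ.le hd⟩ : ↥P) * ⟨d, X.typ.le hd⟩ = 1 from Subtype.ext h, map_one]
  rw [show (⟨d, X.typ.le hd⟩ : ↥P) * ⟨d, X.typ.le hd⟩ = ⟨v, X.typ.vP⟩ from Subtype.ext h]
  refine RingEquiv.ext fun k => ?_
  have hid : ∀ s : ↥(S), X.conjP ⟨v, X.typ.vP⟩ s = s := fun s => Subtype.ext (by
    rw [X.conjP_apply, ← (X.sv s.2).eq, mul_inv_cancel_right])
  have h' : ∀ k, c ⟨v, X.typ.vP⟩ * σ ⟨v, X.typ.vP⟩ k = k := fun k => by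
    obtain ⟨r, hr, rfl⟩ := X.co.w_surj k
    rw [← hw _ ⟨r, hr⟩, hid]
  have h1 := h' 1
  rw [map_one, mul_one] at h1
  simpa [h1] using h' k

/-- **An element of a 2-group above `P` carrying an element of `D` to `v` lies in `P`.** -/
theorem key {W : Subgroup G} (hW : IsPGroup 2 W) (hPW : P ≤ W) (hWa : ∀ g ∈ W, g • a = a) {y : G}
    (hy : y ∈ W) {d : G} (hd : d ∈ D) (h : y * d * y⁻¹ = v) : y ∈ P := by
  have hDW : ∀ x ∈ D, y * x * y⁻¹ ∈ P := fun x hx => by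
    have hxW := mul_mem (mul_mem hy (hPW (X.typ.le hx))) (inv_mem hy)
    refine X.typ.mem_P hW hPW hxW (hWa _ hxW) ?_
    rw [← h]
    exact (Commute.conj_iff y).2 (X.D_comm hx hd)
  have hyb : v • (y • b) = y • b := by
    rw [← h, mul_smul, mul_smul, inv_smul_smul, X.typ.fix_b hd]
  obtain ⟨s, hs, -, hsb⟩ := X.typ.trans X.typ.vb hyb X.typ.ne
    fun e => X.typ.ne (smul_left_cancel y (e.trans (hWa y hy).symm))
  set z := s⁻¹ * y with hz
  have hzW : z ∈ W := mul_mem (inv_mem (hPW hs)) hy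
  have hzb : z • b = b := by rw [hz, mul_smul, inv_smul_eq_iff, hsb]
  have hza : z • a = a := hWa z hzW
  have hzD : ∀ x ∈ D, z * x * z⁻¹ ∈ D := fun x hx => by
    refine X.typ.mem_D ?_ ?_
    · rw [hz, show s⁻¹ * y * x * (s⁻¹ * y)⁻¹ = s⁻¹ * (y * x * y⁻¹) * s by group]
      exact mul_mem (mul_mem (inv_mem hs) (hDW x hx)) hs
    · rw [mul_smul, mul_smul, inv_smul_eq_iff.2 hzb.symm, X.typ.fix_b hx, hzb]
  set W' := W ⊓ (MulAction.stabilizer G a ⊓ MulAction.stabilizer G b) with hW'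
  have hDW' : D ≤ W' := fun x hx => mem_inf.2 ⟨hPW (X.typ.le hx),
    mem_inf.2 ⟨MulAction.mem_stabilizer_iff.2 (X.typ.fix x (X.typ.le hx)).1,
      MulAction.mem_stabilizer_iff.2 (X.typ.fix_b hx)⟩⟩
  have hle : Nat.card W' ≤ Nat.card D := X.typ.maxPair.max a b X.typ.ne.symm W'
    (hW.to_le inf_le_left) fun g hg => ⟨MulAction.mem_stabilizer_iff.1 (mem_inf.1 (mem_inf.1 hg).2).1,
      MulAction.mem_stabilizer_iff.1 (mem_inf.1 (mem_inf.1 hg).2).2⟩
  have hzD' : z ∈ D := (eq_of_le_of_card_ge hDW' hle).ge (mem_inf.2 ⟨hzW,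
    mem_inf.2 ⟨MulAction.mem_stabilizer_iff.2 hza, MulAction.mem_stabilizer_iff.2 hzb⟩⟩)
  rw [show y = s * z by rw [hz, mul_inv_cancel_left]]
  exact mul_mem hs (X.typ.le hzD')

/-- **A linked subgroup of `P` centralising `E`** lies in `S ∪ S v` or has order at most `4 q ^ 2`. -/
theorem sub_P1 {Y : Subgroup G} (hYP : Y ≤ P) (hYE : ∀ y ∈ Y, ∀ e ∈ E, Commute y e)
    (hYc : ∀ x ∈ Y, ∀ y ∈ Y, x * y * x⁻¹ * y⁻¹ ∈ E) :
    (∀ y ∈ Y, y ∈ S ∨ y * v ∈ S) ∨
      (Nat.card Y ≤ 4 * q ^ 2 ∧ (Nat.card Y = 4 * q ^ 2 → v ∈ Y)) := by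
  classical
  by_cases hall : ∀ y ∈ Y, y ∈ S ∨ y * v ∈ S
  · exact Or.inl hall
  push Not at hall
  obtain ⟨y₀, hy₀, hy₀S⟩ := hall
  obtain ⟨c, σ, hw, hker, -, hfrob, -⟩ := X.exists_sigma
  set g₀ : ↥P := ⟨y₀, hYP hy₀⟩
  have hσ : ∀ k, σ g₀ k = k ^ q := (hfrob g₀ (hYE y₀ hy₀)).resolve_left fun h => by
    rcases hker g₀ h with h | h
    exacts [hy₀S.1 h, hy₀S.2 h]
  have hline : ∀ s ∈ S, y₀ * s * y₀⁻¹ * s⁻¹ ∈ E → c g₀ * X.co.w s ^ q = X.co.w s := fun s hs h => by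
    rw [← hσ, ← hw g₀ ⟨s, hs⟩]
    refine ((X.w_eq hs (X.conjP g₀ ⟨s, hs⟩).2).2 ?_).symm
    rw [X.conjP_apply]
    show s⁻¹ * (y₀ * s * y₀⁻¹) ∈ E
    rw [show s⁻¹ * (y₀ * s * y₀⁻¹) = s⁻¹ * (y₀ * s * y₀⁻¹ * s⁻¹) * s by group,
      mul_assoc, (X.es h hs).eq, inv_mul_cancel_left]
    exact h
  let f : ↥(Y ⊓ (S)) →* Multiplicative X.co.K := MonoidHom.mk'
    (fun s => Multiplicative.ofAdd (X.co.w s)) fun s t => by
      rw [Subgroup.coe_mul, X.co.w_mul _ (mem_inf.1 s.2).2 _ (mem_inf.1 t.2).2]; rfl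
  let ι : ↥f.ker → ↥E := fun s =>
    ⟨(s : ↥(Y ⊓ (S))), (X.co.w_E _ (mem_inf.1 (s : ↥(Y ⊓ (S))).2).2).1
      (congrArg Multiplicative.toAdd s.2)⟩
  have hι : Function.Injective ι := fun s t h => Subtype.ext (Subtype.ext (congrArg Subtype.val h :))
  let j : ↥f.range → {k : X.co.K // c g₀ * k ^ q = k} := fun r => ⟨r.1.toAdd, by
    obtain ⟨s, hs⟩ := r.2
    rw [← hs]
    exact hline _ (mem_inf.1 s.2).2 (hYc y₀ hy₀ s (mem_inf.1 s.2).1)⟩
  have hj : Function.Injective j := fun r r' h =>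
    Subtype.ext (Multiplicative.toAdd.injective (congrArg Subtype.val h :))
  have h1 : Nat.card f.ker ≤ q := Nat.card_le_card_of_injective ι hι
  have h2' : Nat.card {k : X.co.K // c g₀ * k ^ q = k} ≤ q := card_twist_fixed_le (c g₀) X.two_le
  have h2 : Nat.card f.range ≤ q := (Nat.card_le_card_of_injective j hj).trans h2'
  have hYS : Nat.card ↥(Y ⊓ (S)) = Nat.card f.range * Nat.card f.ker := by
    rw [← f.ker.card_mul_index, Subgroup.index_ker, mul_comm]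
  -- the part of an element in `D`
  choose sp hsp hdp using fun y : ↥Y => X.typ.exists_mul (hYP y.2)
  let W₀ := D ⊓ centralizer (E : Set G)
  let dp : ↥Y → ↥W₀ := fun y => ⟨(sp y)⁻¹ * y, mem_inf.2 ⟨hdp y,
    mem_centralizer_iff.2 fun e he => ((X.es he (hsp y)).symm.inv_left.mul_left (hYE y y.2 e he)).eq.symm⟩⟩
  haveI := Fintype.ofFinite ↥Y
  haveI := Fintype.ofFinite ↥W₀
  haveI := Fintype.ofFinite ↥(Y ⊓ (S))
  have hfib : ∀ d : ↥W₀, (Finset.univ.filter fun y => dp y = d).card ≤ Nat.card ↥(Y ⊓ (S)) := by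
    intro d
    rcases (Finset.univ.filter fun y => dp y = d).eq_empty_or_nonempty with h | ⟨y₁, hy₁⟩
    · rw [h, Finset.card_empty]; exact Nat.zero_le _
    rw [← Fintype.card_subtype, ← Nat.card_eq_fintype_card]
    refine Nat.card_le_card_of_injective (fun y : {y : ↥Y // dp y = d} =>
      (⟨(y.1 : G) * (y₁ : G)⁻¹, mem_inf.2 ⟨mul_mem y.1.2 (inv_mem y₁.2), ?_⟩⟩ : ↥(Y ⊓ (S))))
        fun y z h => Subtype.ext (Subtype.ext (mul_right_cancel (congrArg Subtype.val h :)))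
    have he : (sp y.1)⁻¹ * (y.1 : G) = (sp y₁)⁻¹ * (y₁ : G) :=
      congrArg Subtype.val (y.2.trans (Finset.mem_filter.1 hy₁).2.symm)
    have hy : (y.1 : G) = sp y.1 * ((sp y₁)⁻¹ * (y₁ : G)) := eq_mul_of_inv_mul_eq he
    rw [hy, ← mul_assoc, mul_inv_cancel_right]
    exact mul_mem (hsp _) (inv_mem (hsp _))
  have hcardY : Nat.card Y ≤ (Finset.univ.image dp).card * Nat.card ↥(Y ⊓ (S)) := by
    rw [Nat.card_eq_fintype_card, ← Finset.card_univ, mul_comm]
    exact Finset.card_le_mul_card_image _ _ fun d _ => hfib d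
  have himg : (Finset.univ.image dp).card ≤ 4 :=
    le_trans (le_trans (Finset.card_le_univ _) (Nat.card_eq_fintype_card (α := ↥W₀)).ge)
      (X.typ.card_centE X.qn X.small)
  have h3 : Nat.card ↥(Y ⊓ (S)) ≤ q ^ 2 := by rw [hYS, pow_two]; exact Nat.mul_le_mul h2 h1
  refine Or.inr ⟨hcardY.trans (Nat.mul_le_mul himg h3), fun heq => ?_⟩
  rw [heq] at hcardY
  have hq := X.four_le
  have h3' : Nat.card ↥(Y ⊓ (S)) = q ^ 2 := by
    refine le_antisymm h3 (Nat.le_of_mul_le_mul_left ?_ (show 0 < 4 by norm_num))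
    exact hcardY.trans (Nat.mul_le_mul_right _ himg)
  rw [hYS] at h3'
  have hkerq : q ≤ Nat.card f.ker := by nlinarith
  have hrangeq : q ≤ Nat.card f.range := by nlinarith
  have himg4 : 4 ≤ (Finset.univ.image dp).card := by nlinarith
  -- some element lies over `v`
  have hvW : v ∈ W₀ := mem_inf.2 ⟨X.typ.maxPair.mem,
    mem_centralizer_iff.2 fun e he => (X.typ.Ev he).eq⟩
  have huniv : Finset.univ.image dp = Finset.univ := Finset.eq_univ_of_card _ (le_antisymm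
    (Finset.card_le_univ _) ((Nat.card_eq_fintype_card (α := ↥W₀)).ge.trans
      ((X.typ.card_centE X.qn X.small).trans himg4)))
  obtain ⟨y, -, hy⟩ := Finset.mem_image.1 (huniv.ge (Finset.mem_univ (⟨v, hvW⟩ : ↥W₀)))
  have hyv : (y : G) = sp y * v := eq_mul_of_inv_mul_eq (congrArg Subtype.val hy)
  -- its part in `S` lies in `Y`
  have hw0 : c g₀ * X.co.w (sp y) ^ q = X.co.w (sp y) := hline _ (hsp y) (by
    have h := hYc y₀ hy₀ y y.2
    rw [hyv] at h
    rwa [show y₀ * (sp y * v) * y₀⁻¹ * (sp y * v)⁻¹ = y₀ * sp y * y₀⁻¹ * (sp y)⁻¹ by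
      rw [show y₀ * (sp y * v) * y₀⁻¹ * (sp y * v)⁻¹ = y₀ * sp y * (v * y₀⁻¹ * v⁻¹) * (sp y)⁻¹ by group,
        ← ((X.typ.fix y₀ (hYP hy₀)).2.inv_left).eq, mul_inv_cancel_right]] at h)
  obtain ⟨r, hr⟩ := (hj.bijective_of_nat_card_le (h2'.trans hrangeq)).2 ⟨_, hw0⟩
  obtain ⟨t, ht⟩ := r.2
  have hwt : X.co.w t = X.co.w (sp y) := by
    have h : Multiplicative.toAdd r.1 = X.co.w (sp y) := congrArg Subtype.val hr
    rw [← ht] at h
    exact h
  obtain ⟨e, he⟩ := (hι.bijective_of_nat_card_le hkerq).2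
    ⟨(t : G)⁻¹ * sp y, (X.w_eq (mem_inf.1 t.2).2 (hsp y)).1 hwt⟩
  have hspY : sp y ∈ Y := by
    have h := mul_mem (mem_inf.1 t.2).1 (mem_inf.1 (e : ↥(Y ⊓ (S))).2).1
    rwa [show ((e : ↥(Y ⊓ (S))) : G) = (t : G)⁻¹ * sp y from congrArg Subtype.val he,
      mul_inv_cancel_left] at h
  have := mul_mem (inv_mem hspY) y.2
  rwa [hyv, inv_mul_cancel_left] at this

/-- Commutators of a subgroup of index two in `S` generate `E`. -/
theorem E_le_of_comm {H A : Subgroup G} (hH : H ≤ S) (hcard : Nat.card ↥(S) ≤ 2 * Nat.card H)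
    (hA : ∀ s ∈ H, ∀ t ∈ H, s * t * s⁻¹ * t⁻¹ ∈ A) : E ≤ A := by
  classical
  by_contra hne
  obtain ⟨e₀, he₀, he₀A⟩ := SetLike.not_le_iff_exists.1 hne
  -- the elements with commutator in `A`
  have hcomm : ∀ s ∈ S, ∀ x ∈ S, ∀ y ∈ S,
      s * (x * y) * s⁻¹ * (x * y)⁻¹ = s * x * s⁻¹ * x⁻¹ * (s * y * s⁻¹ * y⁻¹) := by
    intro s hs x hx y hy
    have h := X.es (X.comm_mem hs hy) hx
    calc s * (x * y) * s⁻¹ * (x * y)⁻¹ = s * x * s⁻¹ * ((s * y * s⁻¹ * y⁻¹) * x⁻¹) := by group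
      _ = s * x * s⁻¹ * (x⁻¹ * (s * y * s⁻¹ * y⁻¹)) := by rw [h.inv_right.eq]
      _ = _ := by group
  let L : ∀ s ∈ S, Subgroup G := fun s hs =>
    subgroupOfClosed {x | x ∈ S ∧ s * x * s⁻¹ * x⁻¹ ∈ A}
      ⟨one_mem _, by rw [mul_one, mul_inv_cancel, inv_one, mul_one]; exact one_mem _⟩
      (by
        rintro x y ⟨hx, hxA⟩ ⟨hy, hyA⟩
        exact ⟨mul_mem hx hy, by rw [hcomm s hs x hx y hy]; exact mul_mem hxA hyA⟩)
  have hL : ∀ s, ∀ hs : s ∈ H, s ∉ E → L s (hH hs) = H := by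
    intro s hs hsE
    have hlt : L s (hH hs) < (S) := by
      refine lt_of_le_of_ne (fun x hx => hx.1) fun h => ?_
      obtain ⟨k, hk⟩ := X.exists_trace (X.co.z_fix e₀ he₀)
        (fun h => hsE ((X.co.w_E s (hH hs)).1 h))
      obtain ⟨x, hx, rfl⟩ := X.co.w_surj k
      rw [← X.co.z_comm s (hH hs) x hx] at hk
      exact he₀A (X.co.z_inj (X.comm_mem (hH hs) hx) he₀ hk ▸ (h.ge hx).2)
    refine (eq_of_le_of_card_ge
      (fun x hx => (⟨hH hx, hA s hs x hx⟩ : x ∈ S ∧ s * x * s⁻¹ * x⁻¹ ∈ A)) ?_).symm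
    obtain ⟨k, hk⟩ := card_dvd_of_le hlt.le
    have hk2 : 2 ≤ k := by
      by_contra h
      have : Nat.card ↥(S) ≤ Nat.card (L s (hH hs)) := by rw [hk]; interval_cases k <;> omega
      exact hlt.ne (eq_of_le_of_card_ge hlt.le this)
    have : Nat.card (L s (hH hs)) * 2 ≤ Nat.card ↥(S) := hk ▸ Nat.mul_le_mul_left _ hk2
    omega
  have h4 := X.four_le
  have hq3 : Nat.card ↥(S) = q ^ 3 := X.typ.card_S.trans X.qn
  have hbig : 2 * q < Nat.card H := by
    have : 4 * 4 * q ≤ q * q * q := Nat.mul_le_mul (Nat.mul_le_mul h4 h4) le_rfl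
    rw [hq3, show q ^ 3 = q * q * q by ring] at hcard
    omega
  haveI := Fintype.ofFinite ↥H
  obtain ⟨s₁, -, hs₁⟩ : ∃ s : ↥H, s ∈ Finset.univ ∧ (s : G) ∉ E := by
    by_contra h
    push Not at h
    have : Nat.card H ≤ q := Nat.card_le_card_of_injective
      (fun s : ↥H => (⟨s, h s (Finset.mem_univ s)⟩ : ↥E)) fun s t e => Subtype.ext (congrArg Subtype.val e :)
    omega
  obtain ⟨s₂, hs₂⟩ : ∃ s : ↥H, (s : G) ∉ E ∧ (s₁ : G) * s ∉ E := by
    by_contra h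
    push Not at h
    have : Nat.card H ≤ Nat.card (↥E ⊕ ↥E) := by
      refine Nat.card_le_card_of_injective (fun s : ↥H => if hs : (s : G) ∈ E then Sum.inl (⟨s, hs⟩ : ↥E)
        else Sum.inr (⟨(s₁ : G) * s, h s hs⟩ : ↥E)) fun s t e => ?_
      dsimp only at e
      split_ifs at e with h1 h2 h2
      · exact Subtype.ext (congrArg Subtype.val (Sum.inl.inj e) :)
      · exact Subtype.ext (mul_left_cancel (congrArg Subtype.val (Sum.inr.inj e) :))
    rw [Nat.card_sum] at this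
    omega
  -- an element outside `H`
  obtain ⟨x, hx, hxH⟩ : ∃ x ∈ S, x ∉ H := by
    by_contra h
    push Not at h
    have h1 := hL s₁ s₁.2 hs₁
    obtain ⟨k, hk⟩ := X.exists_trace (X.co.z_fix e₀ he₀)
      (fun h => hs₁ ((X.co.w_E _ (hH s₁.2)).1 h))
    obtain ⟨y, hy, rfl⟩ := X.co.w_surj k
    rw [← X.co.z_comm _ (hH s₁.2) y hy] at hk
    exact he₀A (X.co.z_inj (X.comm_mem (hH s₁.2) hy) he₀ hk ▸ hA _ s₁.2 y (h y hy))
  have hidx : (H.subgroupOf (S)).index = 2 := by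
    have hne1 : (H.subgroupOf (S)).index ≠ 1 := fun h =>
      hxH (mem_subgroupOf.1 ((index_eq_one.1 h).ge (mem_top (⟨x, hx⟩ : ↥(S)))))
    have h2 := (H.subgroupOf (S)).index_mul_card
    rw [Nat.card_congr (subgroupOfEquivOfLe hH).toEquiv] at h2
    have : 0 < Nat.card H := Nat.card_pos
    have hle : (H.subgroupOf (S)).index ≤ 2 := by
      refine Nat.le_of_mul_le_mul_right ?_ this
      rw [h2]; exact hcard
    have hpos : (H.subgroupOf (S)).index ≠ 0 := FiniteIndex.index_ne_zero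
    omega
  have hout : ∀ s, ∀ hs : s ∈ H, s ∉ E → s * x * s⁻¹ * x⁻¹ ∉ A := fun s hs hsE hmem =>
    hxH ((hL s hs hsE).le (⟨hx, hmem⟩ : x ∈ S ∧ _))
  -- the values outside `A` form one coset
  have hsum : ∀ t ∈ E, t ∉ A → ∀ s, ∀ hs : s ∈ H, s ∉ E → t * (s * x * s⁻¹ * x⁻¹) ∈ A := by
    intro t ht htA s hs hsE
    obtain ⟨k, hk⟩ := X.exists_trace (X.co.z_fix t ht) (fun h => hsE ((X.co.w_E s (hH hs)).1 h))
    obtain ⟨y, hy, rfl⟩ := X.co.w_surj k
    rw [← X.co.z_comm s (hH hs) y hy] at hk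
    have ey := X.co.z_inj (X.comm_mem (hH hs) hy) ht hk
    have hyH : y ∉ H := fun h => htA (ey ▸ hA s hs y h)
    have hyx : y * x ∈ H := by
      have := (Subgroup.mul_mem_iff_of_index_two hidx (a := (⟨y, hy⟩ : ↥(S))) (b := ⟨x, hx⟩)).2
        (iff_of_false (fun h => hyH (mem_subgroupOf.1 h)) (fun h => hxH (mem_subgroupOf.1 h)))
      exact mem_subgroupOf.1 this
    rw [← ey, ← hcomm s (hH hs) y hy x hx]
    exact hA s hs _ hyx
  have hm := hsum _ (X.comm_mem (hH s₁.2) hx) (hout _ s₁.2 hs₁) s₂ s₂.2 hs₂.1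
  have h12 := hout _ (mul_mem s₁.2 s₂.2) hs₂.2
  refine h12 ?_
  have e : (s₁ : G) * s₂ * x * ((s₁ : G) * s₂)⁻¹ * x⁻¹ =
      (s₁ : G) * x * (s₁ : G)⁻¹ * x⁻¹ * ((s₂ : G) * x * (s₂ : G)⁻¹ * x⁻¹) := by
    have hc := X.es (X.comm_mem (hH s₂.2) hx) (hH s₁.2)
    calc _ = (s₁ : G) * ((s₂ : G) * x * (s₂ : G)⁻¹ * x⁻¹) * (x * (s₁ : G)⁻¹ * x⁻¹) := by group
      _ = (s₂ : G) * x * (s₂ : G)⁻¹ * x⁻¹ * ((s₁ : G) * x * (s₁ : G)⁻¹ * x⁻¹) := by
          rw [← hc.eq]; group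
      _ = _ := (X.es (X.comm_mem (hH s₂.2) hx) (X.E_S (X.comm_mem (hH s₁.2) hx))).eq
  exact e ▸ hm

/-- A fully centralised conjugate of `v` has a centraliser as large as `P`. -/
theorem card_le_of_full {W : Subgroup G} {u g₀ : G} (hg₀ : g₀ * v * g₀⁻¹ = u)
    (hodd : Odd (W.relIndex (centralizer ({u} : Set G)))) :
    Nat.card P ≤ Nat.card ↥(W ⊓ centralizer ({u} : Set G)) := by
  haveI : Fact (Nat.Prime 2) := ⟨Nat.prime_two⟩
  have hle : P.map (MulAut.conj g₀).toMonoidHom ≤ centralizer ({u} : Set G) := by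
    rintro _ ⟨p, hp, rfl⟩
    rw [mem_centralizer_singleton_iff, ← hg₀]
    exact ((Commute.conj_iff g₀).2 (X.typ.fix p hp).2).eq
  have h1 : Nat.card ↥(W ⊓ centralizer ({u} : Set G)) * W.relIndex (centralizer ({u} : Set G)) =
      Nat.card (centralizer ({u} : Set G)) := by
    rw [← inf_relIndex_right, ← relIndex_bot_left, ← relIndex_bot_left (centralizer ({u} : Set G))]
    exact relIndex_mul_relIndex _ _ _ bot_le inf_le_right
  obtain ⟨k, hk⟩ := IsPGroup.iff_card.1 X.typ.two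
  refine Nat.le_of_dvd Nat.card_pos ?_
  rw [hk]
  refine (Nat.Coprime.pow_left k (Nat.coprime_two_left.2 hodd)).dvd_of_dvd_mul_right ?_
  rw [h1, ← hk, ← card_map_of_injective (f := (MulAut.conj g₀).toMonoidHom)
    (MulAut.conj g₀).injective (K := P)]
  exact card_dvd_of_le hle

open scoped Pointwise in
/-- **A carrier**: a conjugate of `v` in a 2-group at `a` with centraliser there as large as `P` is
carried by an element fixing `a` taking `P` onto that centraliser. -/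
theorem carry {W : Subgroup G} (hW : IsPGroup 2 W) (hWa : ∀ g ∈ W, g • a = a) {u g₀ : G} (hu : u ∈ W)
    (hg₀ : g₀ * v * g₀⁻¹ = u) (hcard : Nat.card P ≤ Nat.card ↥(W ⊓ centralizer ({u} : Set G))) :
    ∃ g : G, g • a = a ∧ g * v * g⁻¹ = u ∧
      P.map (MulAut.conj g).toMonoidHom = W ⊓ centralizer ({u} : Set G) := by
  haveI : Fact (Nat.Prime 2) := ⟨Nat.prime_two⟩
  set Z := W ⊓ centralizer ({u} : Set G) with hZ
  have hvp : v • (g₀⁻¹ • a) = g₀⁻¹ • a := by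
    have h1 : u • a = a := hWa u hu
    rw [← hg₀, mul_smul, mul_smul] at h1
    exact eq_inv_smul_iff.2 h1
  obtain ⟨l, hl, hla⟩ := C.exists_mem_L_move X.typ.bad X.typ.va hvp
  set g₁ := g₀ * l with hg₁
  have hg₁a : g₁ • a = a := by rw [hg₁, mul_smul, hla, smul_inv_smul]
  have hg₁v : g₁ * v * g₁⁻¹ = u := by
    rw [← hg₀, hg₁]
    calc g₀ * l * v * (g₀ * l)⁻¹ = g₀ * (l * v * l⁻¹) * g₀⁻¹ := by group
      _ = _ := by rw [C.L_conj_eq hl]
  set M₀ := centralizer ({v} : Set G) ⊓ MulAction.stabilizer G a with hM₀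
  have hmem₀ : ∀ g : G, g ∈ M₀ ↔ g • a = a ∧ Commute g v := fun g => by
    rw [hM₀, mem_inf, mem_centralizer_singleton_iff, MulAction.mem_stabilizer_iff, and_comm]
    rfl
  set Y := Z.map (MulAut.conj g₁⁻¹).toMonoidHom with hY
  have hY2 : IsPGroup 2 Y := (hW.to_le inf_le_left).map _
  have hYM : Y ≤ M₀ := by
    rintro _ ⟨x, hx, rfl⟩
    obtain ⟨hxT, hxu⟩ := mem_inf.1 hx
    refine (hmem₀ _).2 ⟨?_, ?_⟩
    · show (g₁⁻¹ * x * g₁⁻¹⁻¹) • a = a
      rw [inv_inv, mul_smul, mul_smul, hg₁a, hWa x hxT, inv_smul_eq_iff, hg₁a]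
    · have h := (Commute.conj_iff g₁⁻¹).2 (mem_centralizer_singleton_iff.1 hxu : Commute x u)
      rwa [show g₁⁻¹ * u * g₁⁻¹⁻¹ = v by rw [← hg₁v]; group] at h
  have hPM : P ≤ M₀ := fun p hp => (hmem₀ p).2 (X.typ.fix p hp)
  have hmax0 : ∀ {Y : Subgroup G}, IsPGroup 2 Y → Y ≤ M₀ → Nat.card Y ≤ Nat.card P :=
    fun hW hWM => X.typ.max _ hW fun x hx => (hmem₀ x).1 (hWM hx)
  have hYc : Nat.card Y = Nat.card P := le_antisymm (hmax0 hY2 hYM) (by
    rw [hY, card_map_of_injective (MulAut.conj g₁⁻¹).injective]; exact hcard)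
  have hsyl : ∀ {Y : Subgroup G}, IsPGroup 2 Y → Y ≤ M₀ → Nat.card Y = Nat.card P →
      ∃ R : Sylow 2 ↥M₀, (R : Subgroup ↥M₀) = Y.subgroupOf M₀ := by
    intro Y hY2 hYM hYc
    obtain ⟨R, hR⟩ := IsPGroup.exists_le_sylow (p := 2) (hY2.of_equiv (subgroupOfEquivOfLe hYM).symm)
    refine ⟨R, (eq_of_le_of_card_ge hR ?_).symm⟩
    rw [Nat.card_congr (subgroupOfEquivOfLe hYM).toEquiv, hYc,
      ← card_map_of_injective M₀.subtype_injective (K := (R : Subgroup ↥M₀))]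
    exact hmax0 (R.2.map _) (map_subtype_le _)
  obtain ⟨R₁, hR₁⟩ := hsyl hY2 hYM hYc
  obtain ⟨R, hR⟩ := hsyl X.typ.two hPM rfl
  obtain ⟨k, hk⟩ := MulAction.exists_smul_eq ↥M₀ R R₁
  obtain ⟨hka, hkv⟩ := (hmem₀ (k : G)).1 k.2
  refine ⟨g₁ * (k : G), by rw [mul_smul, hka, hg₁a], ?_, ?_⟩
  · rw [← hg₁v]
    calc g₁ * k * v * (g₁ * k)⁻¹ = g₁ * ((k : G) * v * (k : G)⁻¹) * g₁⁻¹ := by group
      _ = _ := by rw [mul_inv_eq_iff_eq_mul.2 hkv.eq]
  refine eq_of_le_of_card_ge ?_ ?_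
  · rintro _ ⟨p, hp, rfl⟩
    have h1 : k * ⟨p, hPM hp⟩ * k⁻¹ ∈ (R₁ : Subgroup ↥M₀) := by
      rw [← hk, Sylow.coe_subgroup_smul]
      exact Subgroup.smul_mem_pointwise_smul _ (MulAut.conj k) _ (by rw [hR]; exact hp)
    rw [hR₁, mem_subgroupOf] at h1
    obtain ⟨x, hx, e⟩ := h1
    have e' : g₁⁻¹ * x * g₁⁻¹⁻¹ = (k : G) * p * (k : G)⁻¹ := e
    show g₁ * k * p * (g₁ * k)⁻¹ ∈ Z
    rw [show g₁ * k * p * (g₁ * k)⁻¹ = g₁ * ((k : G) * p * (k : G)⁻¹) * g₁⁻¹ by group, ← e']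
    rwa [show g₁ * (g₁⁻¹ * x * g₁⁻¹⁻¹) * g₁⁻¹ = x by group]
  · rw [card_map_of_injective (MulAut.conj (g₁ * (k : G))).injective,
      ← hYc, hY, card_map_of_injective (MulAut.conj g₁⁻¹).injective]

/-- Such a carrier normalises `E` when the conjugate centralises it. -/
theorem carry_E {W : Subgroup G} {u g : G}
    (hmap : P.map (MulAut.conj g).toMonoidHom = W ⊓ centralizer ({u} : Set G)) (hEW : E ≤ W)
    (huE : ∀ e ∈ E, Commute u e) {e : G} (he : e ∈ E) : g * e * g⁻¹ ∈ E := by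
  have hpre : ∀ e ∈ E, g⁻¹ * e * g ∈ E := by
    intro e he
    by_cases he1 : e = 1
    · rw [he1, mul_one, inv_mul_cancel]; exact one_mem _
    obtain ⟨p, hp, hpe⟩ := hmap.ge (mem_inf.2 ⟨hEW he, mem_centralizer_singleton_iff.2 (huE e he).eq.symm⟩)
    have hpe' : g⁻¹ * e * g = p := by
      rw [← hpe]; show g⁻¹ * (g * p * g⁻¹) * g = p; group
    rw [hpe']
    refine X.typ.mem_E_of_mem_Za hp ?_
    rw [← hpe']
    simpa using C.conj_mem_Z (X.typ.isE.mem e he he1).1.1 g⁻¹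
  let f : ↥E → ↥E := fun e => ⟨g⁻¹ * e * g, hpre e e.2⟩
  have hf : Function.Injective f := fun x y h =>
    Subtype.ext (mul_left_cancel (mul_right_cancel (congrArg Subtype.val h :)))
  obtain ⟨e', he'⟩ := (Finite.injective_iff_bijective.1 hf).2 ⟨e, he⟩
  have h2 : g⁻¹ * (e' : G) * g = e := congrArg Subtype.val he'
  rw [← h2, show g * (g⁻¹ * (e' : G) * g) * g⁻¹ = e' by group]
  exact e'.2

/-- **The bound on 2-groups at `a`.** -/
theorem no_big {W : Subgroup G} (hW : IsPGroup 2 W) (hWa : ∀ g ∈ W, g • a = a) :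
    ¬ q ^ 2 * Nat.card X.T ≤ Nat.card W := by
  intro hle
  haveI : Fact (Nat.Prime 2) := ⟨Nat.prime_two⟩
  have hT := X.cardT
  rw [X.typ.card_P, X.qn] at hT
  obtain ⟨k, hk⟩ := IsPGroup.iff_card.1 X.typ.maxPair.two
  obtain ⟨e, he⟩ := IsPGroup.iff_card.1 (X.typ.isE.isPGroup C)
  obtain ⟨w, hw⟩ := IsPGroup.iff_card.1 hW
  rw [hT, he, hk, hw, ← pow_mul, ← pow_mul, ← pow_add, ← pow_add, ← pow_add] at hle
  have hwle := (Nat.pow_le_pow_iff_right (by norm_num)).1 hle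
  have hdvd := X.typ.dvd_pred hW hWa (N := 2 ^ (w - k)) (by
    rw [hw, hk, ← pow_add]; congr 1; omega)
  have hsq : ∀ t : ℕ, Nat.card C.Pt = 1 + q * C.qn v a * t → q ^ 2 ∣ t := by
    intro t ht
    rw [ht, Nat.add_sub_cancel_left, X.qn, he, ← pow_mul, ← pow_add] at hdvd
    rw [he, ← pow_mul]
    refine Nat.dvd_of_mul_dvd_mul_left (pow_pos two_pos (e + e * 3)) ?_
    rw [← pow_add]
    exact (pow_dvd_pow 2 (by omega)).trans hdvd
  rcases (C.Cross v a).eq_empty_or_nonempty with h0 | hne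
  · obtain ⟨t, ht, hodd⟩ := X.typ.bad.exists_t_uncrossed C X.typ.hf X.typ.hp X.typ.va X.typ.isE
      (Or.inr X.qn) h0
    have h2 : 2 ∣ q := by
      have := X.four_le
      rw [he] at this ⊢
      exact dvd_pow_self 2 fun h => by rw [h] at this; norm_num at this
    exact Nat.not_even_iff_odd.2 hodd
      (even_iff_two_dvd.2 ((dvd_pow h2 two_ne_zero).trans (hsq t ht)))
  · obtain ⟨t, ht, hnot, -⟩ := X.typ.bad.exists_t_cube C X.typ.hf X.typ.hp X.typ.maxPair X.typ.isE hne X.qn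
    exact hnot (hsq t ht)

/-- **`T` is largest** among the 2-groups at `a` keeping `v E`. -/
theorem eq_T {W : Subgroup G} (hW : IsPGroup 2 W) (hTW : X.T ≤ W) (hWa : ∀ g ∈ W, g • a = a)
    (hWv : ∀ g ∈ W, g * v * g⁻¹ * v ∈ E) : W = X.T := by
  refine (eq_of_le_of_card_ge hTW ?_).symm
  rw [← card_conj_sub W v, X.cardT]
  refine Nat.mul_le_mul ?_ ?_
  · refine Nat.card_le_card_of_injective (fun y : {y : G // ∃ g ∈ W, g * v * g⁻¹ = y} =>
      (⟨y.1 * v, by obtain ⟨g, hg, e⟩ := y.2; rw [← e]; exact hWv g hg⟩ : ↥E))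
      fun y y' h => Subtype.ext (mul_right_cancel (congrArg Subtype.val h :))
  · exact X.typ.max _ (hW.to_le inf_le_left) fun g hg => ⟨hWa g (mem_inf.1 hg).1,
      mem_centralizer_singleton_iff.1 (mem_inf.1 hg).2⟩

end Ctx.Cfg3

end CfsgLib.Criterion
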