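import Cfsg.Agent.Criterion.TypeU3LayBasic
import Cfsg.Agent.Criterion.TypeU3Key

/-!
# The strong embedding criterion: the second layer, elementary facts

`M = S W` has order `q ^ 5`, centralises `E` and has commutators in `E`, so contains no conjugate of
`v`; `W₃ = M ⟨v⟩` is the kernel of the action of `T₁` on `S / E`, and `T₁ = M D`.
-/

set_option autoImplicit false
set_option linter.style.haveILetI false
set_option linter.unusedSectionVars false

namespace CfsgLib.Criterion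

open Subgroup CfsgLib.Invol CfsgLib.Bender

universe u

variable {G : Type u} [Group G] [Finite G]

namespace Ctx.Ext3

variable {C : Ctx G} {v : G} {a b : C.Pt} {D E P : Subgroup G} (X : C.Ext3 v a b D E P)

local notation "S" => P ⊓ C.L v
local notation "q" => Nat.card E

include X

theorem P_le : P ≤ X.T₁ := X.le.trans X.T_le

theorem D_le : D ≤ X.T₁ := X.typ.le.trans X.P_le

theorem v_mem : v ∈ X.T₁ := X.P_le X.typ.vP

theorem E_le_W : E ≤ X.W := X.E_le_R.trans X.R_le_W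

theorem κ_ne : X.κ ≠ 0 := by rw [X.κ_one]; exact one_ne_zero

/-- The only involutions of `R` lie in `E`. -/
theorem mem_E_of_R {y : G} (hy : y ∈ X.R) (h : y * y = 1) : y ∈ E := by
  have hz := X.sq_R y hy
  rw [h, X.z_one, X.κ_one, one_mul] at hz
  exact X.del_ker y hy (commute_of_del ((X.z_eq_zero (X.del_mem y hy)).1 hz.symm))

/-- The shift of a product. -/
theorem del_W_mul {g h : G} (hg : g ∈ X.W) (hh : h ∈ X.W) :
    del v (g * h) = del v g * (g * del v h * g⁻¹) := by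
  rw [del, del, del]; group

/-- The second shift, in coordinates. -/
def tt (g : G) : X.co.K := X.co.z (del v (del v g))

theorem tt_fix {g : G} (hg : g ∈ X.W) : X.tt g ^ q = X.tt g :=
  X.co.z_fix _ (X.del_mem _ (X.W_del g hg))

theorem del_mul_mod {g h : G} (hg : g ∈ X.W) (hh : h ∈ X.W) :
    ∃ e ∈ E, del v (g * h) = del v g * del v h * e := by
  have hdh := X.W_del h hh
  refine ⟨(del v h)⁻¹ * (g * del v h * g⁻¹), ?_, by rw [X.del_W_mul hg hh]; group⟩
  have := X.W_W _ (inv_mem (X.R_le_W hdh)) g hg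
  rw [inv_inv] at this
  rwa [show (del v h)⁻¹ * (g * del v h * g⁻¹) = (del v h)⁻¹ * g * del v h * g⁻¹ by group]

theorem tt_mul {g h : G} (hg : g ∈ X.W) (hh : h ∈ X.W) : X.tt (g * h) = X.tt g + X.tt h := by
  obtain ⟨e, he, h1⟩ := X.del_mul_mod hg hh
  have hdg := X.W_del g hg
  have hdh := X.W_del h hh
  rw [tt, h1, X.del_hom (mul_mem hdg hdh) (X.E_le_R he), X.del_E he, mul_one, X.del_hom hdg hdh,
    X.co.z_mul _ (X.del_mem _ hdg) _ (X.del_mem _ hdh)]
  rfl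

theorem tt_R {y : G} (hy : y ∈ X.R) : X.tt y = 0 := by
  rw [tt, X.del_E (X.del_mem y hy), X.z_one]

theorem mem_R_of_tt {g : G} (hg : g ∈ X.W) (h : X.tt g = 0) : g ∈ X.R :=
  X.W_ker g hg (X.del_ker _ (X.W_del g hg)
    (commute_of_del ((X.z_eq_zero (X.del_mem _ (X.W_del g hg))).1 h)))

theorem tt_inv {g : G} (hg : g ∈ X.W) : X.tt g⁻¹ = X.tt g := by
  have h := X.tt_mul hg (inv_mem hg)
  rw [mul_inv_cancel, X.tt_R (one_mem _)] at h
  exact (CharTwo.add_eq_zero.1 h.symm).symm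

theorem tt_surj {r : X.co.K} (hr : r ^ q = r) : ∃ g ∈ X.W, X.tt g = r := by
  obtain ⟨e, he, rfl⟩ := X.co.z_surj r hr
  obtain ⟨y, hy, rfl⟩ := X.del_surj e he
  obtain ⟨g, hg, hgE⟩ := X.W_surj y hy
  exact ⟨g, hg, by rw [tt, (X.del_eq_iff (X.W_del g hg) hy).2 hgE]⟩

/-- The group `S W`. -/
def M : Subgroup G :=
  subgroupOfClosed {g | ∃ s ∈ S, ∃ x ∈ X.W, g = s * x} ⟨1, one_mem _, 1, one_mem _, (one_mul 1).symm⟩
    (by
      rintro _ _ ⟨s, hs, x, hx, rfl⟩ ⟨s', hs', x', hx', rfl⟩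
      refine ⟨s * s', mul_mem hs hs', x * x', mul_mem hx hx', ?_⟩
      rw [mul_assoc s s', ← mul_assoc s' x, ← (X.W_S x hx s' hs').eq, mul_assoc x s', ← mul_assoc s x])

theorem mem_M {g : G} : g ∈ X.M ↔ ∃ s ∈ S, ∃ x ∈ X.W, g = s * x := Iff.rfl

theorem W_le_M {x : G} (hx : x ∈ X.W) : x ∈ X.M := ⟨1, one_mem _, x, hx, (one_mul x).symm⟩

theorem S_le_M {s : G} (hs : s ∈ S) : s ∈ X.M := ⟨s, hs, 1, one_mem _, (mul_one s).symm⟩

theorem R_le_M {y : G} (hy : y ∈ X.R) : y ∈ X.M := X.W_le_M (X.R_le_W hy)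

theorem E_le_M {e : G} (he : e ∈ E) : e ∈ X.M := X.R_le_M (X.E_le_R he)

theorem M_le : X.M ≤ X.T₁ := by
  rintro _ ⟨s, hs, x, hx, rfl⟩
  exact mul_mem (X.P_le (mem_inf.1 hs).1) (X.W_le hx)

theorem M_E {g : G} (hg : g ∈ X.M) {e : G} (he : e ∈ E) : Commute g e := by
  obtain ⟨s, hs, x, hx, rfl⟩ := hg
  exact (X.es he hs).symm.mul_left (X.W_E x hx e he)

theorem M_M {g h : G} (hg : g ∈ X.M) (hh : h ∈ X.M) : g * h * g⁻¹ * h⁻¹ ∈ E := by
  obtain ⟨s, hs, x, hx, rfl⟩ := hg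
  obtain ⟨t, ht, y, hy, rfl⟩ := hh
  have hxy := X.W_W x hx y hy
  have e : s * x * (t * y) * (s * x)⁻¹ * (t * y)⁻¹ = s * t * s⁻¹ * t⁻¹ * (x * y * x⁻¹ * y⁻¹) := by
    calc s * x * (t * y) * (s * x)⁻¹ * (t * y)⁻¹
        = s * (x * t * x⁻¹) * (x * y * x⁻¹ * y⁻¹) * (y * s⁻¹ * y⁻¹) * t⁻¹ := by group
      _ = s * t * ((x * y * x⁻¹ * y⁻¹) * (s⁻¹ * t⁻¹)) := by
          rw [(X.W_S x hx t ht).eq, mul_inv_cancel_right, (X.W_S y hy s hs).inv_right.eq,
            mul_inv_cancel_right]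
          group
      _ = _ := by rw [(X.es hxy (mul_mem (inv_mem hs) (inv_mem ht))).eq]; group
  rw [e]
  exact mul_mem (X.comm_mem hs ht) hxy

theorem conj_M {g m : G} (hg : g ∈ X.T₁) (hm : m ∈ X.M) : g * m * g⁻¹ ∈ X.M := by
  obtain ⟨s, hs, x, hx, rfl⟩ := hm
  exact ⟨_, X.T₁_S g hg s hs, _, X.T₁_W g hg x hx, by group⟩

theorem vMv {m : G} (hm : m ∈ X.M) : v * m * v ∈ X.M := by
  have := X.conj_M X.v_mem hm
  rwa [inv_eq_of_mul_eq_one_right X.vv] at this

theorem SW_E {x : G} (hs : x ∈ S) (hx : x ∈ X.W) : x ∈ E :=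
  X.mem_E_of_SR hs (X.W_ker x hx (by rw [del_of_commute (X.sv hs).symm]; exact one_mem _))

theorem card_M_ge : q ^ 5 ≤ Nat.card X.M := by
  choose secR hsecR hdelR using fun e : ↥E => X.del_surj e e.2
  choose sec hsec hsecE using fun e : ↥E => X.W_surj (secR e) (hsecR e)
  have htt : ∀ e, X.tt (sec e) = X.co.z (e : G) := fun e => by
    rw [tt, (X.del_eq_iff (X.W_del _ (hsec e)) (hsecR e)).2 (hsecE e), hdelR]
  let f : ↥(S) × ↥E × ↥E → ↥X.M := fun p => ⟨(p.1 : G) * (sec p.2.1 * secR p.2.2),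
    ⟨_, p.1.2, _, mul_mem (hsec _) (X.R_le_W (hsecR _)), rfl⟩⟩
  have hf : Function.Injective f := by
    rintro ⟨s, e, e'⟩ ⟨s', d, d'⟩ h
    have h' : (s : G) * (sec e * secR e') = s' * (sec d * secR d') := congrArg Subtype.val h
    have hx := mul_mem (hsec e) (X.R_le_W (hsecR e'))
    have hx' := mul_mem (hsec d) (X.R_le_W (hsecR d'))
    have h1 : (s' : G)⁻¹ * s = sec d * secR d' * (sec e * secR e')⁻¹ := by
      rw [eq_mul_inv_iff_mul_eq, mul_assoc, h', inv_mul_cancel_left]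
    have hE : (s' : G)⁻¹ * s ∈ E :=
      X.SW_E (mul_mem (inv_mem s'.2) s.2) (by rw [h1]; exact mul_mem hx' (inv_mem hx))
    have h2 : sec d * secR d' = ((s' : G)⁻¹ * s) * (sec e * secR e') := by rw [h1, inv_mul_cancel_right]
    have hde : d = e := by
      have h3 := congrArg X.tt h2
      rw [X.tt_mul (hsec d) (X.R_le_W (hsecR d')), X.tt_mul (X.E_le_W hE) hx,
        X.tt_mul (hsec e) (X.R_le_W (hsecR e')), X.tt_R (X.E_le_R hE), X.tt_R (hsecR e'),
        X.tt_R (hsecR d'), htt, htt, zero_add, add_zero, add_zero] at h3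
      exact Subtype.ext (X.co.z_inj d.2 e.2 h3)
    subst hde
    have h4 : secR d' = ((s' : G)⁻¹ * s) * secR e' := by
      rw [← mul_assoc, ← (X.W_E _ (hsec d) _ hE).eq, mul_assoc] at h2
      exact mul_left_cancel h2
    have hde' : d' = e' := by
      refine Subtype.ext ?_
      rw [← hdelR, ← hdelR, h4, X.del_hom (X.E_le_R hE) (hsecR e'), X.del_E hE, one_mul]
    subst hde'
    exact Prod.ext (Subtype.ext (mul_right_cancel h')) rfl
  refine le_trans (le_of_eq ?_) (Nat.card_le_card_of_injective f hf)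
  rw [Nat.card_prod, Nat.card_prod, X.typ.card_S, X.qn]
  ring

/-- **No conjugate of `v` lies in `M`.** -/
theorem conj_not_M (k : G) : k * v * k⁻¹ ∉ X.M := fun h =>
  X.typ.false_of_large_class X.qn X.small (X.T₁_two.to_le X.M_le) (fun g hg => X.T₁_fix g (X.M_le hg))
    (fun _ he => X.E_le_M he) (fun _ hg _ he => X.M_E hg he) (fun _ hg _ hh => X.M_M hg hh)
    X.card_M_ge h

theorem v_not_M : v ∉ X.M := fun h => X.conj_not_M 1 (by simpa using h)

/-- The group `S W ⟨v⟩`. -/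
def W₃ : Subgroup G :=
  subgroupOfClosed {g | g ∈ X.M ∨ g * v ∈ X.M} (Or.inl (one_mem _))
    (by
      intro g h hg hh
      rcases hg with hg | hg <;> rcases hh with hh | hh
      · exact Or.inl (mul_mem hg hh)
      · exact Or.inr (by rw [mul_assoc]; exact mul_mem hg hh)
      · refine Or.inr ?_
        have := mul_mem hg (X.vMv hh)
        rwa [show g * v * (v * h * v) = g * (v * v) * (h * v) by group, X.vv, mul_one,
          ← mul_assoc] at this
      · refine Or.inl ?_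
        have := mul_mem hg (X.vMv hh)
        rwa [show g * v * (v * (h * v) * v) = g * (v * v) * h * (v * v) by group, X.vv, mul_one,
          mul_one] at this)

theorem mem_W₃ {g : G} : g ∈ X.W₃ ↔ g ∈ X.M ∨ g * v ∈ X.M := Iff.rfl

theorem M_le_W₃ {g : G} (hg : g ∈ X.M) : g ∈ X.W₃ := Or.inl hg

theorem v_mem_W₃ : v ∈ X.W₃ := Or.inr (by rw [X.vv]; exact one_mem _)

theorem W₃_le : X.W₃ ≤ X.T₁ := by
  rintro g (h | h)
  · exact X.M_le h
  · have := mul_mem (X.M_le h) X.v_mem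
    rwa [mul_assoc, X.vv, mul_one] at this

theorem W₃_E {g : G} (hg : g ∈ X.W₃) {e : G} (he : e ∈ E) : Commute g e := by
  rcases hg with h | h
  · exact X.M_E h he
  · have := (X.M_E h he).mul_left (X.Ev he).symm
    rwa [mul_assoc, X.vv, mul_one] at this

theorem del_M {m : G} (hm : m ∈ X.M) : del v m ∈ X.R := by
  obtain ⟨s, hs, x, hx, rfl⟩ := hm
  have e : del v (s * x) = s * del v x * s⁻¹ := by
    rw [del, del, ← mul_assoc v s, ← (X.sv hs).eq]; group
  rw [e, ((X.R_S _ (X.W_del x hx) s hs).symm).eq, mul_inv_cancel_right]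
  exact X.W_del x hx

/-- A commutator inside `S W ⟨v⟩` lies in `R`. -/
theorem W₃_W₃ {g h : G} (hg : g ∈ X.W₃) (hh : h ∈ X.W₃) : g * h * g⁻¹ * h⁻¹ ∈ X.R := by
  have key : ∀ g ∈ X.M, ∀ h ∈ X.W₃, g * h * g⁻¹ * h⁻¹ ∈ X.R := by
    intro g hg h hh
    rcases hh with hh | hh
    · exact X.E_le_R (X.M_M hg hh)
    · set m := h * v with hm
      have hh' : h = m * v := by rw [hm, mul_assoc, X.vv, mul_one]
      have h1 := X.M_M hg hh
      have h2 := X.del_M hg
      have h3 : g * v * g⁻¹ * v ∈ X.R := by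
        have := inv_mem h2
        rwa [del, mul_inv_rev, mul_inv_rev, mul_inv_rev, inv_inv, inv_inv,
          inv_eq_of_mul_eq_one_right X.vv, ← mul_assoc, ← mul_assoc] at this
      rw [hh', show g * (m * v) * g⁻¹ * (m * v)⁻¹ =
        g * m * g⁻¹ * m⁻¹ * (m * (g * v * g⁻¹ * v⁻¹) * m⁻¹) by group, inv_eq_of_mul_eq_one_right X.vv]
      exact mul_mem (X.E_le_R h1) (X.T₁_R m (X.M_le hh) _ h3)
  rcases hg with hg | hg
  · exact key g hg h hh
  · set m := g * v with hm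
    have hg' : g = m * v := by rw [hm, mul_assoc, X.vv, mul_one]
    rw [hg', show m * v * h * (m * v)⁻¹ * h⁻¹ =
      m * (v * h * v⁻¹ * h⁻¹) * m⁻¹ * (m * h * m⁻¹ * h⁻¹) by group]
    refine mul_mem (X.T₁_R m (X.M_le hg) _ ?_) (key m hg h hh)
    rcases hh with hh | hh
    · exact X.del_M hh
    · have h2 := X.del_M hh
      have e : v * h * v⁻¹ * h⁻¹ = del v (h * v) := by rw [del]; group
      rw [e]; exact h2

/-- The decomposition of an element of `T₁`. -/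
theorem exists_md {g : G} (hg : g ∈ X.T₁) : ∃ m ∈ X.M, ∃ d ∈ D, g = m * d := by
  obtain ⟨s, hs, x, hx, d, hd, rfl⟩ := X.T₁_mul g hg
  exact ⟨_, ⟨s, hs, x, hx, rfl⟩, d, hd, rfl⟩

/-- The centraliser of `v` in `S W ⟨v⟩`. -/
theorem W₃_comm {g : G} (hg : g ∈ X.W₃) (hgv : Commute g v) : g ∈ S ∨ g * v ∈ S := by
  have key : ∀ m ∈ X.M, Commute m v → m ∈ S := by
    rintro _ ⟨s, hs, x, hx, rfl⟩ hmv
    have hxv : Commute x v := by
      have := ((X.sv hs).inv_left).mul_left hmv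
      rwa [inv_mul_cancel_left] at this
    have hxR : x ∈ X.R := X.W_ker x hx (by rw [del_of_commute hxv.symm]; exact one_mem _)
    exact mul_mem hs (X.E_S (X.del_ker x hxR hxv.symm))
  rcases hg with h | h
  · exact Or.inl (key g h hgv)
  · exact Or.inr (key _ h (hgv.mul_left (Commute.refl v)))

theorem D_inter_W₃ {d : G} (hd : d ∈ D) (h : d ∈ X.W₃) : d = 1 ∨ d = v :=
  X.mem_D_of_ker hd (X.W₃_comm h (X.typ.maxPair.fix d hd).2.2)

theorem D_inter_M {d : G} (hd : d ∈ D) (h : d ∈ X.M) : d = 1 :=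
  (X.D_inter_W₃ hd (X.M_le_W₃ h)).resolve_right fun e => X.v_not_M (e ▸ h)

theorem card_T₁_eq : Nat.card X.T₁ = Nat.card X.M * Nat.card D := by
  rw [← Nat.card_prod]
  refine (Nat.card_congr (Equiv.ofBijective
    (fun p : ↥X.M × ↥D => (⟨(p.1 : G) * p.2, mul_mem (X.M_le p.1.2) (X.D_le p.2.2)⟩ : ↥X.T₁))
    ⟨fun p p' h => ?_, fun g => ?_⟩)).symm
  · have h' : (p.1 : G) * p.2 = p'.1 * p'.2 := congrArg Subtype.val h
    have h1 : (p.2 : G) * (p'.2 : G)⁻¹ = (p.1 : G)⁻¹ * p'.1 := by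
      rw [eq_inv_mul_iff_mul_eq, ← mul_assoc, h', mul_inv_cancel_right]
    have h2 := X.D_inter_M (mul_mem p.2.2 (inv_mem p'.2.2))
      (by rw [h1]; exact mul_mem (inv_mem p.1.2) p'.1.2)
    have h3 : (p.2 : G) = p'.2 := mul_inv_eq_one.1 h2
    rw [h3] at h'
    exact Prod.ext (Subtype.ext (mul_right_cancel h')) (Subtype.ext h3)
  · obtain ⟨m, hm, d, hd, e⟩ := X.exists_md g.2
    exact ⟨(⟨m, hm⟩, ⟨d, hd⟩), Subtype.ext e.symm⟩

theorem card_M : Nat.card X.M = q ^ 5 := by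
  have h := X.card_T₁_eq
  rw [X.card_T₁, X.cardT, X.typ.card_P, X.qn] at h
  refine Nat.eq_of_mul_eq_mul_right (Nat.card_pos (α := D)) ?_
  rw [← h]; ring

/-- Elements of `M` fix the classes of `S` modulo `E`. -/
theorem M_w {m : G} (hm : m ∈ X.M) {s : G} (hs : s ∈ S) :
    X.co.w (m * s * m⁻¹) = X.co.w s := by
  refine ((X.w_eq hs (X.T₁_S m (X.M_le hm) s hs)).2 ?_).symm
  have := X.M_M (X.S_le_M (inv_mem hs)) hm
  rwa [inv_inv, show s⁻¹ * m * s * m⁻¹ = s⁻¹ * (m * s * m⁻¹) by group] at this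

/-- An involution of `T₁` centralises `E`. -/
theorem comm_E_of_invol {u : G} (hu : u ∈ X.T₁) (h2 : u * u = 1) {e : G} (he : e ∈ E) :
    Commute u e := by
  obtain ⟨m, hm, d, hd, rfl⟩ := X.exists_md hu
  have hd2 : d * d ∈ X.M := by
    have h1 : d * m * d⁻¹ ∈ X.M := X.conj_M (X.D_le hd) hm
    have h3 : m * (d * m * d⁻¹) * (d * d) = 1 := by
      rw [show m * (d * m * d⁻¹) * (d * d) = m * d * (m * d) by group, h2]
    rw [eq_inv_of_mul_eq_one_right h3]
    exact inv_mem (mul_mem hm h1)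
  exact (X.M_E hm he).mul_left (X.comm_E_of_sq hd (Or.inl (X.D_inter_M (mul_mem hd hd) hd2)) e he)

/-- The centraliser of `v` in `T₁` is `P`. -/
theorem P_eq : X.T₁ ⊓ centralizer ({v} : Set G) = P :=
  le_antisymm (fun g hg => X.typ.mem_P X.T₁_two X.P_le (mem_inf.1 hg).1 (X.T₁_fix g (mem_inf.1 hg).1)
      (mem_centralizer_singleton_iff.1 (mem_inf.1 hg).2))
    (fun g hg => mem_inf.2 ⟨X.P_le hg, mem_centralizer_singleton_iff.2 (X.typ.fix g hg).2.eq⟩)

/-- Elements of `T₁` over one class of `v R`. -/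
theorem exists_conj_vR {y : G} (hy : y ∈ X.R) : ∃ g ∈ X.T₁, g * v * g⁻¹ = v * y := by
  obtain ⟨x, hx, hxE⟩ := X.W_surj y hy
  set e := (del v x)⁻¹ * y with he
  obtain ⟨y', hy', hdel⟩ := X.del_surj e hxE
  have hd := X.W_del x hx
  refine ⟨y' * x, mul_mem (X.W_le (X.R_le_W hy')) (X.W_le hx), ?_⟩
  rw [show y' * x * v * (y' * x)⁻¹ = y' * (x * v * x⁻¹) * y'⁻¹ by group, conj_eq_mul_del X.vv,
    show y' * (v * del v x) * y'⁻¹ = y' * v * y'⁻¹ * (y' * del v x * y'⁻¹) by group,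
    conj_eq_mul_del X.vv, (X.R_R _ hy' _ hd).eq, mul_inv_cancel_right, hdel, mul_assoc,
    (X.eR hxE hd).eq, he, mul_inv_cancel_left]

/-- An involution `v s x` has `x ∈ R` or `lam = 1`. -/
theorem invol_vM {s x : G} (hs : s ∈ S) (hx : x ∈ X.W) (h : v * (s * x) * (v * (s * x)) = 1) :
    X.tt x = 0 ∨ X.lam = 1 := by
  have hd := X.W_del x hx
  obtain ⟨hsq, hz⟩ := X.W_sq x hx
  have e : del v x * (x * x) * (s * s) = 1 := by
    rw [← h, show v * (s * x) * (v * (s * x)) = v * s * (x * v * s) * x by group]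
    rw [show x * v * s = s * (x * v) by
      rw [mul_assoc, ← (X.sv hs).eq, ← mul_assoc, (X.W_S x hx s hs).eq, mul_assoc]]
    rw [show v * s * (s * (x * v)) * x = v * (s * s) * x * v * x by group,
      ← (X.Ev (X.sq_mem hs)).eq, show s * s * v * x * v * x = s * s * (v * x * v * x) by group,
      conj_v_eq X.vv, mul_assoc (del v x) x x]
    exact ((X.eR (X.sq_mem hs) (mul_mem hd hsq)).eq).symm
  have hR : del v x * (x * x) ∈ E := by
    rw [eq_inv_of_mul_eq_one_left e]; exact inv_mem (X.sq_mem hs)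
  have h2 := X.del_E hR
  rw [X.del_hom hd hsq] at h2
  have h3 := congrArg X.co.z h2
  rw [X.co.z_mul _ (X.del_mem _ hd) _ (X.del_mem _ hsq), X.z_one, hz] at h3
  change X.tt x + X.lam * X.tt x = 0 at h3
  rw [← one_add_mul] at h3
  rcases mul_eq_zero.1 h3 with h4 | h4
  · exact Or.inr (CharTwo.add_eq_zero.1 h4).symm
  · exact Or.inl h4

/-- An involution `v s x` with `x ∈ R` is `v` times an element of `R`. -/
theorem invol_vR {s x : G} (hs : s ∈ S) (hx : x ∈ X.R) (h : v * (s * x) * (v * (s * x)) = 1) :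
    s * x ∈ X.R := by
  obtain ⟨-, hz⟩ := X.sq_vSR hs hx
  rw [mul_assoc v s x, h, X.z_one, X.κ_one, CharTwo.add_self_eq_zero, zero_mul, add_zero] at hz
  refine mul_mem (X.E_le_R ((X.co.w_E s hs).1 ?_)) hx
  exact pow_eq_zero_iff (n := q + 1) (by omega) |>.1 hz.symm

end Ctx.Ext3

end CfsgLib.Criterion
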