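import Cfsg.Agent.Criterion.TypeU3Dec

/-!
# The strong embedding criterion: involutions of the translations for `Q = q ^ 3`

An involution of `T` centralises `E`; the elements of `T` centralising `E` are those of `T₂` or act on
`S / E` by twisted Frobenius maps; so an element at `a` normalising `T` normalises `E` and `T₂`.
-/

set_option autoImplicit false
set_option linter.style.haveILetI false
set_option linter.unusedSectionVars false

namespace CfsgLib.Criterion

open Subgroup CfsgLib.Invol CfsgLib.Bender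

universe u

variable {G : Type u} [Group G] [Finite G]

/-- In a field with `q ^ 2` elements an involutive automorphism other than `1` is `x ↦ x ^ q`. -/
theorem eq_frob_of_involutive {K : Type*} [Field K] [Finite K] [CharP K 2] {q : ℕ}
    (hK : Nat.card K = q ^ 2) {σ : K ≃+* K} (h1 : σ ≠ 1) (h2 : ∀ x, σ (σ x) = x) (x : K) :
    σ x = x ^ q := by
  classical
  haveI := Fintype.ofFinite K
  let f : K →+ K := AddMonoidHom.mk' (fun y => y + σ y) fun y z => by rw [map_add]; ring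
  let L : Subfield K := (σ : K →+* K).eqLocusField (RingHom.id K)
  have hL : ∀ y, y ∈ L ↔ σ y = y := fun y => Iff.rfl
  have hker : ∀ y, y ∈ f.ker ↔ y ∈ L := fun y => by
    rw [AddMonoidHom.mem_ker, hL]
    show y + σ y = 0 ↔ _
    rw [CharTwo.add_eq_zero, eq_comm]
  have hrange : ∀ y, y ∈ f.range → y ∈ L := by
    rintro _ ⟨y, rfl⟩
    rw [hL]
    show σ (y + σ y) = y + σ y
    rw [map_add, h2, add_comm]
  have hkc : Nat.card f.ker = Nat.card L := Nat.card_congr (Equiv.subtypeEquivRight hker)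
  have hge : q ^ 2 ≤ Nat.card L * Nat.card L := by
    rw [← hK, AddSubgroup.card_eq_card_quotient_mul_card_addSubgroup f.ker,
      Nat.card_congr (QuotientAddGroup.quotientKerEquivRange f).toEquiv, hkc]
    refine Nat.mul_le_mul_right _ (Nat.card_le_card_of_injective
      (fun y : f.range => (⟨y.1, hrange _ y.2⟩ : L)) fun y z h => Subtype.ext (congrArg Subtype.val h :))
  have hle : Nat.card L ^ 2 ≤ q ^ 2 := by
    rw [← hK, show Nat.card L = Nat.card {y : K // σ y = y} from Nat.card_congr (Equiv.subtypeEquivRight hL)]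
    exact Recog.RankOneSuzuki.card_fix_sq_le σ h1
  have hcard : Nat.card L = q := le_antisymm ((Nat.pow_le_pow_iff_left two_ne_zero).1 hle)
    ((Nat.pow_le_pow_iff_left two_ne_zero).1 (by rw [pow_two (Nat.card L)]; exact hge))
  have hLq : ∀ y ∈ L, y ^ q = y := fun y hy => by
    haveI := Fintype.ofFinite L
    have := congrArg Subtype.val (FiniteField.pow_card (⟨y, hy⟩ : L))
    rw [← Nat.card_eq_fintype_card, hcard] at this
    exact this
  have hfix : ∀ y, y ^ q = y → σ y = y := by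
    have hb : Function.Bijective (fun y : L => (⟨y.1, hLq _ y.2⟩ : {y : K // y ^ q = y})) :=
      Function.Injective.bijective_of_nat_card_le
        (fun y z h => Subtype.ext (congrArg Subtype.val h :))
        (by rw [hcard, CfsgLib.Invol.U3Center.card_fixed hK])
    intro y hy
    obtain ⟨z, hz⟩ := hb.2 ⟨y, hy⟩
    have e : (z : K) = y := congrArg Subtype.val hz
    exact (hL y).1 (e ▸ z.2)
  obtain ⟨x₀, hx₀⟩ : ∃ x₀, σ x₀ ≠ x₀ := by
    by_contra h
    push Not at h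
    exact h1 (RingEquiv.ext h)
  rcases Recog.RankOneSuzuki.eq_or_eq_frob_of_fix hK σ hfix x with h | h
  swap; · exact h
  rcases Recog.RankOneSuzuki.eq_or_eq_frob_of_fix hK σ hfix (x + x₀) with h' | h'
  · rw [map_add, h] at h'
    exact absurd (add_left_cancel h') hx₀
  · rcases Recog.RankOneSuzuki.eq_or_eq_frob_of_fix hK σ hfix x₀ with h'' | h''
    · exact absurd h'' hx₀
    · rw [map_add, h, h'', Forms.add_pow_q hK] at h'
      rw [h]
      exact add_right_cancel h'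

namespace Ctx

variable {C : Ctx G}

namespace Cfg3

variable {v : G} {a b : C.Pt} {D E P : Subgroup G} (X : C.Cfg3 v a b D E P)

local notation "S" => P ⊓ C.L v
local notation "q" => Nat.card E

include X

/-- The semilinear maps induced by `T` on `S / E`. -/
theorem exists_semi_T : ∃ (c : ↥X.T → X.co.K) (σ : ↥X.T →* RingAut X.co.K), c 1 = 1 ∧
    (∀ g, c g ≠ 0) ∧
    (∀ (g : ↥X.T), ∀ s ∈ S, X.co.w ((g : G) * s * (g : G)⁻¹) = c g * σ g (X.co.w s)) ∧
    (∀ (g : ↥X.T), ∀ e ∈ E, X.co.z ((g : G) * e * (g : G)⁻¹) = c g ^ (q + 1) * σ g (X.co.z e)) ∧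
    (∀ g h, c (g * h) = c g * σ g (c h)) ∧ ∀ g h, σ g = σ h → c g = c h := by
  obtain ⟨c, σ, hc0, hw, hz, hcmul, hinj, -, -⟩ := X.co.semi_two ↥X.T X.two
    (fun g => X.al ⟨g, X.T_le g.2⟩) fun g h x => X.al_cocycle ⟨g, X.T_le g.2⟩ ⟨h, X.T_le h.2⟩ x
  have hc1 : c 1 = 1 := by
    have h := hcmul 1 1
    rw [mul_one, map_one] at h
    exact ((mul_eq_left₀ (hc0 1)).1 h.symm)
  have hsp : ∀ (g : ↥X.T) (s : G), s ∈ S → X.sp g s = (g : G) * s * (g : G)⁻¹ := fun g s hs =>
    X.sp_unique (X.T_le g.2) hs (X.conj_S_T g.2 hs) (Or.inl rfl)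
  refine ⟨c, σ, hc1, hc0, fun g s hs => ?_, fun g e he => ?_, hcmul, hinj⟩
  · have h := hw g ⟨s, hs⟩
    rwa [X.al_apply, hsp g s hs] at h
  · have h := hz g ⟨e, X.E_S he⟩ he
    rwa [X.al_apply, hsp g e (X.E_S he)] at h

/-- An element of `T` centralising `E` is in `T₂` or acts as a twisted Frobenius map on `S / E`. -/
theorem mem_T₂_or_twist {g : G} (hg : g ∈ X.T) (hE : ∀ e ∈ E, Commute g e) :
    g ∈ X.T₂ ∨ ∃ c : X.co.K, ∀ s ∈ S, X.co.w (g * s * g⁻¹) = c * X.co.w s ^ q := by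
  obtain ⟨c, σ, hc1, hc0, hw, hz, -, hinj⟩ := X.exists_semi_T
  set g' : ↥X.T := ⟨g, hg⟩
  have h : ∀ k, k ^ q = k → c g' ^ (q + 1) * σ g' k = k := fun k hk => by
    obtain ⟨e, he, rfl⟩ := X.co.z_surj k hk
    have := hz g' e he
    rw [(hE e he).eq, mul_inv_cancel_right] at this
    exact this.symm
  have h1 := h 1 (one_pow _)
  rw [map_one, mul_one] at h1
  have hfix : ∀ k, k ^ q = k → σ g' k = k := fun k hk => by simpa [h1] using h k hk
  by_cases hσ : σ g' = 1
  · refine Or.inl (mem_inf.2 ⟨hg, X.T_le hg, (X.triv_sp (X.T_le hg)).2 fun s hs => ?_⟩)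
    rw [X.sp_unique (X.T_le hg) hs (X.conj_S_T hg hs) (Or.inl rfl), hw g' s hs, hσ,
      hinj g' 1 (by rw [hσ, map_one]), hc1, one_mul]
    rfl
  · refine Or.inr ⟨c g', fun s hs => ?_⟩
    rw [hw g' s hs]
    congr 1
    refine eq_frob_of_involutive X.co.card hσ (fun x => ?_) _
    rcases Recog.RankOneSuzuki.eq_or_eq_frob_of_fix X.co.card (σ g') hfix x with e | e
    · rw [e, e]
    · rcases Recog.RankOneSuzuki.eq_or_eq_frob_of_fix X.co.card (σ g') hfix (σ g' x) with e' | e'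
      · rw [e']
        exact (σ g').injective e'
      · rw [e', e, Forms.pow_q_q X.co.card]

/-- **An involution of `T` centralises `E`.** -/
theorem comm_E_of_invol {u : G} (hu : u ∈ X.T) (huu : u * u = 1) {e : G} (he : e ∈ E) :
    Commute u e := by
  obtain ⟨x, hx, d, hd, rfl⟩ := X.exists_mul_T hu
  have hdT : d ∈ X.T := X.le (X.typ.le hd)
  have hdd : d * d ∈ X.T₂ := by
    have h := mul_mem (inv_mem hx) (X.T₂_normal (inv_mem hdT) (inv_mem hx))
    have e1 : x⁻¹ * (d⁻¹ * x⁻¹ * d⁻¹⁻¹) = d * d := by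
      calc x⁻¹ * (d⁻¹ * x⁻¹ * d⁻¹⁻¹) = x⁻¹ * d⁻¹ * x⁻¹ * (x * d * (x * d)) * d⁻¹⁻¹ := by
            rw [huu]; group
        _ = _ := by group
    rwa [e1] at h
  obtain ⟨c, σ, hc1, hc0, hw, hz, hcmul, hinj⟩ := X.exists_semi_T
  set d' : ↥X.T := ⟨d, hdT⟩
  have htriv : ∀ k, c (d' * d') * σ (d' * d') k = k := fun k => by
    obtain ⟨s, hs, rfl⟩ := X.co.w_surj k
    rw [← hw _ s hs]
    exact ((X.w_eq hs (X.conj_S_T (d' * d').2 hs)).2 ((X.sq_and_conj hdd).2 s hs)).symm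
  have hcc : c (d' * d') = 1 := by simpa using htriv 1
  have hσσ : σ (d' * d') = 1 := RingEquiv.ext fun k => by simpa [hcc] using htriv k
  refine (X.comm_E hx he).mul_left (mul_inv_eq_iff_eq_mul.1 ?_)
  refine X.co.z_inj ((X.memT d hdT).2.1 e he) he ?_
  rw [show d = (d' : G) from rfl, hz d' e he]
  have hc2 := hcmul d' d'
  rw [hcc] at hc2
  by_cases hσ : σ d' = 1
  · have hc : c d' = 1 := by
      rw [hinj d' 1 (by rw [hσ, map_one]), hc1]
    rw [hc, hσ, one_pow, one_mul]; rfl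
  · have hfr : ∀ k, σ d' k = k ^ q := eq_frob_of_involutive X.co.card hσ fun k => by
      have := DFunLike.congr_fun ((map_mul σ d' d').symm.trans hσσ) k
      exact this
    rw [hfr, X.co.z_fix e he, pow_succ']
    rw [hfr] at hc2
    rw [← hc2, one_mul]

/-- An element at `a` normalising `T` normalises `E`. -/
theorem conj_E_of_norm {g : G} (hga : g • a = a) (hgT : ∀ t ∈ X.T, g * t * g⁻¹ ∈ X.T) {e : G}
    (he : e ∈ E) : g * e * g⁻¹ ∈ E := by
  by_cases he1 : e = 1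
  · rw [he1, mul_one, mul_inv_cancel]; exact one_mem _
  have hn : g ∈ normalizer (X.T : Set G) := Subgroup.mem_normalizer_fintype hgT
  have hu : g⁻¹ * v * g⁻¹⁻¹ ∈ X.T := (mem_normalizer_iff.1 (inv_mem hn) v).1 (X.le X.typ.vP)
  have huu : g⁻¹ * v * g⁻¹⁻¹ * (g⁻¹ * v * g⁻¹⁻¹) = 1 := by
    rw [show g⁻¹ * v * g⁻¹⁻¹ * (g⁻¹ * v * g⁻¹⁻¹) = g⁻¹ * (v * v) * g⁻¹⁻¹ by group, X.vv]; group
  have hc := (Commute.conj_iff g).2 (X.comm_E_of_invol hu huu he).symm
  rw [show g * (g⁻¹ * v * g⁻¹⁻¹) * g⁻¹ = v by group] at hc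
  have hT := hgT e (X.le (X.typ.eP he))
  refine X.typ.mem_E_of_mem_Za (X.typ.mem_P X.two X.le hT ?_ hc) (C.conj_mem_Z (X.typ.isE.mem e he he1).1.1 g)
  rw [mul_smul, mul_smul, inv_smul_eq_iff.2 hga.symm, X.typ.Ea he, hga]

/-- **An element normalising `E` and `T` normalises `T₂`.** -/
theorem conj_T₂_of_norm {g : G} (hgE : ∀ e ∈ E, g * e * g⁻¹ ∈ E)
    (hgT : ∀ t ∈ X.T, g * t * g⁻¹ ∈ X.T) {t : G} (ht : t ∈ X.T₂) : g * t * g⁻¹ ∈ X.T₂ := by
  classical
  have hn : g ∈ normalizer (X.T : Set G) := Subgroup.mem_normalizer_fintype hgT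
  have hnE : g ∈ normalizer (E : Set G) := Subgroup.mem_normalizer_fintype hgE
  have hcE : ∀ {h : G}, h ∈ normalizer (E : Set G) → ∀ {x : G}, (∀ e ∈ E, Commute x e) →
      ∀ e ∈ E, Commute (h * x * h⁻¹) e := fun {h} hh {x} hx e he => by
    have h1 := (Commute.conj_iff h).2 (hx _ ((mem_normalizer_iff.1 (inv_mem hh) e).1 he))
    rwa [show h * (h⁻¹ * e * h⁻¹⁻¹) * h⁻¹ = e by group] at h1
  rcases X.mem_T₂_or_twist (hgT t (X.T₂_le ht)) (hcE hnE fun e he => X.comm_E ht he) with h | ⟨c, hc⟩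
  · exact h
  exfalso
  let p : G → G := fun s => g⁻¹ * s * g⁻¹⁻¹
  have hpT : ∀ {s}, s ∈ S → p s ∈ X.T := fun hs =>
    (mem_normalizer_iff.1 (inv_mem hn) _).1 (X.le (mem_inf.1 hs).1)
  have hpE : ∀ {s}, s ∈ S → ∀ e ∈ E, Commute (p s) e := fun hs =>
    hcE (inv_mem hnE) fun e he => (X.es he hs).symm
  have hpm : ∀ x y, p (x⁻¹ * y) = (p x)⁻¹ * p y := fun x y => by simp only [p]; group
  let S₀ := {s : ↥S // p s ∈ X.T₂}
  -- two outside differ by one inside
  have hdiff : ∀ s s' : ↥S, p s ∉ X.T₂ → p s' ∉ X.T₂ → p ((s⁻¹ * s' : ↥S) : G) ∈ X.T₂ := by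
    intro s s' hs hs'
    obtain ⟨c₁, hc₁⟩ := (X.mem_T₂_or_twist (hpT s.2) (hpE s.2)).resolve_left hs
    obtain ⟨c₂, hc₂⟩ := (X.mem_T₂_or_twist (hpT s'.2) (hpE s'.2)).resolve_left hs'
    refine (X.mem_T₂_or_twist (hpT (s⁻¹ * s').2) (hpE (s⁻¹ * s').2)).resolve_right ?_
    rintro ⟨c₃, hc₃⟩
    have hall : ∀ k : X.co.K, c₂ * k ^ q = c₁ * c₃ ^ q * k := fun k => by
      obtain ⟨r, hr, rfl⟩ := X.co.w_surj k
      have h3 := X.conj_S_T (hpT (s⁻¹ * s').2) hr
      rw [← hc₂ r hr, show p s' * r * (p s')⁻¹ = p s * (p ((s⁻¹ * s' : ↥S) : G) * r *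
        (p ((s⁻¹ * s' : ↥S) : G))⁻¹) * (p s)⁻¹ by
          rw [Subgroup.coe_mul, Subgroup.coe_inv, hpm]; group,
        hc₁ _ h3, hc₃ r hr, mul_pow, Forms.pow_q_q X.co.card, mul_assoc]
    have h1 := hall 1
    rw [one_pow, mul_one, mul_one] at h1
    have hq : ∀ k : X.co.K, k ^ q = k := fun k => by
      have h2 := hall k
      rw [← h1] at h2
      refine mul_left_cancel₀ (fun hz => ?_) h2
      obtain ⟨r, hr, hr1⟩ := X.co.w_surj 1
      have h4 := hc₂ r hr
      rw [hz, zero_mul] at h4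
      have h5 := X.conj_S_T (hpT s'.2) hr
      have hrE : r ∈ E := by
        have h6 := (X.memT _ (inv_mem (hpT s'.2))).2.1 _ ((X.co.w_E _ h5).1 h4)
        rwa [show (p s')⁻¹ * (p s' * r * (p s')⁻¹) * (p s')⁻¹⁻¹ = r by group] at h6
      exact one_ne_zero (hr1.symm.trans ((X.co.w_E r hr).2 hrE))
    have := Nat.card_congr (Equiv.subtypeUnivEquiv hq)
    rw [CfsgLib.Invol.U3Center.card_fixed X.co.card, X.co.card, pow_two] at this
    have h4 := X.four_le
    nlinarith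
  have hindex : Nat.card ↥S ≤ Nat.card S₀ * 2 := by
    by_cases hall : ∀ s : ↥S, p s ∈ X.T₂
    · refine le_trans (Nat.card_le_card_of_injective (fun s : ↥S => (⟨s, hall s⟩ : S₀))
        fun s s' h => congrArg Subtype.val h) (Nat.le_mul_of_pos_right _ two_pos)
    push Not at hall
    obtain ⟨s₁, hs₁⟩ := hall
    let f : ↥S → S₀ × Bool := fun s =>
      if h : p s ∈ X.T₂ then (⟨s, h⟩, true) else (⟨s₁⁻¹ * s, hdiff s₁ s hs₁ h⟩, false)
    have hf : Function.Injective f := fun s s' h => by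
      simp only [f] at h
      split_ifs at h <;> simp only [Prod.mk.injEq, Subtype.mk.injEq, and_true, Bool.true_eq_false,
        Bool.false_eq_true, and_false] at h
      · exact congrArg Subtype.val h
      · exact mul_left_cancel (congrArg Subtype.val h :)
    have := Nat.card_le_card_of_injective f hf
    rwa [Nat.card_prod, Nat.card_eq_fintype_card (α := Bool), Fintype.card_bool] at this
  have hsmall : Nat.card S₀ ≤ q * q := by
    have hk : ∀ s : S₀, c * X.co.w (s.1 : G) ^ q = X.co.w (s.1 : G) := fun s => by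
      rw [← hc _ s.1.2]
      refine ((X.w_eq s.1.2 (X.conj_S_T (hgT t (X.T₂_le ht)) s.1.2)).2 ?_).symm
      have h1 := hgE _ (X.comm_T₂ ht s.2)
      have h2 : g * (t * p s.1 * t⁻¹ * (p s.1)⁻¹) * g⁻¹ =
          g * t * g⁻¹ * s.1 * (g * t * g⁻¹)⁻¹ * (s.1 : G)⁻¹ := by simp only [p]; group
      rw [h2] at h1
      have h3 := (X.es h1 s.1.2).eq
      rw [inv_mul_cancel_right] at h3
      rw [h3, inv_mul_cancel_left]
      exact h1
    choose rep hrep using X.co.w_surj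
    refine le_trans (Nat.card_le_card_of_injective
      (β := {k : X.co.K // c * k ^ q = k} × ↥E)
      (fun s => (⟨X.co.w (s.1 : G), hk s⟩, ⟨(rep (X.co.w (s.1 : G)))⁻¹ * s.1,
        (X.w_eq (hrep _).1 s.1.2).1 (hrep _).2⟩)) fun s s' h => ?_) ?_
    · obtain ⟨h1, h2⟩ := Prod.mk.injEq .. ▸ h
      have h1' : X.co.w (s.1 : G) = X.co.w (s'.1 : G) := congrArg Subtype.val h1
      have h2' : (rep (X.co.w (s.1 : G)))⁻¹ * (s.1 : G) = (rep (X.co.w (s'.1 : G)))⁻¹ * s'.1 :=
        congrArg Subtype.val h2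
      rw [h1'] at h2'
      exact Subtype.ext (Subtype.ext (mul_left_cancel h2'))
    · rw [Nat.card_prod]
      exact Nat.mul_le_mul_right _ (card_twist_fixed_le c X.two_le)
  rw [X.typ.card_S, X.qn] at hindex
  have h4 := X.four_le
  nlinarith [Nat.mul_le_mul_right (q * q) h4]

end Cfg3

end Ctx

end CfsgLib.Criterion
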