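import Cfsg.Agent.Criterion.TypeU3Base

/-!
# The strong embedding criterion: the layers of translations for `Q = q ^ 3`

Interfaces.  The first layer `R` centralises `S` and moves `v` over `v E`; a second layer `W` over it
moves `v` over `v R`.
-/

set_option autoImplicit false
set_option linter.style.haveILetI false
set_option linter.unusedSectionVars false

namespace CfsgLib.Criterion

open Subgroup CfsgLib.Invol CfsgLib.Bender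

universe u

variable {G : Type u} [Group G] [Finite G]

namespace Ctx

/-- The shift of `v` by `y`. -/
def del (v y : G) : G := v * y * v⁻¹ * y⁻¹

variable (C : Ctx G)

/-- The first layer of translations. -/
structure Lay3 (v : G) (a b : C.Pt) (D E P : Subgroup G) extends C.Cfg3 v a b D E P where
  /-- The translations centralising `P ⊓ L_v`. -/
  R : Subgroup G
  /-- The square on `R` in terms of the shift. -/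
  κ : co.K
  E_le_R : E ≤ R
  R_le_T : R ≤ T
  v_not_R : v ∉ R
  R_S : ∀ y ∈ R, ∀ s ∈ P ⊓ C.L v, Commute y s
  R_R : ∀ y ∈ R, ∀ y' ∈ R, Commute y y'
  del_mem : ∀ y ∈ R, Ctx.del v y ∈ E
  del_surj : ∀ e ∈ E, ∃ y ∈ R, Ctx.del v y = e
  del_ker : ∀ y ∈ R, Commute v y → y ∈ E
  sq_mem_E : ∀ y ∈ R, y * y ∈ E
  sq_R : ∀ y ∈ R, co.z (y * y) = κ * co.z (Ctx.del v y)
  κ_fix : κ ^ Nat.card E = κ
  T_S : ∀ g ∈ T, ∀ s ∈ P ⊓ C.L v, g * s * g⁻¹ ∈ P ⊓ C.L v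
  T_R : ∀ g ∈ T, ∀ y ∈ R, g * y * g⁻¹ ∈ R
  T_mul : ∀ g ∈ T, ∃ s ∈ P ⊓ C.L v, ∃ y ∈ R, ∃ d ∈ D, g = s * y * d
  /-- The scalars of the field of `E`. -/
  tor : ∀ ν : co.K, ν ≠ 0 → ν ^ Nat.card E = ν → ∃ m : G, m • a = a ∧ Commute m v ∧
    (∀ s ∈ P ⊓ C.L v, m * s * m⁻¹ ∈ P ⊓ C.L v ∧ co.w (m * s * m⁻¹) = ν * co.w s) ∧
    (∀ y ∈ R, m * y * m⁻¹ ∈ R) ∧ ∀ e ∈ E, m * e * m⁻¹ ∈ E ∧ co.z (m * e * m⁻¹) = ν ^ 2 * co.z e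
  /-- A scalar of norm one. -/
  circ : ∃ (c : G) (μ : co.K), μ ≠ 1 ∧ μ ^ (Nat.card E + 1) = 1 ∧ c • a = a ∧ Commute c v ∧
    (∀ s ∈ P ⊓ C.L v, c * s * c⁻¹ ∈ P ⊓ C.L v ∧ co.w (c * s * c⁻¹) = μ * co.w s) ∧
    (∀ y ∈ R, c * y * c⁻¹ ∈ R) ∧ ∀ e ∈ E, c * e * c⁻¹ = e

/-- The second layer of translations. -/
structure Ext3 (v : G) (a b : C.Pt) (D E P : Subgroup G) extends C.Lay3 v a b D E P where
  /-- The translations centralising `P ⊓ L_v`. -/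
  W : Subgroup G
  /-- The 2-group they generate with `T`. -/
  T₁ : Subgroup G
  /-- The square on `W` in terms of the shift. -/
  lam : co.K
  κ_one : κ = 1
  T₁_two : IsPGroup 2 T₁
  T_le : T ≤ T₁
  T₁_fix : ∀ g ∈ T₁, g • a = a
  card_T₁ : Nat.card T₁ = Nat.card E * Nat.card T
  R_le_W : R ≤ W
  W_le : W ≤ T₁
  v_not_W : v ∉ W
  W_S : ∀ g ∈ W, ∀ s ∈ P ⊓ C.L v, Commute g s
  W_E : ∀ g ∈ W, ∀ e ∈ E, Commute g e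
  W_W : ∀ g ∈ W, ∀ h ∈ W, g * h * g⁻¹ * h⁻¹ ∈ E
  W_del : ∀ g ∈ W, Ctx.del v g ∈ R
  W_surj : ∀ y ∈ R, ∃ g ∈ W, (Ctx.del v g)⁻¹ * y ∈ E
  W_ker : ∀ g ∈ W, Ctx.del v g ∈ E → g ∈ R
  W_sq : ∀ g ∈ W, g * g ∈ R ∧
    co.z (Ctx.del v (g * g)) = lam * co.z (Ctx.del v (Ctx.del v g))
  T₁_S : ∀ g ∈ T₁, ∀ s ∈ P ⊓ C.L v, g * s * g⁻¹ ∈ P ⊓ C.L v
  T₁_R : ∀ g ∈ T₁, ∀ y ∈ R, g * y * g⁻¹ ∈ R
  T₁_W : ∀ g ∈ T₁, ∀ x ∈ W, g * x * g⁻¹ ∈ W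
  T₁_mul : ∀ g ∈ T₁, ∃ s ∈ P ⊓ C.L v, ∃ x ∈ W, ∃ d ∈ D, g = s * x * d
  /-- The scalars of the field of `E`, on the second layer. -/
  torW : ∀ ν : co.K, ν ≠ 0 → ν ^ Nat.card E = ν → ∃ m : G, m • a = a ∧ Commute m v ∧
    (∀ s ∈ P ⊓ C.L v, m * s * m⁻¹ ∈ P ⊓ C.L v) ∧ (∀ y ∈ R, m * y * m⁻¹ ∈ R) ∧
    (∀ g ∈ W, m * g * m⁻¹ ∈ W) ∧ ∀ e ∈ E, m * e * m⁻¹ ∈ E ∧ co.z (m * e * m⁻¹) = ν ^ 2 * co.z e

end Ctx

end CfsgLib.Criterion
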