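import Cfsg.Agent.Criterion.TypeU3ExtBase

/-!
# The strong embedding criterion: where the normaliser of the translations carries `v`

An element at `a` normalising `E` and `S R ⟨v⟩` carries `v` inside `v E`, unless the square constant
`κ` is `0` and the shift leaves `R`, or `κ = 1` and the shift lies in `R` off `E`.  For `κ = 0` the
translations would have an orbit of `q ^ 3` conjugates, against the arithmetic of the crossing members;
for `κ = 1` the element normalises `S` and `R`.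
-/

set_option autoImplicit false
set_option linter.style.haveILetI false
set_option linter.unusedSectionVars false

namespace CfsgLib.Criterion

open Subgroup CfsgLib.Invol CfsgLib.Bender

universe u

variable {G : Type u} [Group G] [Finite G]

namespace Ctx

variable {C : Ctx G}

namespace Lay3

variable {v : G} {a b : C.Pt} {D E P : Subgroup G} (X : C.Lay3 v a b D E P)

local notation "S" => P ⊓ C.L v
local notation "q" => Nat.card E

include X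

theorem w_inv_mul {s s' : G} (hs : s ∈ S) (hs' : s' ∈ S) :
    X.co.w (s⁻¹ * s') = X.co.w s + X.co.w s' := by
  have h := X.co.w_mul _ hs _ (mul_mem (inv_mem hs) hs')
  rw [mul_inv_cancel_left] at h
  rw [h, ← add_assoc, CharTwo.add_self_eq_zero, zero_add]

/-- The elements at `a` normalising `E` and `S R ⟨v⟩`. -/
def H₁ (X : C.Lay3 v a b D E P) : Subgroup G := subgroupOfClosed
  {g | g • a = a ∧ (∀ e ∈ E, g * e * g⁻¹ ∈ E) ∧ ∀ x ∈ X.T₂, g * x * g⁻¹ ∈ X.T₂}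
  ⟨one_smul _ a, fun e he => by simpa using he, fun x hx => by simpa using hx⟩
  (by
    rintro g h ⟨hga, hgE, hgT⟩ ⟨hha, hhE, hhT⟩
    refine ⟨by rw [mul_smul, hha, hga], fun e he => ?_, fun x hx => ?_⟩
    · simpa [mul_assoc] using hgE _ (hhE e he)
    · simpa [mul_assoc] using hgT _ (hhT x hx))

theorem mem_H₁ {g : G} : g ∈ X.H₁ ↔ g • a = a ∧ (∀ e ∈ E, g * e * g⁻¹ ∈ E) ∧
    ∀ x ∈ X.T₂, g * x * g⁻¹ ∈ X.T₂ := Iff.rfl

/-- An involution of `S R ⟨v⟩` centralising a conjugate `u` of `v` lies in `E` or `u E`. -/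
theorem only_two {h x : G} (hh : h ∈ X.H₁) (hx : x ∈ X.T₂) (hxu : Commute x (h * v * h⁻¹))
    (hxx : x * x = 1) : x ∈ E ∨ h * v * h⁻¹ * x ∈ E := by
  set x₀ := h⁻¹ * x * h⁻¹⁻¹ with hx₀
  have hx₀T : x₀ ∈ X.T₂ := (inv_mem hh : h⁻¹ ∈ X.H₁).2.2 x hx
  have hx₀v : Commute x₀ v := by
    have := (Commute.conj_iff h⁻¹).2 hxu
    rwa [show h⁻¹ * (h * v * h⁻¹) * h⁻¹⁻¹ = v by group] at this
  have hsq : x₀ * x₀ = 1 := by
    rw [hx₀, show h⁻¹ * x * h⁻¹⁻¹ * (h⁻¹ * x * h⁻¹⁻¹) = h⁻¹ * (x * x) * h⁻¹⁻¹ by group, hxx]; group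
  have hx' : x = h * x₀ * h⁻¹ := by rw [hx₀]; group
  rcases X.T₂_comm hx₀T hx₀v with hs | hs
  · exact Or.inl (hx' ▸ hh.2.1 _ (X.typ.mem_E_of_sq hs hsq))
  · refine Or.inr ?_
    have hE := X.typ.mem_E_of_sq hs (by
      rw [show x₀ * v * (x₀ * v) = x₀ * (v * x₀) * v by group, ← hx₀v.eq,
        show x₀ * (x₀ * v) * v = x₀ * x₀ * (v * v) by group, hsq, X.vv, one_mul])
    have h1 := hh.2.1 _ hE
    rw [hx₀v.eq] at h1
    rw [hx', show h * v * h⁻¹ * (h * x₀ * h⁻¹) = h * (v * x₀) * h⁻¹ by group]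
    exact h1

/-- A conjugate of `v` does not lie in `S R`. -/
theorem shift_not_K {h : G} (hh : h ∈ X.H₁) : h * v * h⁻¹ ∉ X.K := by
  intro hu
  obtain ⟨s, hs, y, hy, hu'⟩ := X.mem_K.1 hu
  have huu : h * v * h⁻¹ * (h * v * h⁻¹) = 1 := by
    rw [show h * v * h⁻¹ * (h * v * h⁻¹) = h * (v * v) * h⁻¹ by group, X.vv]; group
  have h4 := X.four_le
  by_cases hsE : s ∈ E
  · -- then `S R` centralises it
    have huR : h * v * h⁻¹ ∈ X.R := hu' ▸ mul_mem (X.E_le_R hsE) hy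
    have hle : X.K.map (MulAut.conj h⁻¹).toMonoidHom ≤ X.toCfg3.Sv := by
      rintro _ ⟨k, hk, rfl⟩
      have hkT : h⁻¹ * k * h⁻¹⁻¹ ∈ X.T₂ := (inv_mem hh : h⁻¹ ∈ X.H₁).2.2 k (X.K_le_T₂ hk)
      refine X.T₂_comm hkT ?_
      obtain ⟨s', hs', y', hy', rfl⟩ := X.mem_K.1 hk
      have h1 : Commute (s' * y') (h * v * h⁻¹) :=
        (X.R_S _ huR s' hs').symm.mul_left (X.R_R y' hy' _ huR)
      have := (Commute.conj_iff h⁻¹).2 h1
      rwa [show h⁻¹ * (h * v * h⁻¹) * h⁻¹⁻¹ = v by group] at this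
    have := Subgroup.card_le_of_le hle
    rw [card_map_of_injective (MulAut.conj h⁻¹).injective, X.card_K, X.toCfg3.card_Sv] at this
    nlinarith [pow_pos (show 0 < q by omega) 3, pow_succ q 3]
  · rw [hu'] at huu
    obtain ⟨s', hs', y', hy', hs'E, hne, hxx, hc⟩ := X.exists_invol_SR hs hy hsE huu
    rw [← hu'] at hc
    rcases X.only_two hh (X.K_le_T₂ (X.mem_K.2 ⟨s', hs', y', hy', rfl⟩)) hc.symm hxx with h1 | h1
    · refine hs'E (X.mem_E_of_SR hs' ?_)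
      have := mul_mem (X.E_le_R h1) (inv_mem hy')
      rwa [mul_inv_cancel_right] at this
    · rw [hu', mul_assoc, ← mul_assoc y, (X.R_S y hy s' hs').eq, mul_assoc s' y,
        ← mul_assoc s] at h1
      have h2 : s * s' ∈ E := X.mem_E_of_SR (mul_mem hs hs') (by
        have := mul_mem (X.E_le_R h1) (inv_mem (mul_mem hy hy'))
        rwa [mul_inv_cancel_right] at this)
      refine hne ?_
      have := mul_mem (inv_mem (X.sq_mem hs)) h2
      rwa [mul_inv_rev, mul_assoc, inv_mul_cancel_left] at this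

/-- The coordinates of a conjugate of `v`. -/
theorem exists_shift {h : G} (hh : h ∈ X.H₁) : ∃ s ∈ S, ∃ y ∈ X.R, h * v * h⁻¹ = v * s * y ∧
    X.co.w s ^ (q + 1) + (1 + X.κ) * X.co.z (del v y) = 0 := by
  have hu := hh.2.2 v X.v_mem_T₂
  have h1 := (X.mem_T₂.1 hu).resolve_left (X.shift_not_K hh)
  have h2 := X.v_norm_K h1
  rw [show v * (h * v * h⁻¹ * v) * v = v * (h * v * h⁻¹) * (v * v) by group, X.vv, mul_one] at h2
  obtain ⟨s, hs, y, hy, e⟩ := X.mem_K.1 h2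
  have hu' : h * v * h⁻¹ = v * s * y := by
    rw [mul_assoc v s, ← e, ← mul_assoc v, X.vv, one_mul]
  refine ⟨s, hs, y, hy, hu', ?_⟩
  obtain ⟨-, hz⟩ := X.sq_vSR hs hy
  rw [← hu', show h * v * h⁻¹ * (h * v * h⁻¹) = h * (v * v) * h⁻¹ by group, X.vv, mul_one,
    mul_inv_cancel, X.z_one] at hz
  exact hz.symm

/-- **The conjugates of `v`**: inside `v E`, or `κ = 0` and outside `v R`, or `κ = 1` and in `v R`. -/
theorem shift_cases {h : G} (hh : h ∈ X.H₁) : h * v * h⁻¹ * v ∈ E ∨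
    (X.κ = 1 ∧ ∃ y ∈ X.R, y ∉ E ∧ h * v * h⁻¹ = v * y) ∨
    (X.κ = 0 ∧ ∃ s ∈ S, ∃ y ∈ X.R, s ∉ E ∧ h * v * h⁻¹ = v * s * y) := by
  obtain ⟨s, hs, y, hy, hu, hz⟩ := X.exists_shift hh
  by_cases hsE : s ∈ E
  · rw [(X.co.w_E s hs).2 hsE, zero_pow (Nat.succ_ne_zero _), zero_add] at hz
    have hy' : s * y ∈ X.R := mul_mem (X.E_le_R hsE) hy
    have hu' : h * v * h⁻¹ = v * (s * y) := by rw [hu, mul_assoc]
    have hE : s * y ∈ E → h * v * h⁻¹ * v ∈ E := fun hyE => by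
      rw [hu', mul_assoc, (X.Ev hyE).eq, ← mul_assoc, X.vv, one_mul]; exact hyE
    rcases mul_eq_zero.1 hz with hκ | hd
    · by_cases hyE : s * y ∈ E
      · exact Or.inl (hE hyE)
      · exact Or.inr (Or.inl ⟨(CharTwo.add_eq_zero.1 hκ).symm, _, hy', hyE, hu'⟩)
    · exact Or.inl (hE (mul_mem hsE
        (X.del_ker y hy (commute_of_del ((X.z_eq_zero (X.del_mem y hy)).1 hd)))))
  · refine Or.inr (Or.inr ⟨?_, s, hs, y, hy, hsE, hu⟩)
    by_contra hκ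
    obtain ⟨s', hs', y', hy', hs'E, hxx, hc⟩ := X.exists_invol_vSR hκ hs hy hsE
    rw [← hu] at hc
    have hK : s' * y' ∈ X.K := X.mem_K.2 ⟨s', hs', y', hy', rfl⟩
    rcases X.only_two hh (X.K_le_T₂ hK) hc.symm hxx with h1 | h1
    · refine hs'E (X.mem_E_of_SR hs' ?_)
      have := mul_mem (X.E_le_R h1) (inv_mem hy')
      rwa [mul_inv_cancel_right] at this
    · refine X.shift_not_K hh ?_
      have := mul_mem (X.S_le_K (X.E_S h1)) (inv_mem hK)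
      rwa [mul_inv_cancel_right] at this

/-! ### The exception `κ = 1` -/

/-- For `κ = 1` a conjugate of `v` inside `v R` comes from an element normalising `S` and `R`. -/
theorem normalises_of_shift (hκ : X.κ = 1) {h y : G} (hh : h ∈ X.H₁) (hy : y ∈ X.R)
    (hu : h * v * h⁻¹ = v * y) :
    (∀ s ∈ S, h * s * h⁻¹ ∈ S) ∧ ∀ r ∈ X.R, h * r * h⁻¹ ∈ X.R := by
  classical
  obtain ⟨c₀, μ, hμ1, hμ, hc₀a, hc₀v, hc₀S, hc₀R, hc₀E⟩ := X.circ
  -- a circle element commuting with the conjugate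
  have hc₀y : c₀ * y * c₀⁻¹ ∈ X.R := hc₀R y hy
  obtain ⟨r, hr, hrd⟩ := X.del_surj _ ((X.del_eq_iff hy hc₀y).1 (by
    rw [show del v (c₀ * y * c₀⁻¹) = c₀ * del v y * c₀⁻¹ by
      rw [del, del, show c₀ * (v * y * v⁻¹ * y⁻¹) * c₀⁻¹ =
        c₀ * v * c₀⁻¹ * (c₀ * y * c₀⁻¹) * (c₀ * v * c₀⁻¹)⁻¹ * (c₀ * y * c₀⁻¹)⁻¹ by group, hc₀v.eq,
        mul_inv_cancel_right], hc₀E _ (X.del_mem y hy)]))
  set c := r * c₀ with hc
  have hcu : c * (v * y) * c⁻¹ = v * y := by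
    calc c * (v * y) * c⁻¹ = r * (c₀ * v * c₀⁻¹) * r⁻¹ * (r * (c₀ * y * c₀⁻¹) * r⁻¹) := by
          rw [hc]; group
      _ = v * (y⁻¹ * (c₀ * y * c₀⁻¹)) * (c₀ * y * c₀⁻¹) := by
          rw [hc₀v.eq, mul_inv_cancel_right, (X.R_R r hr _ hc₀y).eq, mul_inv_cancel_right,
            conj_eq_mul_del X.vv, hrd]
      _ = v * y := by
          have h1 : c₀ * y * c₀⁻¹ * (c₀ * y * c₀⁻¹) = y * y := by
            rw [show c₀ * y * c₀⁻¹ * (c₀ * y * c₀⁻¹) = c₀ * (y * y) * c₀⁻¹ by group,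
              hc₀E _ (X.sq_mem_E y hy)]
          rw [mul_assoc, mul_assoc y⁻¹, h1, inv_mul_cancel_left]
  have hcS : ∀ s ∈ S, c * s * c⁻¹ = c₀ * s * c₀⁻¹ := fun s hs => by
    rw [hc, show r * c₀ * s * (r * c₀)⁻¹ = r * (c₀ * s * c₀⁻¹) * r⁻¹ by group,
      (X.R_S r hr _ (hc₀S s hs).1).eq, mul_inv_cancel_right]
  have hcE : ∀ e ∈ E, c * e * c⁻¹ = e := fun e he => by
    rw [hcS e (X.E_S he), hc₀E e he]
  have hcT : ∀ x ∈ X.T₂, c * x * c⁻¹ ∈ X.T₂ := by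
    have hcv : c * v * c⁻¹ ∈ X.T₂ := by
      rw [hc, show r * c₀ * v * (r * c₀)⁻¹ = r * (c₀ * v * c₀⁻¹) * r⁻¹ by group, hc₀v.eq,
        mul_inv_cancel_right]
      exact mul_mem (mul_mem (X.K_le_T₂ (X.R_le_K hr)) X.v_mem_T₂)
        (inv_mem (X.K_le_T₂ (X.R_le_K hr)))
    have hK : ∀ x ∈ X.K, c * x * c⁻¹ ∈ X.T₂ := fun x hx => by
      obtain ⟨s', hs', y', hy', rfl⟩ := X.mem_K.1 hx
      rw [hc, show r * c₀ * (s' * y') * (r * c₀)⁻¹ =
        r * (c₀ * s' * c₀⁻¹ * (c₀ * y' * c₀⁻¹)) * r⁻¹ by group]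
      exact mul_mem (mul_mem (X.K_le_T₂ (X.R_le_K hr))
        (mul_mem (X.K_le_T₂ (X.S_le_K (hc₀S s' hs').1)) (X.K_le_T₂ (X.R_le_K (hc₀R y' hy')))))
        (inv_mem (X.K_le_T₂ (X.R_le_K hr)))
    intro x hx
    rcases X.mem_T₂.1 hx with h1 | h1
    · exact hK x h1
    · have := mul_mem (hK _ h1) hcv
      rwa [show c * (x * v) * c⁻¹ * (c * v * c⁻¹) = c * x * (v * v) * c⁻¹ by group, X.vv,
        mul_one] at this
  have hca : c • a = a := by rw [hc, mul_smul, hc₀a, (X.memT r (X.R_le_T hr)).1]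
  have hcH : c ∈ X.H₁ := ⟨hca, fun e he => by rw [hcE e he]; exact he, hcT⟩
  -- carried to `v` it normalises `S`
  set c' := h⁻¹ * c * h with hc'
  have hc'H : c' ∈ X.H₁ := mul_mem (mul_mem (inv_mem hh) hcH) hh
  have hc'v : Commute c' v := by
    have h1 : Commute c (h * v * h⁻¹) := by rw [hu]; exact mul_inv_eq_iff_eq_mul.1 hcu
    have := (Commute.conj_iff h⁻¹).2 h1
    rwa [show h⁻¹ * (h * v * h⁻¹) * h⁻¹⁻¹ = v by group, inv_inv] at this
  have hc'S : ∀ s ∈ S, c' * s * c'⁻¹ ∈ S := fun s hs => by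
    have hL : c' * s * c'⁻¹ ∈ C.L v := C.conj_mem_L_of_commute hc'v (mem_inf.1 hs).2
    have hcm : Commute (c' * s * c'⁻¹) v := by
      have := (Commute.conj_iff c').2 (X.sv hs)
      rwa [hc'v.eq, mul_inv_cancel_right] at this
    rcases X.T₂_comm (hc'H.2.2 s (X.K_le_T₂ (X.S_le_K hs))) hcm with h1 | h1
    · exact h1
    · refine absurd ?_ X.v_not_S
      have h2 : c' * s * c'⁻¹ * v ∈ C.L v := (mem_inf.1 h1).2
      have h3 := mul_mem (inv_mem hL) h2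
      rw [inv_mul_cancel_left] at h3
      exact mem_inf.2 ⟨X.typ.vP, h3⟩
  set A := (S).map (MulAut.conj h).toMonoidHom with hA
  have hAc : ∀ x ∈ A, c * x * c⁻¹ ∈ A := by
    rintro _ ⟨s, hs, rfl⟩
    refine ⟨c' * s * c'⁻¹, hc'S s hs, ?_⟩
    show h * (c' * s * c'⁻¹) * h⁻¹ = c * (h * s * h⁻¹) * c⁻¹
    rw [hc']; group
  have hAE : ∀ e ∈ E, e ∈ A := fun e he => ⟨h⁻¹ * e * h⁻¹⁻¹,
    X.E_S ((inv_mem hh : h⁻¹ ∈ X.H₁).2.1 e he), by show h * (h⁻¹ * e * h⁻¹⁻¹) * h⁻¹ = e; group⟩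
  -- `S` centralises `u`
  have hsu : ∀ s ∈ S, Commute s (v * y) := fun s hs => (X.sv hs).mul_right (X.R_S y hy s hs).symm
  have hin : ∀ s ∈ S, s ∈ A ∨ s * (v * y) ∈ A := fun s hs => by
    have h1 : Commute (h⁻¹ * s * h⁻¹⁻¹) v := by
      have := (Commute.conj_iff h⁻¹).2 (hu ▸ hsu s hs : Commute s (h * v * h⁻¹))
      rwa [show h⁻¹ * (h * v * h⁻¹) * h⁻¹⁻¹ = v by group] at this
    rcases X.T₂_comm ((inv_mem hh : h⁻¹ ∈ X.H₁).2.2 s (X.K_le_T₂ (X.S_le_K hs))) h1 with h2 | h2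
    · exact Or.inl ⟨_, h2, by show h * (h⁻¹ * s * h⁻¹⁻¹) * h⁻¹ = s; group⟩
    · refine Or.inr ⟨_, h2, ?_⟩
      show h * (h⁻¹ * s * h⁻¹⁻¹ * v) * h⁻¹ = _
      rw [← hu]; group
  have hdiff : ∀ s ∈ S, s⁻¹ * (c * s * c⁻¹) ∈ A := fun s hs => by
    rcases hin s hs with h1 | h1
    · exact mul_mem (inv_mem h1) (hAc s h1)
    · have := mul_mem (inv_mem h1) (hAc _ h1)
      rwa [show (s * (v * y))⁻¹ * (c * (s * (v * y)) * c⁻¹) =
        (v * y)⁻¹ * (s⁻¹ * (c * s * c⁻¹)) * (c * (v * y) * c⁻¹) by group, hcu, mul_assoc,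
        (hsu _ (mul_mem (inv_mem hs) (by rw [hcS s hs]; exact (hc₀S s hs).1))).eq,
        inv_mul_cancel_left] at this
  have hSA : ∀ s ∈ S, s ∈ A := fun s hs => by
    have hμ1' : 1 + μ ≠ 0 := fun e => hμ1 (CharTwo.add_eq_zero.1 e).symm
    obtain ⟨s₁, hs₁, hw₁⟩ := X.co.w_surj (X.co.w s / (1 + μ))
    have hd := hdiff s₁ hs₁
    rw [hcS s₁ hs₁] at hd
    have hmem : s₁⁻¹ * (c₀ * s₁ * c₀⁻¹) ∈ S := mul_mem (inv_mem hs₁) (hc₀S s₁ hs₁).1
    have hw : X.co.w (s₁⁻¹ * (c₀ * s₁ * c₀⁻¹)) = X.co.w s := by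
      rw [X.w_inv_mul hs₁ (hc₀S s₁ hs₁).1, (hc₀S s₁ hs₁).2, hw₁, ← one_add_mul, mul_div_cancel₀ _ hμ1']
    have := mul_mem hd (hAE _ ((X.w_eq hmem hs).1 hw))
    rwa [mul_inv_cancel_left] at this
  have hAS : A = S := (eq_of_le_of_card_ge hSA
    (le_of_eq (card_map_of_injective (MulAut.conj h).injective))).symm
  have hS : ∀ s ∈ S, h * s * h⁻¹ ∈ S := fun s hs => hAS ▸ ⟨s, hs, rfl⟩
  refine ⟨hS, fun x hx => ?_⟩
  -- the centraliser of `S` is `R ⟨v⟩`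
  have hxS : ∀ s ∈ S, Commute (h * x * h⁻¹) s := fun s hs => by
    obtain ⟨s', hs', rfl⟩ := hSA s hs
    exact (Commute.conj_iff h).2 (X.R_S x hx s' hs')
  have hCK : ∀ k ∈ X.K, (∀ s ∈ S, Commute k s) → k ∈ X.R := fun k hk hks => by
    obtain ⟨s₀, hs₀, y₀, hy₀, rfl⟩ := X.mem_K.1 hk
    have hs₀S : ∀ s ∈ S, Commute s₀ s := fun s hs => by
      have := (hks s hs).mul_left (X.R_S y₀ hy₀ s hs).inv_left
      rwa [mul_inv_cancel_right] at this
    refine mul_mem (X.E_le_R ?_) hy₀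
    rw [← X.co.w_E s₀ hs₀]
    by_contra hw0
    obtain ⟨e, he, he1⟩ : ∃ e ∈ E, e ≠ 1 := by
      have := X.four_le
      haveI : Nontrivial E := Finite.one_lt_card_iff_nontrivial.1 (by omega)
      obtain ⟨⟨e, he⟩, h1⟩ := exists_ne (1 : E)
      exact ⟨e, he, fun e' => h1 (Subtype.ext e')⟩
    obtain ⟨k', hk'⟩ := X.toCfg3.exists_trace (X.co.z_fix e he) hw0
    obtain ⟨s', hs', rfl⟩ := X.co.w_surj k'
    rw [← X.co.z_comm s₀ hs₀ s' hs', (hs₀S s' hs').eq, mul_inv_cancel_right, mul_inv_cancel] at hk'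
    exact he1 (X.co.z_inj he (one_mem _) hk'.symm)
  rcases X.mem_T₂.1 (hh.2.2 x (X.K_le_T₂ (X.R_le_K hx))) with h1 | h1
  · exact hCK _ h1 hxS
  · have hk := hCK _ h1 fun s hs => (hxS s hs).mul_left (X.sv hs).symm
    obtain ⟨-, hz⟩ := X.sq_vSR (s := 1) (one_mem _) (X.v_norm hk)
    rw [show v * 1 * (v * (h * x * h⁻¹ * v) * v) = (v * v) * (h * x * h⁻¹) * (v * v) by group, X.vv,
      one_mul, mul_one, X.w_one, zero_pow (Nat.succ_ne_zero _), hκ, CharTwo.add_self_eq_zero,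
      zero_mul, zero_add, show h * x * h⁻¹ * (h * x * h⁻¹) = h * (x * x) * h⁻¹ by group] at hz
    have hxx : x * x = 1 := conj_eq_one_iff.1 ((X.z_eq_zero (hh.2.1 _ (X.sq_mem_E x hx))).1 hz)
    have hxE : x ∈ E := by
      refine X.del_ker x hx (commute_of_del ((X.z_eq_zero (X.del_mem x hx)).1 ?_))
      have := X.sq_R x hx
      rw [hxx, X.z_one, hκ, one_mul] at this
      exact this.symm
    exact X.E_le_R (hh.2.1 x hxE)

end Lay3

end Ctx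

end CfsgLib.Criterion
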