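import Cfsg.Agent.Criterion.TypeU3Orbit
import Cfsg.Agent.Criterion.TypeU3Invol
import Cfsg.Agent.Criterion.TypeU3Key
import Cfsg.Agent.SUThreeSylowAut.Semilinear

/-!
# The strong embedding criterion: the square constant is not `0` when `v` leaves `v E`

For `κ = 0` the part `R` is known inside `S R ⟨v⟩` by its centralisers, so the normaliser keeps `S R`
and acts semilinearly on `S R / R`; the shifts of those acting trivially fill the field, so `v` has
`q ^ 3` conjugates, too many for a 2-group at `a`.  So an element of a 2-group at `a` normalising the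
translations lies among them, or `κ = 1` and it moves `v` inside `v R` off `v E`.
-/

set_option autoImplicit false
set_option linter.style.haveILetI false
set_option linter.unusedSectionVars false

namespace CfsgLib.Criterion

open Subgroup CfsgLib.Invol CfsgLib.Bender

universe u

variable {G : Type u} [Group G] [Finite G]

namespace Ctx

variable {C : Ctx G}

namespace Lay3

variable {v : G} {a b : C.Pt} {D E P : Subgroup G} (X : C.Lay3 v a b D E P)

local notation "S" => P ⊓ C.L v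
local notation "q" => Nat.card E

include X

theorem T_le_H₁ : X.T ≤ X.H₁ := fun g hg => by
  refine ⟨(X.memT g hg).1, (X.memT g hg).2.1, fun x hx => ?_⟩
  rw [← X.T₂_eq] at hx ⊢
  exact X.toCfg3.T₂_normal hg hx

/-- An involution of `S R ⟨v⟩` outside `S R` centralises at most `q ^ 3` elements of `S R`. -/
theorem card_cent_K {x : G} (hx : x * v ∈ X.K) :
    Nat.card ↥(X.K ⊓ centralizer ({x} : Set G)) ≤ q ^ 3 := by
  set Z := X.K ⊓ centralizer ({x} : Set G) with hZ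
  have hle : Z ⊓ X.R ≤ E := fun r hr => by
    obtain ⟨hrZ, hrR⟩ := mem_inf.1 hr
    obtain ⟨s, hs, y, hy, e⟩ := X.mem_K.1 hx
    refine X.del_ker r hrR (Commute.symm ?_)
    have h1 : Commute r x := mem_centralizer_singleton_iff.1 (mem_inf.1 hrZ).2
    have h2 : Commute r (s * y) := (X.R_S r hrR s hs).mul_right (X.R_R r hrR y hy)
    have h3 := h1.inv_right.mul_right h2
    rwa [← e, inv_mul_cancel_left] at h3
  have h1 : X.R.relIndex Z ≤ X.R.relIndex X.K :=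
    relIndex_le_of_le_right inf_le_left (index_ne_zero_of_finite (H := X.R.subgroupOf X.K))
  have h2 : X.R.relIndex X.K * (q * q) = q ^ 4 := by
    rw [← X.card_R, ← X.card_K, ← relIndex_bot_left X.R, ← relIndex_bot_left X.K, mul_comm]
    exact relIndex_mul_relIndex _ _ _ bot_le fun r hr => X.R_le_K hr
  have h3 : Nat.card ↥(Z ⊓ X.R) * X.R.relIndex Z = Nat.card Z := by
    rw [inf_comm, ← inf_relIndex_right, ← relIndex_bot_left, ← relIndex_bot_left Z]
    exact relIndex_mul_relIndex _ _ _ bot_le inf_le_right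
  have h4 := X.four_le
  have h5 : X.R.relIndex X.K = q * q := by
    refine Nat.eq_of_mul_eq_mul_right (show 0 < q * q by positivity) ?_
    rw [h2]; ring
  rw [← h3, show q ^ 3 = q * (q * q) by ring]
  exact Nat.mul_le_mul (card_le_of_le hle) (h1.trans h5.le)

section zero

variable (hκ : X.κ = 0)
include hκ

theorem R_sq {y : G} (hy : y ∈ X.R) : y * y = 1 := by
  rw [← X.z_eq_zero (X.sq_mem_E y hy), X.sq_R y hy, hκ, zero_mul]

/-- For `κ = 0` the normaliser of `S R ⟨v⟩` keeps `R`. -/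
theorem conj_R₁ {g y : G} (hg : g ∈ X.H₁) (hy : y ∈ X.R) : g * y * g⁻¹ ∈ X.R := by
  have hT := hg.2.2 y (X.K_le_T₂ (X.R_le_K hy))
  have hsq : g * y * g⁻¹ * (g * y * g⁻¹) = 1 := by
    rw [show g * y * g⁻¹ * (g * y * g⁻¹) = g * (y * y) * g⁻¹ by group, X.R_sq hκ hy]; group
  rcases X.mem_T₂.1 hT with hK | hKv
  · obtain ⟨s, hs, r, hr, e⟩ := X.mem_K.1 hK
    obtain ⟨-, hz⟩ := X.sq_SR hs hr
    rw [e] at hsq
    rw [hsq, X.z_one, hκ, zero_mul, add_zero] at hz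
    rw [e]
    exact mul_mem (X.E_le_R ((X.co.w_E s hs).1 (eq_zero_of_pow_eq_zero hz.symm))) hr
  exfalso
  set A := X.K.map (MulAut.conj g).toMonoidHom with hA
  have hAT : A ≤ X.T₂ := by
    rintro _ ⟨k, hk, rfl⟩; exact hg.2.2 k (X.K_le_T₂ hk)
  have hAc : A ≤ centralizer ({g * y * g⁻¹} : Set G) := by
    rintro _ ⟨k, hk, rfl⟩
    obtain ⟨s, hs, r, hr, rfl⟩ := X.mem_K.1 hk
    rw [mem_centralizer_singleton_iff]
    exact ((Commute.conj_iff g).2 ((X.R_S y hy s hs).mul_right (X.R_R y hy r hr)).symm).eq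
  have h2 : X.K.relIndex A ≤ 2 := by
    refine (relIndex_le_of_le_right hAT (index_ne_zero_of_finite (H := X.K.subgroupOf X.T₂))).trans ?_
    have h := relIndex_mul_relIndex ⊥ X.K X.T₂ bot_le X.K_le_T₂
    rw [relIndex_bot_left, relIndex_bot_left, X.card_K, ← X.T₂_eq, X.toCfg3.card_T₂] at h
    refine le_of_eq (Nat.eq_of_mul_eq_mul_left (show 0 < q ^ 4 by have := X.four_le; positivity) ?_)
    rw [← X.T₂_eq, h, mul_comm]
  have h3 : Nat.card ↥(X.K ⊓ A) * X.K.relIndex A = q ^ 4 := by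
    rw [← inf_relIndex_right, ← relIndex_bot_left,
      show q ^ 4 = Nat.card A by rw [hA, card_map_of_injective (MulAut.conj g).injective, X.card_K],
      ← relIndex_bot_left A]
    exact relIndex_mul_relIndex _ _ _ bot_le inf_le_right
  have h4 := X.four_le
  have h5 : Nat.card ↥(X.K ⊓ A) ≤ q ^ 3 :=
    (card_le_of_le (inf_le_inf_left _ hAc)).trans (X.card_cent_K hKv)
  have h6 : q ^ 4 ≤ q ^ 3 * 2 := h3 ▸ Nat.mul_le_mul h5 h2
  nlinarith [pow_pos (show 0 < q by omega) 3, pow_succ q 3]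

/-- and `S R`. -/
theorem conj_K₁ {g k : G} (hg : g ∈ X.H₁) (hk : k ∈ X.K) : g * k * g⁻¹ ∈ X.K := by
  refine (X.mem_T₂.1 (hg.2.2 k (X.K_le_T₂ hk))).resolve_right fun h => ?_
  obtain ⟨e, he, he1⟩ : ∃ y ∈ X.R, y ∉ E := by
    by_contra hall
    push Not at hall
    have := card_le_of_le (show X.R ≤ E from hall)
    rw [X.card_R] at this
    have := X.four_le
    nlinarith
  refine he1 (X.del_ker e he (Commute.symm ?_))
  have hy := X.conj_R₁ hκ (inv_mem hg : g⁻¹ ∈ X.H₁) he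
  obtain ⟨s, hs, r, hr, rfl⟩ := X.mem_K.1 hk
  have h1 : Commute (g⁻¹ * e * g⁻¹⁻¹) (s * r) := (X.R_S _ hy s hs).mul_right (X.R_R _ hy r hr)
  have h2 := (Commute.conj_iff g).2 h1
  rw [show g * (g⁻¹ * e * g⁻¹⁻¹) * g⁻¹ = e by group] at h2
  obtain ⟨s', hs', r', hr', e'⟩ := X.mem_K.1 h
  have h3 : Commute e (s' * r') := (X.R_S e he s' hs').mul_right (X.R_R e he r' hr')
  have h4 := h2.inv_right.mul_right h3
  rwa [← e', inv_mul_cancel_left] at h4

omit hκ in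
/-- The coordinate on `S R / R`. -/
noncomputable def kw (X : C.Lay3 v a b D E P) (x : G) : X.co.K := by
  classical exact if h : ∃ s ∈ S, ∃ y ∈ X.R, x = s * y then X.co.w h.choose else 0

omit hκ in
theorem kw_eq {s y : G} (hs : s ∈ S) (hy : y ∈ X.R) : X.kw (s * y) = X.co.w s := by
  have h : ∃ s' ∈ S, ∃ y' ∈ X.R, s * y = s' * y' := ⟨s, hs, y, hy, rfl⟩
  rw [kw, dif_pos h]
  obtain ⟨hs', y', hy', e⟩ := h.choose_spec
  refine (X.w_eq hs' hs).2 (X.mem_E_of_SR (mul_mem (inv_mem hs') hs) ?_)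
  have h2 : ∀ t : G, s * y = t * y' → t⁻¹ * s = y' * y⁻¹ := fun t ht => by
    rw [eq_mul_inv_iff_mul_eq, mul_assoc, ht, inv_mul_cancel_left]
  exact h2 _ e ▸ mul_mem hy' (inv_mem hy)

omit hκ in
theorem kw_mul {x x' : G} (hx : x ∈ X.K) (hx' : x' ∈ X.K) : X.kw (x * x') = X.kw x + X.kw x' := by
  obtain ⟨s, hs, y, hy, rfl⟩ := X.mem_K.1 hx
  obtain ⟨s', hs', y', hy', rfl⟩ := X.mem_K.1 hx'
  rw [(X.R_S y hy s' hs').mul_mul_mul_comm, X.kw_eq (mul_mem hs hs') (mul_mem hy hy'), X.kw_eq hs hy,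
    X.kw_eq hs' hy', X.co.w_mul s hs s' hs']

omit hκ in
theorem kw_eq_zero {x : G} (hx : x ∈ X.K) : X.kw x = 0 ↔ x ∈ X.R := by
  obtain ⟨s, hs, y, hy, rfl⟩ := X.mem_K.1 hx
  rw [X.kw_eq hs hy, X.co.w_E s hs]
  exact ⟨fun h => mul_mem (X.E_le_R h) hy, fun h => X.mem_E_of_SR hs (by
    have := mul_mem h (inv_mem hy); rwa [mul_inv_cancel_right] at this)⟩

omit hκ in
theorem kw_surj (k : X.co.K) : ∃ x ∈ S, X.kw x = k := by
  obtain ⟨s, hs, rfl⟩ := X.co.w_surj k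
  exact ⟨s, hs, by simpa using X.kw_eq hs (one_mem X.R)⟩

omit hκ in
/-- The map of the field that `g` induces on `S R / R`. -/
noncomputable def act (X : C.Lay3 v a b D E P) (g : G) (k : X.co.K) : X.co.K :=
  X.kw (g * (X.co.w_surj k).choose * g⁻¹)

theorem kw_conj {g x : G} (hg : g ∈ X.H₁) (hx : x ∈ X.K) :
    X.kw (g * x * g⁻¹) = X.act g (X.kw x) := by
  rw [act]
  set s := (X.co.w_surj (X.kw x)).choose
  obtain ⟨hs, hw⟩ : s ∈ S ∧ X.co.w s = X.kw x := (X.co.w_surj (X.kw x)).choose_spec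
  have hsK := X.S_le_K hs
  have h0 : s⁻¹ * x ∈ X.R := by
    rw [← X.kw_eq_zero (mul_mem (inv_mem hsK) hx)]
    have e := X.kw_mul hsK (mul_mem (inv_mem hsK) hx)
    rw [mul_inv_cancel_left, show X.kw s = X.kw x by
      rw [← hw]; simpa using X.kw_eq hs (one_mem X.R)] at e
    exact left_eq_add.1 e
  have h1 := (X.kw_eq_zero (X.R_le_K (X.conj_R₁ hκ hg h0))).2 (X.conj_R₁ hκ hg h0)
  rw [show g * x * g⁻¹ = g * s * g⁻¹ * (g * (s⁻¹ * x) * g⁻¹) by group,
    X.kw_mul (X.conj_K₁ hκ hg hsK) (X.R_le_K (X.conj_R₁ hκ hg h0)), h1, add_zero]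

theorem act_mul {g g' : G} (hg : g ∈ X.H₁) (hg' : g' ∈ X.H₁) (k : X.co.K) :
    X.act (g * g') k = X.act g (X.act g' k) := by
  obtain ⟨s, hs, rfl⟩ := X.kw_surj k
  rw [← X.kw_conj hκ (mul_mem hg hg') (X.S_le_K hs), ← X.kw_conj hκ hg' (X.S_le_K hs),
    ← X.kw_conj hκ hg (X.conj_K₁ hκ hg' (X.S_le_K hs))]
  congr 1; group

theorem act_one (k : X.co.K) : X.act 1 k = k := by
  obtain ⟨s, hs, rfl⟩ := X.kw_surj k
  rw [← X.kw_conj hκ (one_mem _) (X.S_le_K hs), one_mul, inv_one, mul_one]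

theorem act_inv {g : G} (hg : g ∈ X.H₁) (k : X.co.K) : X.act g (X.act g⁻¹ k) = k := by
  rw [← X.act_mul hκ hg (inv_mem hg), mul_inv_cancel, X.act_one hκ]

theorem act_add {g : G} (hg : g ∈ X.H₁) (k k' : X.co.K) :
    X.act g (k + k') = X.act g k + X.act g k' := by
  obtain ⟨s, hs, rfl⟩ := X.kw_surj k
  obtain ⟨s', hs', rfl⟩ := X.kw_surj k'
  rw [← X.kw_mul (X.S_le_K hs) (X.S_le_K hs'), ← X.kw_conj hκ hg (mul_mem (X.S_le_K hs) (X.S_le_K hs')),
    ← X.kw_conj hκ hg (X.S_le_K hs), ← X.kw_conj hκ hg (X.S_le_K hs'),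
    ← X.kw_mul (X.conj_K₁ hκ hg (X.S_le_K hs)) (X.conj_K₁ hκ hg (X.S_le_K hs'))]
  congr 1; group

theorem act_inj {g : G} (hg : g ∈ X.H₁) : Function.Injective (X.act g) := fun k k' h => by
  have := congrArg (X.act g⁻¹) h
  rwa [← X.act_mul hκ (inv_mem hg) hg, ← X.act_mul hκ (inv_mem hg) hg, inv_mul_cancel, X.act_one hκ,
    X.act_one hκ] at this

/-- The action is semilinear over the field of `E`. -/
theorem exists_semi₁ {g : G} (hg : g ∈ X.H₁) :
    ∃ σ : X.co.K ≃+* X.co.K, ∀ ν k, X.act g (ν * k) = σ ν * X.act g k := by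
  classical
  choose zs hzs hz using X.co.z_surj
  let B : X.co.K → X.co.K := fun c => if h : c ^ q = c then X.co.z (g * zs c h * g⁻¹) else 0
  have hB : ∀ e ∈ E, X.co.z (g * e * g⁻¹) = B (X.co.z e) := fun e he => by
    simp only [B, dif_pos (X.co.z_fix e he)]
    rw [show zs (X.co.z e) (X.co.z_fix e he) = e from X.co.z_inj (hzs _ _) he (hz _ _)]
  have hBinj : ∀ c d : X.co.K, c ^ q = c → d ^ q = d → B c = B d → c = d := by
    intro c d hc hd h
    obtain ⟨e, he, rfl⟩ := X.co.z_surj c hc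
    obtain ⟨e', he', rfl⟩ := X.co.z_surj d hd
    rw [← hB e he, ← hB e' he'] at h
    exact congrArg X.co.z (mul_left_cancel (mul_right_cancel
      (X.co.z_inj (hg.2.1 e he) (hg.2.1 e' he') h :)))
  have hBadd : ∀ c d : X.co.K, c ^ q = c → d ^ q = d → B (c + d) = B c + B d := by
    intro c d hc hd
    obtain ⟨e, he, rfl⟩ := X.co.z_surj c hc
    obtain ⟨e', he', rfl⟩ := X.co.z_surj d hd
    rw [← X.co.z_mul e he e' he', ← hB _ (mul_mem he he'), ← hB e he, ← hB e' he',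
      ← X.co.z_mul _ (hg.2.1 e he) _ (hg.2.1 e' he')]
    congr 1; group
  have hAB : ∀ k : X.co.K, X.act g k ^ (q + 1) = B (k ^ (q + 1)) := by
    intro k
    obtain ⟨s, hs, rfl⟩ := X.kw_surj k
    have hsw : X.kw s = X.co.w s := by simpa using X.kw_eq hs (one_mem X.R)
    show X.act g (X.kw s) ^ (q + 1) = _
    rw [← X.kw_conj hκ hg (X.S_le_K hs), hsw, ← X.co.z_sq s hs, ← hB _ (X.sq_mem hs)]
    obtain ⟨r, hr, y, hy, e⟩ := X.mem_K.1 (X.conj_K₁ hκ hg (X.S_le_K hs))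
    obtain ⟨-, hz'⟩ := X.sq_SR hr hy
    rw [hκ, zero_mul, add_zero, ← e, ← X.kw_eq hr hy, ← e] at hz'
    rw [← hz']
    congr 1; group
  obtain ⟨c, σ, hσ⟩ := SUThreeSylowAut.exists_semilinear X.co.card
    (AddMonoidHom.mk' (X.act g) (X.act_add hκ hg)) (X.act_inj hκ hg) B hBinj hBadd hAB
  exact ⟨σ, fun ν k => by
    have h1 := hσ (ν * k)
    have h2 := hσ k
    simp only [AddMonoidHom.mk'_apply] at h1 h2
    rw [h1, h2, map_mul]; ring⟩

omit hκ in
/-- The shift of `v` under `g`, modulo `R`. -/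
noncomputable def sh₁ (X : C.Lay3 v a b D E P) (g : G) : X.co.K := X.kw (v * (g * v * g⁻¹))

omit hκ in
theorem shift_mem {g : G} (hg : g ∈ X.H₁) : v * (g * v * g⁻¹) ∈ X.K := by
  obtain ⟨s, hs, y, hy, e, -⟩ := X.exists_shift hg
  rw [e, mul_assoc v, ← mul_assoc v v, X.vv, one_mul]
  exact X.mem_K.2 ⟨s, hs, y, hy, rfl⟩

theorem sh₁_mul {g g' : G} (hg : g ∈ X.H₁) (hg' : g' ∈ X.H₁) :
    X.sh₁ (g * g') = X.sh₁ g + X.act g (X.sh₁ g') := by
  have h := X.shift_mem hg'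
  rw [sh₁, sh₁, sh₁, ← X.kw_conj hκ hg h, ← X.kw_mul (X.shift_mem hg) (X.conj_K₁ hκ hg h)]
  congr 1
  rw [show v * (g * v * g⁻¹) * (g * (v * (g' * v * g'⁻¹)) * g⁻¹) =
    v * g * (v * v) * (g' * v * g'⁻¹) * g⁻¹ by group, X.vv, mul_one]
  group

omit hκ in
theorem sh₁_of_commute {g : G} (hg : Commute g v) : X.sh₁ g = 0 := by
  rw [sh₁, hg.eq, mul_inv_cancel_right, X.vv]
  exact (X.kw_eq_zero (one_mem _)).2 (one_mem _)

omit hκ in
/-- An element fixing `v` that normalises `S`, `R` and `E` lies in the normaliser. -/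
theorem mem_H₁_of_scal {m : G} (hma : m • a = a) (hmv : Commute m v)
    (hmS : ∀ s ∈ S, m * s * m⁻¹ ∈ S) (hmR : ∀ y ∈ X.R, m * y * m⁻¹ ∈ X.R)
    (hmE : ∀ e ∈ E, m * e * m⁻¹ ∈ E) : m ∈ X.H₁ := by
  have hK : ∀ x ∈ X.K, m * x * m⁻¹ ∈ X.K := fun x hx => by
    obtain ⟨s, hs, y, hy, rfl⟩ := X.mem_K.1 hx
    exact X.mem_K.2 ⟨_, hmS s hs, _, hmR y hy, by group⟩
  refine ⟨hma, hmE, fun x hx => X.mem_T₂.2 ?_⟩
  rcases X.mem_T₂.1 hx with h | h
  · exact Or.inl (hK x h)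
  · refine Or.inr ?_
    have := hK _ h
    rwa [show m * (x * v) * m⁻¹ = m * x * m⁻¹ * (m * v * m⁻¹) by group, hmv.eq,
      mul_inv_cancel_right] at this

theorem act_scal {m : G} {c : X.co.K} (hm : m ∈ X.H₁)
    (hmS : ∀ s ∈ S, m * s * m⁻¹ ∈ S ∧ X.co.w (m * s * m⁻¹) = c * X.co.w s) (k : X.co.K) :
    X.act m k = c * k := by
  obtain ⟨s, hs, rfl⟩ := X.kw_surj k
  have h1 : X.kw s = X.co.w s := by simpa using X.kw_eq hs (one_mem X.R)
  have h2 : X.kw (m * s * m⁻¹) = X.co.w (m * s * m⁻¹) := by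
    simpa using X.kw_eq (hmS s hs).1 (one_mem X.R)
  rw [← X.kw_conj hκ hm (X.S_le_K hs), h2, h1, (hmS s hs).2]

/-- The shifts of the elements acting trivially fill the field. -/
theorem exists_sh₁ {h : G} (hh : h ∈ X.H₁) (h0 : X.sh₁ h ≠ 0) (k : X.co.K) :
    ∃ g ∈ X.H₁, X.sh₁ g = k := by
  classical
  -- those acting trivially
  let A : AddSubgroup X.co.K :=
  { carrier := {k | ∃ g ∈ X.H₁, (∀ j, X.act g j = j) ∧ X.sh₁ g = k}
    zero_mem' := ⟨1, one_mem _, X.act_one hκ, X.sh₁_of_commute (Commute.one_left v)⟩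
    add_mem' := by
      rintro _ _ ⟨g, hg, hgA, rfl⟩ ⟨g', hg', hg'A, rfl⟩
      exact ⟨g * g', mul_mem hg hg', fun j => by rw [X.act_mul hκ hg hg', hg'A, hgA],
        by rw [X.sh₁_mul hκ hg hg', hgA]⟩
    neg_mem' := fun hk => by rw [CharTwo.neg_eq]; exact hk }
  have hscale : ∀ {m : G} {c : X.co.K}, m ∈ X.H₁ → Commute m v → (∀ j, X.act m j = c * j) →
      ∀ x ∈ A, c * x ∈ A := by
    rintro m c hm hmv hmA _ ⟨g, hg, hgA, rfl⟩
    refine ⟨m * g * m⁻¹, mul_mem (mul_mem hm hg) (inv_mem hm), fun j => ?_, ?_⟩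
    · rw [X.act_mul hκ (mul_mem hm hg) (inv_mem hm), X.act_mul hκ hm hg, hgA, X.act_inv hκ hm]
    · rw [X.sh₁_mul hκ (mul_mem hm hg) (inv_mem hm), X.sh₁_of_commute hmv.inv_left,
        X.sh₁_mul hκ hm hg, X.sh₁_of_commute hmv, hmA]
      have hz : X.act (m * g) 0 = 0 := by
        have := X.act_add hκ (mul_mem hm hg) 0 0
        rw [add_zero] at this
        exact left_eq_add.1 this
      rw [hz, add_zero, zero_add]
  -- a scalar other than `1`
  have h4 := X.four_le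
  obtain ⟨ν, hν0, hν1, hνq⟩ : ∃ ν : X.co.K, ν ≠ 0 ∧ ν ≠ 1 ∧ ν ^ q = ν := by
    by_contra hall
    push Not at hall
    have hle : Nat.card {k : X.co.K // k ^ q = k} ≤ Nat.card (({0, 1} : Finset X.co.K)) := by
      refine Nat.card_le_card_of_injective (fun k => (⟨k.1, ?_⟩ : ({0, 1} : Finset X.co.K)))
        fun e e' he => Subtype.ext (congrArg Subtype.val he :)
      simp only [Finset.mem_insert, Finset.mem_singleton]
      by_cases h0 : k.1 = 0
      · exact Or.inl h0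
      · exact Or.inr (by_contra fun h1 => hall _ h0 h1 k.2)
    rw [CfsgLib.Invol.U3Center.card_fixed X.co.card, Nat.card_eq_finsetCard] at hle
    have := Finset.card_le_two (a := (0 : X.co.K)) (b := 1)
    omega
  obtain ⟨σ, hσ⟩ := X.exists_semi₁ hκ hh
  have hσq : σ ν ^ q = σ ν := by rw [← map_pow, hνq]
  have hσ0 : σ ν ≠ 0 := fun e => hν0 ((map_eq_zero σ).1 e)
  obtain ⟨m, hma, hmv, hmS, hmR, hmE⟩ := X.tor ν hν0 hνq
  obtain ⟨m', hm'a, hm'v, hm'S, hm'R, hm'E⟩ := X.tor (σ ν) hσ0 hσq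
  have hmH := X.mem_H₁_of_scal hma hmv (fun s hs => (hmS s hs).1) hmR fun e he => (hmE e he).1
  have hm'H := X.mem_H₁_of_scal hm'a hm'v (fun s hs => (hm'S s hs).1) hm'R fun e he => (hm'E e he).1
  set x₀ := X.act m'⁻¹ ((1 + σ ν) * X.sh₁ h) with hx₀
  have hx₀A : x₀ ∈ A := by
    refine ⟨m'⁻¹ * (h * (m * h⁻¹)), mul_mem (inv_mem hm'H) (mul_mem hh (mul_mem hmH (inv_mem hh))),
      fun j => ?_, ?_⟩
    · rw [X.act_mul hκ (inv_mem hm'H) (mul_mem hh (mul_mem hmH (inv_mem hh))),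
        X.act_mul hκ hh (mul_mem hmH (inv_mem hh)), X.act_mul hκ hmH (inv_mem hh),
        X.act_scal hκ hmH hmS, hσ, X.act_inv hκ hh, ← X.act_scal hκ hm'H hm'S,
        ← X.act_mul hκ (inv_mem hm'H) hm'H, inv_mul_cancel, X.act_one hκ]
    · have hzero : X.sh₁ h + X.act h (X.sh₁ h⁻¹) = 0 := by
        rw [← X.sh₁_mul hκ hh (inv_mem hh), mul_inv_cancel]
        exact X.sh₁_of_commute (Commute.one_left v)
      rw [X.sh₁_mul hκ (inv_mem hm'H) (mul_mem hh (mul_mem hmH (inv_mem hh))),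
        X.sh₁_of_commute hm'v.inv_left, zero_add, X.sh₁_mul hκ hh (mul_mem hmH (inv_mem hh)),
        X.sh₁_mul hκ hmH (inv_mem hh), X.sh₁_of_commute hmv, zero_add, X.act_scal hκ hmH hmS, hσ,
        ← CharTwo.add_eq_zero.1 hzero, hx₀, add_mul, one_mul]
  have hx₀0 : x₀ ≠ 0 := fun e => by
    have h1 : (1 + σ ν) * X.sh₁ h = 0 := X.act_inj hκ (inv_mem hm'H) (by
      rw [← hx₀, e]
      have := X.act_add hκ (inv_mem hm'H) 0 0
      rw [add_zero] at this
      exact (left_eq_add.1 this).symm)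
    rcases mul_eq_zero.1 h1 with h2 | h2
    · exact hν1 (σ.injective (by rw [map_one]; exact (CharTwo.add_eq_zero.1 h2).symm))
    · exact h0 h2
  have hF : ∀ c : X.co.K, c ^ q = c → ∀ x ∈ A, c * x ∈ A := fun c hc x hx => by
    by_cases hc0 : c = 0
    · rw [hc0, zero_mul]; exact A.zero_mem
    obtain ⟨n, hna, hnv, hnS, hnR, hnE⟩ := X.tor c hc0 hc
    have hnH := X.mem_H₁_of_scal hna hnv (fun s hs => (hnS s hs).1) hnR fun e he => (hnE e he).1
    exact hscale hnH hnv (X.act_scal hκ hnH hnS) x hx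
  obtain ⟨n, μ, hμ1, hμ, hna, hnv, hnS, hnR, hnE⟩ := X.circ
  have hnH := X.mem_H₁_of_scal hna hnv (fun s hs => (hnS s hs).1) hnR
    fun e he => by rw [hnE e he]; exact he
  have hμT : μ + μ ^ q ≠ 0 := fun e => hμ1 (by
    rw [pow_succ, ← CharTwo.add_eq_zero.1 e, ← pow_two, ← one_pow 2] at hμ
    exact CharTwo.sq_injective hμ)
  have hTq : ∀ x : X.co.K, (x + x ^ q) ^ q = x + x ^ q := fun x => by
    rw [Forms.add_pow_q X.co.card, Forms.pow_q_q X.co.card, add_comm]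
  set t := k / x₀ with ht
  set β := (t + t ^ q) / (μ + μ ^ q) with hβ
  have hβq : β ^ q = β := by rw [hβ, div_pow, hTq, hTq]
  set α := t + β * μ with hα
  have hαq : α ^ q = α := by
    refine CharTwo.add_eq_zero.1 ?_
    rw [hα, Forms.add_pow_q X.co.card, mul_pow, hβq,
      show t ^ q + β * μ ^ q + (t + β * μ) = (t + t ^ q) + β * (μ + μ ^ q) by ring, hβ,
      div_mul_cancel₀ _ hμT, CharTwo.add_self_eq_zero]
  obtain ⟨g, hg, -, hgk⟩ : k ∈ A := by
    have e : k = α * x₀ + β * (μ * x₀) := by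
      rw [hα, add_mul, mul_assoc β, add_assoc, CharTwo.add_self_eq_zero, add_zero, ht,
        div_mul_cancel₀ _ hx₀0]
    rw [e]
    exact A.add_mem (hF α hαq _ hx₀A)
      (hF β hβq _ (hscale hnH hnv (X.act_scal hκ hnH hnS) _ hx₀A))
  exact ⟨g, hg, hgk⟩

/-- For `κ = 0` the normaliser of `S R ⟨v⟩` moves `v` inside `v R` only. -/
theorem no_shift_zero {h : G} (hh : h ∈ X.H₁) : X.sh₁ h = 0 := by
  classical
  by_contra h0
  haveI : Fact (Nat.Prime 2) := ⟨Nat.prime_two⟩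
  choose g hg hgk using X.exists_sh₁ hκ hh h0
  choose r hr hrd using fun e : ↥E => X.del_surj e e.2
  let O := {u : G // ∃ x ∈ X.H₁, x * v * x⁻¹ = u}
  have hmove : ∀ (k : X.co.K) (e : ↥E),
      r e * g k * v * (r e * g k)⁻¹ = g k * v * (g k)⁻¹ * e := fun k e => by
    obtain ⟨s, hs, y, hy, eq, -⟩ := X.exists_shift (hg k)
    rw [show r e * g k * v * (r e * g k)⁻¹ = r e * (g k * v * (g k)⁻¹) * (r e)⁻¹ by group, eq,
      show r e * (v * s * y) * (r e)⁻¹ = r e * v * (r e)⁻¹ * (r e * (s * y) * (r e)⁻¹) by group,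
      conj_eq_mul_del X.vv, hrd e,
      ((X.R_S _ (hr e) s hs).mul_right (X.R_R _ (hr e) y hy)).eq, mul_inv_cancel_right,
      mul_assoc v (e : G), (X.K_E (X.mem_K.2 ⟨s, hs, y, hy, rfl⟩) e.2).eq,
      ← mul_assoc v, ← mul_assoc v]
  let f : X.co.K × ↥E → O := fun p => ⟨g p.1 * v * (g p.1)⁻¹ * p.2, r p.2 * g p.1,
    mul_mem (X.T_le_H₁ (X.R_le_T (hr p.2))) (hg p.1), hmove p.1 p.2⟩
  have hf : Function.Bijective f := by
    refine ⟨?_, ?_⟩
    · rintro ⟨k, e⟩ ⟨k', e'⟩ h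
      have h' : g k * v * (g k)⁻¹ * e = g k' * v * (g k')⁻¹ * e' := congrArg Subtype.val h
      have h1 : k = k' := by
        have h2 := congrArg (fun x => X.kw (v * x)) h'
        rw [← mul_assoc v, ← mul_assoc v (g k' * v * (g k')⁻¹),
          X.kw_mul (X.shift_mem (hg k)) (X.R_le_K (X.E_le_R e.2)),
          X.kw_mul (X.shift_mem (hg k')) (X.R_le_K (X.E_le_R e'.2)),
          (X.kw_eq_zero (X.R_le_K (X.E_le_R e.2))).2 (X.E_le_R e.2),
          (X.kw_eq_zero (X.R_le_K (X.E_le_R e'.2))).2 (X.E_le_R e'.2), add_zero, add_zero] at h2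
        exact (hgk k).symm.trans (h2.trans (hgk k'))
      subst h1
      exact Prod.ext rfl (Subtype.ext (mul_left_cancel h'))
    · rintro ⟨_, x, hx, rfl⟩
      set k := X.sh₁ x with hk
      obtain ⟨s, hs, y, hy, eq, hd⟩ := X.exists_shift hx
      obtain ⟨s', hs', y', hy', eq', hd'⟩ := X.exists_shift (hg k)
      have hkw : ∀ {x s y : G}, s ∈ S → y ∈ X.R → x * v * x⁻¹ = v * s * y →
          X.sh₁ x = X.co.w s := fun {x s y} hs hy e => by
        rw [sh₁, e, mul_assoc v, ← mul_assoc v v, X.vv, one_mul, X.kw_eq hs hy]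
      have hw : X.co.w s' = X.co.w s := by
        rw [← hkw hs' hy' eq', hgk, hk, hkw hs hy eq]
      rw [hκ, add_zero, one_mul] at hd hd'
      rw [hw] at hd'
      have hsE : s'⁻¹ * s ∈ E := (X.w_eq hs' hs).1 hw
      have hyE : y'⁻¹ * y ∈ E := (X.del_eq_iff hy' hy).1 (X.co.z_inj (X.del_mem y' hy')
        (X.del_mem y hy) (add_left_cancel (hd'.trans hd.symm)))
      refine ⟨(k, ⟨s'⁻¹ * s * (y'⁻¹ * y), mul_mem hsE hyE⟩), Subtype.ext ?_⟩
      show g k * v * (g k)⁻¹ * (s'⁻¹ * s * (y'⁻¹ * y)) = x * v * x⁻¹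
      rw [eq, eq', mul_assoc (v * s') y',
        ← mul_assoc y', ← (X.eR hsE hy').eq, mul_assoc (s'⁻¹ * s), mul_inv_cancel_left,
        ← mul_assoc (v * s'), mul_assoc v s', mul_inv_cancel_left]
  have hO : Nat.card O = q ^ 3 := by
    rw [← Nat.card_congr (Equiv.ofBijective f hf), Nat.card_prod, X.co.card]; ring
  have hc : Nat.card O * Nat.card ↥(X.H₁ ⊓ centralizer ({v} : Set G)) = Nat.card X.H₁ :=
    card_conj_sub X.H₁ v
  have hP : P ≤ X.H₁ ⊓ centralizer ({v} : Set G) := fun p hp => mem_inf.2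
    ⟨X.T_le_H₁ (X.le hp), mem_centralizer_singleton_iff.2 (X.typ.fix p hp).2.eq⟩
  obtain ⟨e, he⟩ := IsPGroup.iff_card.1 (X.typ.isE.isPGroup C)
  obtain ⟨n, hn⟩ := IsPGroup.iff_card.1 X.typ.two
  have hdvd : 2 ^ (3 * e + n) ∣ Nat.card X.H₁ := by
    rw [← hc, hO, he, ← pow_mul, pow_add, mul_comm e 3, ← hn]
    exact Nat.mul_dvd_mul_left _ (card_dvd_of_le hP)
  obtain ⟨W, hW⟩ := Sylow.exists_subgroup_card_pow_prime 2 hdvd
  refine X.toCfg3.no_big (W := W.map X.H₁.subtype) ((IsPGroup.of_card hW).map _) ?_ ?_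
  · rintro _ ⟨w, -, rfl⟩; exact w.2.1
  · rw [card_map_of_injective X.H₁.subtype_injective, hW, X.cardT, hn, he, ← pow_mul, ← pow_add,
      ← pow_add]
    exact le_of_eq (by ring_nf)

end zero

/-- **A shift off `v E`** needs `κ = 1`, and its carrier keeps `S`, `R` and moves `v` inside `v R`. -/
theorem shift_final {h : G} (hh : h ∈ X.H₁) :
    X.ye h ∈ E ∨ (X.κ = 1 ∧ h ∈ X.H ∧ X.ye h ∉ E) := by
  rcases X.shift_cases hh with hE | ⟨hκ, y, hy, hyE, hu⟩ | ⟨hκ, s, hs, y, hy, hsE, hu⟩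
  · exact Or.inl hE
  · obtain ⟨hS, hR⟩ := X.normalises_of_shift hκ hh hy hu
    have hye : X.ye h = v * y * v := by rw [ye, hu]
    refine Or.inr ⟨hκ, ⟨hh.1, hh.2.1, hR, hS, by rw [hye]; exact X.v_norm hy⟩, fun hE => hyE ?_⟩
    have h1 := (X.Ev (hye ▸ hE : v * y * v ∈ E)).eq
    rw [show v * y * v * v = v * y * (v * v) by group, X.vv, mul_one, ← mul_assoc, ← mul_assoc,
      X.vv, one_mul] at h1
    have h2 : y = v * y * v := by rw [h1, mul_assoc y v v, X.vv, mul_one]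
    rw [h2, ← hye]; exact hE
  · refine absurd (X.no_shift_zero hκ hh) ?_
    rw [sh₁, hu, mul_assoc v, ← mul_assoc v v, X.vv, one_mul, X.kw_eq hs hy]
    exact fun e => hsE ((X.co.w_E s hs).1 e)

/-- **An element of a 2-group at `a` normalising the translations lies among them**, or `κ = 1` and it
moves `v` inside `v R` off `v E`. -/
theorem mem_T_or {W : Subgroup G} (hW : IsPGroup 2 W) (hWa : ∀ g ∈ W, g • a = a) (hTW : X.T ≤ W)
    {x : G} (hx : x ∈ W) (hxT : ∀ t ∈ X.T, x * t * x⁻¹ ∈ X.T) :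
    x ∈ X.T ∨ (X.κ = 1 ∧ x ∈ X.H ∧ X.ye x ∉ E) := by
  have hxH : x ∈ X.H₁ := ⟨hWa x hx, fun e he => X.toCfg3.conj_E_of_norm (hWa x hx) hxT he,
    fun t ht => by
      rw [← X.T₂_eq] at ht ⊢
      exact X.toCfg3.conj_T₂_of_norm (fun e he => X.toCfg3.conj_E_of_norm (hWa x hx) hxT he) hxT ht⟩
  refine (X.shift_final hxH).imp_left fun hE => ?_
  let J := subgroupOfClosed {g | g ∈ X.H₁ ∧ X.ye g ∈ E}
    ⟨one_mem _, by rw [X.ye_one]; exact one_mem _⟩
    (by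
      rintro g g' ⟨hg, hgE⟩ ⟨hg', hg'E⟩
      exact ⟨mul_mem hg hg', by rw [X.ye_mul]; exact mul_mem (hg.2.1 _ hg'E) hgE⟩)
  have hTJ : X.T ≤ W ⊓ J := fun g hg => mem_inf.2 ⟨hTW hg, X.T_le_H₁ hg, (X.memT g hg).2.2⟩
  rw [← X.toCfg3.eq_T (hW.to_le inf_le_left) hTJ (fun g hg => hWa g (mem_inf.1 hg).1)
    fun g hg => (mem_inf.1 hg).2.2]
  exact mem_inf.2 ⟨hx, hxH, hE⟩

end Lay3

end Ctx

end CfsgLib.Criterion
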