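import Cfsg.Agent.Criterion.TypeU3Carrier

/-!
# The strong embedding criterion: the second layer is on top

An element of a 2-group at `a` above `T₁` normalising `T₁` keeps `E`.  If it moves `v` out of `S W ⟨v⟩`
or inside `v R` it lies in `T₁`.
-/

set_option autoImplicit false
set_option linter.style.haveILetI false
set_option linter.unusedSectionVars false

namespace CfsgLib.Criterion

open Subgroup CfsgLib.Invol CfsgLib.Bender

universe u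

variable {G : Type u} [Group G] [Finite G]

namespace Ctx.Ext3

variable {C : Ctx G} {v : G} {a b : C.Pt} {D E P : Subgroup G} (X : C.Ext3 v a b D E P)

local notation "S" => P ⊓ C.L v
local notation "q" => Nat.card E

include X

/-- The commutators of `T₁` lie in `M`. -/
theorem comm_T₁ {g h : G} (hg : g ∈ X.T₁) (hh : h ∈ X.T₁) : g * h * g⁻¹ * h⁻¹ ∈ X.M := by
  obtain ⟨m, hm, d, hd, rfl⟩ := X.exists_md hg
  obtain ⟨m', hm', d', hd', rfl⟩ := X.exists_md hh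
  have e : m * d * (m' * d') * (m * d)⁻¹ * (m' * d')⁻¹ =
      m * (d * m' * d⁻¹) * (d' * m⁻¹ * d'⁻¹) * m'⁻¹ := by
    calc m * d * (m' * d') * (m * d)⁻¹ * (m' * d')⁻¹
        = m * (d * m' * d⁻¹) * ((d * d') * (d⁻¹ * m⁻¹ * d'⁻¹)) * m'⁻¹ := by group
      _ = m * (d * m' * d⁻¹) * ((d' * d) * (d⁻¹ * m⁻¹ * d'⁻¹)) * m'⁻¹ := by
          rw [(X.D_comm hd hd').eq]
      _ = _ := by group
  rw [e]
  exact mul_mem (mul_mem (mul_mem hm (X.conj_M (X.D_le hd) hm'))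
    (X.conj_M (X.D_le hd') (inv_mem hm))) (inv_mem hm')

theorem norm_inv {x : G} (hxT : ∀ t ∈ X.T₁, x * t * x⁻¹ ∈ X.T₁) {t : G} (ht : t ∈ X.T₁) :
    x⁻¹ * t * x ∈ X.T₁ := by
  let f : ↥X.T₁ → ↥X.T₁ := fun t => ⟨x * t * x⁻¹, hxT t t.2⟩
  have hf : Function.Injective f := fun s t h =>
    Subtype.ext (mul_left_cancel (mul_right_cancel (congrArg Subtype.val h :)))
  obtain ⟨t', ht'⟩ := (Finite.injective_iff_bijective.1 hf).2 ⟨t, ht⟩
  rw [show t = x * t' * x⁻¹ from (congrArg Subtype.val ht').symm]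
  simpa [mul_assoc] using t'.2

/-- **An element normalising `T₁` normalises `E`.** -/
theorem conj_E {x : G} (hxT : ∀ t ∈ X.T₁, x * t * x⁻¹ ∈ X.T₁) :
    (∀ e ∈ E, x * e * x⁻¹ ∈ E) ∧ ∀ e ∈ E, x⁻¹ * e * x ∈ E := by
  classical
  have hSx : ∀ s ∈ S, x * s * x⁻¹ ∈ X.T₁ := fun s hs => hxT s (X.P_le (mem_inf.1 hs).1)
  have hEM : ∀ e ∈ E, x * e * x⁻¹ ∈ X.M := by
    intro e he
    obtain ⟨s₀, hs₀, hs₀E⟩ : ∃ s ∈ S, X.co.w s = 1 := by
      obtain ⟨s, hs, hw⟩ := X.co.w_surj 1; exact ⟨s, hs, hw⟩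
    obtain ⟨k, hk⟩ := X.exists_trace (X.co.z_fix e he) (show X.co.w s₀ ≠ 0 by rw [hs₀E]; exact one_ne_zero)
    obtain ⟨t, ht, rfl⟩ := X.co.w_surj k
    rw [← X.co.z_comm s₀ hs₀ t ht] at hk
    have h1 := X.comm_T₁ (hSx s₀ hs₀) (hSx t ht)
    rw [show x * s₀ * x⁻¹ * (x * t * x⁻¹) * (x * s₀ * x⁻¹)⁻¹ * (x * t * x⁻¹)⁻¹ =
      x * (s₀ * t * s₀⁻¹ * t⁻¹) * x⁻¹ by group, X.co.z_inj (X.comm_mem hs₀ ht) he hk] at h1
    exact h1
  -- the part in `S W ⟨v⟩` has index at most two in `S`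
  set H := (S) ⊓ X.W₃.comap (MulAut.conj x).toMonoidHom with hH
  have hmemH : ∀ {s : G}, s ∈ H ↔ s ∈ S ∧ x * s * x⁻¹ ∈ X.W₃ := fun {s} => by
    rw [hH, mem_inf, mem_comap]; rfl
  obtain ⟨c, σ, -, hker, -, -, -⟩ := X.exists_sigma
  have hσv : σ ⟨v, X.typ.vP⟩ * σ ⟨v, X.typ.vP⟩ = 1 := by
    rw [← map_mul, show (⟨v, X.typ.vP⟩ : ↥P) * ⟨v, X.typ.vP⟩ = 1 from Subtype.ext X.vv, map_one]
  have hout : ∀ s ∈ S, x * s * x⁻¹ ∉ X.W₃ → ∃ m ∈ X.M, ∃ d, ∃ hd : d ∈ D,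
      x * s * x⁻¹ = m * d ∧ ∀ k, σ ⟨d, X.typ.le hd⟩ k = k ^ q := by
    intro s hs hsW
    obtain ⟨m, hm, d, hd, e⟩ := X.exists_md (hSx s hs)
    refine ⟨m, hm, d, hd, e, (X.eq_one_or_frob ?_).resolve_left fun h1 => hsW ?_⟩
    · have h2 : d * d ∈ X.M := by
        have h3 : x * (s * s) * x⁻¹ = m * (d * m * d⁻¹) * (d * d) := by
          rw [show x * (s * s) * x⁻¹ = x * s * x⁻¹ * (x * s * x⁻¹) by group, e]; group
        have := mul_mem (inv_mem (mul_mem hm (X.conj_M (X.D_le hd) hm))) (hEM _ (X.sq_mem hs))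
        rwa [h3, inv_mul_cancel_left] at this
      have h4 := X.D_inter_M (mul_mem hd hd) h2
      rw [← map_mul, show (⟨d, X.typ.le hd⟩ : ↥P) * ⟨d, X.typ.le hd⟩ = 1 from Subtype.ext h4, map_one]
    · have hd' := X.mem_D_of_ker hd (hker _ h1)
      rw [e]
      exact mul_mem (X.M_le_W₃ hm) (by
        rcases hd' with h5 | h5 <;> rw [h5]
        exacts [one_mem _, X.v_mem_W₃])
  have hcard : Nat.card ↥(S) ≤ 2 * Nat.card H := by
    by_cases hall : ∀ s ∈ S, x * s * x⁻¹ ∈ X.W₃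
    · exact le_trans (Subgroup.card_le_of_le fun s hs => hmemH.2 ⟨hs, hall s hs⟩) (by omega)
    push Not at hall
    obtain ⟨t, ht, htW⟩ := hall
    obtain ⟨m, hm, d, hd, e, hσd⟩ := hout t ht htW
    have hdiff : ∀ s ∈ S, x * s * x⁻¹ ∉ X.W₃ → x * (s * t⁻¹) * x⁻¹ ∈ X.W₃ := by
      intro s hs hsW
      obtain ⟨m', hm', d', hd', e', hσd'⟩ := hout s hs hsW
      have hσ : σ ⟨d' * d⁻¹, X.typ.le (mul_mem hd' (inv_mem hd))⟩ = 1 := by
        rw [show (⟨d' * d⁻¹, X.typ.le (mul_mem hd' (inv_mem hd))⟩ : ↥P) =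
          ⟨d', X.typ.le hd'⟩ * (⟨d, X.typ.le hd⟩ : ↥P)⁻¹ from rfl, map_mul, map_inv,
          show σ ⟨d', X.typ.le hd'⟩ = σ ⟨d, X.typ.le hd⟩ from
            RingEquiv.ext fun k => by rw [hσd, hσd'], mul_inv_cancel]
      have hdd := X.mem_D_of_ker (mul_mem hd' (inv_mem hd)) (hker _ hσ)
      rw [show x * (s * t⁻¹) * x⁻¹ = x * s * x⁻¹ * (x * t * x⁻¹)⁻¹ by group, e', e,
        show m' * d' * (m * d)⁻¹ = m' * (d' * d⁻¹) * m⁻¹ by group]
      refine mul_mem (mul_mem (X.M_le_W₃ hm') ?_) (X.M_le_W₃ (inv_mem hm))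
      rcases hdd with h5 | h5 <;> rw [h5]
      exacts [one_mem _, X.v_mem_W₃]
    let f : ↥(S) → ↥H ⊕ ↥H := fun s => if hs : x * (s : G) * x⁻¹ ∈ X.W₃
      then Sum.inl ⟨s, hmemH.2 ⟨s.2, hs⟩⟩
      else Sum.inr ⟨s * t⁻¹, hmemH.2 ⟨mul_mem s.2 (inv_mem ht), hdiff s s.2 hs⟩⟩
    have hf : Function.Injective f := by
      intro s s' h
      simp only [f] at h
      split_ifs at h with h1 h2 h2
      · exact Subtype.ext (congrArg Subtype.val (Sum.inl.inj h) :)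
      · exact Subtype.ext (mul_right_cancel (congrArg Subtype.val (Sum.inr.inj h) :))
    refine le_trans (Nat.card_le_card_of_injective f hf) ?_
    rw [Nat.card_sum]; omega
  have hle : E ≤ X.R.comap (MulAut.conj x).toMonoidHom := by
    refine X.E_le_of_comm (H := H) inf_le_left hcard fun s hs t ht => ?_
    rw [mem_comap]
    show x * (s * t * s⁻¹ * t⁻¹) * x⁻¹ ∈ X.R
    rw [show x * (s * t * s⁻¹ * t⁻¹) * x⁻¹ =
      x * s * x⁻¹ * (x * t * x⁻¹) * (x * s * x⁻¹)⁻¹ * (x * t * x⁻¹)⁻¹ by group]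
    exact X.W₃_W₃ (hmemH.1 hs).2 (hmemH.1 ht).2
  have h1 : ∀ e ∈ E, x * e * x⁻¹ ∈ E := fun e he => X.mem_E_of_R (mem_comap.1 (hle he)) (by
    rw [show x * e * x⁻¹ * (x * e * x⁻¹) = x * (e * e) * x⁻¹ by group, X.E2 he, mul_one, mul_inv_cancel])
  refine ⟨h1, fun e he => ?_⟩
  let f : ↥E → ↥E := fun e => ⟨x * e * x⁻¹, h1 e e.2⟩
  have hf : Function.Injective f := fun y z h =>
    Subtype.ext (mul_left_cancel (mul_right_cancel (congrArg Subtype.val h :)))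
  obtain ⟨y, hy⟩ := (Finite.injective_iff_bijective.1 hf).2 ⟨e, he⟩
  rw [show e = x * y * x⁻¹ from (congrArg Subtype.val hy).symm]
  simpa [mul_assoc] using y.2

theorem car_of_norm {x : G} (hxa : x • a = a) (hxT : ∀ t ∈ X.T₁, x * t * x⁻¹ ∈ X.T₁) :
    X.Car x (x * v * x⁻¹) where
  ga := hxa
  gv := rfl
  to_T₁ := fun p hp => hxT p (X.P_le hp)
  back := fun t ht htu => by
    rw [← X.P_eq]
    refine mem_inf.2 ⟨X.norm_inv hxT ht, mem_centralizer_singleton_iff.2 ?_⟩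
    have h1 := (Commute.conj_iff x⁻¹).2 htu
    rw [show x⁻¹ * (x * v * x⁻¹) * x⁻¹⁻¹ = v by group, inv_inv] at h1
    exact h1.eq
  gE := (X.conj_E hxT).1
  gE' := (X.conj_E hxT).2

/-- **An element normalising `T₁` and moving `v` out of `S W ⟨v⟩`, or inside `v R`, lies in `T₁`.** -/
theorem mem_T₁_of {W : Subgroup G} (hW : IsPGroup 2 W) (hTW : X.T₁ ≤ W) (hWa : ∀ g ∈ W, g • a = a)
    {x : G} (hx : x ∈ W) (hxT : ∀ t ∈ X.T₁, x * t * x⁻¹ ∈ X.T₁)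
    (h : x * v * x⁻¹ ∉ X.W₃ ∨ ∃ y ∈ X.R, x * v * x⁻¹ = v * y) : x ∈ X.T₁ := by
  classical
  set u := x * v * x⁻¹ with hu
  have hcar : X.Car x u := X.car_of_norm (hWa x hx) hxT
  have hback : ∀ {g : G}, g ∈ X.T₁ → g⁻¹ * x ∈ P → x ∈ X.T₁ := fun {g} hg h1 => by
    have := mul_mem hg (X.P_le h1)
    rwa [mul_inv_cancel_left] at this
  rcases h with hout | ⟨y, hy, hvy⟩
  swap
  · obtain ⟨g, hg, hgv⟩ := X.exists_conj_vR hy
    refine hback hg (X.typ.mem_P hW (X.P_le.trans hTW) (mul_mem (inv_mem (hTW hg)) hx) ?_ ?_)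
    · rw [mul_smul, hWa x hx, inv_smul_eq_iff, hWa g (hTW hg)]
    · refine mul_inv_eq_iff_eq_mul.1 ?_
      calc g⁻¹ * x * v * (g⁻¹ * x)⁻¹ = g⁻¹ * (x * v * x⁻¹) * g := by group
        _ = g⁻¹ * (g * v * g⁻¹) * g := by rw [← hu, hvy, hgv]
        _ = v := by group
  obtain ⟨-, hlam⟩ := Car.outer X hcar hout
  -- only `1` is carried into `M` from `D`
  have hDM : ∀ d ∈ D, x * d * x⁻¹ ∈ X.M → d = 1 := by
    intro d hd hdM
    by_contra hd1
    set K' := D ⊓ X.M.comap (MulAut.conj x).toMonoidHom with hK'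
    have hdK : d ∈ K' := mem_inf.2 ⟨hd, hdM⟩
    haveI : Fact (Nat.Prime 2) := ⟨Nat.prime_two⟩
    obtain ⟨n, hn⟩ := IsPGroup.iff_card.1 (X.typ.maxPair.two.to_le (inf_le_left : K' ≤ D))
    have h2 : 2 ∣ Nat.card K' := by
      rw [hn]
      refine dvd_pow_self 2 fun h0 => hd1 ?_
      rw [h0, pow_zero] at hn
      haveI := (Nat.card_eq_one_iff_unique.1 hn).1
      exact congrArg Subtype.val (Subsingleton.elim (⟨d, hdK⟩ : ↥K') 1)
    obtain ⟨d₀, hd₀⟩ := exists_prime_orderOf_dvd_card' (G := ↥K') 2 h2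
    rw [← Subgroup.orderOf_coe] at hd₀
    obtain ⟨hd₀D, hd₀M⟩ := mem_inf.1 d₀.2
    have hd₀M' : x * (d₀ : G) * x⁻¹ ∈ X.M := hd₀M
    have hd₀1 : (d₀ : G) ≠ 1 := ne_one hd₀
    have hd₀v : (d₀ : G) ≠ v := fun e => Car.not_M X hcar (show x * v * x⁻¹ ∈ X.M by
      have h := hd₀M'; rwa [e] at h)
    have hd₀E := X.comm_E_of_sq hd₀D (Or.inl (mul_self_eq_one hd₀))
    set Y := (P ⊓ X.M.comap (MulAut.conj x).toMonoidHom) with hY
    have hYE : ∀ p ∈ Y, ∀ e ∈ E, Commute p e := fun p hp e he => by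
      have h1 := (Commute.conj_iff x⁻¹).2 (X.M_E (mem_inf.1 hp).2 (hcar.gE e he))
      rwa [show x⁻¹ * (MulAut.conj x).toMonoidHom p * x⁻¹⁻¹ = p by simp [MulAut.conj_apply, mul_assoc],
        show x⁻¹ * (x * e * x⁻¹) * x⁻¹⁻¹ = e by group] at h1
    have hYc : ∀ p ∈ Y, ∀ p' ∈ Y, p * p' * p⁻¹ * p'⁻¹ ∈ E := fun p hp p' hp' => by
      have h1 := hcar.gE' _ (X.M_M (mem_inf.1 hp).2 (mem_inf.1 hp').2)
      rwa [show x⁻¹ * ((MulAut.conj x).toMonoidHom p * (MulAut.conj x).toMonoidHom p' *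
          ((MulAut.conj x).toMonoidHom p)⁻¹ * ((MulAut.conj x).toMonoidHom p')⁻¹) * x =
          p * p' * p⁻¹ * p'⁻¹ by simp [MulAut.conj_apply, mul_assoc]] at h1
    rcases X.sub_P1 inf_le_left hYE hYc with h1 | ⟨h1, h2⟩
    · rcases h1 d₀ (mem_inf.2 ⟨X.typ.le hd₀D, hd₀M⟩) with h3 | h3
      · rcases X.mem_D_of_ker hd₀D (Or.inl h3) with e | e
        exacts [hd₀1 e, hd₀v e]
      · rcases X.mem_D_of_ker hd₀D (Or.inr h3) with e | e
        exacts [hd₀1 e, hd₀v e]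
    refine Car.not_M X hcar (show x * v * x⁻¹ ∈ X.M from (mem_inf.1 (h2 (le_antisymm h1 ?_))).2)
    obtain ⟨-, -, hcard, -⟩ := Car.structure_M X hcar
    calc 4 * q ^ 2 ≤ q ^ 3 := by
          rw [pow_succ q 2, mul_comm (q ^ 2)]; exact Nat.mul_le_mul_right _ X.four_le
      _ = Nat.card ↥(X.M ⊓ centralizer ({u} : Set G)) := hcard.symm
      _ ≤ Nat.card Y := Nat.card_le_card_of_injective
          (fun k => (⟨x⁻¹ * k * x, mem_inf.2 ⟨hcar.back k (X.M_le (mem_inf.1 k.2).1)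
            (mem_centralizer_singleton_iff.1 (mem_inf.1 k.2).2), by
              rw [mem_comap]
              show x * (x⁻¹ * k * x) * x⁻¹ ∈ X.M
              rw [show x * (x⁻¹ * (k : G) * x) * x⁻¹ = k by group]
              exact (mem_inf.1 k.2).1⟩⟩ : ↥Y))
          fun k k' e => Subtype.ext (mul_left_cancel (mul_right_cancel (congrArg Subtype.val e :)))
  -- so some element of `D` is carried over `v`
  choose mm hmm dd hdd hmd using fun d : ↥D => X.exists_md (hxT d (X.D_le d.2))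
  let f : ↥D → ↥D := fun d => ⟨dd d, hdd d⟩
  have hf : Function.Injective f := fun d d' e => by
    have e' : dd d = dd d' := congrArg Subtype.val e
    refine Subtype.ext (mul_inv_eq_one.1 (hDM _ (mul_mem d.2 (inv_mem d'.2)) ?_))
    rw [show x * ((d : G) * (d' : G)⁻¹) * x⁻¹ = x * d * x⁻¹ * (x * d' * x⁻¹)⁻¹ by group, hmd, hmd, e',
      mul_inv_rev, ← mul_assoc, mul_inv_cancel_right]
    exact mul_mem (hmm _) (inv_mem (hmm _))
  obtain ⟨⟨d, hd⟩, hde⟩ := (Finite.injective_iff_bijective.1 hf).2 ⟨v, X.typ.maxPair.mem⟩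
  have hdv : x * d * x⁻¹ = mm ⟨d, hd⟩ * v := by
    rw [hmd ⟨d, hd⟩, show dd ⟨d, hd⟩ = v from congrArg Subtype.val hde]
  set m := mm ⟨d, hd⟩
  have hd2 : d * d = 1 := hDM _ (mul_mem hd hd) (by
    rw [show x * (d * d) * x⁻¹ = x * d * x⁻¹ * (x * d * x⁻¹) by group, hdv,
      show m * v * (m * v) = m * (v * m * v) by group]
    exact mul_mem (hmm _) (X.vMv (hmm _)))
  obtain ⟨s, hs, w, hw, hsw⟩ := X.vMv (hmm ⟨d, hd⟩)
  have hdv' : x * d * x⁻¹ = v * (s * w) := by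
    rw [hdv, ← hsw, ← mul_assoc, ← mul_assoc, X.vv, one_mul]
  have hinv : v * (s * w) * (v * (s * w)) = 1 := by
    rw [← hdv', show x * d * x⁻¹ * (x * d * x⁻¹) = x * (d * d) * x⁻¹ by group, hd2, mul_one,
      mul_inv_cancel]
  have hwR : w ∈ X.R := X.mem_R_of_tt hw ((X.invol_vM hs hw hinv).resolve_right hlam)
  obtain ⟨g, hg, hgv⟩ := X.exists_conj_vR (X.invol_vR hs hwR hinv)
  refine hback hg (X.key hW (X.P_le.trans hTW) hWa (mul_mem (inv_mem (hTW hg)) hx) hd ?_)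
  calc g⁻¹ * x * d * (g⁻¹ * x)⁻¹ = g⁻¹ * (x * d * x⁻¹) * g := by group
    _ = g⁻¹ * (g * v * g⁻¹) * g := by rw [hdv', hgv]
    _ = v := by group

end Ctx.Ext3

end CfsgLib.Criterion
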